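import Cfsg.Agent.Omega.NOThreeL.RRed.Def
import Cfsg.Agent.Omega.NOThreeL.Star
import Cfsg.Agent.Omega.NOThreeL.VF.Base
import Cfsg.Agent.Omega.TV.Conj

/-!
# NO-3L, box R, the smallest shape: basic facts on `W = V* = zl S (MZ S)`

* `Wd S`, `RB.wcomm`, `RB.wsq`, `RB.WS`, `RB.nor`, `RB.zc_of_fix`, `RB.zl_le`;
* `Sm.zc_iff` : `Z = {1, x, y, x y}`;
* `odd_pow`, `Sm.not_swap` : `N_G(S)` induces no transposition on `Z#`;
* `Ln.conj_mem` : `s ∈ S` centralising `u` is in `O₂(P)`;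
* `Sm.gen` : `X ≥ S` fixing `v₁`, moving `v₂`, contains a member of `P*(S)` moving `v₂`.
-/

set_option autoImplicit false
set_option linter.unusedSectionVars false

namespace Cfsg.Agent.Omega.NOThreeL.RRed

open Subgroup Cfsg Cfsg.Agent.ZN Cfsg.Agent.Omega.MinPar Cfsg.Agent.Omega.Frame Cfsg.Agent.Omega.FrameNOFF
open Cfsg.Agent.Omega.Node.NO3L Cfsg.Agent.Omega.NOThreeL.Basic Cfsg.Agent.Omega.NOThreeL.RTree
open Cfsg.Agent.Omega.NOThreeL.Merge (MZ)
open Cfsg.Agent.Omega.NOThreeL.ZCut (FZ YZ XZ VZ)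
open Cfsg.Agent.Omega.NOThreeL.Star (YS le_YS zl_comm zl_sq zl_mono S_le_YS)

universe u

variable {G : Type u} [Group G]

/-- `V*` -/
def Wd (S : Subgroup G) : Subgroup G := zl S (MZ S)

section fin

variable [Finite G] {S : Sylow 2 G}

theorem SM (B : RB S) : (S : Subgroup G) ≤ MZ (S : Subgroup G) := S_le_YS B.ctx B.full

theorem zc_le_Wd (S : Subgroup G) : zc S ≤ Wd S := Cfsg.Agent.MinSimple.VModule.zc_le_zl _ _

theorem le_MZ {P : Subgroup G} (hP : IsParS (S : Subgroup G) P) : P ≤ MZ (S : Subgroup G) := le_sSup hP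

theorem zl_le_Wd {P : Subgroup G} (hP : IsParS (S : Subgroup G) P) :
    zl (S : Subgroup G) P ≤ Wd (S : Subgroup G) := Star.zl_mono _ (le_MZ hP)

theorem Wd_abel (B : RB S) : Wd (S : Subgroup G) ≤ centralizer (Wd (S : Subgroup G) : Set G) :=
  zl_comm B.ctx.char2 B.data.noff

theorem wcomm (B : RB S) : ∀ v ∈ Wd (S : Subgroup G), ∀ w ∈ Wd (S : Subgroup G), v * w = w * v := by
  intro v hv w hw
  exact (mem_centralizer_iff.1 (Wd_abel B hv) w hw).symm

theorem wsq (B : RB S) : ∀ x ∈ Wd (S : Subgroup G), x * x = 1 := fun x hx => by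
  rw [← pow_two]; exact zl_sq B.ctx.char2 B.data.noff x hx

theorem le_norm_Wd : MZ (S : Subgroup G) ≤ normalizer (Wd (S : Subgroup G) : Set G) := le_normalizer_zl _ _

theorem nor : ∀ c ∈ MZ (S : Subgroup G), ∀ n ∈ Wd (S : Subgroup G), c * n * c⁻¹ ∈ Wd (S : Subgroup G) :=
  fun _ hc n hn => (mem_normalizer_iff.1 (le_norm_Wd hc) n).1 hn

theorem WS (B : RB S) : Wd (S : Subgroup G) ≤ S :=
  le_of_le_normalizer S (fun x => ⟨1, Subtype.ext (by simpa [pow_two] using wsq B x x.2)⟩)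
    ((SM B).trans le_norm_Wd)

theorem zc_of_fix (B : RB S) {w : G} (hw : w ∈ Wd (S : Subgroup G))
    (h : ∀ s ∈ (S : Subgroup G), s * w * s⁻¹ = w) : w ∈ zc (S : Subgroup G) := by
  rw [mem_zc]
  refine ⟨WS B hw, fun s hs => ?_, by rw [pow_two]; exact wsq B w hw⟩
  calc s * w = (s * w * s⁻¹) * s := by group
    _ = w * s := by rw [h s hs]

/-- `Z = {1, x, y, x y}` -/
theorem Sm.zc_iff (h : Sm S) {x y : G} (hx : x ∈ zc (S : Subgroup G)) (hy : y ∈ zc (S : Subgroup G))
    (hx1 : x ≠ 1) (hy1 : y ≠ 1) (hxy : x ≠ y) (w : G) :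
    w ∈ zc (S : Subgroup G) ↔ w = 1 ∨ w = x ∨ w = y ∨ w = x * y := by
  have hsq : ∀ v ∈ zc (S : Subgroup G), v * v = 1 := fun v hv => by
    rw [← pow_two]; exact (mem_zc.1 hv).2.2
  have hne : x * y ≠ 1 := fun e => hxy (by
    have h1 : x * y = y * y := by rw [e, hsq y hy]
    exact mul_right_cancel h1)
  have e : ((({1, x, y, x * y} : Set G))).ncard = 4 := by
    rw [Set.ncard_insert_of_notMem (by simp [hx1.symm, hy1.symm, hne.symm]) (Set.toFinite _),
      Set.ncard_insert_of_notMem (by simp [hxy, hy1]) (Set.toFinite _),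
      Set.ncard_pair (by simp [hx1])]
  have hsub : ({1, x, y, x * y} : Set G) ⊆ (zc (S : Subgroup G) : Set G) := by
    rintro v (rfl | rfl | rfl | rfl)
    · exact one_mem _
    · exact hx
    · exact hy
    · exact mul_mem hx hy
  have h4 : ((zc (S : Subgroup G) : Subgroup G) : Set G).ncard = 4 := h.z4
  have h5 := Set.eq_of_subset_of_ncard_le hsub (by rw [e, h4]) (Set.toFinite _)
  rw [← SetLike.mem_coe, ← h5]
  rfl

/-- An odd power of `n ∈ N_G(S)` is in `S`. -/
theorem odd_pow {n : G} (hn : n ∈ normalizer ((S : Subgroup G) : Set G)) :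
    ∃ j, n ^ (2 * j + 1) ∈ (S : Subgroup G) := by
  have hf : Fact (Nat.Prime 2) := ⟨Nat.prime_two⟩
  obtain ⟨a, m, hm, hord⟩ := Nat.exists_eq_two_pow_mul_odd (orderOf_pos n).ne'
  have hnm : n ^ m ∈ (S : Subgroup G) := by
    have h2 : IsPGroup 2 (zpowers (n ^ m)) := by
      refine IsPGroup.of_card (n := a) ?_
      rw [Nat.card_zpowers, orderOf_pow, hord, Nat.gcd_eq_right (Dvd.intro_left _ rfl),
        Nat.mul_div_cancel _ (Nat.pos_of_ne_zero (by rintro rfl; simp at hm))]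
    have h3 : zpowers (n ^ m) ≤ normalizer ((S : Subgroup G) : Set G) := by
      rw [zpowers_le]; exact pow_mem hn m
    have h4 : IsPGroup 2 ((S : Subgroup G) ⊔ zpowers (n ^ m) : Subgroup G) :=
      IsPGroup.to_sup_of_normal_left' S.isPGroup' h2 h3
    have h5 := S.is_maximal' h4 le_sup_left
    exact h5.le (mem_sup_right (mem_zpowers _))
  obtain ⟨j, hj⟩ := hm
  exact ⟨j, hj ▸ hnm⟩

/-- `N_G(S)` does not swap two elements of `Z`. -/
theorem not_swap {x y n : G} (hn : n ∈ normalizer ((S : Subgroup G) : Set G)) (hx : x ∈ zc (S : Subgroup G))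
    (h1 : n * x * n⁻¹ = y) (h2 : n * y * n⁻¹ = x) : x = y := by
  obtain ⟨j, hj⟩ := odd_pow hn
  have e1 : n * x = y * n := by rw [← h1]; group
  have e2 : n * y = x * n := by rw [← h2]; group
  have h3 : n ^ 2 * x = x * n ^ 2 := by
    calc n ^ 2 * x = n * (n * x) := by rw [pow_two]; group
      _ = (n * y) * n := by rw [e1]; group
      _ = x * n ^ 2 := by rw [e2, pow_two]; group
  have h4 : n ^ (2 * j) * x = x * n ^ (2 * j) := by
    rw [pow_mul]; exact (show Commute (n ^ 2) x from h3).pow_left j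
  have h6 : n ^ (2 * j + 1) * x = x * n ^ (2 * j + 1) := (mem_zc.1 hx).2.1 _ hj
  have h7 : y * n ^ (2 * j + 1) = x * n ^ (2 * j + 1) := by
    rw [← h6, pow_succ']
    calc y * (n * n ^ (2 * j)) = (y * n) * n ^ (2 * j) := by group
      _ = n * (x * n ^ (2 * j)) := by rw [← e1]; group
      _ = n * n ^ (2 * j) * x := by rw [← h4]; group
  exact (mul_right_cancel h7).symm

/-- `N_G(S)` acts on `Z`. -/
theorem conj_zc {n x : G} (hn : n ∈ normalizer ((S : Subgroup G) : Set G)) (hx : x ∈ zc (S : Subgroup G)) :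
    n * x * n⁻¹ ∈ zc (S : Subgroup G) := by
  have h3 := hx
  rw [mem_zc] at h3 ⊢
  refine ⟨(mem_normalizer_iff.1 hn _).1 h3.1, fun t ht => ?_, ?_⟩
  · have h4 := h3.2.1 _ ((mem_normalizer_iff''.1 hn t).1 ht)
    calc t * (n * x * n⁻¹) = n * ((n⁻¹ * t * n) * x) * n⁻¹ := by group
      _ = n * x * n⁻¹ * t := by rw [h4]; group
  · have h4 := h3.2.2
    have e : (n * x * n⁻¹) ^ 2 = n * (x ^ 2) * n⁻¹ := by rw [pow_two, pow_two]; group
    rw [e, h4]; group

/-- `s ∈ S` centralising `u` is in `O₂(P)`. -/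
theorem Ln.conj_mem {P : Subgroup G} {z u c s p : G} (hc : IsCharacteristicTwoType G)
    (hP : IsParS (S : Subgroup G) P) (h : Ln (S : Subgroup G) P z u c) (hs : s ∈ (S : Subgroup G))
    (hsu : s * u * s⁻¹ = u) (hp : p ∈ P) : p * s * p⁻¹ ∈ (S : Subgroup G) := by
  have h1 : s ∈ o2 P := by
    rw [← hP.inf_centralizer S hc]
    refine ⟨hs, mem_centralizer_iff.2 fun x hx => ?_⟩
    have e1 : s * u = u * s := by
      calc s * u = (s * u * s⁻¹) * s := by group
        _ = u * s := by rw [hsu]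
    have e2 := h.zs hs
    have e3 := h.cs hs
    obtain ⟨y, hy, hxy⟩ := h.all x hx
    have e4 : s * y = y * s := by
      rcases hy with rfl | rfl | rfl | rfl
      · simp
      · exact e2
      · exact e1
      · calc s * (u * z) = (s * u) * z := by group
          _ = u * (s * z) := by rw [e1]; group
          _ = u * z * s := by rw [e2]; group
    rcases hxy with rfl | rfl
    · exact e4.symm
    · symm
      calc s * (y * c) = (s * y) * c := by group
        _ = y * (s * c) := by rw [e4]; group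
        _ = y * c * s := by rw [e3]; group
  exact hP.isLoc.o2_le S ((mem_normalizer_iff.1 (le_normalizer_o2 P hp) s).1 h1)

/-- `X ≥ S` fixing `v₁`, moving `v₂`, contains a member of `P*(S)` moving `v₂`. -/
theorem Sm.gen (h : Sm S) {v₁ v₂ : G} (h1 : v₁ ∈ zc (S : Subgroup G)) (h2 : v₂ ∈ zc (S : Subgroup G))
    (h11 : v₁ ≠ 1) (h21 : v₂ ≠ 1) (hne : v₁ ≠ v₂) {X : Subgroup G} (hSX : (S : Subgroup G) ≤ X)
    (hX1 : ∀ g ∈ X, g * v₁ * g⁻¹ = v₁) (hX2 : ∃ g ∈ X, g * v₂ * g⁻¹ ≠ v₂) :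
    ∃ R, IsParS (S : Subgroup G) R ∧ R ≤ X ∧ ∃ g ∈ R, g * v₂ * g⁻¹ ≠ v₂ := by
  have hloc : IsLoc (S : Subgroup G) X := by
    refine isLoc_of_le_normalizer S hSX (U := zpowers v₁) ?_ ?_ ?_
    · refine S.isPGroup'.to_le ?_
      rw [zpowers_le]; exact zc_le _ h1
    · rw [Ne, zpowers_eq_bot]; exact h11
    · refine le_trans ?_ (centralizer_le_normalizer _)
      intro g hg
      refine mem_centralizer_iff.2 fun x hx => ?_
      obtain ⟨k, rfl⟩ := mem_zpowers_iff.1 hx
      have e1 : g * v₁ = v₁ * g := by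
        calc g * v₁ = (g * v₁ * g⁻¹) * g := by group
          _ = v₁ * g := by rw [hX1 g hg]
      have e : Commute v₁ g := e1.symm
      exact (e.zpow_left k).eq
  by_contra hcon
  push Not at hcon
  have hcent : ∀ g : G, g * v₂ * g⁻¹ = v₂ ↔ g ∈ centralizer ({v₂} : Set G) := by
    intro g
    rw [mem_centralizer_singleton_iff]
    constructor
    · intro e
      calc g * v₂ = (g * v₂ * g⁻¹) * g := by group
        _ = v₂ * g := by rw [e]
    · intro e
      rw [e]; group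
  obtain ⟨g, hg, hg2⟩ := hX2
  apply hg2
  rw [hcent]
  refine hloc.le_of_forall S (Y := centralizer ({v₂} : Set G)) ?_ ?_ hg
  · rintro n ⟨hnX, hn⟩
    rw [← hcent]
    have h3 := conj_zc hn h2
    have h4 := hX1 n hnX
    rcases (h.zc_iff h1 h2 h11 h21 hne _).1 h3 with e | e | e | e
    · exact absurd (conj_eq_one_iff.1 e) h21
    · exfalso
      rw [← h4] at e
      exact hne (mul_left_cancel (mul_right_cancel e)).symm
    · exact e
    · -- `n` swaps `v₂` and `v₁ v₂`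
      have h5 : n * (v₁ * v₂) * n⁻¹ = v₂ := by
        have e5 : v₁ * v₁ = 1 := by rw [← pow_two]; exact (mem_zc.1 h1).2.2
        calc n * (v₁ * v₂) * n⁻¹ = (n * v₁ * n⁻¹) * (n * v₂ * n⁻¹) := by group
          _ = (v₁ * v₁) * v₂ := by rw [h4, e]; group
          _ = v₂ := by rw [e5, one_mul]
      have h6 := not_swap hn h2 e h5
      rw [← h6] at e
      exact e
  · intro R hR hRX
    by_contra hR2
    have hRS : IsParS (S : Subgroup G) R := by
      refine ⟨hR, fun h3 => hR2 ?_⟩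
      exact (NoFF.LinesPlug.le_CC S hR h3).trans (centralizer_le (Set.singleton_subset_iff.2 h2))
    exact hR2 fun r hr => (hcent r).1 (hcon R hRS hRX r hr)

end fin

end Cfsg.Agent.Omega.NOThreeL.RRed
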