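import Cfsg.Agent.Omega.NOThreeL.RRed.NatS
import Cfsg.Agent.Omega.NatPair.Of

/-!
# One natural block with field automorphisms (helper640): `NatS` from `WideTree.NatBlk`, the offenders

* `NatS.ofBlk` : `NatS F S (D ⊔ S) V W l` from coordinates of a group `D` normalised by `S` which induces `SL₂(F)` on `V`
  and centralises `W`;
* **`NatS.off`** : an elementary abelian `A ≤ S` with `|V| |C_A(V)| ≤ |A| |C_V(A)|` which moves `V` centralises `l`,
  `C_V(A) = l` and `|A| = |l| |C_A(V)|`.
-/

set_option autoImplicit false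
set_option linter.unusedSectionVars false

namespace Cfsg.Agent.Omega.NOThreeL.RRed

open Subgroup Cfsg Cfsg.Agent.ZN Cfsg.Agent.Omega.MinPar
open Cfsg.Agent.Lib.SL2Mat
open Cfsg.Agent.Omega.NatPair (ap ap_add ap_mul ap_one ext2 ap_zero' ap_one' ap_inv_ap ap_ap_inv ap_eq_mulVec)
open scoped Pointwise

universe u

variable {G : Type u} [Group G]

/-- the elements of odd order of `D S` lie in `D` -/
theorem NatS.odd_mem {D S : Subgroup G} (hS : IsPGroup 2 S) (hSD : S ≤ normalizer (D : Set G)) {g : G}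
    (hg : g ∈ D ⊔ S) (ho : Odd (orderOf g)) : g ∈ D := by
  obtain ⟨d, hd, s, hs, rfl⟩ := NatS.mulsup hSD hg
  obtain ⟨n, hn⟩ := hS ⟨s, hs⟩
  have hn' : s ^ 2 ^ n = 1 := congrArg Subtype.val hn
  have hpow : ∀ m : ℕ, (d * s) ^ m * (s ^ m)⁻¹ ∈ D := by
    intro m
    induction m with
    | zero => simp
    | succ m ih =>
      have e1 : (d * s) ^ (m + 1) * (s ^ (m + 1))⁻¹ = d * (s * ((d * s) ^ m * (s ^ m)⁻¹) * s⁻¹) := by
        rw [pow_succ' (d * s), pow_succ' s]; group
      rw [e1]
      exact mul_mem hd ((mem_normalizer_iff.1 (hSD hs) _).1 ih)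
  have h1 : (d * s) ^ 2 ^ n ∈ D := by
    have := hpow (2 ^ n)
    rwa [hn', inv_one, mul_one] at this
  have h2 : Nat.Coprime (orderOf (d * s)) (2 ^ n) := (Nat.coprime_two_right.2 ho).pow_right n
  obtain ⟨m, hm⟩ := exists_pow_eq_self_of_coprime h2.symm
  rw [← hm]
  exact pow_mem h1 m

/-- **`NatS` from a group `D` which acts as `SL₂(F)`** (`WideTree.NatBlk`) -/
def NatS.ofBlk [Finite G] {F : Type} [Field F] (S : Sylow 2 G) {D V W l : Subgroup G} (e : G → Fin 2 → F)
    (mul : ∀ v ∈ V, ∀ w ∈ V, e (v * w) = e v + e w) (inj : ∀ v ∈ V, e v = 0 → v = 1)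
    (sur : ∀ x : Fin 2 → F, ∃ v ∈ V, e v = x)
    (act : ∀ g ∈ D, ∃ M : Matrix.SpecialLinearGroup (Fin 2) F, ∀ v ∈ V, e (g * v * g⁻¹) = M.1.mulVec (e v))
    (full : ∀ M : Matrix.SpecialLinearGroup (Fin 2) F, ∃ g ∈ D, ∀ v ∈ V, e (g * v * g⁻¹) = M.1.mulVec (e v))
    (line : ∀ v, v ∈ l ↔ v ∈ V ∧ e v 1 = 0)
    (sylow : ∀ c : F, ∃ s ∈ (S : Subgroup G) ⊓ D, ∀ v ∈ V, e (s * v * s⁻¹) = ![e v 0 + c * e v 1, e v 1])
    (SV : (S : Subgroup G) ≤ normalizer (V : Set G)) (DV : D ≤ normalizer (V : Set G))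
    (SD : (S : Subgroup G) ≤ normalizer (D : Set G)) (Sl : (S : Subgroup G) ≤ normalizer (l : Set G))
    (DW : D ≤ centralizer (W : Set G)) : NatS F (S : Subgroup G) (D ⊔ (S : Subgroup G)) V W l where
  SP := le_sup_right
  two := S.2
  syl := by
    intro h
    exact S.not_dvd_index (h.trans (relIndex_dvd_index_of_le le_sup_right))
  nV := sup_le DV SV
  odd g hg ho := DW (NatS.odd_mem S.2 SD hg ho)
  e := e
  mul := mul
  surj := sur
  ker v hv := ⟨inj v hv, fun h => by
    rw [h]
    have := mul 1 (one_mem _) 1 (one_mem _)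
    rw [one_mul] at this
    exact left_eq_add.1 this⟩
  lift A := by
    obtain ⟨g, hg, h⟩ := full A
    exact ⟨g, le_sup_left (a := D) hg, fun v hv => by rw [h v hv, ap_eq_mulVec]⟩
  norm g hg h hh A hA := by
    obtain ⟨d, hd, hdA⟩ := full A
    have hPD : D ⊔ (S : Subgroup G) ≤ normalizer (D : Set G) := sup_le le_normalizer SD
    have hPV : D ⊔ (S : Subgroup G) ≤ normalizer (V : Set G) := sup_le DV SV
    obtain ⟨B, hB⟩ := act _ ((mem_normalizer_iff.1 (hPD hg) d).1 hd)
    refine ⟨B, fun v hv => ?_⟩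
    have hw : g⁻¹ * v * g ∈ V := by
      have := (mem_normalizer_iff.1 (hPV (inv_mem hg)) v).1 hv
      rwa [inv_inv] at this
    have h1 : h * (g⁻¹ * v * g) * h⁻¹ ∈ V := (mem_normalizer_iff.1 (hPV hh) _).1 hw
    have h2 : d * (g⁻¹ * v * g) * d⁻¹ ∈ V := (mem_normalizer_iff.1 (DV hd) _).1 hw
    have h3 : h * (g⁻¹ * v * g) * h⁻¹ = d * (g⁻¹ * v * g) * d⁻¹ := by
      have h4 : e (h * (g⁻¹ * v * g) * h⁻¹) = e (d * (g⁻¹ * v * g) * d⁻¹) := by
        rw [hA _ hw, hdA _ hw, ap_eq_mulVec]
      have h0 : e 1 = 0 := by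
        have := mul 1 (one_mem _) 1 (one_mem _)
        rw [one_mul] at this
        exact left_eq_add.1 this
      have h5 : e (h * (g⁻¹ * v * g) * h⁻¹ * (d * (g⁻¹ * v * g) * d⁻¹)⁻¹) = 0 := by
        have h6 := mul _ h2 _ (inv_mem h2)
        rw [mul_inv_cancel, h0] at h6
        rw [mul _ h1 _ (inv_mem h2), h4, ← h6]
      exact mul_inv_eq_one.1 (inj _ (mul_mem h1 (inv_mem h2)) h5)
    have e1 : g * h * g⁻¹ * v * (g * h * g⁻¹)⁻¹ = g * (h * (g⁻¹ * v * g) * h⁻¹) * g⁻¹ := by group
    have e2 : g * (d * (g⁻¹ * v * g) * d⁻¹) * g⁻¹ = g * d * g⁻¹ * v * (g * d * g⁻¹)⁻¹ := by group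
    rw [e1, h3, e2, hB v hv, ap_eq_mulVec]
  unip b := by
    obtain ⟨s, hs, h⟩ := sylow b
    refine ⟨s, hs.1, fun v hv => ?_⟩
    rw [h v hv]
    apply ext2
    · rw [ap_zero', up_00, up_01, one_mul]; rfl
    · rw [ap_one', up_10, up_11, zero_mul, zero_add, one_mul]; rfl
  lin := line
  Sl := Sl

/-! ### Offenders -/

section off

variable {F : Type} [Field F]

/-- `|X| ≤ |L| |R|` for a homomorphism of `X` into `F` with kernel in `L` and values in `R` -/
theorem NatS.card_le [Finite F] [Finite G] {X L : Subgroup G} (f : G → F)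
    (hf : ∀ x ∈ X, ∀ y ∈ X, f (x * y) = f x + f y) (hk : ∀ x ∈ X, f x = 0 → x ∈ L) {R : Set F}
    (hR : ∀ x ∈ X, f x ∈ R) : Nat.card X ≤ Nat.card L * Nat.card R := by
  let φ : X →* Multiplicative F := MonoidHom.mk' (fun x => Multiplicative.ofAdd (f x)) (by
    rintro ⟨v, hv⟩ ⟨w, hw⟩
    exact congrArg Multiplicative.ofAdd (hf v hv w hw))
  have h1 : Nat.card φ.ker * Nat.card φ.range = Nat.card X := by
    rw [← Subgroup.index_ker, Subgroup.card_mul_index]
  have h2 : Nat.card φ.range ≤ Nat.card R := by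
    refine Nat.card_le_card_of_injective (fun y : φ.range => (⟨Multiplicative.toAdd y.1, by
      obtain ⟨x, hx⟩ := y.2
      rw [← hx]
      exact hR x.1 x.2⟩ : R)) fun a b h => by
      have h' := congrArg (fun z : R => (z : F)) h
      exact Subtype.ext h'
  have h3 : Nat.card φ.ker ≤ Nat.card L := by
    refine Nat.card_le_card_of_injective (fun x : φ.ker => (⟨x.1.1, hk _ x.1.2 (by
      have := MonoidHom.mem_ker.1 x.2
      exact congrArg Multiplicative.toAdd this)⟩ : L)) fun a b h => by
      have h' := congrArg (fun z : L => (z : G)) h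
      exact Subtype.ext (Subtype.ext h')
  rw [← h1]
  exact Nat.mul_le_mul h3 h2

/-- the solutions of `x = c σ(x)` -/
def NatS.sol (σ : F ≃+* F) (c : F) : Set F := {x | x = c * σ x}

theorem NatS.card_sol [Finite F] (σ : F ≃+* F) (c : F) : Nat.card (NatS.sol σ c) ≤ Nat.card (NatS.sol σ 1) := by
  by_cases h : ∃ y ∈ NatS.sol σ c, y ≠ 0
  · obtain ⟨y, hy, hy0⟩ := h
    refine Nat.card_le_card_of_injective (fun x : NatS.sol σ c => (⟨x.1 / y, ?_⟩ : NatS.sol σ 1)) ?_
    · have h1 : x.1 = c * σ x.1 := x.2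
      have h2 : y = c * σ y := hy
      have hc : c ≠ 0 := by
        rintro rfl
        rw [zero_mul] at h2
        exact hy0 h2
      have hs : σ y ≠ 0 := by simpa using hy0
      show x.1 / y = 1 * σ (x.1 / y)
      rw [one_mul, map_div₀]
      conv_lhs => rw [h1, h2]
      field_simp
    · intro a b hab
      have h1 : a.1 / y = b.1 / y := congrArg Subtype.val hab
      exact Subtype.ext (by field_simp at h1; exact h1)
  · push Not at h
    have h1 : Nat.card (NatS.sol σ c) ≤ 1 := by
      have : Subsingleton (NatS.sol σ c) := ⟨fun a b => Subtype.ext ((h a a.2).trans (h b b.2).symm)⟩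
      exact Finite.card_le_one_iff_subsingleton.2 this
    have h2 : 0 < Nat.card (NatS.sol σ 1) := by
      have : Nonempty (NatS.sol σ 1) := ⟨⟨0, by show (0 : F) = 1 * σ 0; simp⟩⟩
      exact Nat.card_pos
    omega

theorem NatS.two_card_sol [Finite F] {σ : F ≃+* F} (h : σ ≠ 1) : 2 * Nat.card (NatS.sol σ 1) ≤ Nat.card F := by
  let K : AddSubgroup F :=
    { carrier := NatS.sol σ 1
      zero_mem' := by show (0 : F) = 1 * σ 0; simp
      add_mem' := by
        intro a b ha hb
        have ha' : a = 1 * σ a := ha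
        have hb' : b = 1 * σ b := hb
        show a + b = 1 * σ (a + b)
        rw [map_add, mul_add, ← ha', ← hb']
      neg_mem' := by
        intro a ha
        have ha' : a = 1 * σ a := ha
        show -a = 1 * σ (-a)
        rw [map_neg, mul_neg, ← ha'] }
  have hK : K ≠ ⊤ := by
    intro h1
    apply h
    ext x
    have h2 : x ∈ K := by rw [h1]; trivial
    have h3 : x = 1 * σ x := h2
    rw [one_mul] at h3
    exact h3.symm
  have h1 : Nat.card K * K.index = Nat.card F := K.card_mul_index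
  have h2 : 1 < K.index := by
    have h3 : K.index ≠ 0 := AddSubgroup.index_ne_zero_of_finite
    have h4 : K.index ≠ 1 := fun e => hK (AddSubgroup.index_eq_one.1 e)
    omega
  have h3 : Nat.card K = Nat.card (NatS.sol σ 1) := rfl
  rw [h3] at h1
  nlinarith [Nat.zero_le (Nat.card (NatS.sol σ 1))]

namespace NatS

variable [Finite F] [CharP F 2] [Finite G] {S P V W l A : Subgroup G} (N : NatS F S P V W l)
include N

/-- **The offenders in `S` on `V`** -/
theorem off (hA : A ≤ S) (hAc : ∀ a ∈ A, ∀ b ∈ A, a * b = b * a) (hA2 : ∀ a ∈ A, a ^ 2 = 1)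
    (hmv : ¬ A ≤ centralizer (V : Set G))
    (hoff : Nat.card V * Nat.card ↥(A ⊓ centralizer (V : Set G)) ≤
      Nat.card A * Nat.card ↥(V ⊓ centralizer (A : Set G))) :
    A ≤ centralizer (l : Set G) ∧ V ⊓ centralizer (A : Set G) = l ∧
      Nat.card A = Nat.card l * Nat.card ↥(A ⊓ centralizer (V : Set G)) := by
  obtain ⟨v1, hv1, hev1⟩ := N.surj ![0, 1]
  have hcV := N.card_V
  have hcl := N.card_l
  have hC0 : 0 < Nat.card ↥(A ⊓ centralizer (V : Set G)) := Nat.card_pos
  have hq0 : 0 < Nat.card F := Nat.card_pos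
  -- the parameters of `X ≤ C_A(l)`
  have par : ∀ u ∈ A, u ∈ centralizer (l : Set G) → ∀ v ∈ V,
      N.e (u * v * u⁻¹) = ![N.e v 0 + N.e (u * v1 * u⁻¹) 0 * N.e v 1, N.e v 1] := by
    intro u hu hul v hv
    obtain ⟨b, hb⟩ := N.unip_of (hA hu) hul
    have h1 : N.e (u * v1 * u⁻¹) 0 = b := by
      rw [hb v1 hv1, hev1, ap_zero', up_00, up_01]; simp
    rw [h1, hb v hv]
    apply ext2
    · rw [ap_zero', up_00, up_01, one_mul]; rfl
    · rw [ap_one', up_10, up_11, zero_mul, zero_add, one_mul]; rfl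
  have cen : ∀ u ∈ A, u ∈ centralizer (l : Set G) → N.e (u * v1 * u⁻¹) 0 = 0 →
      u ∈ A ⊓ centralizer (V : Set G) := by
    intro u hu hul h0
    refine ⟨hu, mem_centralizer_iff.2 fun v hv => ?_⟩
    have h1 : u * v * u⁻¹ = v := by
      refine N.e_inj (N.conj_V (N.SP (hA hu)) hv) hv ?_
      rw [par u hu hul v hv, h0]
      apply ext2 <;> simp
    calc v * u = (u * v * u⁻¹) * u := by rw [h1]
      _ = u * v := by group
  have add : ∀ u ∈ A ⊓ centralizer (l : Set G), ∀ w ∈ A ⊓ centralizer (l : Set G),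
      N.e (u * w * v1 * (u * w)⁻¹) 0 = N.e (u * v1 * u⁻¹) 0 + N.e (w * v1 * w⁻¹) 0 := by
    rintro u ⟨hu, hul⟩ w ⟨hw, hwl⟩
    have e1 : u * w * v1 * (u * w)⁻¹ = u * (w * v1 * w⁻¹) * u⁻¹ := by group
    have h1 : N.e (w * v1 * w⁻¹) 1 = 1 := by
      rw [par w hw hwl v1 hv1, hev1]; rfl
    rw [e1, par u hu hul _ (N.conj_V (N.SP (hA hw)) hv1), h1]
    show N.e (w * v1 * w⁻¹) 0 + N.e (u * v1 * u⁻¹) 0 * 1 = _
    ring
  by_cases hAl : A ≤ centralizer (l : Set G)
  · -- `A` is unipotent
    obtain ⟨a, ha, haV⟩ := SetLike.not_le_iff_exists.1 hmv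
    have h1 : V ⊓ centralizer (A : Set G) = l := by
      apply le_antisymm
      · rintro v ⟨hv, hvA⟩
        by_contra hvl
        exact haV (N.reg a (hA ha) (hAl ha) v hv hvl (mem_centralizer_iff.1 hvA a ha))
      · refine le_inf N.lV ?_
        rw [le_centralizer_iff]
        exact hAl
    have h2 : Nat.card A ≤ Nat.card ↥(A ⊓ centralizer (V : Set G)) * Nat.card (Set.univ : Set F) := by
      refine NatS.card_le (fun u => N.e (u * v1 * u⁻¹) 0) ?_ ?_ fun _ _ => trivial
      · intro x hx y hy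
        exact add x ⟨hx, hAl hx⟩ y ⟨hy, hAl hy⟩
      · intro x hx h0
        exact cen x hx (hAl hx) h0
    rw [Nat.card_univ] at h2
    rw [h1, hcl, hcV] at hoff
    refine ⟨hAl, h1, ?_⟩
    rw [hcl]
    have h3 : Nat.card F * Nat.card ↥(A ⊓ centralizer (V : Set G)) ≤ Nat.card A := by
      refine Nat.le_of_mul_le_mul_left ?_ hq0
      calc Nat.card F * (Nat.card F * Nat.card ↥(A ⊓ centralizer (V : Set G)))
          = Nat.card F * Nat.card F * Nat.card ↥(A ⊓ centralizer (V : Set G)) := by ring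
        _ ≤ Nat.card A * Nat.card F := hoff
        _ = Nat.card F * Nat.card A := by ring
    rw [mul_comm] at h2
    exact le_antisymm h2 h3
  · -- field automorphisms: impossible
    exfalso
    obtain ⟨a, ha, hal⟩ := SetLike.not_le_iff_exists.1 hAl
    have haS := hA ha
    obtain ⟨σ, α, β, δ, hα, hδ, hact⟩ := N.semi haS
    have hSm : N.Sm a σ := ⟨α, hα, fun v hv => by
      rw [hact v (N.lV hv), ((N.lin v).1 hv).2, map_zero]; simp⟩
    have hσ : σ ≠ 1 := by
      rintro rfl
      apply hal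
      refine mem_centralizer_iff.2 fun v hv => ?_
      have h1 := Sm.one N haS hSm v hv
      calc v * a = (a * v * a⁻¹) * a := by rw [h1]
        _ = a * v := by group
    have hone : N.Sm 1 1 := ⟨1, one_ne_zero, fun v _ => by
      show N.e (1 * v * 1⁻¹) 0 = 1 * N.e v 0
      rw [one_mul, inv_one, mul_one, one_mul]⟩
    set q0 := Nat.card (NatS.sol σ 1) with hq0'
    have hq := NatS.two_card_sol hσ
    -- `|C_l(a)| ≤ q₀`
    have hla : Nat.card ↥(l ⊓ centralizer ({a} : Set G)) ≤ q0 := by
      refine le_trans ?_ (NatS.card_sol σ α)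
      have h1 := NatS.card_le (X := l ⊓ centralizer ({a} : Set G)) (L := ⊥) (fun v => N.e v 0)
        (fun x hx y hy => by rw [N.mul x (N.lV hx.1) y (N.lV hy.1)]; rfl)
        (fun x hx h0 => by
          rw [mem_bot]
          refine (N.ker x (N.lV hx.1)).1 ?_
          rw [N.e_l hx.1, h0]
          exact ext2 rfl rfl) (R := NatS.sol σ α) (fun x hx => by
          have h2 : a * x * a⁻¹ = x := by
            have := mem_centralizer_singleton_iff.1 hx.2
            rw [← this, mul_inv_cancel_right]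
          have h3 := hact x (N.lV hx.1)
          rw [h2, ((N.lin x).1 hx.1).2, map_zero, mul_zero, mul_zero, add_zero] at h3
          exact congrFun h3 0)
      rwa [card_bot, one_mul] at h1
    -- `|C_V(a)| ≤ q₀²`
    have hVa : Nat.card ↥(V ⊓ centralizer ({a} : Set G)) ≤ q0 * q0 := by
      have h1 := NatS.card_le (X := V ⊓ centralizer ({a} : Set G)) (L := l ⊓ centralizer ({a} : Set G))
        (fun v => N.e v 1)
        (fun x hx y hy => by rw [N.mul x hx.1 y hy.1]; rfl)
        (fun x hx h0 => ⟨(N.lin x).2 ⟨hx.1, h0⟩, hx.2⟩) (R := NatS.sol σ δ) (fun x hx => by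
          have h2 : a * x * a⁻¹ = x := by
            have := mem_centralizer_singleton_iff.1 hx.2
            rw [← this, mul_inv_cancel_right]
          have h3 := hact x hx.1
          rw [h2] at h3
          exact congrFun h3 1)
      exact h1.trans (Nat.mul_le_mul hla (NatS.card_sol σ δ))
    -- `|A| ≤ 2 |C_A(l)|`
    have hA0 : Nat.card A ≤ 2 * Nat.card ↥(A ⊓ centralizer (l : Set G)) := by
      have key : ∀ b ∈ A, b ∈ centralizer (l : Set G) ∨ a * b ∈ centralizer (l : Set G) := by
        intro b hb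
        obtain ⟨τ, hτ⟩ := Sm.exists N (hA hb)
        have h1 : ∀ c ∈ A, ∀ υ : F ≃+* F, N.Sm c υ → υ ^ 2 = 1 := by
          intro c hc υ hυ
          have h2 := Sm.mul N (hA hc) hυ hυ
          have h3 : c * c = 1 := by rw [← pow_two]; exact hA2 c hc
          rw [h3] at h2
          rw [pow_two]
          exact Sm.unique N h2 hone
        have hcy : IsCyclic (F ≃+* F) := Cfsg.Agent.LieRecognition.FieldSemilinear.isCyclic_ringAut F
        have hfin : Finite (F ≃+* F) := Finite.of_injective (fun f : F ≃+* F => (f : F → F)) DFunLike.coe_injective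
        have hτσ : τ = 1 ∨ τ = σ := by
          by_contra hcon
          push Not at hcon
          classical
          have := Fintype.ofFinite (F ≃+* F)
          have h4 := IsCyclic.card_pow_eq_one_le (α := F ≃+* F) (n := 2) (by norm_num)
          have h5 : ({1, σ, τ} : Finset (F ≃+* F)) ⊆ Finset.univ.filter fun x => x ^ 2 = 1 := by
            intro x hx
            simp only [Finset.mem_insert, Finset.mem_singleton] at hx
            rw [Finset.mem_filter]
            refine ⟨Finset.mem_univ _, ?_⟩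
            rcases hx with rfl | rfl | rfl
            · exact one_pow _
            · exact h1 a ha _ hSm
            · exact h1 b hb _ hτ
          have h6 := (Finset.card_le_card h5).trans h4
          have h7 : ({1, σ, τ} : Finset (F ≃+* F)).card = 3 := by
            rw [Finset.card_eq_three]
            exact ⟨1, σ, τ, hσ.symm, hcon.1.symm, hcon.2.symm, rfl⟩
          omega
        have h8 : ∀ c ∈ A, N.Sm c 1 → c ∈ centralizer (l : Set G) := by
          intro c hc h9
          refine mem_centralizer_iff.2 fun v hv => ?_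
          have h10 := Sm.one N (hA hc) h9 v hv
          calc v * c = (c * v * c⁻¹) * c := by rw [h10]
            _ = c * v := by group
        rcases hτσ with rfl | rfl
        · exact Or.inl (h8 b hb hτ)
        · refine Or.inr (h8 _ (mul_mem ha hb) ?_)
          have h9 := Sm.mul N (hA hb) hSm hτ
          have h10 := h1 a ha _ hSm
          rw [pow_two] at h10
          rwa [h10] at h9
      have h1 : Nat.card A ≤ Nat.card (Bool × ↥(A ⊓ centralizer (l : Set G))) := by
        classical
        refine Nat.card_le_card_of_injective (fun b : A => if h : (b : G) ∈ centralizer (l : Set G) then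
          (false, ⟨b, b.2, h⟩) else (true, ⟨a * b, mul_mem ha b.2, (key b b.2).resolve_left h⟩)) ?_
        intro b c hbc
        by_cases hb : (b : G) ∈ centralizer (l : Set G) <;> by_cases hc : (c : G) ∈ centralizer (l : Set G)
        · simp only [hb, hc, dite_true] at hbc
          have h' := congrArg (fun z : ↥(A ⊓ centralizer (l : Set G)) => (z : G)) (Prod.ext_iff.1 hbc).2
          exact Subtype.ext h'
        · simp only [hb, hc, dite_true, dite_false] at hbc
          exact absurd (Prod.ext_iff.1 hbc).1 (by simp)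
        · simp only [hb, hc, dite_true, dite_false] at hbc
          exact absurd (Prod.ext_iff.1 hbc).1 (by simp)
        · simp only [hb, hc, dite_false] at hbc
          have h' := congrArg (fun z : ↥(A ⊓ centralizer (l : Set G)) => (z : G)) (Prod.ext_iff.1 hbc).2
          exact Subtype.ext (mul_left_cancel h')
      rwa [Nat.card_prod, Nat.card_eq_fintype_card (α := Bool), Fintype.card_bool] at h1
    -- `|C_A(l)| ≤ |C_A(V)| q₀`
    have hA1 : Nat.card ↥(A ⊓ centralizer (l : Set G)) ≤ Nat.card ↥(A ⊓ centralizer (V : Set G)) * q0 := by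
      have h1 := NatS.card_le (X := A ⊓ centralizer (l : Set G)) (L := A ⊓ centralizer (V : Set G))
        (fun u => N.e (u * v1 * u⁻¹) 0) add (fun x hx h0 => cen x hx.1 hx.2 h0) (R := NatS.sol σ (α / δ))
        (fun u hu => by
          have hc := hAc a ha u hu.1
          have hua : u * (a * v1 * a⁻¹) * u⁻¹ = a * (u * v1 * u⁻¹) * a⁻¹ := by
            calc u * (a * v1 * a⁻¹) * u⁻¹ = (u * a) * v1 * (u * a)⁻¹ := by group
              _ = (a * u) * v1 * (a * u)⁻¹ := by rw [hc]
              _ = _ := by group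
          have h2 := par u hu.1 hu.2 _ (N.conj_V (N.SP haS) hv1)
          have h3 := hact _ (N.conj_V (N.SP (hA hu.1)) hv1)
          rw [hua, h3, hact v1 hv1, hev1] at h2
          have h4 := par u hu.1 hu.2 v1 hv1
          rw [hev1] at h4
          have h5 : N.e (u * v1 * u⁻¹) 1 = 1 := by rw [h4]; rfl
          have h6 := congrFun h2 0
          rw [h5] at h6
          simp only [Matrix.cons_val_zero, Matrix.cons_val_one, map_zero, map_one, mul_zero, mul_one, zero_add] at h6
          -- `α σ(b) + β = β + b δ`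
          have h7 : α * σ (N.e (u * v1 * u⁻¹) 0) = N.e (u * v1 * u⁻¹) 0 * δ := by
            have := h6
            rw [add_comm β] at this
            exact add_right_cancel this
          show N.e (u * v1 * u⁻¹) 0 = α / δ * σ (N.e (u * v1 * u⁻¹) 0)
          rw [div_mul_eq_mul_div, h7]
          field_simp)
      exact h1.trans (Nat.mul_le_mul_left _ (NatS.card_sol σ _))
    have hq00 : 0 < q0 := by
      have : Nonempty (NatS.sol σ 1) := ⟨⟨0, by show (0 : F) = 1 * σ 0; simp⟩⟩
      exact Nat.card_pos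
    have fin : Nat.card A * Nat.card ↥(V ⊓ centralizer (A : Set G)) ≤
        2 * Nat.card ↥(A ⊓ centralizer (V : Set G)) * (q0 * q0) := by
      by_cases hA0V : A ⊓ centralizer (l : Set G) ≤ centralizer (V : Set G)
      · have h1 : Nat.card ↥(A ⊓ centralizer (l : Set G)) ≤ Nat.card ↥(A ⊓ centralizer (V : Set G)) :=
          card_le_of_le (le_inf inf_le_left hA0V)
        have h2 : Nat.card ↥(V ⊓ centralizer (A : Set G)) ≤ q0 * q0 :=
          (card_le_of_le (inf_le_inf_left _ (centralizer_le (Set.singleton_subset_iff.2 ha)))).trans hVa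
        exact Nat.mul_le_mul (hA0.trans (Nat.mul_le_mul_left _ h1)) h2
      · obtain ⟨u, hu, huV⟩ := SetLike.not_le_iff_exists.1 hA0V
        have h1 : V ⊓ centralizer (A : Set G) ≤ l ⊓ centralizer ({a} : Set G) := by
          rintro v ⟨hv, hvA⟩
          refine ⟨?_, centralizer_le (Set.singleton_subset_iff.2 ha) hvA⟩
          by_contra hvl
          exact huV (N.reg u (hA hu.1) hu.2 v hv hvl (mem_centralizer_iff.1 hvA u hu.1))
        calc Nat.card A * Nat.card ↥(V ⊓ centralizer (A : Set G))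
            ≤ (2 * (Nat.card ↥(A ⊓ centralizer (V : Set G)) * q0)) * q0 :=
              Nat.mul_le_mul (hA0.trans (Nat.mul_le_mul_left _ hA1)) ((card_le_of_le h1).trans hla)
          _ = _ := by ring
    have h9 := hoff.trans fin
    rw [hcV] at h9
    have h10 : Nat.card F * Nat.card F ≤ 2 * (q0 * q0) := by
      refine Nat.le_of_mul_le_mul_right ?_ hC0
      calc Nat.card F * Nat.card F * Nat.card ↥(A ⊓ centralizer (V : Set G))
          ≤ 2 * Nat.card ↥(A ⊓ centralizer (V : Set G)) * (q0 * q0) := h9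
        _ = _ := by ring
    have h11 : (2 * q0) * (2 * q0) ≤ Nat.card F * Nat.card F := Nat.mul_le_mul hq hq
    nlinarith

end NatS

end off

end Cfsg.Agent.Omega.NOThreeL.RRed
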