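import Cfsg.Agent.Omega.FFThm
import Cfsg.Agent.Omega.KL.ThmIqG
import Cfsg.Agent.Omega.KL.Star.Core
import Cfsg.Agent.LieRecognition.FieldSemilinear

/-!
# One natural block with field automorphisms (helper640): the coordinates of the fields of `KL.TwoZ.Line.LFr`

`NatS F S P V W l` : `V = F²`, `l = F × 0`, `P ≥ S` induces `SL₂(F)` on `V` and normalises it, `S` preserves `l`, the
elements of `P` of odd order centralise `W`.

* `NatS.semi` : `s ∈ S` acts on `V` as an upper triangular semilinear map;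
* `NatS.unip_of` : `y ∈ C_S(l)` acts as some `up b`;
* `fixed_le`, `cyc`, `root`, `reg`, `cardV`, `trV`, `tor`, `torU`, `mvs` : the fields of `LFr` and of `PTW`;
* `NatS.ofNatK` : from the FF theorem.
-/

set_option autoImplicit false
set_option linter.unusedSectionVars false

namespace Cfsg.Agent.Omega.NOThreeL.RRed

open Subgroup Cfsg Cfsg.Agent.ZN Cfsg.Agent.Omega.MinPar
open Cfsg.Agent.Omega.FFThm (NatK ActsSL)
open Cfsg.Agent.Lib.SL2Mat
open Cfsg.Agent.Omega.NatPair (ap ap_add ap_mul ap_one ext2 ap_zero' ap_one' ap_inv_ap ap_ap_inv exists_ap)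
open Cfsg.Agent.MinSimple.VModule (oddGen oddGen_def)
open scoped Pointwise

universe u

variable {G : Type u} [Group G]

/-- elements of `A B`, `B ≤ N(A)` -/
theorem NatS.mulsup {A B : Subgroup G} (h : B ≤ normalizer (A : Set G)) {x : G} (hx : x ∈ A ⊔ B) :
    ∃ f ∈ A, ∃ n ∈ B, x = f * n := by
  have h1 : x ∈ ((A ⊔ B : Subgroup G) : Set G) := hx
  rw [sup_comm, coe_mul_of_left_le_normalizer_right _ _ h] at h1
  obtain ⟨n, hn, f, hf, e⟩ := h1
  refine ⟨n * f * n⁻¹, (mem_normalizer_iff.1 (h hn) f).1 hf, n, hn, ?_⟩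
  rw [inv_mul_cancel_right]
  exact e.symm

section pure

variable {F : Type} [Field F]

/-- An additive injective map of `F²` which normalises `SL₂(F)` and preserves the line `{x | x 1 = 0}`. -/
theorem NatS.exists_semi [Finite F] (φ : (Fin 2 → F) → Fin 2 → F) (hadd : ∀ x y, φ (x + y) = φ x + φ y)
    (hinj : ∀ x, φ x = 0 → x = 0) (hline : ∀ x : F, φ ![x, 0] 1 = 0)
    (hnorm : ∀ A : Matrix.SpecialLinearGroup (Fin 2) F, ∃ B : Matrix.SpecialLinearGroup (Fin 2) F,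
      ∀ x, φ (ap A x) = ap B (φ x)) : ∃ σ : F ≃+* F, ∀ (c : F) x, φ (c • x) = σ c • φ x := by
  have h0 : φ 0 = 0 := by
    have := hadd 0 0
    rw [add_zero] at this
    exact left_eq_add.1 this
  set ρ : F → F := fun c => φ ![c, 0] 0 with hρ
  have hv : ∀ c, φ ![c, 0] = ![ρ c, 0] := fun c => ext2 rfl (hline c)
  have hρadd : ∀ c d, ρ (c + d) = ρ c + ρ d := by
    intro c d
    have e : (![c + d, 0] : Fin 2 → F) = ![c, 0] + ![d, 0] := by
      apply ext2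
      · simp
      · simp
    show φ ![c + d, 0] 0 = _
    rw [e, hadd]
    rfl
  have hρinj : ∀ c, ρ c = 0 → c = 0 := by
    intro c hc
    have h1 : φ ![c, 0] = 0 := by
      rw [hv, hc]
      apply ext2
      · simp
      · simp
    have h2 := congrFun (hinj _ h1) 0
    simpa using h2
  have hρ1 : ρ 1 ≠ 0 := fun h => one_ne_zero (hρinj 1 h)
  have hmul : ∀ l c, ρ (l * c) * ρ 1 = ρ l * ρ c := by
    intro l c
    by_cases hl : l = 0
    · subst hl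
      have h1 : ρ 0 = 0 := by
        show φ ![0, 0] 0 = 0
        have e : (![0, 0] : Fin 2 → F) = 0 := by
          apply ext2
          · simp
          · simp
        rw [e, h0]
        rfl
      rw [zero_mul, h1, zero_mul, zero_mul]
    · obtain ⟨B, hB⟩ := hnorm (dg l hl)
      have h1 : ∀ y, ρ (l * y) = ent B 0 0 * ρ y := by
        intro y
        have e : ap (dg l hl) ![y, 0] = ![l * y, 0] := by
          apply ext2
          · rw [ap_zero']; simp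
          · rw [ap_one']; simp
        have h2 := congrFun (hB ![y, 0]) 0
        rw [e, hv, hv, ap_zero'] at h2
        simpa using h2
      have h3 := h1 1
      rw [mul_one] at h3
      rw [h1 c, h3]
      ring
  let f : F →+* F :=
    { toFun := fun c => ρ c / ρ 1
      map_one' := div_self hρ1
      map_mul' := fun a b => by
        show ρ (a * b) / ρ 1 = ρ a / ρ 1 * (ρ b / ρ 1)
        rw [div_mul_div_comm, ← hmul]
        field_simp
      map_zero' := by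
        have h1 := hρadd 0 0
        rw [add_zero] at h1
        show ρ 0 / ρ 1 = 0
        rw [left_eq_add.1 h1, zero_div]
      map_add' := fun a b => by
        show ρ (a + b) / ρ 1 = ρ a / ρ 1 + ρ b / ρ 1
        rw [hρadd, add_div] }
  have hf : Function.Bijective f := Finite.injective_iff_bijective.1 f.injective
  refine ⟨RingEquiv.ofBijective f hf, fun c x => ?_⟩
  show φ (c • x) = (ρ c / ρ 1) • φ x
  by_cases hx : x = 0
  · rw [hx, smul_zero, h0, smul_zero]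
  obtain ⟨A, hA⟩ := NatPair.exists_ap (F := F) (x := ![1, 0]) (y := x) (by
    intro h
    have := congrFun h 0
    simp at this) hx
  obtain ⟨B, hB⟩ := hnorm A
  have e1 : c • x = ap A ![c, 0] := by
    rw [← hA, ← NatPair.ap_smul]
    congr 1
    apply ext2
    · simp
    · simp
  rw [e1, hB, hv]
  rw [← hA, hB, hv, ← NatPair.ap_smul]
  congr 1
  apply ext2
  · simp [div_mul_cancel₀ _ hρ1]
  · simp

end pure

/-- **one natural block `V = F²` with line `l = F × 0`, over `P ≥ S`; `W` is centralised by the odd elements** -/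
structure NatS (F : Type) [Field F] (S P V W l : Subgroup G) where
  SP : S ≤ P
  two : IsPGroup 2 S
  syl : ¬ 2 ∣ S.relIndex P
  nV : P ≤ normalizer (V : Set G)
  odd : ∀ g ∈ P, Odd (orderOf g) → g ∈ centralizer (W : Set G)
  e : G → Fin 2 → F
  mul : ∀ v ∈ V, ∀ w ∈ V, e (v * w) = e v + e w
  surj : ∀ x : Fin 2 → F, ∃ v ∈ V, e v = x
  ker : ∀ v ∈ V, e v = 0 ↔ v = 1
  lift : ∀ A : Matrix.SpecialLinearGroup (Fin 2) F, ∃ g ∈ P, ∀ v ∈ V, e (g * v * g⁻¹) = ap A (e v)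
  norm : ∀ g ∈ P, ∀ h ∈ P, ∀ A : Matrix.SpecialLinearGroup (Fin 2) F,
    (∀ v ∈ V, e (h * v * h⁻¹) = ap A (e v)) → ∃ B : Matrix.SpecialLinearGroup (Fin 2) F,
      ∀ v ∈ V, e (g * h * g⁻¹ * v * (g * h * g⁻¹)⁻¹) = ap B (e v)
  unip : ∀ b : F, ∃ t ∈ S, ∀ v ∈ V, e (t * v * t⁻¹) = ap (up b) (e v)
  lin : ∀ v, v ∈ l ↔ v ∈ V ∧ e v 1 = 0
  Sl : S ≤ normalizer (l : Set G)

namespace NatS

variable {F : Type} [Field F] {S P V W l : Subgroup G} (N : NatS F S P V W l)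
include N

/-! ### Coordinates -/

theorem lV : l ≤ V := fun v hv => ((N.lin v).1 hv).1

theorem e_one : N.e 1 = 0 := (N.ker 1 (one_mem _)).2 rfl

theorem e_inv {v : G} (hv : v ∈ V) : N.e v⁻¹ = - N.e v := by
  have h := N.mul v hv v⁻¹ (inv_mem hv)
  rw [mul_inv_cancel, N.e_one] at h
  exact (neg_eq_of_add_eq_zero_right h.symm).symm

theorem e_inj {v w : G} (hv : v ∈ V) (hw : w ∈ V) (h : N.e v = N.e w) : v = w := by
  have h1 : N.e (v * w⁻¹) = 0 := by rw [N.mul v hv _ (inv_mem hw), N.e_inv hw, h, add_neg_cancel]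
  exact mul_inv_eq_one.1 ((N.ker _ (mul_mem hv (inv_mem hw))).1 h1)

theorem conj_V {g v : G} (hg : g ∈ P) (hv : v ∈ V) : g * v * g⁻¹ ∈ V := (mem_normalizer_iff.1 (N.nV hg) v).1 hv

theorem conj_V' {g v : G} (hg : g ∈ P) (hv : v ∈ V) : g⁻¹ * v * g ∈ V := by
  have := N.conj_V (inv_mem hg) hv
  rwa [inv_inv] at this

theorem conj_l {s v : G} (hs : s ∈ S) (hv : v ∈ l) : s * v * s⁻¹ ∈ l := (mem_normalizer_iff.1 (N.Sl hs) v).1 hv

theorem comm {v w : G} (hv : v ∈ V) (hw : w ∈ V) : v * w = w * v :=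
  N.e_inj (mul_mem hv hw) (mul_mem hw hv) (by rw [N.mul v hv w hw, N.mul w hw v hv, add_comm])

/-- `S`-fixed vectors lie on the line -/
theorem fixed_le {v : G} (hv : v ∈ V) (h : v ∈ centralizer (S : Set G)) : v ∈ l := by
  obtain ⟨t, ht, h1⟩ := N.unip 1
  have h2 := h1 v hv
  have h3 : t * v * t⁻¹ = v := by
    rw [mem_centralizer_iff.1 h t ht, mul_inv_cancel_right]
  rw [h3] at h2
  have h4 := congrFun h2 0
  rw [ap_zero', up_00, up_01, one_mul, one_mul] at h4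
  exact (N.lin v).2 ⟨hv, left_eq_add.1 h4⟩

theorem exists_vec (x : Fin 2 → F) : ∃ v ∈ V, N.e v = x := N.surj x

/-- a vector on the line -/
theorem exists_l (x : F) : ∃ v ∈ l, N.e v = ![x, 0] := by
  obtain ⟨v, hv, h⟩ := N.surj ![x, 0]
  exact ⟨v, (N.lin v).2 ⟨hv, by rw [h]; rfl⟩, h⟩

theorem e_l {v : G} (hv : v ∈ l) : N.e v = ![N.e v 0, 0] := ext2 rfl ((N.lin v).1 hv).2

/-- **`s ∈ S` acts as an upper triangular semilinear map** -/
theorem semi [Finite F] {s : G} (hs : s ∈ S) : ∃ (σ : F ≃+* F) (a b d : F), a ≠ 0 ∧ d ≠ 0 ∧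
    ∀ v ∈ V, N.e (s * v * s⁻¹) = ![a * σ (N.e v 0) + b * σ (N.e v 1), d * σ (N.e v 1)] := by
  have hsP := N.SP hs
  choose r hr hrx using N.surj
  have h1 : ∀ v ∈ V, r (N.e v) = v := fun v hv => N.e_inj (hr _) hv (hrx _)
  have hl : ∀ x : F, r ![x, 0] ∈ l := fun x => (N.lin _).2 ⟨hr _, by rw [hrx]; rfl⟩
  have hmul : ∀ x y, r (x + y) = r x * r y := fun x y =>
    N.e_inj (hr _) (mul_mem (hr _) (hr _)) (by rw [N.mul _ (hr _) _ (hr _), hrx, hrx, hrx])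
  set φ : (Fin 2 → F) → Fin 2 → F := fun x => N.e (s * r x * s⁻¹) with hφ
  have hadd : ∀ x y, φ (x + y) = φ x + φ y := by
    intro x y
    show N.e (s * r (x + y) * s⁻¹) = _
    rw [hmul, show s * (r x * r y) * s⁻¹ = (s * r x * s⁻¹) * (s * r y * s⁻¹) by group,
      N.mul _ (N.conj_V hsP (hr _)) _ (N.conj_V hsP (hr _))]
  have hinj : ∀ x, φ x = 0 → x = 0 := by
    intro x hx
    have h2 : s * r x * s⁻¹ = 1 := (N.ker _ (N.conj_V hsP (hr _))).1 hx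
    have h3 : r x = 1 := conj_eq_one_iff.1 h2
    rw [← hrx x, h3, N.e_one]
  have hline : ∀ x : F, φ ![x, 0] 1 = 0 := fun x => ((N.lin _).1 (N.conj_l hs (hl x))).2
  have hnorm : ∀ A : Matrix.SpecialLinearGroup (Fin 2) F, ∃ B : Matrix.SpecialLinearGroup (Fin 2) F,
      ∀ x, φ (ap A x) = ap B (φ x) := by
    intro A
    obtain ⟨g, hg, hgA⟩ := N.lift A
    obtain ⟨B, hB⟩ := N.norm s hsP g hg A hgA
    refine ⟨B, fun x => ?_⟩
    have h2 : r (ap A x) = g * r x * g⁻¹ :=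
      N.e_inj (hr _) (N.conj_V hg (hr _)) (by rw [hrx, hgA _ (hr _), hrx])
    show N.e (s * r (ap A x) * s⁻¹) = ap B (N.e (s * r x * s⁻¹))
    rw [h2, ← hB _ (N.conj_V hsP (hr _))]
    congr 1
    group
  obtain ⟨σ, hσ⟩ := exists_semi φ hadd hinj hline hnorm
  have hv1 : φ ![1, 0] = ![φ ![1, 0] 0, 0] := ext2 rfl (hline 1)
  have hv2 : φ ![0, 1] = ![φ ![0, 1] 0, φ ![0, 1] 1] := ext2 rfl rfl
  refine ⟨σ, φ ![1, 0] 0, φ ![0, 1] 0, φ ![0, 1] 1, fun h => ?_, fun h => ?_, fun v hv => ?_⟩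
  · rw [h] at hv1
    have h2 := hinj _ (hv1.trans (ext2 rfl rfl))
    exact one_ne_zero (congrFun h2 0)
  · have h2 : s * r ![0, 1] * s⁻¹ ∈ l := (N.lin _).2 ⟨N.conj_V hsP (hr _), h⟩
    have h3 := N.conj_l (inv_mem hs) h2
    have e1 : s⁻¹ * (s * r ![0, 1] * s⁻¹) * s⁻¹⁻¹ = r ![0, 1] := by group
    rw [e1] at h3
    have h4 := ((N.lin _).1 h3).2
    rw [hrx] at h4
    exact one_ne_zero h4
  · have e1 : N.e v = (N.e v 0) • ![1, 0] + (N.e v 1) • ![0, 1] := by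
      apply ext2 <;> simp
    have h2 : N.e (s * v * s⁻¹) = φ (N.e v) := by
      show _ = N.e (s * r (N.e v) * s⁻¹)
      rw [h1 v hv]
    rw [h2]
    conv_lhs => rw [e1]
    rw [hadd, hσ, hσ, hv1, hv2]
    apply ext2
    · simp [mul_comm]
    · simp [mul_comm]

variable [CharP F 2]

omit N in
/-- a scalar of order a power of two is `1` -/
theorem pow_two_pow {a : F} {n : ℕ} (h : a ^ 2 ^ n = 1) : a = 1 := by
  have h4 : (a - 1) ^ 2 ^ n = 0 := by rw [sub_pow_char_pow, one_pow, h, sub_self]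
  exact sub_eq_zero.1 (pow_eq_zero_iff (by positivity) |>.1 h4)

/-- **`y ∈ C_S(l)` acts as some `up b`** -/
theorem unip_of [Finite F] {y : G} (hy : y ∈ S) (hyl : y ∈ centralizer (l : Set G)) :
    ∃ b : F, ∀ v ∈ V, N.e (y * v * y⁻¹) = ap (up b) (N.e v) := by
  obtain ⟨σ, a, b, d, ha, hd, hact⟩ := N.semi hy
  have hyP := N.SP hy
  have h1 : ∀ x : F, x = a * σ x := by
    intro x
    obtain ⟨v, hv, hx⟩ := N.exists_l x
    have h2 := hact v (N.lV hv)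
    have h3 : y * v * y⁻¹ = v := by
      rw [← mem_centralizer_iff.1 hyl v hv, mul_inv_cancel_right]
    rw [h3, hx] at h2
    have h4 := congrFun h2 0
    simpa using h4
  have ha1 : a = 1 := by
    have h2 := h1 1
    rw [map_one, mul_one] at h2
    exact h2.symm
  have hσ : ∀ x, σ x = x := fun x => by
    have h2 := h1 x
    rw [ha1, one_mul] at h2
    exact h2.symm
  have hpow : ∀ m : ℕ, ∀ v ∈ V, N.e (y ^ m * v * (y ^ m)⁻¹) 1 = d ^ m * N.e v 1 := by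
    intro m
    induction m with
    | zero => intro v _; simp
    | succ m ih =>
      intro v hv
      have e1 : y ^ (m + 1) * v * (y ^ (m + 1))⁻¹ = y * (y ^ m * v * (y ^ m)⁻¹) * y⁻¹ := by
        rw [pow_succ']; group
      rw [e1, hact _ (N.conj_V (pow_mem hyP m) hv)]
      show d * σ (N.e (y ^ m * v * (y ^ m)⁻¹) 1) = _
      rw [hσ, ih v hv, pow_succ']
      ring
  have hd1 : d = 1 := by
    obtain ⟨n, hn⟩ := N.two ⟨y, hy⟩
    have hn' : y ^ 2 ^ n = 1 := congrArg Subtype.val hn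
    obtain ⟨v, hv, hx⟩ := N.surj ![0, 1]
    have h2 := hpow (2 ^ n) v hv
    rw [hn', one_mul, inv_one, mul_one, hx] at h2
    have h3 : d ^ 2 ^ n = 1 := by simpa using h2.symm
    exact pow_two_pow h3
  refine ⟨b, fun v hv => ?_⟩
  rw [hact v hv, ha1, hd1]
  apply ext2
  · rw [ap_zero', up_00, up_01]
    show 1 * σ (N.e v 0) + b * σ (N.e v 1) = _
    rw [hσ, hσ]
  · rw [ap_one', up_10, up_11]
    show 1 * σ (N.e v 1) = _
    rw [hσ]; ring

/-- **LFr.root** -/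
theorem root [Finite F] : ∀ x ∈ V, ∀ y ∈ S, y ∈ centralizer (l : Set G) → x * y * x⁻¹ * y⁻¹ ∈ l := by
  intro x hx y hy hyl
  obtain ⟨b, hb⟩ := N.unip_of hy hyl
  have h1 : y * x⁻¹ * y⁻¹ ∈ V := N.conj_V (N.SP hy) (inv_mem hx)
  have e1 : x * y * x⁻¹ * y⁻¹ = x * (y * x⁻¹ * y⁻¹) := by group
  rw [e1, N.lin]
  refine ⟨mul_mem hx h1, ?_⟩
  rw [N.mul _ hx _ h1, hb _ (inv_mem hx), Pi.add_apply, ap_one', up_10, up_11, N.e_inv hx, Pi.neg_apply,
    Pi.neg_apply]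
  ring

/-- **LFr.reg** -/
theorem reg [Finite F] : ∀ y ∈ S, y ∈ centralizer (l : Set G) → ∀ v ∈ V, v ∉ l → y * v = v * y →
    y ∈ centralizer (V : Set G) := by
  intro y hy hyl v hv hvl hc
  obtain ⟨b, hb⟩ := N.unip_of hy hyl
  have h1 : N.e v 1 ≠ 0 := fun h => hvl ((N.lin v).2 ⟨hv, h⟩)
  have h2 : y * v * y⁻¹ = v := by rw [hc, mul_inv_cancel_right]
  have h3 := hb v hv
  rw [h2] at h3
  have h4 := congrFun h3 0
  rw [ap_zero', up_00, up_01, one_mul] at h4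
  have hb0 : b = 0 := by
    have h5 : b * N.e v 1 = 0 := left_eq_add.1 h4
    exact (mul_eq_zero.1 h5).resolve_right h1
  refine mem_centralizer_iff.2 fun w hw => ?_
  have h5 : y * w * y⁻¹ = w := by
    refine N.e_inj (N.conj_V (N.SP hy) hw) hw ?_
    rw [hb w hw, hb0, up_zero, ap_one]
  calc w * y = (y * w * y⁻¹) * y := by rw [h5]
    _ = y * w := by group

/-- `s` acts on `l` as a `σ`-semilinear map -/
def Sm (N : NatS F S P V W l) (s : G) (σ : F ≃+* F) : Prop := ∃ a : F, a ≠ 0 ∧ ∀ v ∈ l, N.e (s * v * s⁻¹) 0 = a * σ (N.e v 0)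

omit [CharP F 2] in
theorem Sm.exists [Finite F] {s : G} (hs : s ∈ S) : ∃ σ, N.Sm s σ := by
  obtain ⟨σ, a, b, d, ha, hd, hact⟩ := N.semi hs
  refine ⟨σ, a, ha, fun v hv => ?_⟩
  rw [hact v (N.lV hv), ((N.lin v).1 hv).2, map_zero]
  simp

omit [CharP F 2] in
theorem Sm.unique {s : G} {σ τ : F ≃+* F} (h : N.Sm s σ) (h' : N.Sm s τ) : σ = τ := by
  obtain ⟨a, ha, h1⟩ := h
  obtain ⟨b, hb, h2⟩ := h'
  have h3 : ∀ x : F, a * σ x = b * τ x := by
    intro x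
    obtain ⟨v, hv, hx⟩ := N.exists_l x
    have h4 := (h1 v hv).symm.trans (h2 v hv)
    rwa [hx] at h4
  have hab : a = b := by
    have := h3 1
    rwa [map_one, map_one, mul_one, mul_one] at this
  ext x
  have h4 := h3 x
  rw [← hab] at h4
  exact mul_left_cancel₀ ha h4

omit [CharP F 2] in
theorem Sm.mul {s t : G} (ht : t ∈ S) {σ τ : F ≃+* F} (h : N.Sm s σ) (h' : N.Sm t τ) : N.Sm (s * t) (σ * τ) := by
  obtain ⟨a, ha, h1⟩ := h
  obtain ⟨b, hb, h2⟩ := h'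
  refine ⟨a * σ b, mul_ne_zero ha (by simpa using hb), fun v hv => ?_⟩
  have e1 : s * t * v * (s * t)⁻¹ = s * (t * v * t⁻¹) * s⁻¹ := by group
  rw [e1, h1 _ (N.conj_l ht hv), h2 v hv, map_mul, mul_assoc]
  rfl

/-- an element of `S` acting linearly on `l` centralises `l` -/
theorem Sm.one {s : G} (hs : s ∈ S) (h : N.Sm s 1) : ∀ v ∈ l, s * v * s⁻¹ = v := by
  obtain ⟨a, ha, h1⟩ := h
  have hpow : ∀ m : ℕ, ∀ v ∈ l, N.e (s ^ m * v * (s ^ m)⁻¹) 0 = a ^ m * N.e v 0 := by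
    intro m
    induction m with
    | zero => intro v _; simp
    | succ m ih =>
      intro v hv
      have e1 : s ^ (m + 1) * v * (s ^ (m + 1))⁻¹ = s * (s ^ m * v * (s ^ m)⁻¹) * s⁻¹ := by
        rw [pow_succ']; group
      rw [e1, h1 _ (N.conj_l (pow_mem hs m) hv)]
      show a * N.e (s ^ m * v * (s ^ m)⁻¹) 0 = _
      rw [ih v hv, pow_succ']
      ring
  have ha1 : a = 1 := by
    obtain ⟨n, hn⟩ := N.two ⟨s, hs⟩
    have hn' : s ^ 2 ^ n = 1 := congrArg Subtype.val hn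
    obtain ⟨v, hv, hx⟩ := N.exists_l 1
    have h2 := hpow (2 ^ n) v hv
    rw [hn', one_mul, inv_one, mul_one, hx] at h2
    have h3 : a ^ 2 ^ n = 1 := by simpa using h2.symm
    exact pow_two_pow h3
  intro v hv
  refine N.e_inj (N.lV (N.conj_l hs hv)) (N.lV hv) (ext2 ?_ ?_)
  · rw [h1 v hv, ha1, one_mul]; rfl
  · rw [((N.lin _).1 (N.conj_l hs hv)).2, ((N.lin _).1 hv).2]

/-- **LFr.cyc** -/
theorem cyc [Finite F] : ∃ t ∈ S, ∀ s ∈ S, ∃ n : ℤ, ∀ v ∈ l, s * v * s⁻¹ = t ^ n * v * (t ^ n)⁻¹ := by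
  choose f hf using fun s : S => Sm.exists N s.2
  let φ : S →* (F ≃+* F) :=
    { toFun := f
      map_one' := Sm.unique N (hf 1) ⟨1, one_ne_zero, fun v _ => by
        show N.e (1 * v * 1⁻¹) 0 = 1 * N.e v 0
        rw [one_mul, inv_one, mul_one, one_mul]⟩
      map_mul' := fun s t => Sm.unique N (hf (s * t)) (Sm.mul N t.2 (hf s) (hf t)) }
  have hc : IsCyclic (F ≃+* F) := Cfsg.Agent.LieRecognition.FieldSemilinear.isCyclic_ringAut F
  obtain ⟨⟨g, t, hg⟩, hgen⟩ := IsCyclic.exists_generator (α := φ.range)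
  refine ⟨t, t.2, fun s hs => ?_⟩
  obtain ⟨n, hn⟩ := mem_zpowers_iff.1 (hgen ⟨φ ⟨s, hs⟩, ⟨s, hs⟩, rfl⟩)
  refine ⟨n, fun v hv => ?_⟩
  have hn' : φ (t ^ n) = φ ⟨s, hs⟩ := by
    rw [map_zpow, hg]
    exact congrArg Subtype.val hn
  have h1 : φ ((t ^ n)⁻¹ * ⟨s, hs⟩) = 1 := by rw [map_mul, map_inv, hn', inv_mul_cancel]
  have h2 : N.Sm (((t ^ n)⁻¹ * ⟨s, hs⟩ : S) : G) 1 := by
    have h3 := hf ((t ^ n)⁻¹ * ⟨s, hs⟩)
    have h4 : f ((t ^ n)⁻¹ * ⟨s, hs⟩) = 1 := h1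
    rwa [h4] at h3
  have h3 := Sm.one N ((t ^ n)⁻¹ * ⟨s, hs⟩ : S).2 h2 v hv
  have e1 : (((t ^ n)⁻¹ * ⟨s, hs⟩ : S) : G) = ((t : G) ^ n)⁻¹ * s := by
    simp
  rw [e1] at h3
  calc s * v * s⁻¹ = (t : G) ^ n * ((((t : G) ^ n)⁻¹ * s) * v * (((t : G) ^ n)⁻¹ * s)⁻¹) * ((t : G) ^ n)⁻¹ := by group
    _ = _ := by rw [h3]

/-! ### Cardinalities -/

omit [CharP F 2] in
theorem card_V [Finite F] : Nat.card V = Nat.card F * Nat.card F := by
  have h1 : Nat.card V = Nat.card (Fin 2 → F) := by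
    refine Nat.card_congr (Equiv.ofBijective (fun v : V => N.e v) ⟨fun v w h => Subtype.ext (N.e_inj v.2 w.2 h),
      fun x => ?_⟩)
    obtain ⟨v, hv, h⟩ := N.surj x
    exact ⟨⟨v, hv⟩, h⟩
  rw [h1, Nat.card_fun, Nat.card_eq_fintype_card (α := Fin 2), Fintype.card_fin, pow_two]

omit [CharP F 2] in
theorem card_l [Finite F] : Nat.card l = Nat.card F := by
  refine Nat.card_congr (Equiv.ofBijective (fun v : l => N.e v 0) ⟨fun v w h => Subtype.ext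
    (N.e_inj (N.lV v.2) (N.lV w.2) (by rw [N.e_l v.2, N.e_l w.2, show N.e v 0 = N.e w 0 from h])), fun x => ?_⟩)
  obtain ⟨v, hv, h⟩ := N.exists_l x
  exact ⟨⟨v, hv⟩, by show N.e v 0 = x; rw [h]; rfl⟩

omit [CharP F 2] in
/-- **LFr.cardV** -/
theorem cardV [Finite F] : Nat.card V = Nat.card l * Nat.card l := by rw [N.card_V, N.card_l]

/-! ### The torus -/

omit [CharP F 2] in
theorem odd_le : oddGen P ≤ centralizer (W : Set G) := by
  rw [oddGen_def, closure_le]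
  rintro g ⟨hg, hgo⟩
  exact N.odd g hg hgo

omit [CharP F 2] in
/-- `P = S O²(P)` -/
theorem exists_odd [Finite G] {g : G} (hg : g ∈ P) : ∃ s ∈ S, ∃ h ∈ oddGen P, g = s * h := by
  have h1 : oddGen P ⊔ S = P := KL.Star.Core.oddGen_sup N.SP N.syl
  have h2 : g⁻¹ ∈ oddGen P ⊔ S := by rw [h1]; exact inv_mem hg
  obtain ⟨c, hc, s, hs, e⟩ := NatS.mulsup
    (N.SP.trans (MinSimple.VModule.le_normalizer_oddGen P)) h2
  refine ⟨s⁻¹, inv_mem hs, c⁻¹, inv_mem hc, ?_⟩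
  rw [← mul_inv_rev, ← e, inv_inv]

omit [CharP F 2] in
theorem oddGen_le : oddGen P ≤ P := by
  rw [oddGen_def, closure_le]
  rintro g ⟨hg, -⟩
  exact hg

omit [CharP F 2] in
/-- `O²(P)` is transitive on `V#` -/
theorem trans [Finite G] {v z : G} (hv : v ∈ V) (hv1 : v ≠ 1) (hz : z ∈ V) (hz1 : z ≠ 1) (hzS : z ∈ centralizer (S : Set G)) :
    ∃ h ∈ oddGen P, h * v * h⁻¹ = z := by
  obtain ⟨A, hA⟩ := exists_ap (x := N.e v) (y := N.e z) (fun h => hv1 ((N.ker v hv).1 h))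
    (fun h => hz1 ((N.ker z hz).1 h))
  obtain ⟨g, hg, hgA⟩ := N.lift A
  have h1 : g * v * g⁻¹ = z := N.e_inj (N.conj_V hg hv) hz (by rw [hgA v hv, hA])
  obtain ⟨s, hs, h, hh, rfl⟩ := N.exists_odd hg
  refine ⟨h, hh, ?_⟩
  have h2 : s⁻¹ * z * s = z := by
    have := mem_centralizer_iff.1 hzS s hs
    calc s⁻¹ * z * s = s⁻¹ * (z * s) := by group
      _ = s⁻¹ * (s * z) := by rw [this]
      _ = z := by group
  rw [← h2, ← h1]
  group

omit [CharP F 2] in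
theorem trV [Finite G] {z : G} (hz : z ∈ V) (hz1 : z ≠ 1) (hzS : z ∈ centralizer (S : Set G)) :
    ∀ v ∈ V, ∃ h ∈ centralizer (W : Set G), h ∈ normalizer (V : Set G) ∧ (h * v * h⁻¹ = 1 ∨ h * v * h⁻¹ = z) := by
  intro v hv
  by_cases hv1 : v = 1
  · exact ⟨1, one_mem _, one_mem _, Or.inl (by rw [hv1]; group)⟩
  · obtain ⟨h, hh, h1⟩ := N.trans hv hv1 hz hz1 hzS
    exact ⟨h, N.odd_le hh, N.nV (N.oddGen_le hh), Or.inr h1⟩

omit [CharP F 2] in
/-- the diagonal elements, corrected by `S` -/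
theorem exists_dg [Finite G] (c : F) (hc : c ≠ 0) : ∃ s ∈ S, ∃ h ∈ oddGen P, h ∈ normalizer (l : Set G) ∧
    ∀ v ∈ V, N.e (s * h * v * (s * h)⁻¹) = ![c * N.e v 0, c⁻¹ * N.e v 1] := by
  obtain ⟨g, hg, hgA⟩ := N.lift (dg c hc)
  have hact : ∀ v ∈ V, N.e (g * v * g⁻¹) = ![c * N.e v 0, c⁻¹ * N.e v 1] := by
    intro v hv
    rw [hgA v hv]
    apply ext2
    · rw [ap_zero', dg_00, dg_01]; simp
    · rw [ap_one', dg_10, dg_11]; simp
  have hgl : g ∈ normalizer (l : Set G) := by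
    rw [mem_normalizer_iff]
    intro v
    rw [N.lin, N.lin]
    constructor
    · rintro ⟨hv, h0⟩
      refine ⟨N.conj_V hg hv, ?_⟩
      rw [hact v hv, h0]; simp
    · rintro ⟨hv, h0⟩
      have hv' : v ∈ V := (mem_normalizer_iff.1 (N.nV hg) v).2 hv
      refine ⟨hv', ?_⟩
      rw [hact v hv'] at h0
      have h1 : c⁻¹ * N.e v 1 = 0 := h0
      exact (mul_eq_zero.1 h1).resolve_left (inv_ne_zero hc)
  obtain ⟨s, hs, h, hh, rfl⟩ := N.exists_odd hg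
  refine ⟨s, hs, h, hh, ?_, hact⟩
  have h1 := mul_mem (inv_mem (N.Sl hs)) hgl
  rwa [inv_mul_cancel_left] at h1

omit [CharP F 2] in
theorem tor_one [Finite G] {z : G} (hz : z ∈ V) (hz1 : z ≠ 1) (hzS : z ∈ centralizer (S : Set G)) {x : G} (hx : x ∈ l)
    (hx1 : x ≠ 1) : ∃ h ∈ oddGen P, h ∈ normalizer (l : Set G) ∧ h * x * h⁻¹ = z := by
  have hzl := N.fixed_le hz hzS
  have hx0 : N.e x 0 ≠ 0 := fun h => hx1 ((N.ker x (N.lV hx)).1 (by rw [N.e_l hx, h]; exact ext2 rfl rfl))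
  have hz0 : N.e z 0 ≠ 0 := fun h => hz1 ((N.ker z hz).1 (by rw [N.e_l hzl, h]; exact ext2 rfl rfl))
  obtain ⟨s, hs, h, hh, hhl, hact⟩ := N.exists_dg (N.e z 0 / N.e x 0) (div_ne_zero hz0 hx0)
  refine ⟨h, hh, hhl, ?_⟩
  have hshP := mul_mem (N.SP hs) (N.oddGen_le hh)
  have h1 : s * h * x * (s * h)⁻¹ = z := by
    refine N.e_inj (N.conj_V hshP (N.lV hx)) hz ?_
    rw [hact x (N.lV hx)]
    apply ext2
    · show N.e z 0 / N.e x 0 * N.e x 0 = N.e z 0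
      field_simp
    · show _ * N.e x 1 = N.e z 1
      rw [((N.lin x).1 hx).2, ((N.lin z).1 hzl).2, mul_zero]
  have h2 : s⁻¹ * z * s = z := by
    have := mem_centralizer_iff.1 hzS s hs
    calc s⁻¹ * z * s = s⁻¹ * (z * s) := by group
      _ = s⁻¹ * (s * z) := by rw [this]
      _ = z := by group
  rw [← h2, ← h1]
  group

omit [CharP F 2] in
/-- **the torus is transitive on `l#`** -/
theorem tor [Finite G] {z : G} (hz : z ∈ V) (hz1 : z ≠ 1) (hzS : z ∈ centralizer (S : Set G)) {x y : G} (hx : x ∈ l)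
    (hx1 : x ≠ 1) (hy : y ∈ l) (hy1 : y ≠ 1) : ∃ h ∈ oddGen P, h ∈ normalizer (l : Set G) ∧ h * x * h⁻¹ = y := by
  obtain ⟨h, hh, hhl, h1⟩ := N.tor_one hz hz1 hzS hx hx1
  obtain ⟨k, hk, hkl, h2⟩ := N.tor_one hz hz1 hzS hy hy1
  refine ⟨k⁻¹ * h, mul_mem (inv_mem hk) hh, mul_mem (inv_mem hkl) hhl, ?_⟩
  have e1 : k⁻¹ * h * x * (k⁻¹ * h)⁻¹ = k⁻¹ * (h * x * h⁻¹) * k := by group
  rw [e1, h1, ← h2]
  group

omit [CharP F 2] in
theorem e_ne {v : G} (hv : v ∈ V) (hvl : v ∉ l) : N.e v 1 ≠ 0 := fun h => hvl ((N.lin v).2 ⟨hv, h⟩)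

omit [CharP F 2] in
theorem mem_l_of {v w : G} (hv : v ∈ V) (hw : w ∈ V) (h : N.e v 1 = N.e w 1) : w⁻¹ * v ∈ l := by
  refine (N.lin _).2 ⟨mul_mem (inv_mem hw) hv, ?_⟩
  rw [N.mul _ (inv_mem hw) _ hv, N.e_inv hw, Pi.add_apply, Pi.neg_apply, h, neg_add_cancel]

omit [CharP F 2] in
/-- **the torus is transitive on `(V / l)#`** -/
theorem torU [Finite G] (hsq : ∀ x ∈ V, x ^ 2 = 1) {x y : G} (hx : x ∈ V) (hxl : x ∉ l) (hy : y ∈ V) (hyl : y ∉ l) :
    ∃ h ∈ oddGen P, h ∈ normalizer (l : Set G) ∧ y⁻¹ * (h * x * h⁻¹) ∈ l := by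
  obtain ⟨w, hw, hwl, hws⟩ := KL.ThmIq.exists_coset N.two hsq (K0 := l) (fun h => hxl (h hx))
    (N.SP.trans N.nV) N.Sl
  have key : ∀ x ∈ V, x ∉ l → ∃ h ∈ oddGen P, h ∈ normalizer (l : Set G) ∧ w⁻¹ * (h * x * h⁻¹) ∈ l := by
    intro x hx hxl
    have h1 := N.e_ne hx hxl
    have h2 := N.e_ne hw hwl
    obtain ⟨s, hs, h, hh, hhl, hact⟩ := N.exists_dg (N.e x 1 / N.e w 1) (div_ne_zero h1 h2)
    refine ⟨h, hh, hhl, ?_⟩
    have hshP := mul_mem (N.SP hs) (N.oddGen_le hh)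
    have h3 : w⁻¹ * (s * h * x * (s * h)⁻¹) ∈ l := by
      refine N.mem_l_of (N.conj_V hshP hx) hw ?_
      rw [hact x hx]
      show (N.e x 1 / N.e w 1)⁻¹ * N.e x 1 = N.e w 1
      field_simp
    have h4 := N.conj_l (inv_mem hs) h3
    rw [inv_inv] at h4
    have h5 := hws s⁻¹ (inv_mem hs)
    rw [inv_inv] at h5
    -- `s⁻¹ w s = c w`
    have h6 : s⁻¹ * w⁻¹ * s * (h * x * h⁻¹) ∈ l := by
      have e1 : s⁻¹ * (w⁻¹ * (s * h * x * (s * h)⁻¹)) * s = s⁻¹ * w⁻¹ * s * (h * x * h⁻¹) := by group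
      rwa [e1] at h4
    have h7 : w⁻¹ * (s⁻¹ * w * s) ∈ l := by
      have h8 : s⁻¹ * w * s ∈ V := N.conj_V' (N.SP hs) hw
      rw [N.comm (inv_mem hw) h8]
      exact h5
    have h8 := mul_mem h7 h6
    have e2 : w⁻¹ * (s⁻¹ * w * s) * (s⁻¹ * w⁻¹ * s * (h * x * h⁻¹)) = w⁻¹ * (h * x * h⁻¹) := by group
    rwa [e2] at h8
  obtain ⟨h, hh, hhl, h1⟩ := key x hx hxl
  obtain ⟨k, hk, hkl, h2⟩ := key y hy hyl
  refine ⟨k⁻¹ * h, mul_mem (inv_mem hk) hh, mul_mem (inv_mem hkl) hhl, ?_⟩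
  have h3 : (k * y * k⁻¹)⁻¹ * (h * x * h⁻¹) ∈ l := by
    have h4 := mul_mem (inv_mem h2) h1
    have e1 : (w⁻¹ * (k * y * k⁻¹))⁻¹ * (w⁻¹ * (h * x * h⁻¹)) = (k * y * k⁻¹)⁻¹ * (h * x * h⁻¹) := by group
    rwa [e1] at h4
  have h4 := (mem_normalizer_iff.1 (inv_mem hkl) _).1 h3
  have e1 : k⁻¹ * ((k * y * k⁻¹)⁻¹ * (h * x * h⁻¹)) * k⁻¹⁻¹ = y⁻¹ * (k⁻¹ * h * x * (k⁻¹ * h)⁻¹) := by group
  rwa [e1] at h4

omit [CharP F 2] in
/-- **`C_V(P) = 1`** -/
theorem mvs {z : G} (hz : z ∈ V) (hz1 : z ≠ 1) : ¬ P ≤ centralizer ({z} : Set G) := by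
  intro hP
  have h1 : ∀ A : Matrix.SpecialLinearGroup (Fin 2) F, ap A (N.e z) = N.e z := by
    intro A
    obtain ⟨g, hg, hgA⟩ := N.lift A
    have h2 : g * z * g⁻¹ = z := by
      rw [mem_centralizer_singleton_iff.1 (hP hg), mul_inv_cancel_right]
    rw [← hgA z hz, h2]
  have h2 : N.e z ≠ 0 := fun h => hz1 ((N.ker z hz).1 h)
  have h3 := h1 (up 1)
  have h4 := h1 (lo 1)
  apply h2
  apply ext2
  · have := congrFun h4 1
    rw [ap_one', lo_10, lo_11, one_mul, one_mul] at this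
    exact right_eq_add.1 (by rw [add_comm] at this ⊢; exact this.symm)
  · have := congrFun h3 0
    rw [ap_zero', up_00, up_01, one_mul, one_mul] at this
    exact left_eq_add.1 this.symm

/-! ### The special linear part -/

/-- the elements of `P` which act on `V` as an element of `SL₂(F)` -/
def E (N : NatS F S P V W l) : Subgroup G where
  carrier := {g | g ∈ P ∧ ∃ A : Matrix.SpecialLinearGroup (Fin 2) F, ∀ v ∈ V, N.e (g * v * g⁻¹) = ap A (N.e v)}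
  one_mem' := ⟨one_mem _, 1, fun v _ => by rw [one_mul, inv_one, mul_one, ap_one]⟩
  mul_mem' := by
    rintro g h ⟨hg, A, hA⟩ ⟨hh, B, hB⟩
    refine ⟨mul_mem hg hh, A * B, fun v hv => ?_⟩
    have e1 : g * h * v * (g * h)⁻¹ = g * (h * v * h⁻¹) * g⁻¹ := by group
    rw [e1, hA _ (N.conj_V hh hv), hB v hv, ap_mul]
  inv_mem' := by
    rintro g ⟨hg, A, hA⟩
    refine ⟨inv_mem hg, A⁻¹, fun v hv => ?_⟩
    have h1 := hA _ (N.conj_V (inv_mem hg) hv)
    have e1 : g * (g⁻¹ * v * g⁻¹⁻¹) * g⁻¹ = v := by group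
    rw [e1] at h1
    rw [h1, ap_inv_ap]

omit [CharP F 2] in
theorem E_le : N.E ≤ P := fun _ h => h.1

omit [CharP F 2] in
theorem E_norm : P ≤ normalizer (N.E : Set G) := by
  have key : ∀ g ∈ P, ∀ x ∈ N.E, g * x * g⁻¹ ∈ N.E := by
    rintro g hg x ⟨hx, A, hA⟩
    obtain ⟨B, hB⟩ := N.norm g hg x hx A hA
    exact ⟨mul_mem (mul_mem hg hx) (inv_mem hg), B, hB⟩
  intro g hg
  rw [mem_normalizer_iff]
  refine fun x => ⟨key g hg x, fun h => ?_⟩
  have h1 := key g⁻¹ (inv_mem hg) _ h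
  have e1 : g⁻¹ * (g * x * g⁻¹) * g⁻¹⁻¹ = x := by group
  rwa [e1] at h1

/-- `C_S(l) ≤ E` -/
theorem cl_le_E [Finite F] {y : G} (hy : y ∈ S) (hyl : y ∈ centralizer (l : Set G)) : y ∈ N.E := by
  obtain ⟨b, hb⟩ := N.unip_of hy hyl
  exact ⟨N.SP hy, up b, hb⟩

/-- `S ∩ E ≤ C(l)` -/
theorem E_cl {s : G} (hs : s ∈ S) (hE : s ∈ N.E) : s ∈ centralizer (l : Set G) := by
  obtain ⟨hsP, A, hA⟩ := hE
  have h10 : ent A 1 0 = 0 := by
    obtain ⟨v, hv, hx⟩ := N.exists_l 1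
    have h1 := ((N.lin _).1 (N.conj_l hs hv)).2
    rw [hA v (N.lV hv), hx, ap_one'] at h1
    simpa using h1
  have h1 : N.Sm s 1 := by
    refine ⟨ent A 0 0, fun h00 => ?_, fun v hv => ?_⟩
    · obtain ⟨v, hv, hx⟩ := N.exists_l 1
      have h2 : s * v * s⁻¹ = 1 := by
        refine (N.ker _ (N.conj_V hsP (N.lV hv))).1 ?_
        rw [hA v (N.lV hv), hx]
        apply ext2
        · rw [ap_zero', h00]; simp
        · rw [ap_one', h10]; simp
      have h3 : v = 1 := conj_eq_one_iff.1 h2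
      rw [h3, N.e_one] at hx
      exact one_ne_zero (congrFun hx 0).symm
    · rw [hA v (N.lV hv), ap_zero', ((N.lin v).1 hv).2, mul_zero, add_zero]
      rfl
  refine mem_centralizer_iff.2 fun v hv => ?_
  have h2 := Sm.one N hs h1 v hv
  calc v * s = (s * v * s⁻¹) * s := by rw [h2]
    _ = s * v := by group

end NatS

/-! ### From the FF theorem -/

section ofNatK

variable {F : Type} [Field F] {S P V W U D : Subgroup G}

theorem NatS.natK_inv (M : NatK F S P U D 1) {v : G} (hv : v ∈ U) : M.e v⁻¹ = - M.e v := by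
  have h0 : M.e 1 = 0 := (M.ker 1 (one_mem _)).2 (one_mem _)
  have h := M.mul v hv v⁻¹ (inv_mem hv)
  rw [mul_inv_cancel, h0] at h
  exact (neg_eq_of_add_eq_zero_right h.symm).symm

/-- the line of `V` -/
def NatS.ln (M : NatK F S P U D 1) (V : Subgroup G) (hV : V ≤ U) : Subgroup G where
  carrier := {v | v ∈ V ∧ M.e v 0 1 = 0}
  one_mem' := ⟨one_mem _, by rw [(M.ker 1 (one_mem _)).2 (one_mem _)]; rfl⟩
  mul_mem' := by
    rintro v w ⟨hv, hv1⟩ ⟨hw, hw1⟩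
    refine ⟨mul_mem hv hw, ?_⟩
    rw [M.mul v (hV hv) w (hV hw), Pi.add_apply, Pi.add_apply, hv1, hw1, add_zero]
  inv_mem' := by
    rintro v ⟨hv, hv1⟩
    refine ⟨inv_mem hv, ?_⟩
    rw [NatS.natK_inv M (hV hv), Pi.neg_apply, Pi.neg_apply, hv1, neg_zero]

theorem NatS.mem_ln {M : NatK F S P U D 1} {hV : V ≤ U} {v : G} : v ∈ NatS.ln M V hV ↔ v ∈ V ∧ M.e v 0 1 = 0 := Iff.rfl

/-- **`NatS` from the FF theorem** -/
def NatS.ofNatK (hSP : S ≤ P) (two : IsPGroup 2 S) (syl : ¬ 2 ∣ S.relIndex P) (M : NatK F S P U D 1) (hV : V ≤ U)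
    (hDU : D ≤ U) (hsup : U ≤ V ⊔ D) (hinf : V ⊓ D = ⊥) (hDV : D ≤ normalizer (V : Set G))
    (hPD : P ≤ normalizer (D : Set G)) (nV : P ≤ normalizer (V : Set G)) (odd : ∀ g ∈ P, Odd (orderOf g) → g ∈ centralizer (W : Set G)) :
    NatS F S P V W (NatS.ln M V hV) where
  SP := hSP
  two := two
  syl := syl
  nV := nV
  odd := odd
  e g := M.e g 0
  mul v hv w hw := by rw [M.mul v (hV hv) w (hV hw)]; rfl
  surj x := by
    obtain ⟨u, hu, h⟩ := M.surj fun _ => x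
    obtain ⟨v, hv, d, hd, e⟩ := NatS.mulsup hDV (hsup hu)
    refine ⟨v, hv, ?_⟩
    have h1 := M.mul v (hV hv) d (hDU hd)
    rw [← e, h, (M.ker d (hDU hd)).2 hd, add_zero] at h1
    exact (congrFun h1 0).symm
  ker v hv := by
    constructor
    · intro h
      have h1 : M.e v = 0 := by
        funext i
        rw [Subsingleton.elim i 0]
        exact h
      have h2 : v ∈ V ⊓ D := ⟨hv, (M.ker v (hV hv)).1 h1⟩
      rwa [hinf, mem_bot] at h2
    · rintro rfl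
      rw [(M.ker 1 (one_mem _)).2 (one_mem _)]
      rfl
  lift A := by
    obtain ⟨g, hg, h1, -⟩ := M.lift fun _ => A
    exact ⟨g, hg, fun v hv => h1 v (hV hv) 0⟩
  norm g hg h hh A hA := by
    have h1 : ∀ v ∈ U, ∀ i, M.e (h * v * h⁻¹) i = ap ((fun _ => A : Fin 1 → _) i) (M.e v i) := by
      intro u hu i
      rw [Subsingleton.elim i 0]
      obtain ⟨v, hv, d, hd, rfl⟩ := NatS.mulsup hDV (hsup hu)
      have hd' : h * d * h⁻¹ ∈ D := (mem_normalizer_iff.1 (hPD hh) d).1 hd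
      have hv' : h * v * h⁻¹ ∈ V := (mem_normalizer_iff.1 (nV hh) v).1 hv
      have e1 : h * (v * d) * h⁻¹ = (h * v * h⁻¹) * (h * d * h⁻¹) := by group
      rw [e1, M.mul _ (hV hv') _ (hDU hd'), M.mul v (hV hv) d (hDU hd), (M.ker _ (hDU hd')).2 hd',
        (M.ker _ (hDU hd)).2 hd, add_zero, add_zero]
      exact hA v hv
    obtain ⟨B, hB⟩ := M.norm g hg h hh (fun _ => A) h1
    exact ⟨B 0, fun v hv => hB v (hV hv) 0⟩
  unip b := by
    obtain ⟨t, ht, h1, -⟩ := M.unip fun _ => b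
    exact ⟨t, ht, fun v hv => h1 v (hV hv) 0⟩
  lin v := NatS.mem_ln
  Sl := by
    have key : ∀ s ∈ S, ∀ v ∈ NatS.ln M V hV, s * v * s⁻¹ ∈ NatS.ln M V hV := by
      rintro s hs v ⟨hv, h0⟩
      refine ⟨(mem_normalizer_iff.1 (nV (hSP hs)) v).1 hv, ?_⟩
      obtain ⟨σ, hσ⟩ := M.line s hs
      have h1 := hσ v (hV hv) 0
      rw [Subsingleton.elim (σ 0) 0] at h1
      exact h1.2 h0
    intro s hs
    rw [mem_normalizer_iff]
    refine fun x => ⟨key s hs x, fun h => ?_⟩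
    have h1 := key s⁻¹ (inv_mem hs) _ h
    have e1 : s⁻¹ * (s * x * s⁻¹) * s⁻¹⁻¹ = x := by group
    rwa [e1] at h1

end ofNatK

end Cfsg.Agent.Omega.NOThreeL.RRed
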