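import Cfsg.Agent.Omega.NOThreeL.RRed.BlkG1

/-!
# NO-3L, box R, input (D) of the class module theorem (#24537, helper241), text: helper245

`V = zl S L`, `GOne S L P A` (BlkG1).

* `cover_nat`, `cover_sym` : a `P`-invariant `W ≤ V_P` is in `C_{V_P}(O²(P))` or covers `V_P / C_{V_P}(O²(P))`;
* `cent_nat`, `cent_sym` : an offender `A ≤ S` on `V_P` which centralises `v` modulo `C_{V_P}(O²(P))` centralises `v`;
* **`GOne.dich`** : for every `P`-invariant `U ≤ V`: `[U, A] = 1` or `V = U C_V(A)`;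
* `GOne.mv` : `A` moves `⟨z^L⟩` for `z ∈ Z` moved by `P`;
* `Mx V A` : `A` is a minimal exact offender; `gOne_of_mx`, **`Mx.dich`** : for every `L`-invariant `U ≤ V`:
  `[U, A] = 1` or `V = U C_V(A)`.
-/

set_option autoImplicit false
set_option linter.unusedSectionVars false

namespace Cfsg.Agent.Omega.NOThreeL.RRed

open Subgroup Pointwise Cfsg Cfsg.Agent.ZN Cfsg.Agent.Omega.MinPar Cfsg.Agent.Omega.Frame
open Cfsg.Agent.Omega.FrameNOFF
open Cfsg.Agent.Omega.FFThm (ElemM OffM NoOverM ConclM NatKM SymKM NatK SymK ActsSL ActsSym)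
open Cfsg.Agent.Omega.FrameFF (cv)
open Cfsg.Agent.ZN.ChoiceBase (cj)
open Cfsg.Agent.ZN.CaseTwo (syl_of_sylow)
open Cfsg.Agent.Omega.NatPair (ap exists_ap)
open Cfsg.Agent.Lib.SL2Mat

universe u

variable {G : Type u} [Group G]

/-- `|K| = |L| |X|` for a homomorphism of `K` onto `X` with kernel `L`. -/
theorem card_map {X : Type*} [AddGroup X] {K L : Subgroup G} (hLK : L ≤ K) (f : G → X)
    (hf : ∀ v ∈ K, ∀ w ∈ K, f (v * w) = f v + f w) (hs : ∀ c, ∃ v ∈ K, f v = c)
    (hk : ∀ v ∈ K, f v = 0 ↔ v ∈ L) : Nat.card K = Nat.card L * Nat.card X := by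
  let φ : K →* Multiplicative X := MonoidHom.mk' (fun v => Multiplicative.ofAdd (f v)) (by
    rintro ⟨v, hv⟩ ⟨w, hw⟩
    exact congrArg Multiplicative.ofAdd (hf v hv w hw))
  have hφ : Function.Surjective φ := by
    intro c
    obtain ⟨v, hv, h⟩ := hs (Multiplicative.toAdd c)
    exact ⟨⟨v, hv⟩, congrArg Multiplicative.ofAdd h⟩
  have h1 : Nat.card φ.ker * Nat.card φ.range = Nat.card K := by
    rw [← Subgroup.index_ker, Subgroup.card_mul_index]
  have h2 : Nat.card φ.range = Nat.card X := by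
    rw [MonoidHom.range_eq_top.2 hφ, Subgroup.card_top]
    rfl
  have h3 : Nat.card φ.ker = Nat.card L := by
    refine Nat.card_congr ⟨fun v => ⟨v.1.1, (hk v.1.1 v.1.2).1 ?_⟩, fun z => ⟨⟨z.1, hLK z.2⟩, ?_⟩, fun _ => rfl,
      fun _ => rfl⟩
    · exact congrArg Multiplicative.toAdd (MonoidHom.mem_ker.1 v.2)
    · exact MonoidHom.mem_ker.2 (congrArg Multiplicative.ofAdd ((hk z.1 (hLK z.2)).2 z.2))
  rw [← h1, h2, h3]

/-- the image of `W` under an additive map -/
def img {X : Type*} [AddGroup X] (W : Subgroup G) (e : G → X)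
    (hmul : ∀ v ∈ W, ∀ w ∈ W, e (v * w) = e v + e w) : AddSubgroup X where
  carrier := {x | ∃ w ∈ W, e w = x}
  zero_mem' := by
    refine ⟨1, one_mem _, ?_⟩
    have := hmul 1 (one_mem _) 1 (one_mem _)
    rw [one_mul] at this
    simpa using this
  add_mem' := by
    rintro _ _ ⟨v, hv, rfl⟩ ⟨w, hw, rfl⟩
    exact ⟨v * w, mul_mem hv hw, hmul v hv w hw⟩
  neg_mem' := by
    rintro _ ⟨v, hv, rfl⟩
    refine ⟨v⁻¹, inv_mem hv, ?_⟩
    have h0 : e 1 = 0 := by
      have := hmul 1 (one_mem _) 1 (one_mem _)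
      rw [one_mul] at this
      simpa using this
    have h2 := hmul v hv v⁻¹ (inv_mem hv)
    rw [mul_inv_cancel, h0] at h2
    exact (neg_eq_of_add_eq_zero_right h2.symm).symm

theorem mem_img {X : Type*} [AddGroup X] {W : Subgroup G} {e : G → X}
    {hmul : ∀ v ∈ W, ∀ w ∈ W, e (v * w) = e v + e w} {x : X} : x ∈ img W e hmul ↔ ∃ w ∈ W, e w = x := Iff.rfl

theorem conj_div {W : Subgroup G} {P : Subgroup G} (hPW : P ≤ normalizer (W : Set G)) {g w : G} (hg : g ∈ P)
    (hw : w ∈ W) : g * w * g⁻¹ ∈ W := (mem_normalizer_iff.1 (hPW hg) w).1 hw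

/-! ### Natural modules -/

section nat

variable {F : Type} [Field F] {T P V D W : Subgroup G} {k : ℕ}

theorem e_sub_nat (M : NatK F T P V D k) (hW : W ≤ V) {v w : G} (hv : v ∈ W) (hw : w ∈ W) :
    M.e (v * w⁻¹) = M.e v - M.e w := by
  have h1 := M.mul (v * w⁻¹) (hW (mul_mem hv (inv_mem hw))) w (hW hw)
  rw [inv_mul_cancel_right] at h1
  rw [h1, add_sub_cancel_right]

/-- **A `P`-invariant `W ≤ V`, `W ≰ D`, covers `V / D`.** -/
theorem cover_nat (M : NatK F T P V D k) (hTP : T ≤ P) (hW : W ≤ V) (hPW : P ≤ normalizer (W : Set G))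
    (hD : ¬ W ≤ D) (x : Fin k → Fin 2 → F) : ∃ w ∈ W, M.e w = x := by
  classical
  have hmul : ∀ v ∈ W, ∀ w ∈ W, M.e (v * w) = M.e v + M.e w := fun v hv w hw => M.mul v (hW hv) w (hW hw)
  set E := img W M.e hmul with hE
  -- one block
  have key : ∀ j, (∃ w ∈ W, M.e w j ≠ 0) → ∀ y : Fin 2 → F, (Pi.single j y : Fin k → Fin 2 → F) ∈ E := by
    rintro j ⟨w, hw, hwj⟩ y
    by_cases hy : y = 0
    · rw [hy, Pi.single_zero]; exact zero_mem _
    -- a vector supported on `j`
    obtain ⟨w', hw', x', hx', hew'⟩ : ∃ w' ∈ W, ∃ x' : Fin 2 → F, x' ≠ 0 ∧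
        M.e w' = (Pi.single j x' : Fin k → Fin 2 → F) := by
      obtain ⟨y₀, hy₀, hne⟩ : ∃ y₀ : Fin 2 → F, y₀ ≠ 0 ∧ y₀ ≠ M.e w j := by
        by_cases h1 : M.e w j = ![1, 0]
        · refine ⟨![0, 1], fun h => ?_, fun h => ?_⟩
          · exact one_ne_zero (congrFun h 1)
          · rw [h1] at h
            exact zero_ne_one (congrFun h 0)
        · exact ⟨![1, 0], fun h => one_ne_zero (congrFun h 0), fun h => h1 h.symm⟩
      obtain ⟨B, hB⟩ := exists_ap hwj hy₀
      obtain ⟨g, hg, hact⟩ := M.lift (Function.update 1 j B)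
      refine ⟨g * w * g⁻¹ * w⁻¹, mul_mem (conj_div hPW hg hw) (inv_mem hw), y₀ - M.e w j, sub_ne_zero.2 hne, ?_⟩
      rw [e_sub_nat M hW (conj_div hPW hg hw) hw]
      funext i
      rw [Pi.sub_apply, hact.1 w (hW hw) i]
      by_cases hi : i = j
      · subst hi
        rw [Function.update_self, hB, Pi.single_eq_same]
      · rw [Function.update_of_ne hi, Pi.one_apply, NatPair.ap_one, sub_self, Pi.single_eq_of_ne hi]
    obtain ⟨B, hB⟩ := exists_ap hx' hy
    obtain ⟨g, hg, hact⟩ := M.lift (Function.update 1 j B)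
    refine ⟨g * w' * g⁻¹, conj_div hPW hg hw', ?_⟩
    funext i
    rw [hact.1 w' (hW hw') i, hew']
    by_cases hi : i = j
    · subst hi
      rw [Function.update_self, Pi.single_eq_same, Pi.single_eq_same, hB]
    · rw [Function.update_of_ne hi, Pi.one_apply, NatPair.ap_one, Pi.single_eq_of_ne hi, Pi.single_eq_of_ne hi]
  -- all blocks
  obtain ⟨w, hw, hwD⟩ := SetLike.not_le_iff_exists.1 hD
  have hw0 : M.e w ≠ 0 := fun h => hwD ((M.ker w (hW hw)).1 h)
  obtain ⟨i, hi⟩ := Function.ne_iff.1 hw0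
  have hall : ∀ j, ∃ w ∈ W, M.e w j ≠ 0 := by
    intro j
    obtain ⟨t, ht, h⟩ := M.trans i j
    exact ⟨t * w * t⁻¹, conj_div hPW (hTP ht) hw, fun h0 => hi ((h w (hW hw)).1 h0)⟩
  have h1 : x ∈ E := by
    rw [← Finset.univ_sum_single x]
    exact sum_mem fun j _ => key j (hall j) (x j)
  exact h1

end nat

section natS

variable [Finite G] {F : Type} [Field F] [Finite F] [CharP F 2] {S : Sylow 2 G} {P A : Subgroup G} {k : ℕ}

/-- **An offender which centralises `v` modulo `D` centralises `v`.** -/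
theorem cent_nat (hG : IsCharacteristicTwoType G) (hP : IsParS (S : Subgroup G) P)
    (M : NatKM F (S : Subgroup G) P (zl (S : Subgroup G) P) (cv (S : Subgroup G) P) k) (hk : 0 < k)
    (hA : A ≤ (S : Subgroup G)) (hoff : OffM (zl (S : Subgroup G) P) A) {v : G}
    (hv : v ∈ zl (S : Subgroup G) P) (h : ∀ a ∈ A, M.e (a * v * a⁻¹) = M.e v) : ∀ a ∈ A, a * v = v * a := by
  classical
  have hSP := hP.le
  have hn : P ≤ normalizer (zl (S : Subgroup G) P : Set G) := MinSimple.VModule.le_normalizer_zl _ _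
  obtain ⟨I, hI1, hI2⟩ := M.offM A hA hoff
  have hA1 : ∀ i : I, ∃ w ∈ zl (S : Subgroup G) P, M.e w = Pi.single (i : Fin k) ![0, 1] := fun i => M.surj _
  choose w hw hew using hA1
  -- the parameters of `a`
  set g : G → (I → F) := fun a i => M.e (a * w i * a⁻¹) (i : Fin k) 0 with hg
  have hgb : ∀ (a : G) (b : Fin k → F), (ActsSL M.e (zl (S : Subgroup G) P) (cv (S : Subgroup G) P) a
      fun i => up (b i)) → g a = fun i : I => b i := by
    intro a b hb
    funext i
    change M.e (a * w i * a⁻¹) (i : Fin k) 0 = b i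
    rw [hb.1 (w i) (hw i), VF.Nat.ap_up_0, hew, Pi.single_eq_same]
    simp
  have hgm : ∀ a ∈ A, ∀ a' ∈ A, g (a * a') = g a + g a' := by
    intro a ha a' ha'
    obtain ⟨b, -, hb⟩ := hI1 a ha
    obtain ⟨b', -, hb'⟩ := hI1 a' ha'
    have h4 : ActsSL M.e (zl (S : Subgroup G) P) (cv (S : Subgroup G) P) (a * a') fun i => up ((b + b') i) := by
      refine ⟨fun v hv j => ?_, fun d hd => ?_⟩
      · have e : a * a' * v * (a * a')⁻¹ = a * (a' * v * a'⁻¹) * a⁻¹ := by group
        change _ = ap (up (b j + b' j)) (M.e v j)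
        rw [e, hb.1 _ (conj_div hn (hSP (hA ha')) hv), hb'.1 v hv, ← NatPair.ap_mul, up_mul]
      · rw [mul_assoc, hb'.2 d hd, ← mul_assoc, hb.2 d hd, mul_assoc]
    rw [hgb _ _ h4, hgb a b hb, hgb a' b' hb']
    rfl
  have hg0 : ∀ a ∈ A, g a = 0 ↔ a ∈ A ⊓ centralizer (zl (S : Subgroup G) P : Set G) := by
    intro a ha
    obtain ⟨b, hb0, hb⟩ := hI1 a ha
    rw [hgb a b hb]
    constructor
    · intro h0
      have hbz : b = 0 := by
        funext i
        by_cases hi : i ∈ I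
        · exact congrFun h0 ⟨i, hi⟩
        · exact hb0 i hi
      refine ⟨ha, mem_centralizer_iff.2 fun v hv => ?_⟩
      have hker : a ∈ IId.Cv.kern M.toNatK := by
        refine ⟨hSP (hA ha), fun v hv => ?_⟩
        funext i
        rw [hb.1 v hv i, hbz]
        refine VF.Nat.ext2' ?_ ?_
        · rw [VF.Nat.ap_up_0]; simp
        · rw [VF.Nat.ap_up_1]
      exact (IId.Cv.comm_of_quot hG S hP M.toNatK hk (hA ha) hker v hv).symm
    · rintro ⟨-, h1⟩
      funext i
      have h2 := hb.1 (w i) (hw i) i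
      have h3 : a * w i * a⁻¹ = w i := by
        rw [← mem_centralizer_iff.1 h1 (w i) (hw i), mul_inv_cancel_right]
      rw [h3] at h2
      have h4 := congrFun h2 0
      rw [VF.Nat.ap_up_0, hew, Pi.single_eq_same] at h4
      simp at h4
      exact h4.symm
  have hcA : Nat.card A = Nat.card ↥(A ⊓ centralizer (zl (S : Subgroup G) P : Set G)) * Nat.card (I → F) := by
    refine card_map inf_le_left g hgm ?_ hg0
    intro c
    obtain ⟨a, ha, hb⟩ := hI2 (fun i => if hi : i ∈ I then c ⟨i, hi⟩ else 0) (fun i hi => by rw [dif_neg hi])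
    refine ⟨a, ha, ?_⟩
    rw [hgb a _ hb]
    funext i
    simp
  -- the vectors
  let KA : Subgroup G :=
    { carrier := {v | v ∈ zl (S : Subgroup G) P ∧ ∀ i : I, M.e v (i : Fin k) 1 = 0}
      one_mem' := ⟨one_mem _, fun i => by
        rw [(M.ker 1 (one_mem _)).2 (one_mem _)]; rfl⟩
      mul_mem' := by
        rintro x y ⟨hx, hx'⟩ ⟨hy, hy'⟩
        refine ⟨mul_mem hx hy, fun i => ?_⟩
        rw [M.mul x hx y hy, Pi.add_apply, Pi.add_apply, hx', hy', add_zero]
      inv_mem' := by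
        rintro x ⟨hx, hx'⟩
        refine ⟨inv_mem hx, fun i => ?_⟩
        have h1 := M.mul x hx x⁻¹ (inv_mem hx)
        rw [mul_inv_cancel, (M.ker 1 (one_mem _)).2 (one_mem _)] at h1
        have h2 := congrFun (congrFun h1 (i : Fin k)) 1
        rw [Pi.add_apply, Pi.add_apply, hx', zero_add] at h2
        exact h2.symm }
  have hKV : KA ≤ zl (S : Subgroup G) P := fun x hx => hx.1
  have hcV : Nat.card (zl (S : Subgroup G) P) = Nat.card KA * Nat.card (I → F) := by
    refine card_map hKV (fun v i => M.e v (i : Fin k) 1) ?_ ?_ ?_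
    · intro v hv w hw
      funext i
      rw [M.mul v hv w hw]
      rfl
    · intro c
      obtain ⟨v, hv, he⟩ := M.surj fun i => if hi : i ∈ I then ![0, c ⟨i, hi⟩] else 0
      refine ⟨v, hv, ?_⟩
      funext i
      rw [he]
      simp
    · intro v hv
      constructor
      · intro h0
        exact ⟨hv, fun i => congrFun h0 i⟩
      · rintro ⟨-, h0⟩
        funext i
        exact h0 i
  have hmem : ∀ v ∈ zl (S : Subgroup G) P, (∀ a ∈ A, M.e (a * v * a⁻¹) = M.e v) → v ∈ KA := by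
    intro v hv h
    refine ⟨hv, fun i => ?_⟩
    obtain ⟨a, ha, hb⟩ := hI2 (Pi.single (i : Fin k) 1)
      (fun j hj => Pi.single_eq_of_ne (fun e => hj (by rw [e]; exact i.2)) _)
    have h1 := hb.1 v hv i
    rw [h a ha] at h1
    have h2 := congrFun h1 0
    rw [VF.Nat.ap_up_0, Pi.single_eq_same, one_mul] at h2
    exact left_eq_add.1 h2
  have hCK : zl (S : Subgroup G) P ⊓ centralizer (A : Set G) ≤ KA := by
    intro v hv
    refine hmem v hv.1 fun a ha => ?_
    rw [mem_centralizer_iff.1 hv.2 a ha, mul_inv_cancel_right]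
  have hle := hoff.le
  rw [hcA, hcV] at hle
  have p1 : 0 < Nat.card ↥(A ⊓ centralizer (zl (S : Subgroup G) P : Set G)) := Nat.card_pos
  have p2 : 0 < Nat.card (I → F) := Nat.card_pos
  have hKc : Nat.card KA ≤ Nat.card ↥(zl (S : Subgroup G) P ⊓ centralizer (A : Set G)) := by
    have h2 : (Nat.card ↥(A ⊓ centralizer (zl (S : Subgroup G) P : Set G)) * Nat.card (I → F)) * Nat.card KA ≤
        (Nat.card ↥(A ⊓ centralizer (zl (S : Subgroup G) P : Set G)) * Nat.card (I → F)) *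
          Nat.card ↥(zl (S : Subgroup G) P ⊓ centralizer (A : Set G)) := by
      calc _ = Nat.card KA * Nat.card (I → F) *
          Nat.card ↥(A ⊓ centralizer (zl (S : Subgroup G) P : Set G)) := by ring
        _ ≤ _ := hle
    exact Nat.le_of_mul_le_mul_left h2 (Nat.mul_pos p1 p2)
  have heq := Subgroup.eq_of_le_of_card_ge hCK hKc
  have hvK := hmem v hv h
  rw [← heq] at hvK
  intro a ha
  exact mem_centralizer_iff.1 hvK.2 a ha

end natS

/-! ### Even-subset modules -/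

section sym

variable {T P V D W : Subgroup G} {k m : ℕ}

theorem e_sub_sym (M : SymK T P V D k m) (hW : W ≤ V) {v w : G} (hv : v ∈ W) (hw : w ∈ W) :
    M.e (v * w⁻¹) = M.e v - M.e w := by
  have h1 := M.mul (v * w⁻¹) (hW (mul_mem hv (inv_mem hw))) w (hW hw)
  rw [inv_mul_cancel_right] at h1
  rw [h1, add_sub_cancel_right]

/-- **A `P`-invariant `W ≤ V`, `W ≰ D`, covers `V / D`.** -/
theorem cover_sym (M : SymK T P V D k m) (hTP : T ≤ P) (hm : 1 ≤ m) (hW : W ≤ V)
    (hPW : P ≤ normalizer (W : Set G)) (hD : ¬ W ≤ D) {v : G} (hv : v ∈ V) : ∃ w ∈ W, M.e w = M.e v := by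
  classical
  have hmul : ∀ v ∈ W, ∀ w ∈ W, M.e (v * w) = M.e v + M.e w := fun v hv w hw => M.mul v (hW hv) w (hW hw)
  set E := img W M.e hmul with hE
  -- one block
  have key : ∀ j, (∃ w ∈ W, M.e w j ≠ 0) → ∀ x y, x ≠ y →
      (Pi.single j (Pi.single x 1 + Pi.single y 1) : Fin k → Fin (2 ^ m + 1) → ZMod 2) ∈ E := by
    rintro j ⟨w, hw, hwj⟩ x y hxy
    -- the vector of a transposition
    obtain ⟨w', hw', x₁, y₁, hne₁, hew'⟩ : ∃ w' ∈ W, ∃ x₁ y₁, x₁ ≠ y₁ ∧
        M.e w' = (Pi.single j (Pi.single x₁ 1 + Pi.single y₁ 1) : Fin k → Fin (2 ^ m + 1) → ZMod 2) := by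
      obtain ⟨x₁, y₁, h1⟩ : ∃ x₁ y₁, M.e w j x₁ ≠ M.e w j y₁ := by
        by_contra hcon
        push Not at hcon
        have h2 : ∀ x, M.e w j x = M.e w j 0 := fun x => hcon x 0
        have h3 := M.even w (hW hw) j
        rw [Finset.sum_congr rfl fun x _ => h2 x, Finset.sum_const, Finset.card_univ, Fintype.card_fin,
          nsmul_eq_mul] at h3
        have h4 : ((2 ^ m + 1 : ℕ) : ZMod 2) = 1 := by
          have h5 : ((2 : ℕ) : ZMod 2) = 0 := by decide
          rw [Nat.cast_add, Nat.cast_pow, h5, zero_pow (by omega), Nat.cast_one, zero_add]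
        rw [h4, one_mul] at h3
        apply hwj
        funext x
        rw [h2 x, h3]; rfl
      have hne : x₁ ≠ y₁ := fun e => h1 (by rw [e])
      obtain ⟨g, hg, hact, -⟩ := M.lift (Function.update 1 j (Equiv.swap x₁ y₁))
      refine ⟨g * w * g⁻¹ * w⁻¹, mul_mem (conj_div hPW hg hw) (inv_mem hw), x₁, y₁, hne, ?_⟩
      rw [e_sub_sym M hW (conj_div hPW hg hw) hw]
      funext i z
      rw [Pi.sub_apply, Pi.sub_apply]
      by_cases hi : i = j
      · subst hi
        have h2 := hact w (hW hw) i (Equiv.swap x₁ y₁ z)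
        rw [Function.update_self, Equiv.swap_apply_self] at h2
        have h3 : M.e (g * w * g⁻¹) i z = M.e w i (Equiv.swap x₁ y₁ z) := h2
        rw [h3, swp_of_ne (M.e w i) hne h1, Pi.single_eq_same, Pi.add_apply, add_sub_cancel_left]
      · have h2 := hact w (hW hw) i z
        rw [Function.update_of_ne hi] at h2
        have h3 : M.e (g * w * g⁻¹) i z = M.e w i z := h2
        rw [h3, sub_self, Pi.single_eq_of_ne hi]; rfl
    -- move it
    obtain ⟨π, hπ1, hπ2⟩ : ∃ π : Equiv.Perm (Fin (2 ^ m + 1)), π x₁ = x ∧ π y₁ = y := by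
      refine ⟨Equiv.swap (Equiv.swap x₁ x y₁) y * Equiv.swap x₁ x, ?_, ?_⟩
      · rw [Equiv.Perm.mul_apply, Equiv.swap_apply_left]
        refine Equiv.swap_apply_of_ne_of_ne (fun e => ?_) hxy
        have h2 : Equiv.swap x₁ x x₁ = Equiv.swap x₁ x y₁ := by rw [Equiv.swap_apply_left]; exact e
        exact hne₁ ((Equiv.swap x₁ x).injective h2)
      · rw [Equiv.Perm.mul_apply, Equiv.swap_apply_left]
    obtain ⟨g, hg, hact, -⟩ := M.lift (Function.update 1 j π)
    refine ⟨g * w' * g⁻¹, conj_div hPW hg hw', ?_⟩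
    funext i z
    by_cases hi : i = j
    · subst hi
      have h2 := hact w' (hW hw') i (π.symm z)
      rw [Function.update_self, Equiv.apply_symm_apply] at h2
      have h3 : M.e (g * w' * g⁻¹) i z = M.e w' i (π.symm z) := h2
      rw [h3, hew', Pi.single_eq_same, Pi.single_eq_same, Pi.add_apply, Pi.add_apply]
      have e1 : (Pi.single x₁ 1 : Fin (2 ^ m + 1) → ZMod 2) (π.symm z) = (Pi.single x 1 : _ → ZMod 2) z := by
        by_cases hz : z = x
        · rw [hz, Pi.single_eq_same, ← hπ1, Equiv.symm_apply_apply, Pi.single_eq_same]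
        · rw [Pi.single_eq_of_ne hz, Pi.single_eq_of_ne]
          intro e
          exact hz (by rw [← hπ1, ← e, Equiv.apply_symm_apply])
      have e2 : (Pi.single y₁ 1 : Fin (2 ^ m + 1) → ZMod 2) (π.symm z) = (Pi.single y 1 : _ → ZMod 2) z := by
        by_cases hz : z = y
        · rw [hz, Pi.single_eq_same, ← hπ2, Equiv.symm_apply_apply, Pi.single_eq_same]
        · rw [Pi.single_eq_of_ne hz, Pi.single_eq_of_ne]
          intro e
          exact hz (by rw [← hπ2, ← e, Equiv.apply_symm_apply])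
      rw [e1, e2]
    · have h2 := hact w' (hW hw') i z
      rw [Function.update_of_ne hi] at h2
      have h3 : M.e (g * w' * g⁻¹) i z = M.e w' i z := h2
      rw [h3, hew', Pi.single_eq_of_ne hi, Pi.single_eq_of_ne hi]
  -- all blocks
  obtain ⟨w, hw, hwD⟩ := SetLike.not_le_iff_exists.1 hD
  have hw0 : M.e w ≠ 0 := fun h => hwD ((M.ker w (hW hw)).1 h)
  obtain ⟨i, hi⟩ := Function.ne_iff.1 hw0
  have hall : ∀ j, ∃ w ∈ W, M.e w j ≠ 0 := by
    intro j
    obtain ⟨t, ht, σ, τ, hact, hσ⟩ := M.trans i j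
    refine ⟨t * w * t⁻¹, conj_div hPW (hTP ht) hw, fun h0 => hi ?_⟩
    funext x
    have h2 := hact w (hW hw) i x
    rw [hσ, h0] at h2
    exact h2.symm
  -- all vectors
  have hblk : ∀ j, ∀ y : Fin (2 ^ m + 1) → ZMod 2, ∑ x, y x = 0 →
      (Pi.single j y : Fin k → Fin (2 ^ m + 1) → ZMod 2) ∈ E := by
    intro j y hy
    have h1 : (Pi.single j y : Fin k → Fin (2 ^ m + 1) → ZMod 2) =
        ∑ x, (Pi.single j (y x • (Pi.single x 1 + Pi.single 0 1 : Fin (2 ^ m + 1) → ZMod 2)) :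
          Fin k → Fin (2 ^ m + 1) → ZMod 2) := by
      have h2 : y = ∑ x, y x • (Pi.single x 1 + Pi.single 0 1 : Fin (2 ^ m + 1) → ZMod 2) := by
        funext z
        rw [Finset.sum_apply]
        simp only [Pi.smul_apply, Pi.add_apply, smul_eq_mul, mul_add, Finset.sum_add_distrib]
        rw [← Finset.sum_mul, hy, zero_mul, add_zero]
        rw [Finset.sum_eq_single z]
        · rw [Pi.single_eq_same, mul_one]
        · intro b _ hb
          rw [Pi.single_eq_of_ne (Ne.symm hb), mul_zero]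
        · intro h; exact absurd (Finset.mem_univ z) h
      conv_lhs => rw [h2]
      funext i
      by_cases hi : i = j
      · subst hi
        rw [Pi.single_eq_same, Finset.sum_apply]
        refine Finset.sum_congr rfl fun x _ => ?_
        rw [Pi.single_eq_same]
      · rw [Pi.single_eq_of_ne hi, Finset.sum_apply]
        symm
        exact Finset.sum_eq_zero fun x _ => by rw [Pi.single_eq_of_ne hi]
    rw [h1]
    refine sum_mem fun x _ => ?_
    rcases zmod_eq_or (y x) 0 with h0 | h0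
    · rw [h0, zero_smul, Pi.single_zero]; exact zero_mem _
    · rw [h0, zero_add, one_smul]
      by_cases hx : x = 0
      · have h2 : (Pi.single x 1 + Pi.single 0 1 : Fin (2 ^ m + 1) → ZMod 2) = 0 := by
          rw [hx]
          funext z
          exact CharTwo.add_self_eq_zero _
        rw [h2, Pi.single_zero]; exact zero_mem _
      · exact key j (hall j) x 0 hx
  have h1 : M.e v ∈ E := by
    rw [← Finset.univ_sum_single (M.e v)]
    exact sum_mem fun j _ => hblk j _ (M.even v hv j)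
  exact h1

end sym

section symS

variable [Finite G] {S : Sylow 2 G} {P A : Subgroup G} {k m : ℕ}

/-- **An offender which centralises `v` modulo `D` centralises `v`.** -/
theorem cent_sym (hG : IsCharacteristicTwoType G) (hP : IsParS (S : Subgroup G) P)
    (M : SymKM (S : Subgroup G) P (zl (S : Subgroup G) P) (cv (S : Subgroup G) P) k m) (hk : 0 < k)
    (hm : 2 ≤ m) {v : G} (hv : v ∈ zl (S : Subgroup G) P) {a : G} (ha : a ∈ P)
    (h : M.e (a * v * a⁻¹) = M.e v) : a * v = v * a := by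
  obtain ⟨hDc, N, hNV, hsup, hinf, hNn⟩ := IId.SymWrD.exists_compl M.toSymK hk (by omega) (syl_of_sylow S hP.le)
    (hP.isLoc.char2 S hG)
  have hVc : ∀ x ∈ zl (S : Subgroup G) P, ∀ y ∈ zl (S : Subgroup G) P, x * y = y * x := fun x hx y hy =>
    MinSimple.VModule.zc_comm _ _ (hP.isLoc.zl_le S hG hx) _ (hP.isLoc.zl_le S hG hy)
  have hDV : cv (S : Subgroup G) P ≤ zl (S : Subgroup G) P := inf_le_left
  rw [← hsup] at hv
  obtain ⟨n, hn, d, hd, rfl⟩ := F4.Split.mem_sup_comm (fun x hx y hy => hVc x (hNV hx) y (hDV hy)) hv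
  have h3 : a * n * a⁻¹ ∈ N := (mem_normalizer_iff.1 (hNn ha) n).1 hn
  have e1 : a * (n * d) * a⁻¹ = a * n * a⁻¹ * d := by
    calc a * (n * d) * a⁻¹ = a * n * a⁻¹ * (a * d) * a⁻¹ := by group
      _ = _ := by rw [hDc a ha d hd]; group
  have e0 : M.e d = 0 := (M.ker d (hDV hd)).2 hd
  rw [e1, M.mul _ (hNV h3) d (hDV hd), M.mul n (hNV hn) d (hDV hd), e0, add_zero, add_zero] at h
  have h5 : a * n * a⁻¹ * n⁻¹ = 1 := by
    have h6 : M.e (a * n * a⁻¹ * n⁻¹) = 0 := by
      rw [e_sub_sym M.toSymK hNV h3 hn, h, sub_self]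
    have h7 : a * n * a⁻¹ * n⁻¹ ∈ N ⊓ cv (S : Subgroup G) P :=
      mem_inf.2 ⟨mul_mem h3 (inv_mem hn), (M.ker _ (hNV (mul_mem h3 (inv_mem hn)))).1 h6⟩
    rwa [hinf, mem_bot] at h7
  have h4 : a * n = n * a := by
    have := mul_inv_eq_one.1 h5
    rwa [mul_inv_eq_iff_eq_mul] at this
  rw [← mul_assoc, h4, mul_assoc, mul_assoc, hDc a ha d hd]

end symS

/-! ### (D) -/

section fin

variable [Finite G] {S : Sylow 2 G} {L P A : Subgroup G}

/-- `W ≤ V_P` normalised by `P`: `V_P = W C_{V_P}(A)`, or the `v ∈ V_P` with `[v, A] ≤ W` are centralised by `A`. -/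
theorem par_dich (hG : IsCharacteristicTwoType G) (hP : IsParS (S : Subgroup G) P) (hc : ConclM (S : Subgroup G) P)
    (hA : A ≤ (S : Subgroup G)) (hoff : OffM (zl (S : Subgroup G) P) A) {W : Subgroup G}
    (hW : W ≤ zl (S : Subgroup G) P) (hPW : P ≤ normalizer (W : Set G)) :
    zl (S : Subgroup G) P ≤ W ⊔ (zl (S : Subgroup G) P ⊓ centralizer (A : Set G)) ∨
      ∀ v ∈ zl (S : Subgroup G) P, (∀ a ∈ A, a * v * a⁻¹ * v⁻¹ ∈ W) → ∀ a ∈ A, a * v = v * a := by
  have hSP := hP.le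
  have hn : P ≤ normalizer (zl (S : Subgroup G) P : Set G) := MinSimple.VModule.le_normalizer_zl _ _
  have hDV : cv (S : Subgroup G) P ≤ zl (S : Subgroup G) P := inf_le_left
  -- from a covering `W` to the first alternative
  have fin : (∀ a ∈ A, ∀ d ∈ cv (S : Subgroup G) P, a * d = d * a) →
      (∀ v ∈ zl (S : Subgroup G) P, ∃ w ∈ W, w⁻¹ * v ∈ cv (S : Subgroup G) P) →
      zl (S : Subgroup G) P ≤ W ⊔ (zl (S : Subgroup G) P ⊓ centralizer (A : Set G)) := by
    intro hDc hcov v hv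
    obtain ⟨w, hw, hd⟩ := hcov v hv
    have e : v = w * (w⁻¹ * v) := by group
    rw [e]
    refine mul_mem_sup hw ⟨hDV hd, mem_centralizer_iff.2 fun a ha => hDc a ha _ hd⟩
  rcases hc with ⟨F, _, _, _, k, hk, ⟨M⟩⟩ | ⟨k, m, hk, hm, ⟨M⟩⟩
  · by_cases hWD : W ≤ cv (S : Subgroup G) P
    · right
      intro v hv h
      refine cent_nat hG hP M hk hA hoff hv fun a ha => ?_
      have h1 : a * v * a⁻¹ ∈ zl (S : Subgroup G) P := conj_div hn (hSP (hA ha)) hv
      have h2 := (M.ker _ (hDV (hWD (h a ha)))).2 (hWD (h a ha))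
      rw [e_sub_nat M.toNatK le_rfl h1 hv] at h2
      exact sub_eq_zero.1 h2
    · left
      obtain ⟨I, hI1, -⟩ := M.offM A hA hoff
      refine fin (fun a ha d hd => ?_) fun v hv => ?_
      · obtain ⟨b, -, hb⟩ := hI1 a ha
        exact hb.2 d hd
      · obtain ⟨w, hw, he⟩ := cover_nat M.toNatK hSP hW hPW hWD (M.e v)
        refine ⟨w, hw, (M.ker _ (mul_mem (inv_mem (hW hw)) hv)).1 ?_⟩
        have h1 := M.mul w (hW hw) (w⁻¹ * v) (mul_mem (inv_mem (hW hw)) hv)
        rw [mul_inv_cancel_left, he] at h1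
        exact left_eq_add.1 h1
  · by_cases hWD : W ≤ cv (S : Subgroup G) P
    · right
      intro v hv h a ha
      refine cent_sym hG hP M hk hm hv (hSP (hA ha)) ?_
      have h1 : a * v * a⁻¹ ∈ zl (S : Subgroup G) P := conj_div hn (hSP (hA ha)) hv
      have h2 := (M.ker _ (hDV (hWD (h a ha)))).2 (hWD (h a ha))
      rw [e_sub_sym M.toSymK le_rfl h1 hv] at h2
      exact sub_eq_zero.1 h2
    · left
      refine fin (M.offM A hA hoff).1 fun v hv => ?_
      obtain ⟨w, hw, he⟩ := cover_sym M.toSymK hSP (by omega) hW hPW hWD hv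
      refine ⟨w, hw, (M.ker _ (mul_mem (inv_mem (hW hw)) hv)).1 ?_⟩
      have h1 := M.mul w (hW hw) (w⁻¹ * v) (mul_mem (inv_mem (hW hw)) hv)
      rw [mul_inv_cancel_left, he] at h1
      exact left_eq_add.1 h1

/-- `W ≤ V_P` normalised by `P`, `[W, O²(P)] ≠ 1`: `V_P = W C_{V_P}(A)`. -/
theorem par_cover (hP : IsParS (S : Subgroup G) P)
    (hc : ConclM (S : Subgroup G) P) (hA : A ≤ (S : Subgroup G)) (hoff : OffM (zl (S : Subgroup G) P) A)
    {W : Subgroup G} (hW : W ≤ zl (S : Subgroup G) P) (hPW : P ≤ normalizer (W : Set G))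
    (hWD : ¬ W ≤ cv (S : Subgroup G) P) :
    zl (S : Subgroup G) P ≤ W ⊔ (zl (S : Subgroup G) P ⊓ centralizer (A : Set G)) := by
  have hSP := hP.le
  have hDV : cv (S : Subgroup G) P ≤ zl (S : Subgroup G) P := inf_le_left
  have fin : (∀ a ∈ A, ∀ d ∈ cv (S : Subgroup G) P, a * d = d * a) →
      (∀ v ∈ zl (S : Subgroup G) P, ∃ w ∈ W, w⁻¹ * v ∈ cv (S : Subgroup G) P) →
      zl (S : Subgroup G) P ≤ W ⊔ (zl (S : Subgroup G) P ⊓ centralizer (A : Set G)) := by
    intro hDc hcov v hv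
    obtain ⟨w, hw, hd⟩ := hcov v hv
    have e : v = w * (w⁻¹ * v) := by group
    rw [e]
    refine mul_mem_sup hw ⟨hDV hd, mem_centralizer_iff.2 fun a ha => hDc a ha _ hd⟩
  rcases hc with ⟨F, _, _, _, k, hk, ⟨M⟩⟩ | ⟨k, m, hk, hm, ⟨M⟩⟩
  · obtain ⟨I, hI1, -⟩ := M.offM A hA hoff
    refine fin (fun a ha d hd => ?_) fun v hv => ?_
    · obtain ⟨b, -, hb⟩ := hI1 a ha
      exact hb.2 d hd
    · obtain ⟨w, hw, he⟩ := cover_nat M.toNatK hSP hW hPW hWD (M.e v)
      refine ⟨w, hw, (M.ker _ (mul_mem (inv_mem (hW hw)) hv)).1 ?_⟩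
      have h1 := M.mul w (hW hw) (w⁻¹ * v) (mul_mem (inv_mem (hW hw)) hv)
      rw [mul_inv_cancel_left, he] at h1
      exact left_eq_add.1 h1
  · refine fin (M.offM A hA hoff).1 fun v hv => ?_
    obtain ⟨w, hw, he⟩ := cover_sym M.toSymK hSP (by omega) hW hPW hWD hv
    refine ⟨w, hw, (M.ker _ (mul_mem (inv_mem (hW hw)) hv)).1 ?_⟩
    have h1 := M.mul w (hW hw) (w⁻¹ * v) (mul_mem (inv_mem (hW hw)) hv)
    rw [mul_inv_cancel_left, he] at h1
    exact left_eq_add.1 h1

/-- `z ∈ Z` moved by `P` is moved by `O²(P)` -/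
theorem not_mem_cv {z : G} (hP : (S : Subgroup G) ≤ P) (hz : z ∈ zc (S : Subgroup G))
    (hzP : ¬ P ≤ centralizer ({z} : Set G)) : z ∉ cv (S : Subgroup G) P := by
  intro h
  apply hzP
  conv_lhs => rw [← NoFF.LinesPlug.oddGen_sup hP (MinSimple.Basic.not_dvd_relIndex S hP)]
  refine sup_le (fun y hy => ?_) (fun y hy => ?_)
  · rw [mem_centralizer_singleton_iff]
    exact mem_centralizer_iff.1 h.2 y hy
  · rw [mem_centralizer_singleton_iff]
    exact (MinSimple.VModule.mem_zc.1 hz).2.1 y hy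

/-- **`z ∈ Z` moved by `P`: `A` moves `⟨z^L⟩`.** -/
theorem GOne.mv (h : GOne S L P A) {z : G} (hz : z ∈ zc (S : Subgroup G))
    (hzP : ¬ P ≤ centralizer ({z} : Set G)) : ¬ A ≤ centralizer (NoFF.Basic.V (zpowers z) L : Set G) := by
  intro hA
  set U : Subgroup G := NoFF.Basic.V (zpowers z) L with hU
  have hn : P ≤ normalizer (zl (S : Subgroup G) P : Set G) := MinSimple.VModule.le_normalizer_zl _ _
  have hzU : z ∈ U := by
    have h1 : MulAut.conj (1 : G) • zpowers z ≤ U := NoFF.Basic.Z_le_V (one_mem L)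
    rw [map_one, one_smul] at h1
    exact h1 (mem_zpowers z)
  have hLU : L ≤ normalizer (U : Set G) := by
    have key : ∀ g ∈ L, ∀ x ∈ U, g * x * g⁻¹ ∈ U := by
      intro g hg
      have h1 : U ≤ U.comap (MulAut.conj g).toMonoidHom := by
        refine NoFF.Basic.V_le fun p hp x hx => ?_
        rw [mem_comap]
        have h2 : MulAut.conj (g * p) • zpowers z ≤ U := NoFF.Basic.Z_le_V (mul_mem hg hp)
        apply h2
        obtain ⟨y, hy, rfl⟩ := hx
        exact ⟨y, hy, by simp [mul_assoc]⟩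
      exact fun x hx => h1 hx
    intro g hg
    rw [mem_normalizer_iff]
    refine fun x => ⟨key g hg x, fun hx => ?_⟩
    have h1 := key g⁻¹ (inv_mem hg) _ hx
    have e : g⁻¹ * (g * x * g⁻¹) * g⁻¹⁻¹ = x := by group
    rwa [e] at h1
  have hPW : P ≤ normalizer ((U ⊓ zl (S : Subgroup G) P : Subgroup G) : Set G) :=
    (le_inf (h.PL.trans hLU) hn).trans (Subgroup.inf_normalizer_le_normalizer_inf)
  have hWD : ¬ U ⊓ zl (S : Subgroup G) P ≤ cv (S : Subgroup G) P := fun h1 =>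
    not_mem_cv h.SP hz hzP (h1 ⟨hzU, MinSimple.VModule.zc_le_zl _ _ hz⟩)
  have h1 := par_cover h.par h.concl h.AS h.offP inf_le_right hPW hWD
  apply h.offP.ne
  rw [le_centralizer_iff]
  refine h1.trans (sup_le ?_ inf_le_right)
  exact inf_le_left.trans (le_centralizer_iff.1 hA)

/-- **(D)**: `U ≤ V` normalised by `P`: `[U, A] = 1` or `V = U C_V(A)`. -/
theorem GOne.dich (hG : IsCharacteristicTwoType G) (h : GOne S L P A) {U : Subgroup G}
    (hUV : U ≤ zl (S : Subgroup G) L) (hPU : P ≤ normalizer (U : Set G)) :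
    U ≤ centralizer (A : Set G) ∨
      zl (S : Subgroup G) L = U ⊔ (zl (S : Subgroup G) L ⊓ centralizer (A : Set G)) := by
  have hn : P ≤ normalizer (zl (S : Subgroup G) P : Set G) := MinSimple.VModule.le_normalizer_zl _ _
  have hPW : P ≤ normalizer ((U ⊓ zl (S : Subgroup G) P : Subgroup G) : Set G) :=
    (le_inf hPU hn).trans (Subgroup.inf_normalizer_le_normalizer_inf)
  rcases par_dich hG h.par h.concl h.AS h.offP (inf_le_right : U ⊓ zl (S : Subgroup G) P ≤ _) hPW with h1 | h1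
  · right
    apply le_antisymm
    · conv_lhs => rw [h.ex]
      refine sup_le (h1.trans (sup_le ?_ ?_)) le_sup_right
      · exact inf_le_left.trans le_sup_left
      · exact (inf_le_inf_right _ h.VU).trans le_sup_right
    · exact sup_le hUV inf_le_left
  · left
    intro u hu
    obtain ⟨v, hv, w, hw, rfl⟩ := h.dec (hUV hu)
    have hvA : ∀ a ∈ A, a * v = v * a := by
      refine h1 v hv fun a ha => ?_
      have haP := h.SP (h.AS ha)
      have haw : a * w = w * a := mem_centralizer_iff.1 hw.2 a ha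
      have e : a * (v * w) * a⁻¹ * (v * w)⁻¹ = a * v * a⁻¹ * v⁻¹ := by
        calc a * (v * w) * a⁻¹ * (v * w)⁻¹ = a * v * a⁻¹ * (a * w) * a⁻¹ * w⁻¹ * v⁻¹ := by group
          _ = a * v * a⁻¹ * v⁻¹ := by rw [haw]; group
      refine mem_inf.2 ⟨?_, mul_mem (conj_div hn haP hv) (inv_mem hv)⟩
      rw [← e]
      exact mul_mem (conj_div hPU haP hu) (inv_mem hu)
    rw [mem_centralizer_iff]
    intro a ha
    have haw : a * w = w * a := mem_centralizer_iff.1 hw.2 a ha
    rw [← mul_assoc, hvA a ha, mul_assoc, haw, mul_assoc]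

end fin

/-! ### Minimal exact offenders -/

/-- `A` is a minimal exact offender on `V`. -/
structure Mx (V A : Subgroup G) : Prop extends ElemM V A where
  pg : IsPGroup 2 A
  ne : ¬ A ≤ centralizer (V : Set G)
  exact : Nat.card V * Nat.card ↥(A ⊓ centralizer (V : Set G)) =
    Nat.card A * Nat.card ↥(V ⊓ centralizer (A : Set G))
  min : ∀ B ≤ A, Nat.card V * Nat.card ↥(B ⊓ centralizer (V : Set G)) =
    Nat.card B * Nat.card ↥(V ⊓ centralizer (B : Set G)) → A ⊓ centralizer (V : Set G) ≤ B →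
      B ≤ centralizer (V : Set G) ∨ B = A

theorem Mx.off {V A : Subgroup G} (h : Mx V A) : OffM V A := ⟨h.toElemM, h.ne, h.exact.le⟩

section mx

variable [Finite G] {S : Sylow 2 G} {L P A : Subgroup G}

/-- a minimal exact offender is conjugate to one in `S` with a `P` -/
theorem gOne_of_mx (hc : IsCharacteristicTwoType G) (hL : IsLoc (S : Subgroup G) L)
    (hgen : L ≤ sSup {P | IsParS (S : Subgroup G) P ∧ P ≤ L}) (hAL : A ≤ L)
    (h : Mx (zl (S : Subgroup G) L) A) : ∃ m ∈ L, ∃ P, GOne S L P (cj m A) := by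
  have hno := (exists_gOne hc hL hgen ⟨A, hAL, h.off⟩).choose_spec.choose_spec.no
  have hcomm := (exists_gOne hc hL hgen ⟨A, hAL, h.off⟩).choose_spec.choose_spec.comm
  have hLV : L ≤ normalizer (zl (S : Subgroup G) L : Set G) := MinSimple.VModule.le_normalizer_zl _ _
  obtain ⟨m, hm, P, hP, hPL, hmS, hmP⟩ := VF.gallery hc S hL hgen hAL h.pg h.ne
  have hmV := hLV hm
  have hcj := VF.fM_cj (A := A) hmV
  refine ⟨m, hm, P, ?_⟩
  have hVU : zl (S : Subgroup G) P ≤ zl (S : Subgroup G) L := Star.zl_mono _ hPL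
  set V : Subgroup G := zl (S : Subgroup G) L with hV
  set W : Subgroup G := zl (S : Subgroup G) P with hW
  set B : Subgroup G := cj m A with hB
  have hCVW : centralizer (V : Set G) ≤ centralizer (W : Set G) := centralizer_le hVU
  have hBE : ElemM V B := VF.elemM_cj hmV h.toElemM
  have hBW : ElemM W B := ⟨fun a ha => hCVW (hBE.sq a ha), fun a ha b hb => hCVW (hBE.comm a ha b hb)⟩
  have hBne : ¬ B ≤ centralizer (V : Set G) := fun h1 => hmP (h1.trans hCVW)
  have hfA : VF.fM V A = Nat.card V := by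
    have h1 := VF.fM_mul V A
    rw [← h.exact] at h1
    exact Nat.eq_of_mul_eq_mul_right Nat.card_pos h1
  have hfB : VF.fM V B = Nat.card V := hcj.1.trans hfA
  have hPFF : (∃ A ≤ P, OffM W A) → NoOverM W P ∧ ConclM (S : Subgroup G) P := fun h =>
    FFBr.ffthmM G (S : Subgroup G) P (syl_of_sylow S hP.le) hP.toIsMinPar (hP.isLoc.char2 S hc) h
  have hBP := hmS.trans hP.le
  have hnoW : Nat.card B * Nat.card ↥(W ⊓ centralizer (B : Set G)) ≤
      Nat.card W * Nat.card ↥(B ⊓ centralizer (W : Set G)) := by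
    by_contra hcon
    have hoffW : OffM W B := ⟨hBW, hmP, (not_le.1 hcon).le⟩
    exact hcon ((hPFF ⟨B, hBP, hoffW⟩).1 B hBP hBW)
  have hle := VF.fM_le hVU hnoW
  -- `C_B(W)` centralises `V`
  have hB1 : B ⊓ centralizer (W : Set G) ≤ centralizer (V : Set G) := by
    set B₁ := B ⊓ centralizer (W : Set G) with hB₁
    have hBL : B₁ ≤ L := (inf_le_left.trans hBP).trans hPL
    have hB₁E : ElemM V B₁ := VF.elemM_mono hBE inf_le_left
    have h2 : VF.fM V B₁ ≤ Nat.card V := VF.fM_le_iff.2 (hno B₁ hBL hB₁E)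
    have h3 : VF.fM V B₁ = Nat.card V := le_antisymm h2 (hfB ▸ hle)
    -- back to `A`
    have hmi : m⁻¹ ∈ normalizer (V : Set G) := inv_mem hmV
    have h4 : VF.fM V (cj m⁻¹ B₁) = Nat.card V := (VF.fM_cj hmi).1.trans h3
    have h5 : Nat.card V * Nat.card ↥(cj m⁻¹ B₁ ⊓ centralizer (V : Set G)) =
        Nat.card ↥(cj m⁻¹ B₁) * Nat.card ↥(V ⊓ centralizer (cj m⁻¹ B₁ : Set G)) := by
      have h6 := VF.fM_mul V (cj m⁻¹ B₁)
      rw [h4] at h6
      exact h6
    have h6 : cj m⁻¹ B₁ ≤ A := by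
      have h7 : cj m⁻¹ B₁ ≤ cj m⁻¹ B := ChoiceBase.cj_mono _ inf_le_left
      rwa [hB, ChoiceBase.cj_inv_cj] at h7
    have h7 : A ⊓ centralizer (V : Set G) ≤ cj m⁻¹ B₁ := by
      have h8 : cj m (A ⊓ centralizer (V : Set G)) ≤ B₁ := by
        rw [ChoiceBase.cj_inf, ChoiceBase.cj_centralizer, ChoiceBase.cj_eq_of_mem_normalizer hmV]
        exact le_inf inf_le_left (inf_le_right.trans hCVW)
      have h9 := ChoiceBase.cj_mono m⁻¹ h8
      rwa [ChoiceBase.cj_inv_cj] at h9
    rcases h.min _ h6 h5 h7 with h8 | h8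
    · have h9 := ChoiceBase.cj_mono m h8
      rwa [ChoiceBase.cj_cj_inv, ChoiceBase.cj_centralizer, ChoiceBase.cj_eq_of_mem_normalizer hmV] at h9
    · exfalso
      apply hmP
      have h9 : B₁ = B := by rw [hB, ← h8, ChoiceBase.cj_cj_inv]
      rw [← h9]
      exact inf_le_right
  have hoffV : OffM V B := ⟨hBE, hBne, VF.le_fM_iff.1 hfB.ge⟩
  have hexV := exact_of hcomm hVU hoffV.le hnoW hB1
  have hoffW : OffM W B := by
    refine ⟨hBW, hmP, ?_⟩
    -- `|W| |C_B(W)| ≤ |B| |C_W(B)|`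
    have e1 : B ⊓ centralizer (W : Set G) = B ⊓ centralizer (V : Set G) :=
      le_antisymm (le_inf inf_le_left hB1) (inf_le_inf_left _ hCVW)
    have e2 : W ⊓ (V ⊓ centralizer (B : Set G)) = W ⊓ centralizer (B : Set G) := by
      rw [← inf_assoc, inf_eq_left.2 hVU]
    have h1 := Star.card_sup_mul hcomm hVU (inf_le_left : V ⊓ centralizer (B : Set G) ≤ V)
    rw [← hexV, e2] at h1
    rw [e1]
    have h2 := hoffV.le
    have p1 : 0 < Nat.card ↥(V ⊓ centralizer (B : Set G)) := Nat.card_pos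
    refine Nat.le_of_mul_le_mul_right ?_ p1
    calc Nat.card W * Nat.card ↥(B ⊓ centralizer (V : Set G)) * Nat.card ↥(V ⊓ centralizer (B : Set G))
        = (Nat.card W * Nat.card ↥(V ⊓ centralizer (B : Set G))) * Nat.card ↥(B ⊓ centralizer (V : Set G)) := by
          ring
      _ = (Nat.card V * Nat.card ↥(B ⊓ centralizer (V : Set G))) * Nat.card ↥(W ⊓ centralizer (B : Set G)) := by
          rw [← h1]; ring
      _ ≤ (Nat.card B * Nat.card ↥(V ⊓ centralizer (B : Set G))) * Nat.card ↥(W ⊓ centralizer (B : Set G)) :=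
          Nat.mul_le_mul_right _ h2
      _ = _ := by ring
  exact ⟨hP, hPL, hmS, hcomm, hno, hoffV, hoffW, hB1, (hPFF ⟨B, hBP, hoffW⟩).2, hexV⟩

/-- **(D)** for all minimal exact offenders: `U ≤ V` normalised by `L`: `[U, A] = 1` or `V = U C_V(A)`. -/
theorem Mx.dich (hc : IsCharacteristicTwoType G) (hL : IsLoc (S : Subgroup G) L)
    (hgen : L ≤ sSup {P | IsParS (S : Subgroup G) P ∧ P ≤ L}) (hAL : A ≤ L)
    (h : Mx (zl (S : Subgroup G) L) A) {U : Subgroup G} (hUV : U ≤ zl (S : Subgroup G) L)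
    (hLU : L ≤ normalizer (U : Set G)) :
    U ≤ centralizer (A : Set G) ∨
      zl (S : Subgroup G) L = U ⊔ (zl (S : Subgroup G) L ⊓ centralizer (A : Set G)) := by
  obtain ⟨m, hm, P, hg⟩ := gOne_of_mx hc hL hgen hAL h
  have hLV : L ≤ normalizer (zl (S : Subgroup G) L : Set G) := MinSimple.VModule.le_normalizer_zl _ _
  have hmU : m⁻¹ ∈ normalizer (U : Set G) := inv_mem (hLU hm)
  have hmV : m⁻¹ ∈ normalizer (zl (S : Subgroup G) L : Set G) := inv_mem (hLV hm)
  have e1 : cj m⁻¹ (centralizer (cj m A : Set G)) = centralizer (A : Set G) := by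
    rw [ChoiceBase.cj_centralizer, ChoiceBase.cj_inv_cj]
  rcases hg.dich hc hUV (hg.PL.trans hLU) with h1 | h1
  · left
    have h2 := ChoiceBase.cj_mono m⁻¹ h1
    rwa [ChoiceBase.cj_eq_of_mem_normalizer hmU, e1] at h2
  · right
    have h2 := congrArg (cj m⁻¹) h1
    have e2 : ∀ X Y : Subgroup G, cj m⁻¹ (X ⊔ Y) = cj m⁻¹ X ⊔ cj m⁻¹ Y := fun X Y => Subgroup.map_sup _ _ _
    rwa [e2, ChoiceBase.cj_inf, ChoiceBase.cj_eq_of_mem_normalizer hmU,
      ChoiceBase.cj_eq_of_mem_normalizer hmV, e1] at h2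

end mx

end Cfsg.Agent.Omega.NOThreeL.RRed
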