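import Cfsg.Agent.Omega.NOThreeL.RRed.FourTree
import Cfsg.Agent.Omega.NOThreeL.RRed.ClassD
import Cfsg.Agent.Omega.NOThreeL.RRed.NS.Cov
import Cfsg.Agent.Omega.KL.TwoS.Fr

/-!
# NO-3L, box R: the tree of `GlueSig.WideAll` (RR S = 1, some |Z : C_Z(P)| ≥ 4) (integrator helper699)

v5 (helper585, after helper163, 181, 241, 298, 540, 640, 644, 743, 789, 863, 916).
`V* = Wd S = ⟨Z^M₀⟩`, `M₀ = MZ S = ⟨P*(S)⟩`, `C = CZ S = C_G(Z)`, `O = O₂(C)`.

* `Wide S` : the hypotheses of `WideAll`, or `|Z| = 4` and some `|V_P| ≠ 8` (the hypotheses of `FourOf`);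
* `Act S P` : `P ∈ P*(S)` is active: some minimal exact offender `A ≤ S` of `V*` is not in `O₂(P)`;
  `MvAct S` : every `z ∈ Z#` is moved by an active `P`;
* `CM S W` : class modules (#24537): `V* = ∏ W i`, `W i` irreducible for `M₀`, every active `P` moves one `W i`;
* `Co W i` : the product of the other classes; `FS S R B z` : `z ∈ R ∩ Z` is of full support in `R` (`V* = R × B`; the
  inputs of the two-centre theorem #26172); `Left S W` (#26368, #26343) : for full support `x`, `y` in `W i`, `Co W i` some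
  `A ∈ 𝒜(O₂(C_G(x) ∩ C_G(y)))` moves `W i`; `AllB S N` : `𝒜(O)` moves every block;
* `NatBlk S D N l F e` : natural `SL₂(F)`-block `N` with group `D` and line `l`;
  `NBs S N E D l q` : `V* = ∏ N b`, all `N b` natural; `Src S N l q` : the blocks of the active `P` are the blocks `N b`;
  `Fits N W side` : `W i = ∏_{side b = i} N b`;
* sockets, level 1: `CMThm` (class module theorem; #24537), `WNoMv` (not `MvAct`), `WMul` (≥ 2 classes), `WOne` (1 class);
  **`all_of`** : everything over `Wide S`; **`wideAll_of`** (`FourOf` : FourOfWide.lean, helper743);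
* sockets for ≥ 2 classes: `WRun` (not `Left`; #25784, #25809, #25865, #26172), `LeftBlk` (`Left` ⟹ natural blocks),
  `LeftAll` (`𝒜(O)` moves every block; #25809 (2)), `LeftPerm` (`C_G(Z)` permutes the lines; #24948, #24984), `WLeftOne` (two blocks, no fields; TEXT W2 #24006),
  `WLeftFld` (two blocks, fields; #24444 (C), #24700), `WLeftMany` (≥ 3 blocks; U(q) #24915);  **`wMul_of`**;
* sockets for one class (`V*` irreducible): `OneBlk` (block theorem), `WOneS` (`𝔽₂`-blocks), `WOneOne`, `WOneTwo`,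
  `WOneMany` (`1`, `2`, `≥ 3` natural blocks, `q ≥ 4`);  **`wOne_of`**.
-/

set_option autoImplicit false
set_option linter.unusedSectionVars false

namespace Cfsg.Agent.Omega.NOThreeL.RRed.WideTree

open Subgroup Cfsg Cfsg.Agent.ZN Cfsg.Agent.Omega.MinPar Cfsg.Agent.Omega.Frame Cfsg.Agent.Omega.FrameNOFF
open Cfsg.Agent.Omega.Node.NO3L Cfsg.Agent.Omega.NOThreeL.Basic Cfsg.Agent.Omega.NOThreeL.RTree
open Cfsg.Agent.Omega.NOThreeL.RTreeF
open Cfsg.Agent.Omega.NOThreeL.Merge (MZ)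
open Cfsg.Agent.Omega.NOThreeL.RZ (RR)
open Cfsg.Agent.Omega.NOThreeL.RRed.GlueSig
open Cfsg.Agent.Omega.NOThreeL.RRed.FourTree (Bks)
open Cfsg.Agent.Omega.FFThm (NatKM)
open Cfsg.Agent.Omega.FrameFF (cv)
open Cfsg.Agent.Omega.NO3S.ThmB (Nb)
open Cfsg.Agent.Omega.NO3S.KeyRad (blk)

open scoped Pointwise

universe u v w

section defs

variable {G : Type u} [Group G]

/-- The hypotheses of `WideAll`, or of `FourOf`. -/
structure Wide [Finite G] (S : Sylow 2 G) : Prop extends RB S where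
  rr : RR (S : Subgroup G) = ⊥
  wd : (∃ P, IsParS (S : Subgroup G) P ∧
      4 * Nat.card ↥(zc (S : Subgroup G) ⊓ centralizer (P : Set G)) ≤ Nat.card (zc (S : Subgroup G))) ∨
    (Nat.card (zc (S : Subgroup G)) = 4 ∧ ∃ P, IsParS (S : Subgroup G) P ∧ Nat.card (zl (S : Subgroup G) P) ≠ 8)

theorem Wide.four_le [Finite G] {S : Sylow 2 G} (h : Wide S) : 4 ≤ Nat.card (zc (S : Subgroup G)) := by
  rcases h.wd with ⟨P, -, hP⟩ | ⟨h4, -⟩
  · exact (Nat.le_mul_of_pos_right 4 Nat.card_pos).trans hP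
  · exact h4.ge

/-- `P ∈ P*(S)` is active: some minimal exact offender `A ≤ S` of `V*` is not in `O₂(P)` -/
def Act (S P : Subgroup G) : Prop :=
  IsParS S P ∧ ∃ A ≤ S, Mx (Wd S) A ∧ ¬ A ≤ o2 P

/-- every `z ∈ Z#` is moved by an active `P` -/
def MvAct (S : Subgroup G) : Prop :=
  ∀ z ∈ zc S, z ≠ 1 → ∃ P, Act S P ∧ ¬ P ≤ centralizer ({z} : Set G)

/-- **Class modules** (#24537). -/
structure CM (S : Subgroup G) {ι : Type u} (W : ι → Subgroup G) : Prop where
  ne : ∀ i, W i ≠ ⊥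
  sup : ⨆ i, W i = Wd S
  ind : ∀ i, W i ⊓ (⨆ j : {j // j ≠ i}, W j) = ⊥
  inv : ∀ i, MZ S ≤ normalizer (W i : Set G)
  irr : ∀ i, ∀ U : Subgroup G, U ≤ W i → MZ S ≤ normalizer (U : Set G) → U ≠ ⊥ → W i ≤ U
  nS : ∀ n ∈ normalizer (S : Set G), ∀ i, ∃ j, MulAut.conj n • W i = W j
  one : ∀ P, Act S P → ∃ i, ¬ P ≤ centralizer (W i ⊓ zc S : Subgroup G) ∧
    ∀ j, j ≠ i → ∀ g ∈ P, Odd (orderOf g) → g ∈ centralizer (W j : Set G)
  mvd : ∀ i, ∃ A ≤ S, Mx (Wd S) A ∧ ¬ A ≤ centralizer (W i : Set G)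
  off : ∀ A ≤ S, Mx (Wd S) A → ∃ i, ∀ j, j ≠ i → A ≤ centralizer (W j : Set G)
  zero : ∀ i, ∀ U : Subgroup G, U ≤ W i ⊓ zc S → U ≠ ⊥ → ∀ w ∈ W i, w ∈ NoFF.Basic.V U (MZ S)
  gen : ∀ i, W i ≤ NoFF.Basic.V (W i ⊓ zc S) (MZ S ⊓ centralizer {x : G | ∃ j, j ≠ i ∧ x ∈ W j})

/-- `bad` at `G`-level (helper345, 885, 820; #26172) -/
def BadG (Q J Y : Subgroup G) : Prop :=
  ∀ d ∈ Q, Odd (orderOf d) →
    (∀ j ∈ J, ∀ w ∈ Y,
      (j * d * j⁻¹ * d⁻¹) * (d * w * d⁻¹ * w⁻¹) = (d * w * d⁻¹ * w⁻¹) * (j * d * j⁻¹ * d⁻¹)) →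
    d ∈ centralizer (Y : Set G)

/-- `N_{⟨M₀, N_G(S)⟩}(R, B, J)` (#26172) -/
def QQ (S R B J : Subgroup G) : Subgroup G :=
  (MZ S ⊔ normalizer (S : Set G)) ⊓ normalizer (R : Set G) ⊓ normalizer (B : Set G) ⊓ normalizer (J : Set G)

/-- `V* = R × B`; `z ∈ R ∩ Z` has full support in `R` (helper858, helper863; #26368, #26343) -/
structure FS (S R B : Subgroup G) (z : G) : Prop where
  mem : z ∈ R ⊓ zc S
  ne : z ≠ 1
  fact : MZ S ≤ (MZ S ⊓ centralizer (B : Set G)) ⊔ (MZ S ⊓ centralizer ({z} : Set G))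
  nS : centralizer ({z} : Set G) ⊓ normalizer (S : Set G) ≤ normalizer (R : Set G) ⊓ normalizer (B : Set G)
  bad : BadG (centralizer ({z} : Set G) ⊓ QQ S R B (S ⊓ centralizer (B : Set G))) (S ⊓ centralizer (B : Set G)) R

/-- the product of the other classes -/
abbrev Co {ι : Type v} (W : ι → Subgroup G) (i : ι) : Subgroup G := ⨆ j : {j // j ≠ i}, W j

/-- **The left case** : `𝒜(O₂(C_G(x) ∩ C_G(y)))` moves `W i`, for every pair of full-support vectors `x` of `W i`, `y` of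
the product of the other classes. -/
def Left (S : Subgroup G) {ι : Type v} (W : ι → Subgroup G) : Prop :=
  ∀ i, ∀ x y : G, FS S (W i) (Co W i) x → FS S (Co W i) (W i) y →
    ∃ A : Subgroup G, KL.TwoS.Mx (o2 (centralizer ({x} : Set G) ⊓ centralizer ({y} : Set G))) A ∧
      ¬ A ≤ centralizer (W i : Set G)

/-- `𝒜(O)` moves every block, `O = O₂(C_G(Z))` -/
def AllB (S : Subgroup G) {κ : Type v} (N : κ → Subgroup G) : Prop :=
  ∀ b, ∃ A : Subgroup G, KL.TwoS.Mx (o2 (centralizer (zc S : Set G))) A ∧ ¬ A ≤ centralizer (N b : Set G)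

/-- **A natural `SL₂(F)`-block** `N` for the group `D` (acting as `SL₂(F)`), with line `l = C_N(S ∩ D)`; `e` are
coordinates. -/
structure NatBlk (S D N l : Subgroup G) (F : Type) [Field F] (e : G → Fin 2 → F) : Prop where
  mul : ∀ v ∈ N, ∀ w ∈ N, e (v * w) = e v + e w
  inj : ∀ v ∈ N, e v = 0 → v = 1
  sur : ∀ x : Fin 2 → F, ∃ v ∈ N, e v = x
  act : ∀ g ∈ D, ∃ M : Matrix.SpecialLinearGroup (Fin 2) F, ∀ v ∈ N, e (g * v * g⁻¹) = M.1.mulVec (e v)
  full : ∀ M : Matrix.SpecialLinearGroup (Fin 2) F, ∃ g ∈ D, ∀ v ∈ N, e (g * v * g⁻¹) = M.1.mulVec (e v)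
  line : ∀ v, v ∈ l ↔ v ∈ N ∧ e v 1 = 0
  root : ∀ s ∈ S ⊓ D, ∃ c : F, ∀ v ∈ N, e (s * v * s⁻¹) = ![e v 0 + c * e v 1, e v 1]
  sylow : ∀ c : F, ∃ s ∈ S ⊓ D, ∀ v ∈ N, e (s * v * s⁻¹) = ![e v 0 + c * e v 1, e v 1]

/-- **Natural blocks** of `V*` : `E b` = the elements of `M₀` which centralise the other blocks, `D b ≤ E b` acts as
`SL₂(q b)` on `N b` (for `q b = 4` the group `E b` may induce more, `A₇` on `2⁴`: `D b` is not `M₀`-invariant). -/
structure NBs (S : Subgroup G) {ι : Type u} (N E D l : ι → Subgroup G) (q : ι → ℕ) : Prop where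
  dec : Blk.Dec S (MZ S) (Wd S) N E ⊥
  memE : ∀ b, ∀ g, g ∈ E b ↔ g ∈ MZ S ∧ ∀ c, c ≠ b → g ∈ centralizer (N c : Set G)
  DE : ∀ b, D b ≤ E b
  nat : ∀ b, ∃ (F : Type) (_ : Field F) (_ : Finite F) (_ : CharP F 2) (e : G → Fin 2 → F),
    Nat.card F = q b ∧ NatBlk S (D b) (N b) (l b) F e
  perm : ∀ g ∈ MZ S, ∀ b, ∃ c, MulAut.conj g • N b = N c ∧ q c = q b
  ln : ∀ s ∈ S, ∀ b, ∃ c, MulAut.conj s • l b = l c
  sD : ∀ s ∈ S, ∀ b, ∃ c, MulAut.conj s • N b = N c ∧ MulAut.conj s • D b = D c ∧ MulAut.conj s • l b = l c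
  permN : ∀ g ∈ normalizer (S : Set G), ∀ b, ∃ c, MulAut.conj g • N b = N c ∧ MulAut.conj g • l b = l c
  lnY : ∀ g ∈ MZ S, ∀ b, ∃ c, ∃ x ∈ E c, MulAut.conj g • N b = N c ∧ MulAut.conj g • l b = MulAut.conj x • l c

/-- **The blocks of the active `P` are the blocks `N b`** (helper540, helper916). -/
structure Src (S : Subgroup G) {ι : Type u} (N l : ι → Subgroup G) (q : ι → ℕ) : Prop where
  act : ∀ P, Act S P → ∃ (F : Type) (_ : Field F) (_ : Finite F) (_ : CharP F 2) (k : ℕ) (_ : 0 < k)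
    (M : NatKM F S P (zl S P) (cv S P) k) (h : Nb M), (∀ i, NS.DD M i = ⊥) ∧
      ∀ j, ∃ b, N b = blk M j ∧ l b = NS.YY h j ∧ q b = Nat.card F
  mov : ∀ b, ∃ P, Act S P ∧ ∃ (F : Type) (_ : Field F) (_ : Finite F) (_ : CharP F 2) (k : ℕ) (_ : 0 < k)
    (M : NatKM F S P (zl S P) (cv S P) k) (h : Nb M), (∀ i, NS.DD M i = ⊥) ∧
      (∃ j, N b = blk M j ∧ l b = NS.YY h j ∧ q b = Nat.card F) ∧
      ∀ j, ∃ c, N c = blk M j ∧ l c = NS.YY h j ∧ q c = Nat.card F

/-- `W i = ∏_{side b = i} N b` -/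
def Fits {κ : Type u} {ι : Type v} (N : κ → Subgroup G) (W : ι → Subgroup G) (side : κ → ι) : Prop :=
  ∀ i, W i = ⨆ b : {b // side b = i}, N b

/-- `S` acts linearly on the blocks (no field automorphisms): `[N b, N_S(N b)] ≤ l b` -/
def NoFld (S : Subgroup G) {ι : Type v} (N l : ι → Subgroup G) : Prop :=
  ∀ b, ∀ s ∈ S, s ∈ normalizer (N b : Set G) → ∀ v ∈ l b, s * v * s⁻¹ = v

/-- `C_G(Z)` permutes the lines of each side -/
def PermL (S : Subgroup G) {κ : Type u} {ι : Type v} (l : κ → Subgroup G) (side : κ → ι) : Prop :=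
  ∀ c ∈ centralizer (zc S : Set G), ∀ b, ∃ b', side b' = side b ∧ MulAut.conj c • l b = l b'

end defs

/-! ### Level 1 -/

section sockets

/-- **The class module theorem** (`K`-free, #24537). -/
def CMThm : Prop :=
  ∀ (G : Type u) [Group G] [Finite G] (S : Sylow 2 G), Wide S → MvAct (S : Subgroup G) →
    ∃ (ι : Type u) (_ : Finite ι) (W : ι → Subgroup G), CM (S : Subgroup G) W

variable (K : Cls.{u}) (B : Fr.{u})

/-- some `z ∈ Z#` is moved by inactive `P` only -/
def WNoMv : Prop :=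
  ∀ (G : Type u) [Group G] [Finite G], K G → ∀ (S : Sylow 2 G), B G S → Wide S → ¬ MvAct (S : Subgroup G) →
    IsKnownSimple' G

/-- at least two classes -/
def WMul : Prop :=
  ∀ (G : Type u) [Group G] [Finite G], K G → ∀ (S : Sylow 2 G), B G S → Wide S → MvAct (S : Subgroup G) →
    ∀ (ι : Type u) [Finite ι] (W : ι → Subgroup G), CM (S : Subgroup G) W → (∃ i j : ι, i ≠ j) → IsKnownSimple' G

/-- one class -/
def WOne : Prop :=
  ∀ (G : Type u) [Group G] [Finite G], K G → ∀ (S : Sylow 2 G), B G S → Wide S → MvAct (S : Subgroup G) →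
    CM (S : Subgroup G) (fun _ : PUnit.{u + 1} => Wd (S : Subgroup G)) → IsKnownSimple' G

end sockets

section lemmas

variable {G : Type u} [Group G] {S : Subgroup G} {ι κ : Type u} {W : ι → Subgroup G}

/-- reindexing -/
theorem CM.equiv (h : CM S W) (e : κ ≃ ι) : CM S (fun k => W (e k)) where
  ne k := h.ne _
  sup := by rw [← h.sup]; exact e.iSup_comp (g := W)
  ind k := by
    rw [eq_bot_iff, ← h.ind (e k)]
    refine inf_le_inf_left _ (iSup_le fun j => ?_)
    exact le_iSup (fun j : {j // j ≠ e k} => W j) ⟨e j, fun hj => j.2 (e.injective hj)⟩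
  inv k := h.inv _
  irr k := h.irr _
  nS n hn k := by
    obtain ⟨j, hj⟩ := h.nS n hn (e k)
    exact ⟨e.symm j, by rw [hj, e.apply_symm_apply]⟩
  one P hP := by
    obtain ⟨i, h1, h2⟩ := h.one P hP
    refine ⟨e.symm i, by rwa [e.apply_symm_apply], fun j hj => h2 (e j) fun hji => hj ?_⟩
    rw [← hji, e.symm_apply_apply]
  mvd k := h.mvd _
  off A hA hm := by
    obtain ⟨i, h1⟩ := h.off A hA hm
    refine ⟨e.symm i, fun j hj => h1 (e j) fun hji => hj ?_⟩
    rw [← hji, e.symm_apply_apply]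
  zero k := h.zero _
  gen k := by
    have h1 : {x : G | ∃ j : κ, j ≠ k ∧ x ∈ W (e j)} = {x : G | ∃ j, j ≠ e k ∧ x ∈ W j} := by
      ext x
      constructor
      · rintro ⟨j, hj, hx⟩
        exact ⟨e j, fun h2 => hj (e.injective h2), hx⟩
      · rintro ⟨j, hj, hx⟩
        refine ⟨e.symm j, fun h2 => hj ?_, by rwa [e.apply_symm_apply]⟩
        rw [← h2, e.apply_symm_apply]
    have h2 := h.gen (e k)
    rwa [← h1] at h2

end lemmas

section tree

variable {K : Cls.{u}} {B : Fr.{u}}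

/-- **everything over `Wide S` from the sockets of level 1** -/
theorem all_of (hc : CMThm.{u}) (h0 : WNoMv K B) (h2 : WMul K B) (h1 : WOne K B) :
    ∀ (G : Type u) [Group G] [Finite G], K G → ∀ (S : Sylow 2 G), B G S → Wide S → IsKnownSimple' G := by
  intro G _ _ hK S hB hW
  by_cases hm : MvAct (S : Subgroup G)
  swap
  · exact h0 G hK S hB hW hm
  obtain ⟨ι, _, W, hCM⟩ := hc G S hW hm
  by_cases h2' : ∃ i j : ι, i ≠ j
  · exact h2 G hK S hB hW hm ι W hCM h2'
  push Not at h2'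
  have hne : Nonempty ι := by
    by_contra hn
    rw [not_nonempty_iff] at hn
    have h3 : (⊥ : Subgroup G) = Wd (S : Subgroup G) := by rw [← hCM.sup, iSup_of_empty]
    have h4 : zc (S : Subgroup G) ≤ Wd (S : Subgroup G) := MinSimple.VModule.zc_le_zl _ _
    exact MinSimple.Basic.zc_ne_bot S.isPGroup' (hW.ctx.sylow_ne_bot S) (le_bot_iff.1 (h4.trans_eq h3.symm))
  obtain ⟨i⟩ := hne
  have e1 : PUnit.{u + 1} ≃ ι :=
    { toFun := fun _ => i, invFun := fun _ => PUnit.unit, left_inv := fun _ => rfl, right_inv := fun k => h2' i k }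
  have h6 := hCM.equiv e1
  have h7 : (fun k : PUnit.{u + 1} => W (e1 k)) = fun _ => Wd (S : Subgroup G) := by
    funext k
    have h8 := h6.sup
    rw [← h8]
    exact le_antisymm (le_iSup (fun k => W (e1 k)) k) (iSup_le fun _ => le_rfl)
  rw [h7] at h6
  exact h1 G hK S hB hW hm h6

/-- **`WideAll` from the sockets of level 1** -/
theorem wideAll_of (hb : ∀ (G : Type u) [Group G] [Finite G] (S : Sylow 2 G), B G S → RB S) (hc : CMThm.{u})
    (h0 : WNoMv K B) (h2 : WMul K B) (h1 : WOne K B) : WideAll K B :=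
  fun G _ _ hK S hB hr hwd => all_of hc h0 h2 h1 G hK S hB { toRB := hb G S hB, rr := hr, wd := Or.inl hwd }

end tree

/-! ### At least two classes -/

section two

/-- **(K-free) natural blocks in the left case** -/
def LeftBlk : Prop :=
  ∀ (G : Type u) [Group G] [Finite G] (S : Sylow 2 G), Wide S → MvAct (S : Subgroup G) →
    ∀ (ι : Type u) [Finite ι] (W : ι → Subgroup G), CM (S : Subgroup G) W → (∃ i j : ι, i ≠ j) →
      Left (S : Subgroup G) W → ∃ (κ : Type u) (_ : Finite κ) (N E D l : κ → Subgroup G) (q : κ → ℕ) (side : κ → ι),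
        NBs (S : Subgroup G) N E D l q ∧ Src (S : Subgroup G) N l q ∧ Fits N W side

variable (K : Cls.{u}) (B : Fr.{u})

/-- the first run: not the left case -/
def WRun : Prop :=
  ∀ (G : Type u) [Group G] [Finite G], K G → ∀ (S : Sylow 2 G), B G S → Wide S → MvAct (S : Subgroup G) →
    ∀ (ι : Type u) [Finite ι] (W : ι → Subgroup G), CM (S : Subgroup G) W → (∃ i j : ι, i ≠ j) →
      ¬ Left (S : Subgroup G) W → IsKnownSimple' G

/-- `𝒜(O)` moves every block -/
def LeftAll : Prop :=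
  ∀ (G : Type u) [Group G] [Finite G] (S : Sylow 2 G), B G S → Wide S → MvAct (S : Subgroup G) →
    ∀ (ι : Type u) [Finite ι] (W : ι → Subgroup G), CM (S : Subgroup G) W → (∃ i j : ι, i ≠ j) →
      Left (S : Subgroup G) W → ∀ (κ : Type u) [Finite κ] (N E D l : κ → Subgroup G) (q : κ → ℕ) (side : κ → ι),
        NBs (S : Subgroup G) N E D l q → Src (S : Subgroup G) N l q → Fits N W side → AllB (S : Subgroup G) N

/-- `C_G(Z)` permutes the lines -/
def LeftPerm : Prop :=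
  ∀ (G : Type u) [Group G] [Finite G] (S : Sylow 2 G), B G S → Wide S → MvAct (S : Subgroup G) →
    ∀ (ι : Type u) [Finite ι] (W : ι → Subgroup G), CM (S : Subgroup G) W → (∃ i j : ι, i ≠ j) →
      Left (S : Subgroup G) W → ∀ (κ : Type u) [Finite κ] (N E D l : κ → Subgroup G) (q : κ → ℕ) (side : κ → ι),
        NBs (S : Subgroup G) N E D l q → Src (S : Subgroup G) N l q → Fits N W side → AllB (S : Subgroup G) N →
          PermL (S : Subgroup G) l side

/-- two natural blocks, no fields (TEXT W2) -/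
def WLeftOne : Prop :=
  ∀ (G : Type u) [Group G] [Finite G], K G → ∀ (S : Sylow 2 G), B G S → Wide S → MvAct (S : Subgroup G) →
    ∀ W : Fin 2 → Subgroup G, CM (S : Subgroup G) (fun i : ULift.{u} (Fin 2) => W i.down) →
      Left (S : Subgroup G) W → ∀ (E D l : Fin 2 → Subgroup G) (q : Fin 2 → ℕ),
        NBs (S : Subgroup G) (fun i : ULift.{u} (Fin 2) => W i.down) (fun i => E i.down) (fun i => D i.down)
          (fun i => l i.down) (fun i => q i.down) →
          Src (S : Subgroup G) (fun i : ULift.{u} (Fin 2) => W i.down) (fun i => l i.down) (fun i => q i.down) →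
          AllB (S : Subgroup G) W →
          (∀ c ∈ centralizer (zc (S : Subgroup G) : Set G), ∀ i, c ∈ normalizer (l i : Set G)) →
          NoFld (S : Subgroup G) W l → IsKnownSimple' G

/-- two natural blocks, fields -/
def WLeftFld : Prop :=
  ∀ (G : Type u) [Group G] [Finite G], K G → ∀ (S : Sylow 2 G), B G S → Wide S → MvAct (S : Subgroup G) →
    ∀ W : Fin 2 → Subgroup G, CM (S : Subgroup G) (fun i : ULift.{u} (Fin 2) => W i.down) →
      Left (S : Subgroup G) W → ∀ (E D l : Fin 2 → Subgroup G) (q : Fin 2 → ℕ),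
        NBs (S : Subgroup G) (fun i : ULift.{u} (Fin 2) => W i.down) (fun i => E i.down) (fun i => D i.down)
          (fun i => l i.down) (fun i => q i.down) →
          Src (S : Subgroup G) (fun i : ULift.{u} (Fin 2) => W i.down) (fun i => l i.down) (fun i => q i.down) →
          AllB (S : Subgroup G) W →
          (∀ c ∈ centralizer (zc (S : Subgroup G) : Set G), ∀ i, c ∈ normalizer (l i : Set G)) →
          ¬ NoFld (S : Subgroup G) W l → IsKnownSimple' G

/-- at least three natural blocks -/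
def WLeftMany : Prop :=
  ∀ (G : Type u) [Group G] [Finite G], K G → ∀ (S : Sylow 2 G), B G S → Wide S → MvAct (S : Subgroup G) →
    ∀ (ι : Type u) [Finite ι] (W : ι → Subgroup G), CM (S : Subgroup G) W → (∃ i j : ι, i ≠ j) →
      Left (S : Subgroup G) W → ∀ (κ : Type u) [Finite κ] (N E D l : κ → Subgroup G) (q : κ → ℕ) (side : κ → ι),
        NBs (S : Subgroup G) N E D l q → Src (S : Subgroup G) N l q → Fits N W side → AllB (S : Subgroup G) N →
          PermL (S : Subgroup G) l side → (∀ a b : κ, ∃ c, c ≠ a ∧ c ≠ b) → IsKnownSimple' G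

end two

/-! ### One class -/

section one

/-- **(K-free) the block theorem for an irreducible `V*`** : natural blocks, `q ≥ 4`, or `𝔽₂`-blocks -/
def OneBlk : Prop :=
  ∀ (G : Type u) [Group G] [Finite G] (S : Sylow 2 G), Wide S → MvAct (S : Subgroup G) →
    CM (S : Subgroup G) (fun _ : PUnit.{u + 1} => Wd (S : Subgroup G)) →
    (∃ (ι : Type u) (_ : Finite ι) (N E D l : ι → Subgroup G) (q : ℕ), 4 ≤ q ∧ Nonempty ι ∧
      NBs (S : Subgroup G) N E D l (fun _ => q) ∧ Src (S : Subgroup G) N l (fun _ => q)) ∨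
    ∃ (I : Type u) (_ : Fintype I) (_ : DecidableEq I) (N E : I → Subgroup G) (Om : I → Type u)
      (_ : ∀ i, Fintype (Om i)) (_ : ∀ i, DecidableEq (Om i)) (phi : ∀ i, Finset (Om i) → G), Bks S N E ⊥ Om phi

variable (K : Cls.{u}) (B : Fr.{u})

/-- `𝔽₂`-blocks, one class -/
def WOneS : Prop :=
  ∀ (G : Type u) [Group G] [Finite G], K G → ∀ (S : Sylow 2 G), B G S → Wide S → MvAct (S : Subgroup G) →
    CM (S : Subgroup G) (fun _ : PUnit.{u + 1} => Wd (S : Subgroup G)) →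
      ∀ (I : Type u) [Fintype I] [DecidableEq I] (N E : I → Subgroup G) (Om : I → Type u)
        [∀ i, Fintype (Om i)] [∀ i, DecidableEq (Om i)] (phi : ∀ i, Finset (Om i) → G), Bks S N E ⊥ Om phi →
          IsKnownSimple' G

/-- natural blocks, `q ≥ 4`, one class, `ι` as given -/
def WOneN (p : Type u → Prop) : Prop :=
  ∀ (G : Type u) [Group G] [Finite G], K G → ∀ (S : Sylow 2 G), B G S → Wide S → MvAct (S : Subgroup G) →
    CM (S : Subgroup G) (fun _ : PUnit.{u + 1} => Wd (S : Subgroup G)) →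
      ∀ (ι : Type u) [Finite ι] (N E D l : ι → Subgroup G) (q : ℕ), 4 ≤ q →
        NBs (S : Subgroup G) N E D l (fun _ => q) → Src (S : Subgroup G) N l (fun _ => q) →
        p ι → IsKnownSimple' G

/-- one block -/
def WOneOne : Prop := WOneN K B fun ι => Nat.card ι = 1

/-- two blocks -/
def WOneTwo : Prop := WOneN K B fun ι => Nat.card ι = 2

/-- at least three blocks -/
def WOneMany : Prop := WOneN K B fun ι => 3 ≤ Nat.card ι

end one

section trees

variable {K : Cls.{u}} {B : Fr.{u}}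

/-- reindexing of `Blk.Dec` -/
theorem dec_equiv {G : Type u} [Group G] {ι κ : Type u} {S L U R₀ : Subgroup G} {N E : ι → Subgroup G}
    (h : Blk.Dec S L U N E R₀) (e : κ ≃ ι) : Blk.Dec S L U (fun k => N (e k)) (fun k => E (e k)) R₀ where
  SL := h.SL
  LU := h.LU
  ab := h.ab
  sup := by rw [← h.sup]; congr 1; exact e.iSup_comp (g := N)
  ind k := by
    rw [eq_bot_iff, ← h.ind (e k)]
    refine inf_le_inf_left _ (sup_le_sup_right (iSup_le fun j => ?_) _)
    exact le_iSup (fun j : {j // j ≠ e k} => N j) ⟨e j, fun hj => j.2 (e.injective hj)⟩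
  ne k := h.ne _
  Rnor := h.Rnor
  EL k := h.EL _
  CE k := h.CE _
  perm g hg k := by
    obtain ⟨c, h1, h2⟩ := h.perm g hg (e k)
    exact ⟨e.symm c, by rw [e.apply_symm_apply]; exact h1, by rw [e.apply_symm_apply]; exact h2⟩
  EN k := h.EN _
  EC j k hjk := h.EC _ _ fun h1 => hjk (e.injective h1)
  ER k := h.ER _

/-- reindexing of `NBs` -/
theorem nbs_equiv {G : Type u} [Group G] {ι κ : Type u} {S : Subgroup G} {N E D l : ι → Subgroup G} {q : ι → ℕ}
    (h : NBs S N E D l q) (e : κ ≃ ι) :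
    NBs S (fun k => N (e k)) (fun k => E (e k)) (fun k => D (e k)) (fun k => l (e k)) fun k => q (e k) where
  dec := dec_equiv h.dec e
  memE k g := by
    rw [h.memE]
    refine and_congr_right fun _ => ⟨fun h1 c hc => h1 _ fun h2 => hc (e.injective h2), fun h1 c hc => ?_⟩
    have h2 := h1 (e.symm c) fun h3 => hc (by rw [← h3, e.apply_symm_apply])
    rwa [e.apply_symm_apply] at h2
  DE k := h.DE _
  nat k := h.nat _
  perm g hg k := by
    obtain ⟨c, h1, h2⟩ := h.perm g hg (e k)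
    exact ⟨e.symm c, by rw [e.apply_symm_apply]; exact h1, by rw [e.apply_symm_apply]; exact h2⟩
  ln s hs k := by
    obtain ⟨c, h1⟩ := h.ln s hs (e k)
    exact ⟨e.symm c, by rw [e.apply_symm_apply]; exact h1⟩
  sD s hs k := by
    obtain ⟨c, h1⟩ := h.sD s hs (e k)
    exact ⟨e.symm c, by rw [e.apply_symm_apply]; exact h1⟩
  permN g hg k := by
    obtain ⟨c, h1⟩ := h.permN g hg (e k)
    exact ⟨e.symm c, by rw [e.apply_symm_apply]; exact h1⟩
  lnY g hg k := by
    obtain ⟨c, x, hx, h1, h2⟩ := h.lnY g hg (e k)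
    refine ⟨e.symm c, x, ?_, ?_, ?_⟩
    · rwa [e.apply_symm_apply]
    · rw [e.apply_symm_apply]; exact h1
    · rw [e.apply_symm_apply]; exact h2

/-- reindexing of `Src` -/
theorem src_equiv {G : Type u} [Group G] {ι κ : Type u} {S : Subgroup G} {N l : ι → Subgroup G} {q : ι → ℕ}
    (h : Src S N l q) (e : κ ≃ ι) : Src S (fun k => N (e k)) (fun k => l (e k)) fun k => q (e k) where
  act P hP := by
    obtain ⟨F, i1, i2, i3, k, hk, M, hb, h1, h2⟩ := h.act P hP
    refine ⟨F, i1, i2, i3, k, hk, M, hb, h1, fun j => ?_⟩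
    obtain ⟨b, h3⟩ := h2 j
    exact ⟨e.symm b, by simpa using h3⟩
  mov k := by
    obtain ⟨P, hP, F, i1, i2, i3, m, hm, M, hb, h1, h2, h3⟩ := h.mov (e k)
    refine ⟨P, hP, F, i1, i2, i3, m, hm, M, hb, h1, h2, fun j => ?_⟩
    obtain ⟨c, h4⟩ := h3 j
    exact ⟨e.symm c, by simpa using h4⟩

/-- reindexing of `Co` -/
theorem co_equiv {G : Type u} [Group G] {ι : Type v} {κ : Type w} (W : ι → Subgroup G) (e : κ ≃ ι) (k : κ) :
    Co (fun k => W (e k)) k = Co W (e k) := by
  refine le_antisymm (iSup_le fun j => ?_) (iSup_le fun j => ?_)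
  · exact le_iSup (fun j : {j // j ≠ e k} => W j) ⟨e j, fun hj => j.2 (e.injective hj)⟩
  · have h1 : e.symm j ≠ k := fun h2 => j.2 ((e.apply_symm_apply _).symm.trans (congrArg e h2))
    have h2 : W (e (e.symm j)) ≤ ⨆ j : {j // j ≠ k}, W (e j) :=
      le_iSup (fun j : {j // j ≠ k} => W (e j)) ⟨e.symm j, h1⟩
    rw [e.apply_symm_apply] at h2
    exact h2

/-- reindexing of `Left` -/
theorem left_equiv {G : Type u} [Group G] {ι : Type v} {κ : Type w} {S : Subgroup G} {W : ι → Subgroup G}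
    (h : Left S W) (e : κ ≃ ι) : Left S fun k => W (e k) := fun k x y h1 h2 => by
  rw [co_equiv W e k] at h1 h2
  exact h _ x y h1 h2

/-- **at least two classes from their sockets** -/
theorem wMul_of (hl : LeftBlk.{u}) (ha : LeftAll B) (hp : LeftPerm B) (hr : WRun K B) (h1 : WLeftOne K B)
    (hf : WLeftFld K B) (h3 : WLeftMany K B) : WMul K B := by
  classical
  intro G _ _ hK S hB hW hm ι _ W hCM hij
  by_cases hL : Left (S : Subgroup G) W
  swap
  · exact hr G hK S hB hW hm ι W hCM hij hL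
  obtain ⟨κ, _, N, E, D, l, q, side, hN, hsrc, hfit⟩ := hl G S hW hm ι W hCM hij hL
  have hall := ha G S hB hW hm ι W hCM hij hL κ N E D l q side hN hsrc hfit
  have hperm := hp G S hB hW hm ι W hCM hij hL κ N E D l q side hN hsrc hfit hall
  by_cases h3' : ∀ a b : κ, ∃ c, c ≠ a ∧ c ≠ b
  · exact h3 G hK S hB hW hm ι W hCM hij hL κ N E D l q side hN hsrc hfit hall hperm h3'
  have hne : ∀ i : ι, ∃ b, side b = i := by
    intro i
    by_contra hc
    push Not at hc
    have h4 : W i = ⊥ := by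
      rw [hfit i, eq_bot_iff]
      exact iSup_le fun b => absurd b.2 (hc b.1)
    exact hCM.ne i h4
  obtain ⟨i0, i1, hi01⟩ := hij
  obtain ⟨b0, hb0⟩ := hne i0
  obtain ⟨b1, hb1⟩ := hne i1
  have h01 : b0 ≠ b1 := by
    rintro rfl
    exact hi01 (hb0.symm.trans hb1)
  have hallb : ∀ k, k = b0 ∨ k = b1 := by
    push Not at h3'
    obtain ⟨a, b, hab⟩ := h3'
    have h5 : ∀ k, k = a ∨ k = b := fun k => by
      by_contra hk
      push Not at hk
      exact hk.2 (hab k hk.1)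
    intro k
    rcases h5 k with h6 | h6 <;> rcases h5 b0 with h7 | h7 <;> rcases h5 b1 with h8 | h8 <;>
      first
        | exact Or.inl (h6.trans h7.symm)
        | exact Or.inr (h6.trans h8.symm)
        | exact absurd (h7.trans h8.symm) h01
  have hinj : Function.Injective side := by
    intro b b' hbb
    rcases hallb b with rfl | rfl <;> rcases hallb b' with rfl | rfl
    · rfl
    · exact absurd (hb0.symm.trans (hbb.trans hb1)) hi01
    · exact absurd (hb0.symm.trans (hbb.symm.trans hb1)) hi01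
    · rfl
  let g : ULift.{u} (Fin 2) → κ := fun i => if i.down = 0 then b0 else b1
  have hg0 : g ⟨0⟩ = b0 := rfl
  have hg1 : g ⟨1⟩ = b1 := rfl
  have hgb : Function.Bijective g := by
    constructor
    · rintro ⟨a⟩ ⟨b⟩ hab
      fin_cases a <;> fin_cases b
      · rfl
      · exact absurd hab h01
      · exact absurd hab.symm h01
      · rfl
    · intro k
      rcases hallb k with h | h
      · exact ⟨⟨0⟩, by rw [h]; rfl⟩
      · exact ⟨⟨1⟩, by rw [h]; rfl⟩
  have hsb : Function.Bijective side := ⟨hinj, hne⟩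
  let eg : ULift.{u} (Fin 2) ≃ κ := Equiv.ofBijective g hgb
  let es : κ ≃ ι := Equiv.ofBijective side hsb
  have hWN : ∀ b : κ, W (side b) = N b := by
    intro b
    rw [hfit (side b)]
    refine le_antisymm (iSup_le fun c => ?_) (le_iSup (fun c : {c // side c = side b} => N c) ⟨b, rfl⟩)
    rw [hinj c.2]
  have hCM2 : CM (S : Subgroup G) (fun i : ULift.{u} (Fin 2) => N (g i)) := by
    have h5 := hCM.equiv (eg.trans es)
    have h6 : (fun i : ULift.{u} (Fin 2) => W ((eg.trans es) i)) = fun i => N (g i) := by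
      funext i
      exact hWN (g i)
    rwa [h6] at h5
  let dn : Fin 2 ≃ ULift.{u} (Fin 2) := Equiv.ulift.symm
  have hL2 : Left (S : Subgroup G) (fun i : Fin 2 => N (g ⟨i⟩)) := by
    have h5 := left_equiv hL (dn.trans (eg.trans es))
    have h6 : (fun i : Fin 2 => W ((dn.trans (eg.trans es)) i)) = fun i => N (g ⟨i⟩) := by
      funext i
      exact hWN (g ⟨i⟩)
    rwa [h6] at h5
  have hNB := nbs_equiv hN eg
  have hS2 := src_equiv hsrc eg
  have hA2 : AllB (S : Subgroup G) (fun i : Fin 2 => N (g ⟨i⟩)) := fun i => hall (g ⟨i⟩)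
  have hcl : ∀ c ∈ centralizer (zc (S : Subgroup G) : Set G), ∀ i : Fin 2, c ∈ normalizer (l (g ⟨i⟩) : Set G) := by
    intro c hc i
    obtain ⟨b', h5, h6⟩ := hperm c hc (g ⟨i⟩)
    rw [hinj h5] at h6
    rw [mem_normalizer_iff]
    intro x
    nth_rw 2 [← h6]
    rw [← MulAut.conj_apply]
    exact (smul_mem_pointwise_smul_iff (a := MulAut.conj c) (S := l (g ⟨i⟩)) (x := x)).symm
  by_cases hF : NoFld (S : Subgroup G) (fun i : Fin 2 => N (g ⟨i⟩)) fun i => l (g ⟨i⟩)
  · exact h1 G hK S hB hW hm (fun i => N (g ⟨i⟩)) hCM2 hL2 (fun i => E (g ⟨i⟩)) (fun i => D (g ⟨i⟩))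
      (fun i => l (g ⟨i⟩)) (fun i => q (g ⟨i⟩)) hNB hS2 hA2 hcl hF
  · exact hf G hK S hB hW hm (fun i => N (g ⟨i⟩)) hCM2 hL2 (fun i => E (g ⟨i⟩)) (fun i => D (g ⟨i⟩))
      (fun i => l (g ⟨i⟩)) (fun i => q (g ⟨i⟩)) hNB hS2 hA2 hcl hF

/-- **one class from its sockets** -/
theorem wOne_of (hc : OneBlk.{u}) (hs : WOneS K B) (h1 : WOneOne K B) (h2 : WOneTwo K B) (h3 : WOneMany K B) :
    WOne K B := by
  intro G _ _ hK S hB hW hm hCM
  rcases hc G S hW hm hCM with ⟨ι, _, N, E, D, l, q, hq, hne, h, hsrc⟩ | ⟨I, i1, i2, N, E, Om, i3, i4, phi, h⟩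
  · have h0 : 0 < Nat.card ι := Nat.card_pos
    by_cases e1 : Nat.card ι = 1
    · exact h1 G hK S hB hW hm hCM ι N E D l q hq h hsrc e1
    by_cases e2 : Nat.card ι = 2
    · exact h2 G hK S hB hW hm hCM ι N E D l q hq h hsrc e2
    exact h3 G hK S hB hW hm hCM ι N E D l q hq h hsrc (by omega)
  · exact hs G hK S hB hW hm hCM I N E Om phi h

end trees

end Cfsg.Agent.Omega.NOThreeL.RRed.WideTree
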