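import Cfsg.Agent.Omega.NOThreeL.RRed.TvOrbs
import Cfsg.Agent.Omega.NOThreeL.RRed.Base
import Cfsg.Agent.Omega.NOThreeL.RZ.Fact

/-!
# `N_G(S)` permutes the blocks (transvection type)

* `pair_le` : the even sets are generated by the pairs;
* `perm_of` : over `TvFin.Full S M V N E R₀ Om phi`, every `g` which normalises `M` and `V` permutes the `N b`
  (a block is a class of non-commuting transpositions, `N b` is generated by their centres);
* **`permN`** : `N_G(S)` permutes the blocks of `V* = Wd S`.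
-/

set_option autoImplicit false
set_option linter.unusedSectionVars false

namespace Cfsg.Agent.Omega.NOThreeL.RRed.FourPermN

open Subgroup Cfsg
open Cfsg.Agent.Omega.KL.TwoS (Rel Lett)
open Cfsg.Agent.Omega.NOThreeL.RRed.TvFin (Full TvV)
open Cfsg.Agent.Omega.NOThreeL.RRed.Blk (Dec Co)
open Cfsg.Agent.Omega.NOThreeL.Merge (MZ)
open scoped Pointwise

universe u

variable {G : Type u} [Group G]

section lett

variable {Ω : Type u} [Fintype Ω] [DecidableEq Ω] {V R : Subgroup G} {φ : Finset Ω → G} (L : Lett V R φ)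
include L

theorem pair_le {K : Subgroup G} (hK : ∀ p q, p ≠ q → φ {p, q} ∈ K) : V ≤ K := by
  refine TvTr.diff_le L fun p q => ?_
  rw [TvTr.erase_mul L, ← L.mul]
  by_cases h : p = q
  · subst h
    rw [symmDiff_self, Finset.bot_eq_empty, L.phi_empty]
    exact one_mem _
  · have e : symmDiff {p} {q} = ({p, q} : Finset Ω) := by
      ext x
      rw [Finset.mem_symmDiff, Finset.mem_singleton, Finset.mem_singleton, Finset.mem_insert, Finset.mem_singleton]
      constructor
      · rintro (⟨h1, -⟩ | ⟨h1, -⟩)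
        · exact Or.inl h1
        · exact Or.inr h1
      · rintro (h1 | h1)
        · exact Or.inl ⟨h1, fun h2 => h (h1.symm.trans h2)⟩
        · exact Or.inr ⟨h1, fun h2 => h (h2.symm.trans h1)⟩
    rw [e]
    exact hK p q h

/-- the transposition `(p q)` moves `{p, r}` -/
theorem swap_moves {x : G} {p q r : Ω} (hpq : p ≠ q) (hpr : p ≠ r) (hqr : q ≠ r)
    (hx : Rel φ x (Equiv.swap p q)) : x * φ {p, r} * x⁻¹ ≠ φ {p, r} := by
  intro h
  rw [L.pair hx hpr, Equiv.swap_apply_left, Equiv.swap_apply_of_ne_of_ne hpr.symm hqr.symm] at h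
  have h1 := L.phi_inj (by rw [Finset.card_pair hqr]; exact even_two) (by rw [Finset.card_pair hpr]; exact even_two) h
  have h2 : p ∈ ({q, r} : Finset Ω) := by rw [h1]; exact Finset.mem_insert_self _ _
  rw [Finset.mem_insert, Finset.mem_singleton] at h2
  rcases h2 with h2 | h2
  · exact hpq h2
  · exact hpr h2

theorem exists_third (h3 : 3 ≤ Fintype.card Ω) (a b : Ω) : ∃ c, c ≠ a ∧ c ≠ b := by
  obtain ⟨c, hc⟩ : ∃ c, c ∉ ({a, b} : Finset Ω) := by
    by_contra hcon
    push Not at hcon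
    have h1 : (Finset.univ : Finset Ω) ⊆ {a, b} := fun x _ => hcon x
    have h2 := Finset.card_le_card h1
    rw [Finset.card_univ] at h2
    have h4 : ({a, b} : Finset Ω).card ≤ 2 := Finset.card_le_two
    omega
  rw [Finset.mem_insert, Finset.mem_singleton, not_or] at hc
  exact ⟨c, hc⟩

end lett

section full

variable {S M V : Subgroup G} {I : Type u} {N E : I → Subgroup G} {R₀ : Subgroup G} {Om : I → Type u}
    [∀ i, Fintype (Om i)] [∀ i, DecidableEq (Om i)] {phi : ∀ i, Finset (Om i) → G}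
    (F : Full S M V N E R₀ Om phi)
include F

theorem phi_mem {b : I} {p q : Om b} (hpq : p ≠ q) : phi b {p, q} ∈ N b :=
  ((F.lett b).mem _).2 ⟨_, by rw [Finset.card_pair hpq]; exact even_two, rfl⟩

theorem phi_ne {b : I} {p q : Om b} (hpq : p ≠ q) : phi b {p, q} ≠ 1 := fun h => by
  have h1 := (F.lett b).inj _ (by rw [Finset.card_pair hpq]; exact even_two) h
  have h2 : p ∈ ({p, q} : Finset (Om b)) := Finset.mem_insert_self _ _
  rw [h1] at h2
  exact absurd h2 (Finset.notMem_empty p)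

/-- blocks are independent -/
theorem eq_of_mem {i j : I} {v : G} (hi : v ∈ N i) (hj : v ∈ N j) (h1 : v ≠ 1) : i = j := by
  by_contra hij
  have h2 : v ∈ N i ⊓ ((⨆ c : {c // c ≠ i}, N c) ⊔ R₀) :=
    ⟨hi, mem_sup_left (mem_iSup_of_mem ⟨j, fun h => hij h.symm⟩ hj)⟩
  rw [F.toDec.ind i, mem_bot] at h2
  exact h1 h2

/-- the image of a transposition -/
theorem pair_map {g : G} (hM : g ∈ normalizer (M : Set G)) (hV : g ∈ normalizer (V : Set G)) {b : I} {p q : Om b}
    (hpq : p ≠ q) : ∃ i, ∃ x ∈ E b, Rel (phi b) x (Equiv.swap p q) ∧ g * x * g⁻¹ ∈ E i ∧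
      g * phi b {p, q} * g⁻¹ ∈ N i := by
  obtain ⟨x, hx, hr, ht⟩ := F.swap b p q hpq
  have hxM : x ∈ M := F.toDec.EL b hx
  have hyM : g * x * g⁻¹ ∈ M := (mem_normalizer_iff.1 hM x).1 hxM
  have hcV : g * phi b {p, q} * g⁻¹ ∈ V := (mem_normalizer_iff.1 hV _).1 (F.toDec.NU b (phi_mem F hpq))
  have hT : TvV V (g * phi b {p, q} * g⁻¹) (g * x * g⁻¹) := by
    intro w hw
    have hw' : g⁻¹ * w * g ∈ V := by
      have h1 := (mem_normalizer_iff.1 (inv_mem hV) w).1 hw
      rwa [inv_inv] at h1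
    rcases ht _ hw' with h1 | h1
    · left
      calc g * x * g⁻¹ * w * (g * x * g⁻¹)⁻¹ = g * (x * (g⁻¹ * w * g) * x⁻¹) * g⁻¹ := by group
        _ = w := by rw [h1]; group
    · right
      calc g * x * g⁻¹ * w * (g * x * g⁻¹)⁻¹ = g * (x * (g⁻¹ * w * g) * x⁻¹) * g⁻¹ := by group
        _ = w * (g * phi b {p, q} * g⁻¹) := by rw [h1]; group
  have hne : g * x * g⁻¹ ∉ centralizer (V : Set G) := by
    intro h
    obtain ⟨r, hr1, hr2⟩ := exists_third (F.lett b) (F.three b) p q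
    refine swap_moves (F.lett b) hpq (r := r) hr1.symm hr2.symm hr ?_
    have h1 : g * phi b {p, r} * g⁻¹ ∈ V := (mem_normalizer_iff.1 hV _).1 (F.toDec.NU b (phi_mem F hr1.symm))
    have h2 := mem_centralizer_iff.1 h _ h1
    have h3 : phi b {p, r} * x = x * phi b {p, r} := by
      have h4 : g * (phi b {p, r} * x) * g⁻¹ = g * (x * phi b {p, r}) * g⁻¹ := by
        calc g * (phi b {p, r} * x) * g⁻¹ = g * phi b {p, r} * g⁻¹ * (g * x * g⁻¹) := by group
          _ = g * x * g⁻¹ * (g * phi b {p, r} * g⁻¹) := h2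
          _ = _ := by group
      exact mul_left_cancel (mul_right_cancel h4)
    rw [← h3]
    group
  obtain ⟨i, h1, a, a', haa, h2, -⟩ := F.tvs _ hyM _ hcV hT hne
  refine ⟨i, x, hx, hr, h1, ?_⟩
  rw [h2]
  exact phi_mem F haa

/-- pairs with a common letter go to the same block -/
theorem pair_step {g : G} (hM : g ∈ normalizer (M : Set G)) (hV : g ∈ normalizer (V : Set G)) {b i : I} {p q r : Om b}
    (hpq : p ≠ q) (hpr : p ≠ r) (hi : g * phi b {p, q} * g⁻¹ ∈ N i) : g * phi b {p, r} * g⁻¹ ∈ N i := by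
  by_cases hqr : q = r
  · rwa [← hqr]
  obtain ⟨i₁, x, hx, hrx, hy, hc⟩ := pair_map F hM hV hpq
  obtain ⟨i₂, -, -, -, -, hc'⟩ := pair_map F hM hV hpr
  have hne : g * phi b {p, q} * g⁻¹ ≠ 1 := fun h => phi_ne F hpq (by
    have h1 : g * phi b {p, q} * g⁻¹ = g * 1 * g⁻¹ := by rw [h]; group
    exact mul_left_cancel (mul_right_cancel h1))
  have e1 : i₁ = i := eq_of_mem F hc hi hne
  have e2 : i₁ = i₂ := by
    by_contra h12
    refine swap_moves (F.lett b) hpq hpr hqr hrx ?_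
    have h2 := mem_centralizer_iff.1 (F.toDec.EC i₁ i₂ h12 hy) _ hc'
    have h3 : phi b {p, r} * x = x * phi b {p, r} := by
      have h4 : g * (phi b {p, r} * x) * g⁻¹ = g * (x * phi b {p, r}) * g⁻¹ := by
        calc g * (phi b {p, r} * x) * g⁻¹ = g * phi b {p, r} * g⁻¹ * (g * x * g⁻¹) := by group
          _ = g * x * g⁻¹ * (g * phi b {p, r} * g⁻¹) := h2
          _ = _ := by group
      exact mul_left_cancel (mul_right_cancel h4)
    rw [← h3]
    group
  rw [← e1, e2]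
  exact hc'

theorem le_of {g : G} (hM : g ∈ normalizer (M : Set G)) (hV : g ∈ normalizer (V : Set G)) (b : I) :
    ∃ i, ∀ v ∈ N b, g * v * g⁻¹ ∈ N i := by
  have h3 := F.three b
  obtain ⟨p₀⟩ : Nonempty (Om b) := Fintype.card_pos_iff.1 (by omega)
  obtain ⟨q₀, hq₀, -⟩ := exists_third (F.lett b) h3 p₀ p₀
  obtain ⟨i, -, -, -, -, h0⟩ := pair_map F hM hV hq₀.symm
  have h1 : ∀ r, p₀ ≠ r → g * phi b {p₀, r} * g⁻¹ ∈ N i := fun r hr => pair_step F hM hV hq₀.symm hr h0
  have h2 : ∀ p q, p ≠ q → phi b {p, q} ∈ (N i).comap (MulAut.conj g).toMonoidHom := by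
    intro p q hpq
    show g * phi b {p, q} * g⁻¹ ∈ N i
    by_cases e : p₀ = p
    · rw [← e]
      exact h1 q (by rw [e]; exact hpq)
    · have h4 := h1 p e
      rw [Finset.pair_comm] at h4
      exact pair_step F hM hV (fun h => e h.symm) hpq h4
  refine ⟨i, fun v hv => ?_⟩
  exact pair_le (F.lett b) h2 hv

/-- **`N(M) ∩ N(V)` permutes the blocks.** -/
theorem perm_of {g : G} (hM : g ∈ normalizer (M : Set G)) (hV : g ∈ normalizer (V : Set G)) (b : I) :
    ∃ i, MulAut.conj g • N b = N i := by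
  obtain ⟨i, h1⟩ := le_of F hM hV b
  obtain ⟨j, h2⟩ := le_of F (inv_mem hM) (inv_mem hV) i
  have hj : b = j := by
    obtain ⟨⟨v, hv⟩, hv1⟩ := (Subgroup.ne_bot_iff_exists_ne_one).1 (F.toDec.ne b)
    refine eq_of_mem F hv ?_ (v := v) (fun h => hv1 (Subtype.ext h))
    have h3 := h2 _ (h1 v hv)
    have e : g⁻¹ * (g * v * g⁻¹) * g⁻¹⁻¹ = v := by group
    rwa [e] at h3
  subst hj
  refine ⟨i, le_antisymm ?_ ?_⟩
  · rintro _ ⟨v, hv, rfl⟩
    exact h1 v hv
  · intro w hw
    refine ⟨g⁻¹ * w * g, ?_, ?_⟩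
    · have h3 := h2 w hw
      rwa [inv_inv] at h3
    · show g * (g⁻¹ * w * g) * g⁻¹ = w
      group

end full

section inst

variable [Finite G] {S : Sylow 2 G} {I : Type u} {N E : I → Subgroup G} {R₀ : Subgroup G} {Om : I → Type u}
    [∀ i, Fintype (Om i)] [∀ i, DecidableEq (Om i)] {phi : ∀ i, Finset (Om i) → G}

/-- **`N_G(S)` permutes the blocks of `V*`.** -/
theorem permN (F : Full (S : Subgroup G) (MZ (S : Subgroup G)) (Wd (S : Subgroup G)) N E R₀ Om phi) :
    ∀ g ∈ normalizer ((S : Subgroup G) : Set G), ∀ b, ∃ c, MulAut.conj g • N b = N c := fun g hg b =>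
  perm_of F (show g ∈ normalizer (Star.YS (S : Subgroup G) : Set G) from RZ.Frm.nS_ys hg)
    (show g ∈ normalizer (Cfsg.Agent.ZN.zl (S : Subgroup G) (Star.YS (S : Subgroup G)) : Set G) from
      RZ.Frm.nS_Vs hg) b

end inst

end Cfsg.Agent.Omega.NOThreeL.RRed.FourPermN
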