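import Cfsg.Agent.Omega.KL.TwoS.Fr
import Cfsg.Agent.Omega.NOThreeL.RWide.PIn

/-!
# NO-3L, box R: pure members of `𝒜(O)` (helper258)

`O ≥ N b` el. ab., every `A ∈ 𝒜(O)` acts on `N b` trivially or as the full root group with line `l b` (`RootOn`).

* `root_cen` : `N ⊓ C(A) = l` if `A` moves `N`; `relIndex_left`, `relIndex_right` : the two indices are `|l|`;
* `cut` : `C_A(N c) N c ∈ 𝒜(O)` moves `N b`;
* **`exists_pure`** : some `A ∈ 𝒜(O)` moves `N b` and centralises all other `N c`.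
-/

set_option autoImplicit false
set_option linter.unusedSectionVars false

namespace Cfsg.Agent.Omega.NOThreeL.RRed.UPure

open Subgroup Cfsg Cfsg.Agent.Omega.NOThreeL.RWide
open Cfsg.Agent.Omega.KL.TwoS (Mx)
open Cfsg.Agent.Omega.TC.LemZ (card_eq)

universe u v

variable {G : Type u} [Group G] [Finite G] {O A V Z : Subgroup G}

/-- `v ∈ V \ Z` exists -/
theorem exists_not (hZV : Z ≤ V) (hc : Nat.card V = Nat.card Z ^ 2) (hne : Z ≠ ⊥) : ∃ v ∈ V, v ∉ Z := by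
  by_contra hcon
  push Not at hcon
  have h1 : V = Z := le_antisymm hcon hZV
  rw [h1] at hc
  have h2 : 1 < Nat.card Z := (Subgroup.one_lt_card_iff_ne_bot _).2 hne
  nlinarith

theorem root_cen (hr : RootOn A V Z) (hZV : Z ≤ V) (hZ : Z ≠ ⊥) (hm : ¬ A ≤ centralizer (V : Set G)) :
    V ⊓ centralizer (A : Set G) = Z := by
  refine le_antisymm ?_ (le_inf hZV fun z hz => mem_centralizer_iff.2 fun a ha => hr.fixZ a ha z hz)
  rintro v ⟨hv, hvA⟩
  by_contra hvZ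
  rcases hr.full with h1 | h1
  · exact hm h1
  · obtain ⟨z, hz⟩ := Subgroup.ne_bot_iff_exists_ne_one.1 hZ
    obtain ⟨f, hf, h2⟩ := (h1 v hv hvZ).1 z z.2
    have h3 := mem_centralizer_iff.1 hvA f hf
    apply hz
    apply Subtype.ext
    rw [← h2, h3]
    simp

theorem relIndex_left (hr : RootOn A V Z) (hZV : Z ≤ V) (hV : V ≤ centralizer (V : Set G)) (hZ : Z ≠ ⊥)
    (hc : Nat.card V = Nat.card Z ^ 2) (hm : ¬ A ≤ centralizer (V : Set G)) :
    (centralizer (V : Set G)).relIndex A = Nat.card Z := by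
  obtain ⟨v, hv, hvZ⟩ := exists_not hZV hc hZ
  rcases hr.full with h1 | h1
  · exact absurd h1 hm
  obtain ⟨h2, h3⟩ := h1 v hv hvZ
  have hmul : ∀ f g : A, (f * g : A).1 * v * (f * g : A).1⁻¹ * v⁻¹ =
      (f.1 * v * f.1⁻¹ * v⁻¹) * (g.1 * v * g.1⁻¹ * v⁻¹) := by
    intro f g
    have e1 := hr.comm f f.2 v hv
    have e2 := hr.comm g g.2 v hv
    have e3 := hr.fixZ f f.2 _ e2
    have e4 : (g.1 * v * g.1⁻¹ * v⁻¹) * (f.1 * v * f.1⁻¹ * v⁻¹) =
      (f.1 * v * f.1⁻¹ * v⁻¹) * (g.1 * v * g.1⁻¹ * v⁻¹) := (mem_centralizer_iff.1 (hV (hZV e1)) _ (hZV e2))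
    rw [← e4, Subgroup.coe_mul]
    calc f.1 * g.1 * v * (f.1 * g.1)⁻¹ * v⁻¹ = (f.1 * (g.1 * v * g.1⁻¹ * v⁻¹)) * (v * f.1⁻¹ * v⁻¹) := by group
      _ = ((g.1 * v * g.1⁻¹ * v⁻¹) * f.1) * (v * f.1⁻¹ * v⁻¹) := by rw [e3]
      _ = _ := by group
  let φ : A →* G := MonoidHom.mk' (fun f => f.1 * v * f.1⁻¹ * v⁻¹) hmul
  have hran : φ.range = Z := by
    apply le_antisymm
    · rintro _ ⟨f, rfl⟩
      exact hr.comm f f.2 v hv
    · intro z hz
      obtain ⟨f, hf, e⟩ := h2 z hz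
      exact ⟨⟨f, hf⟩, e⟩
  have hker : φ.ker = (centralizer (V : Set G)).subgroupOf A := by
    ext f
    rw [MonoidHom.mem_ker, mem_subgroupOf]
    constructor
    · intro h4
      have h5 : f.1 * v * f.1⁻¹ * v⁻¹ = 1 := h4
      exact h3 f f.2 (by
        have h6 : f.1 * v * f.1⁻¹ = v := mul_inv_eq_one.1 h5
        calc f.1 * v = (f.1 * v * f.1⁻¹) * f.1 := by group
          _ = v * f.1 := by rw [h6])
    · intro h4
      have h5 := mem_centralizer_iff.1 h4 v hv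
      show f.1 * v * f.1⁻¹ * v⁻¹ = 1
      rw [← h5]
      simp
  rw [relIndex, ← hker, Subgroup.index_ker, hran]

theorem relIndex_right (hr : RootOn A V Z) (hZV : Z ≤ V) (hZ : Z ≠ ⊥)
    (hc : Nat.card V = Nat.card Z ^ 2) (hm : ¬ A ≤ centralizer (V : Set G)) :
    (centralizer (A : Set G)).relIndex V = Nat.card Z := by
  have h1 := card_eq V (centralizer (A : Set G))
  rw [root_cen hr hZV hZ hm, hc, pow_two] at h1
  exact (Nat.eq_of_mul_eq_mul_left Nat.card_pos h1).symm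

section fam

variable {ι : Type v} {N l : ι → Subgroup G}

/-- the frame: `N b ≤ O` with line `l b` -/
structure Fam (O : Subgroup G) (N l : ι → Subgroup G) : Prop where
  NO : ∀ b, N b ≤ O
  sq : ∀ b, ∀ v ∈ N b, v ^ 2 = 1
  com : ∀ b c, N b ≤ centralizer (N c : Set G)
  dis : ∀ b c, b ≠ c → N b ⊓ N c = ⊥
  lN : ∀ b, l b ≤ N b
  lne : ∀ b, l b ≠ ⊥
  card : ∀ b, Nat.card (N b) = Nat.card (l b) ^ 2
  root : ∀ A : Subgroup G, Mx O A → ∀ b, RootOn A (N b) (l b)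

theorem Fam.cut (h : Fam O N l) (hA : Mx O A) {b c : ι} (hbc : b ≠ c) (hmb : ¬ A ≤ centralizer (N b : Set G))
    (hmc : ¬ A ≤ centralizer (N c : Set G)) : Mx O (A ⊓ centralizer (N c : Set G) ⊔ N c) ∧
      ¬ A ⊓ centralizer (N c : Set G) ⊔ N c ≤ centralizer (N b : Set G) := by
  have h1 : Mx O (A ⊓ centralizer (N c : Set G) ⊔ N c) := by
    refine hA.sup (h.NO c) (h.sq c) ?_
    rw [relIndex_left (h.root A hA c) (h.lN c) (h.com c c) (h.lne c) (h.card c) hmc,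
      relIndex_right (h.root A hA c) (h.lN c) (h.lne c) (h.card c) hmc]
  refine ⟨h1, fun h2 => hmb ?_⟩
  have h3 : N b ≤ A ⊓ centralizer (N c : Set G) ⊔ N c :=
    h1.le_of_comm (h.NO b) (h.sq b) (fun v hv => mem_centralizer_iff.2 fun a ha =>
      (mem_centralizer_iff.1 (h2 ha) v hv).symm)
  intro a ha
  refine mem_centralizer_iff.2 fun v hv => ?_
  have h4 : A ⊓ centralizer (N c : Set G) ≤ normalizer (N c : Set G) :=
    inf_le_right.trans (centralizer_le_normalizer _)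
  have h5 : v ∈ ((A ⊓ centralizer (N c : Set G) ⊔ N c : Subgroup G) : Set G) := h3 hv
  rw [coe_mul_of_left_le_normalizer_right _ _ h4] at h5
  obtain ⟨x, hx, w, hw, e⟩ := h5
  have e' : x * w = v := e
  have hax : a * x = x * a := (mem_centralizer_iff.1 (hA.comm hx.1) a ha)
  -- `[a, v] = x [a, w] x⁻¹`
  have hv1 : a * v * a⁻¹ * v⁻¹ ∈ N b := (h.lN b) ((h.root A hA b).comm a ha v hv)
  have hw1 : a * w * a⁻¹ * w⁻¹ ∈ N c := (h.lN c) ((h.root A hA c).comm a ha w hw)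
  have e1 : a * v * a⁻¹ * v⁻¹ = a * w * a⁻¹ * w⁻¹ := by
    have hxw := mem_centralizer_iff.1 hx.2 _ hw1
    calc a * v * a⁻¹ * v⁻¹ = (a * x) * w * a⁻¹ * w⁻¹ * x⁻¹ := by rw [← e']; group
      _ = x * (a * w * a⁻¹ * w⁻¹) * x⁻¹ := by rw [hax]; group
      _ = a * w * a⁻¹ * w⁻¹ := by rw [← hxw]; group
  have h6 : a * v * a⁻¹ * v⁻¹ ∈ N b ⊓ N c := ⟨hv1, e1 ▸ hw1⟩
  rw [h.dis b c hbc] at h6
  have h7 : a * v * a⁻¹ = v := mul_inv_eq_one.1 (mem_bot.1 h6)
  calc v * a = (a * v * a⁻¹) * a := by rw [h7]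
    _ = a * v := by group

/-- **pure members of `𝒜(O)`** -/
theorem Fam.exists_pure [Finite ι] (h : Fam O N l) {b : ι} (hm : ∃ A, Mx O A ∧ ¬ A ≤ centralizer (N b : Set G)) :
    ∃ A, Mx O A ∧ ¬ A ≤ centralizer (N b : Set G) ∧ ∀ c, c ≠ b → A ≤ centralizer (N c : Set G) := by
  classical
  have key : ∀ n : ℕ, ∀ A, Mx O A → ¬ A ≤ centralizer (N b : Set G) →
      Set.ncard {c | ¬ A ≤ centralizer (N c : Set G)} ≤ n →
      ∃ A, Mx O A ∧ ¬ A ≤ centralizer (N b : Set G) ∧ ∀ c, c ≠ b → A ≤ centralizer (N c : Set G) := by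
    intro n
    induction n with
    | zero =>
      intro A hA hmb hn
      exfalso
      have h1 : {c | ¬ A ≤ centralizer (N c : Set G)} = ∅ :=
        (Set.ncard_eq_zero (Set.toFinite _)).1 (Nat.le_zero.1 hn)
      have h2 : b ∈ {c | ¬ A ≤ centralizer (N c : Set G)} := hmb
      rw [h1] at h2
      exact h2
    | succ n ih =>
      intro A hA hmb hn
      by_cases hall : ∀ c, c ≠ b → A ≤ centralizer (N c : Set G)
      · exact ⟨A, hA, hmb, hall⟩
      · push Not at hall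
        obtain ⟨c, hc, hmc⟩ := hall
        obtain ⟨h1, h2⟩ := h.cut hA (Ne.symm hc) hmb hmc
        refine ih _ h1 h2 ?_
        have h3 : {d | ¬ A ⊓ centralizer (N c : Set G) ⊔ N c ≤ centralizer (N d : Set G)} ⊂
            {d | ¬ A ≤ centralizer (N d : Set G)} := by
          refine ⟨fun d hd hd' => hd (sup_le (inf_le_left.trans hd') (h.com c d)), fun h4 => ?_⟩
          exact h4 (show c ∈ {d | ¬ A ≤ centralizer (N d : Set G)} from hmc) (sup_le inf_le_right (h.com c c))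
        have h4 := Set.ncard_lt_ncard h3 (Set.toFinite _)
        omega
  obtain ⟨A, hA, hmb⟩ := hm
  exact key _ A hA hmb le_rfl

end fam

end Cfsg.Agent.Omega.NOThreeL.RRed.UPure
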