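import Cfsg.Agent.Omega.NOThreeL.RRed.SemiNB
import Cfsg.Agent.Omega.NOThreeL.RRed.UPure
import Cfsg.Agent.Omega.NOThreeL.RRed.Base
import Cfsg.Agent.Omega.NOThreeL.RWide.GenSL
import Cfsg.Agent.Omega.NOThreeL.RWide.TFm
import Cfsg.Agent.Omega.NOThreeL.RWide.PInInst
import Cfsg.Agent.Omega.NOThreeL.RWide.PermOne

/-!
# NO-3L, box R: natural blocks, `𝒜(O)` moves every block (helper258; head helper848 #27137 (C))

`V* = Wd S = ∏ N b`, `O = O₂(C_G(Z))`, `B = C_S(⨆ l)`, no class, no `CM`.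
* `isLong_of` : `C_G(X)` is long for `1 ≠ X ≤ Z`; `N_le_o2`, `o2_le`, `noff`;
* `fam` : the structure `UPure.Fam`; `exists_pure`, `AA_le_B` : pure members of `AA(O)`, `AA(O)` centralises `⨆ l`;
* `B_act` : `B` acts on the blocks by transvections; `gen` : the field `gen` of `NormB.NBf`;
* `par`, `nS`, `I1` : the fields of `TFm`.
-/

set_option autoImplicit false
set_option linter.unusedSectionVars false

namespace Cfsg.Agent.Omega.NOThreeL.RRed.UInst

open Subgroup Cfsg Cfsg.Agent.ZN Cfsg.Agent.ZN.ChoiceBase Cfsg.Agent.Omega.MinPar Cfsg.Agent.Omega.Frame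
open Cfsg.Agent.Omega.FrameNOFF Cfsg.Agent.Omega.Node.NO3L Cfsg.Agent.Omega.NOThreeL.Basic
open Cfsg.Agent.Omega.NOThreeL.Merge (MZ)
open Cfsg.Agent.Omega.NOThreeL.RTree (RB)
open Cfsg.Agent.Omega.NOThreeL.RRed.WideTree Cfsg.Agent.Omega.NOThreeL.RRed.SemiNB
open Cfsg.Agent.Omega.NOThreeL.RWide Cfsg.Agent.Omega.NOThreeL.RRed.UPure
open Cfsg.Agent.Omega.FFThm (NatKM)
open Cfsg.Agent.Omega.FrameFF (cv)
open Cfsg.Agent.Omega.NO3S.ThmB (Nb)
open Cfsg.Agent.Omega.NO3S.KeyRad (blk blk_le)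
open Cfsg.Agent.Omega.NOThreeL.RRed.NS (YY YY_le)
open Cfsg.Agent.MinSimple.VModule (zl_le le_normalizer_zl zc_le_zl o2_isPGroup le_normalizer_o2)

open scoped Pointwise

universe u

variable {G : Type u} [Group G] [Finite G] {S : Sylow 2 G} {ι : Type u} {N E D l : ι → Subgroup G} {q : ι → ℕ}

/-- `C_G(X)` is long for `1 ≠ X ≤ Z` -/
theorem isLong_of {X : Subgroup G} (hX : X ≤ zc (S : Subgroup G)) (hX1 : X ≠ ⊥) :
    IsLong (S : Subgroup G) (centralizer (X : Set G)) :=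
  ⟨isLoc_of_le_normalizer S ((le_CZ S).trans (centralizer_le hX))
    (S.isPGroup'.to_le (hX.trans fun _ hz => (ChoiceBase.mem_zc.1 hz).1)) hX1 (centralizer_le_normalizer _),
    centralizer_le hX⟩

theorem o2_le {X : Subgroup G} (hX : X ≤ zc (S : Subgroup G)) (hX1 : X ≠ ⊥) :
    o2 (centralizer (X : Set G)) ≤ o2 (CZ (S : Subgroup G)) := (isLong_of hX hX1).o2_le S

theorem zc_ne (hB : RB S) : zc (S : Subgroup G) ≠ ⊥ :=
  MinSimple.Basic.zc_ne_bot S.isPGroup' (hB.ctx.sylow_ne_bot S)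

theorem N_le_WP (hs : Src (S : Subgroup G) N l q) (b : ι) : N b ≤ WP (S : Subgroup G) := by
  obtain ⟨P, hP, F, i1, i2, i3, k, hk, M, h, -, ⟨j, h2, -⟩, -⟩ := hs.mov b
  rw [h2]
  exact (blk_le h j).trans (zl_le_WP hP.1)

theorem N_le_O (hB : RB S) (hs : Src (S : Subgroup G) N l q) (b : ι) : N b ≤ o2 (CZ (S : Subgroup G)) :=
  (N_le_WP hs b).trans (WP_le_Q hB.data)

theorem N_le_o2 (hB : RB S) (hs : Src (S : Subgroup G) N l q) {X : Subgroup G} (hX : X ≤ zc (S : Subgroup G))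
    (hX1 : X ≠ ⊥) (b : ι) : N b ≤ o2 (centralizer (X : Set G)) :=
  ((N_le_WP hs b).trans (WP_le_FH _ _)).trans (NotA.FH_le_o2 hB.data hB.notA (isLong_of hX hX1))

/-- `WP` is abelian -/
theorem WP_comm (hB : RB S) : ∀ v ∈ WP (S : Subgroup G), ∀ w ∈ WP (S : Subgroup G), v * w = w * v := by
  intro v hv w hw
  have h1 := NotA.FH_comm hB.ctx.char2 hB.data hB.notA (isLong_of (S := S) le_rfl (zc_ne hB))
  exact mem_centralizer_iff.1 (h1 (WP_le_FH _ _ hw)) v (WP_le_FH _ _ hv)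

theorem noff (hB : RB S) (hs : Src (S : Subgroup G) N l q) :
    ∀ x ∈ CZ (S : Subgroup G), ∀ a b, ∀ v ∈ N a, ∀ w ∈ cj x (N b), v * w = w * v := by
  intro x hx a b v hv w hw
  refine WP_comm hB v (N_le_WP hs a hv) w ?_
  rw [← conj_WP hx]
  obtain ⟨y, hy, rfl⟩ := hw
  exact ⟨y, N_le_WP hs b hy, rfl⟩

theorem N_sq (hN : NBs (S : Subgroup G) N E D l q) (b : ι) : ∀ v ∈ N b, v ^ 2 = 1 := by
  obtain ⟨F, _, _, _, e, he⟩ := hN.bls.nat b
  exact fun v hv => TFmNB.sq_of he hv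

/-- a member of `AA(O)` in both languages -/
theorem mx_iff {O A : Subgroup G} : KL.TwoS.Mx O A ↔ A ∈ AA O := by
  have key : ∀ B : Subgroup G, (∀ b ∈ B, b ^ 2 = 1) ↔ IsElementaryAbelian 2 B := by
    intro B
    constructor
    · intro h
      refine ea_mk (fun a ha b hb => ?_) fun a ha => by rw [← pow_two]; exact h a ha
      have h1 : a * b * (a * b) = 1 := by rw [← pow_two]; exact h _ (mul_mem ha hb)
      have h2 : a * a = 1 := by rw [← pow_two]; exact h _ ha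
      have h3 : b * b = 1 := by rw [← pow_two]; exact h _ hb
      calc a * b = a * (a * b * (a * b)) * b := by rw [h1, mul_one]
        _ = (a * a) * (b * a) * (b * b) := by group
        _ = b * a := by rw [h2, h3, one_mul, mul_one]
    · intro h b hb
      exact h.2 b hb
  constructor
  · rintro ⟨h1, h2, h3⟩
    exact ⟨(key A).1 h2, h1, fun B hB hBO => h3 B hBO ((key B).2 hB)⟩
  · rintro ⟨h1, h2, h3⟩
    exact ⟨h2, (key A).2 h1, fun B hBO hB => h3 B ((key B).1 hB) hBO⟩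

theorem root (hB : RB S) (hN : NBs (S : Subgroup G) N E D l q) (hs : Src (S : Subgroup G) N l q) (A : Subgroup G)
    (hA : KL.TwoS.Mx (o2 (CZ (S : Subgroup G))) A) (b : ι) : RootOn A (N b) (l b) := by
  obtain ⟨P, hP, F, i1, i2, i3, k, hk, M, h, hd, ⟨j, h2, h3, -⟩, h5⟩ := hs.mov b
  have hS1 : (S : Subgroup G) ≠ ⊥ := hB.ctx.sylow_ne_bot S
  have hOS : o2 (CZ (S : Subgroup G)) ≤ (S : Subgroup G) := (isLoc_centralizer_zc S hS1).o2_le S
  rw [h2, h3]
  have hV := PNat.sup_le_V h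
  have hle : (⨆ j, blk M j) ≤ o2 (CZ (S : Subgroup G)) := (hV.trans (zl_le_WP hP.1)).trans (WP_le_Q hB.data)
  have hea : IsElementaryAbelian 2 (⨆ j, blk M j : Subgroup G) :=
    ea_mk (fun a ha b hb => h.cm (hV ha) (hV hb)) fun a ha => h.sq (hV ha)
  exact PInst.ffp h hd (hA.le.trans hOS) (bo_of_AA (mx_iff.1 hA) hea hle) j

theorem card_of (hs : Src (S : Subgroup G) N l q) (b : ι) : Nat.card (N b) = Nat.card (l b) ^ 2 := by
  obtain ⟨P, hP, F, i1, i2, i3, k, hk, M, h, hd, ⟨j, h2, h3, -⟩, h5⟩ := hs.mov b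
  rw [h2, h3]
  exact PNat.card_eq h hd j

/-- **the structure `Fam`** -/
theorem fam (hB : RB S) (hN : NBs (S : Subgroup G) N E D l q) (hs : Src (S : Subgroup G) N l q) :
    Fam (o2 (CZ (S : Subgroup G))) N l where
  NO := N_le_O hB hs
  sq := N_sq hN
  com b c v hv := mem_centralizer_iff.2 fun w hw => WP_comm hB w (N_le_WP hs c hw) v (N_le_WP hs b hv)
  dis b c hbc := by
    rw [eq_bot_iff, ← hN.bls.ind b]
    exact inf_le_inf_left _ (le_iSup (fun c : {c // c ≠ b} => N c) ⟨c, fun e => hbc e.symm⟩)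
  lN := hN.bls.lN
  lne := hN.bls.lne
  card := card_of hs
  root := root hB hN hs

/-- `AA(O)` centralises the lines -/
theorem AA_le_B (hB : RB S) (hN : NBs (S : Subgroup G) N E D l q) (hs : Src (S : Subgroup G) N l q) {A : Subgroup G}
    (hA : KL.TwoS.Mx (o2 (CZ (S : Subgroup G))) A) :
    A ≤ (S : Subgroup G) ⊓ centralizer ((⨆ b, l b : Subgroup G) : Set G) := by
  have hS1 : (S : Subgroup G) ≠ ⊥ := hB.ctx.sylow_ne_bot S
  refine le_inf (hA.le.trans ((isLoc_centralizer_zc S hS1).o2_le S)) fun a ha => ?_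
  exact NormB.mem_cent_iSup.2 fun b z hz => (root hB hN hs A hA b).fixZ a ha z hz

/-- lines determine blocks -/
theorem line_norm (hN : NBs (S : Subgroup G) N E D l q) {s : G} (hs : s ∈ (S : Subgroup G)) (b : ι)
    (h : ∀ v ∈ l b, s * v = v * s) : s ∈ normalizer (N b : Set G) ∧ cj s (l b) = l b := by
  obtain ⟨c, h1, h2⟩ := hN.bls.perm s hs b
  have h3 : cj s (l b) = l b := by
    refine cj_eq_of_mem_normalizer (centralizer_le_normalizer _ (NormB.mem_cent_iff.2 h))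
  have h4 : c = b := hN.bls.line_inj c b (h2.symm.trans h3)
  subst h4
  exact ⟨mem_normalizer_iff_cj.2 h1, h3⟩

/-- **`B` acts on the blocks by transvections** -/
theorem B_act (hN : NBs (S : Subgroup G) N E D l q) {b : ι} {F : Type} [Field F] [Finite F] [CharP F 2]
    {e : G → Fin 2 → F} (hn : NatBlk (S : Subgroup G) (D b) (N b) (l b) F e) {β : G}
    (hβ : β ∈ (S : Subgroup G) ⊓ centralizer ((⨆ b, l b : Subgroup G) : Set G)) :
    ∃ c : F, GenSL.Acts (N b) e β (GenSL.U c) := by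
  have hcen : ∀ v ∈ l b, β * v = v * β := fun v hv => NormB.mem_cent_iSup.1 hβ.2 b v hv
  have hnor := (line_norm hN hβ.1 b hcen).1
  obtain ⟨σ, a, c, d, hact⟩ := hN.semi hn hβ.1 hnor
  have hline : ∀ x : F, a * σ x = x := by
    intro x
    obtain ⟨v, hv, hve⟩ := hn.sur ![x, 0]
    have h1 : v ∈ l b := (hn.line v).2 ⟨hv, by rw [hve]; rfl⟩
    have h2 := hact v hv
    rw [hcen v h1, mul_inv_cancel_right, hve] at h2
    have h3 := congrFun h2 0
    simpa using h3.symm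
  have ha : a = 1 := by simpa using hline 1
  have hσ : ∀ x, σ x = x := fun x => by simpa [ha] using hline x
  have hact' : ∀ v ∈ N b, e (β * v * β⁻¹) = ![e v 0 + c * e v 1, d * e v 1] := by
    intro v hv
    rw [hact v hv, ha, hσ, hσ, one_mul]
  have hmem : ∀ v ∈ N b, β * v * β⁻¹ ∈ N b := fun v hv => (mem_normalizer_iff.1 hnor v).1 hv
  obtain ⟨n, hn2⟩ := S.isPGroup' ⟨β, hβ.1⟩
  have hn3 : β ^ 2 ^ n = 1 := by simpa using congrArg Subtype.val hn2
  -- `d = 1`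
  obtain ⟨v, hv, hve⟩ := hn.sur ![0, 1]
  have hpow : ∀ k : ℕ, β ^ k * v * (β ^ k)⁻¹ ∈ N b ∧ e (β ^ k * v * (β ^ k)⁻¹) 1 = d ^ k := by
    intro k
    induction k with
    | zero => simpa [hve] using hv
    | succ k ih =>
      have e1 : β ^ (k + 1) * v * (β ^ (k + 1))⁻¹ = β * (β ^ k * v * (β ^ k)⁻¹) * β⁻¹ := by
        rw [pow_succ']; group
      rw [e1]
      refine ⟨hmem _ ih.1, ?_⟩
      rw [hact' _ ih.1]
      show d * e _ 1 = _
      rw [ih.2, pow_succ']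
  have hd1 : d ^ 2 ^ n = 1 := by
    have h1 := (hpow (2 ^ n)).2
    rw [hn3, one_mul, inv_one, mul_one, hve] at h1
    exact h1.symm
  have hd : d = 1 := by
    have h1 : (d - 1) ^ 2 ^ n = 0 := by
      rw [sub_pow_char_pow, hd1, one_pow, sub_self]
    exact sub_eq_zero.1 (pow_eq_zero_iff (by positivity) |>.1 h1)
  refine ⟨c, hnor, fun v hv => ?_⟩
  rw [hact' v hv, hd]
  funext i
  fin_cases i <;> simp [GenSL.U, Matrix.mulVec, dotProduct, Fin.sum_univ_two]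

/-- a member of `AA(O)` moving `N b` induces all transvections -/
theorem A_full (hB : RB S) (hN : NBs (S : Subgroup G) N E D l q) (hs : Src (S : Subgroup G) N l q) {A : Subgroup G}
    (hA : KL.TwoS.Mx (o2 (CZ (S : Subgroup G))) A) {b : ι} (hm : ¬ A ≤ centralizer (N b : Set G))
    {F : Type} [Field F] [Finite F] [CharP F 2]
    {e : G → Fin 2 → F} (hn : NatBlk (S : Subgroup G) (D b) (N b) (l b) F e) (c : F) :
    ∃ a ∈ A, GenSL.Acts (N b) e a (GenSL.U c) := by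
  obtain ⟨v, hv, hve⟩ := hn.sur ![0, 1]
  have hvl : v ∉ l b := fun h => by
    have h1 := ((hn.line v).1 h).2
    rw [hve] at h1
    exact one_ne_zero h1
  obtain ⟨z, hz, hze⟩ := hn.sur ![c, 0]
  have hzl : z ∈ l b := (hn.line z).2 ⟨hz, by rw [hze]; rfl⟩
  rcases (root hB hN hs A hA b).full with h1 | h1
  · exact absurd h1 hm
  obtain ⟨f, hf, h2⟩ := (h1 v hv hvl).1 z hzl
  obtain ⟨c', h3⟩ := B_act hN hn (AA_le_B hB hN hs hA hf)
  have h4 : f * v * f⁻¹ = z * v := by rw [← h2]; group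
  have h5 := h3.act v hv
  rw [h4, hn.mul z hz v hv, hze, hve] at h5
  have h6 := congrFun h5 0
  simp [GenSL.U, Matrix.mulVec, dotProduct, Fin.sum_univ_two] at h6
  exact ⟨f, hf, h6 ▸ h3⟩

/-- **the field `gen` of `NormB.NBf`** -/
theorem gen (hB : RB S) (hN : NBs (S : Subgroup G) N E D l q) (hs : Src (S : Subgroup G) N l q)
    (hall : AllB (S : Subgroup G) N) [Finite ι] {L : Subgroup G} (b : ι)
    (hL : ∀ x ∈ L, ∃ d ∈ D b, ∀ v ∈ N b, x * v * x⁻¹ = d * v * d⁻¹)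
    (hD : ∀ d ∈ D b, ∃ x ∈ L, ∀ v ∈ N b, x * v * x⁻¹ = d * v * d⁻¹) (hLN : L ≤ normalizer (N b : Set G)) :
    ∃ A ∈ AA (o2 (CZ (S : Subgroup G))), (∀ a, a ≠ b → A ≤ centralizer (N a : Set G)) ∧
      A ≤ (S : Subgroup G) ⊓ centralizer ((⨆ b, l b : Subgroup G) : Set G) ∧ ¬ A ≤ centralizer (N b : Set G) ∧
      ∃ g ∈ L, cj g (l b) ⊓ l b = ⊥ ∧
        ∀ x ∈ L, ∀ β ∈ (S : Subgroup G) ⊓ centralizer ((⨆ b, l b : Subgroup G) : Set G),
          ∃ h ∈ A ⊔ cj g A, ∀ v ∈ N b, x * β * x⁻¹ * v * (x * β * x⁻¹)⁻¹ = h * v * h⁻¹ := by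
  obtain ⟨A, hA, hm, hp⟩ := (fam hB hN hs).exists_pure (hall b)
  obtain ⟨F, i1, i2, i3, e, -, hn⟩ := hN.nat b
  refine ⟨A, mx_iff.1 hA, fun a ha => hp a ha, AA_le_B hB hN hs hA, hm, ?_⟩
  refine GenSL.gen_of (e := e) hn.mul hn.inj hn.line (fun x hx => ?_) ?_ (fun β hβ => ?_)
    (fun c => A_full hB hN hs hA hm hn c)
  · obtain ⟨d, hd, h1⟩ := hL x hx
    obtain ⟨M, h2⟩ := hn.act d hd
    exact ⟨M, hLN hx, fun v hv => by rw [h1 v hv, h2 v hv]⟩
  · obtain ⟨d, hd, h1⟩ := hn.full GenSL.W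
    obtain ⟨x, hx, h2⟩ := hD d hd
    exact ⟨x, hx, hLN hx, fun v hv => by rw [h2 v hv, h1 v hv]⟩
  · obtain ⟨c, hc⟩ := B_act hN hn hβ
    exact ⟨_, hc⟩

end Cfsg.Agent.Omega.NOThreeL.RRed.UInst
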