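import Cfsg.Agent.Omega.NOThreeL.RRed.ClassD

/-!
# NO-3L, box R: minimal exact offenders (#24537, #24733), text: helper245

`V = zl S L`.

* `exists_mx` : an exact offender contains a minimal exact one;
* `exact_split` : `A ≤ S` exact on `V`, moving `V_P`, `F = C_A(V_P)`: `F` is exact (or trivial) on `V`, `A` is an exact
  offender on `V_P`, `C_V(F) = V_P C_V(A)`;
* **`GOne.exists_mx`** : `GOne S L P A` implies `GOne S L P B` for a minimal exact `B ≤ A`;
* `odd_le_ncl`, `odd_cent` : `A ≤ S`, `A ≰ O₂(P)`: `O²(P) ≤ ⟨A^P⟩`, `O²(P)` centralises `C_V(⟨A^L⟩)`.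
-/

set_option autoImplicit false
set_option linter.unusedSectionVars false

namespace Cfsg.Agent.Omega.NOThreeL.RRed

open Subgroup Pointwise Cfsg Cfsg.Agent.ZN Cfsg.Agent.Omega.MinPar Cfsg.Agent.Omega.Frame
open Cfsg.Agent.Omega.FrameNOFF
open Cfsg.Agent.Omega.FFThm (ElemM OffM NoOverM ConclM)
open Cfsg.Agent.ZN.ChoiceBase (cj)
open Cfsg.Agent.ZN.CaseTwo (syl_of_sylow)
open Cfsg.Agent.MinSimple.VModule (oddGen)

universe u

variable {G : Type u} [Group G]

/-- `A` is exact on `V`. -/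
def Exa (V A : Subgroup G) : Prop :=
  Nat.card V * Nat.card ↥(A ⊓ centralizer (V : Set G)) = Nat.card A * Nat.card ↥(V ⊓ centralizer (A : Set G))

/-- **An exact offender contains a minimal exact one.** -/
theorem exists_mx [Finite G] {V A : Subgroup G} (hE : ElemM V A) (hp : IsPGroup 2 A)
    (hne : ¬ A ≤ centralizer (V : Set G)) (hex : Exa V A) :
    ∃ B ≤ A, A ⊓ centralizer (V : Set G) ≤ B ∧ Mx V B := by
  obtain ⟨B, ⟨hBA, hAB, hBn, hBe⟩, hmin⟩ := Set.exists_min_image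
    {B : Subgroup G | B ≤ A ∧ A ⊓ centralizer (V : Set G) ≤ B ∧ ¬ B ≤ centralizer (V : Set G) ∧ Exa V B}
    (fun B => Nat.card B) (Set.toFinite _) ⟨A, le_rfl, inf_le_left, hne, hex⟩
  refine ⟨B, hBA, hAB, ⟨VF.elemM_mono hE hBA, hp.to_le hBA, hBn, hBe, fun C hC hCe hCc => ?_⟩⟩
  by_cases hCn : C ≤ centralizer (V : Set G)
  · exact Or.inl hCn
  · right
    have h1 : A ⊓ centralizer (V : Set G) ≤ C := (le_inf hAB inf_le_right).trans hCc
    have h2 := hmin C ⟨hC.trans hBA, h1, hCn, hCe⟩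
    exact Subgroup.eq_of_le_of_card_ge hC h2

section fin

variable [Finite G] {S : Sylow 2 G} {L P A : Subgroup G}

/-- **`F = C_A(V_P)`, `A` exact on `V`.** -/
theorem exact_split (hc : IsCharacteristicTwoType G) (hP : IsParS (S : Subgroup G) P) (hPL : P ≤ L)
    (hno : NoOverM (zl (S : Subgroup G) L) L)
    (hcomm : zl (S : Subgroup G) L ≤ centralizer (zl (S : Subgroup G) L : Set G))
    (hA : A ≤ (S : Subgroup G)) (hE : ElemM (zl (S : Subgroup G) L) A)
    (hex : Exa (zl (S : Subgroup G) L) A) (hne : ¬ A ≤ centralizer (zl (S : Subgroup G) P : Set G)) :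
    Exa (zl (S : Subgroup G) L) (A ⊓ centralizer (zl (S : Subgroup G) P : Set G)) ∧
      Exa (zl (S : Subgroup G) P) A ∧ OffM (zl (S : Subgroup G) P) A ∧ ConclM (S : Subgroup G) P ∧
      zl (S : Subgroup G) L ⊓ centralizer ((A ⊓ centralizer (zl (S : Subgroup G) P : Set G) : Subgroup G) : Set G) =
        zl (S : Subgroup G) P ⊔ (zl (S : Subgroup G) L ⊓ centralizer (A : Set G)) := by
  have hVU : zl (S : Subgroup G) P ≤ zl (S : Subgroup G) L := Star.zl_mono _ hPL
  set V : Subgroup G := zl (S : Subgroup G) L with hV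
  set W : Subgroup G := zl (S : Subgroup G) P with hW
  set F : Subgroup G := A ⊓ centralizer (W : Set G) with hF
  have hCVW : centralizer (V : Set G) ≤ centralizer (W : Set G) := centralizer_le hVU
  have hAP := hA.trans hP.le
  have hAW : ElemM W A := ⟨fun a ha => hCVW (hE.sq a ha), fun a ha b hb => hCVW (hE.comm a ha b hb)⟩
  have hPFF : (∃ A ≤ P, OffM W A) → NoOverM W P ∧ ConclM (S : Subgroup G) P := fun h =>
    FFBr.ffthmM G (S : Subgroup G) P (syl_of_sylow S hP.le) hP.toIsMinPar (hP.isLoc.char2 S hc) h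
  have hnoW : Nat.card A * Nat.card ↥(W ⊓ centralizer (A : Set G)) ≤ Nat.card W * Nat.card F := by
    by_contra hcon
    have hoffW : OffM W A := ⟨hAW, hne, (not_le.1 hcon).le⟩
    exact hcon ((hPFF ⟨A, hAP, hoffW⟩).1 A hAP hAW)
  have hFV : F ⊓ centralizer (V : Set G) = A ⊓ centralizer (V : Set G) := by
    rw [hF, inf_assoc, inf_eq_right.2 hCVW]
  have hFno := hno F ((inf_le_left.trans hAP).trans hPL) (VF.elemM_mono hE inf_le_left)
  rw [hFV] at hFno
  have e2 : W ⊓ (V ⊓ centralizer (A : Set G)) = W ⊓ centralizer (A : Set G) := by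
    rw [← inf_assoc, inf_eq_left.2 hVU]
  have h1 := Star.card_sup_mul hcomm hVU (inf_le_left : V ⊓ centralizer (A : Set G) ≤ V)
  rw [e2] at h1
  have hsup : W ⊔ (V ⊓ centralizer (A : Set G)) ≤ V ⊓ centralizer (F : Set G) := by
    refine sup_le (le_inf hVU ?_) (le_inf inf_le_left (inf_le_right.trans (centralizer_le inf_le_left)))
    exact le_centralizer_iff.1 inf_le_right
  have h2 := Subgroup.card_le_of_le hsup
  have hex' : Nat.card V * Nat.card ↥(A ⊓ centralizer (V : Set G)) =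
    Nat.card A * Nat.card ↥(V ⊓ centralizer (A : Set G)) := hex
  -- numbers
  set m := Nat.card ↥(W ⊔ (V ⊓ centralizer (A : Set G)))
  set w := Nat.card ↥(W ⊓ centralizer (A : Set G))
  set c := Nat.card ↥(A ⊓ centralizer (V : Set G))
  set n := Nat.card ↥(V ⊓ centralizer (A : Set G))
  set nF := Nat.card ↥(V ⊓ centralizer (F : Set G))
  set f := Nat.card F
  set a := Nat.card A
  set v := Nat.card V
  set W' := Nat.card W
  have pw : 0 < w := Nat.card_pos
  have pc : 0 < c := Nat.card_pos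
  have pn : 0 < n := Nat.card_pos
  have pf : 0 < f := Nat.card_pos
  have pm : 0 < m := Nat.card_pos
  -- `f nF ≤ v c = a n`, `a w ≤ W' f`, `m w = W' n`, `m ≤ nF`
  have i1 : f * m ≤ a * n := by
    calc f * m ≤ f * nF := Nat.mul_le_mul_left _ h2
      _ ≤ v * c := hFno
      _ = a * n := hex'
  have i2 : (a * n) * w ≤ (f * m) * w := by
    calc (a * n) * w = (a * w) * n := by ring
      _ ≤ (W' * f) * n := Nat.mul_le_mul_right _ hnoW
      _ = f * (m * w) := by rw [h1]; ring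
      _ = (f * m) * w := by ring
  have i3 : f * m = a * n := le_antisymm i1 (Nat.le_of_mul_le_mul_right i2 pw)
  have i4 : f * nF = a * n := le_antisymm (hFno.trans hex'.le) (i3 ▸ Nat.mul_le_mul_left _ h2)
  have i5 : m = nF := Nat.eq_of_mul_eq_mul_left pf (i3.trans i4.symm)
  have i6 : W' * f = a * w := by
    have : (W' * f) * n = (a * w) * n := by
      calc (W' * f) * n = f * (m * w) := by rw [h1]; ring
        _ = (f * m) * w := by ring
        _ = (a * n) * w := by rw [i3]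
        _ = (a * w) * n := by ring
    exact Nat.eq_of_mul_eq_mul_right pn this
  have hoffW : OffM W A := ⟨hAW, hne, i6.le⟩
  refine ⟨?_, i6, hoffW, (hPFF ⟨A, hAP, hoffW⟩).2, (Subgroup.eq_of_le_of_card_ge hsup i5.ge).symm⟩
  unfold Exa
  rw [hFV]
  exact hex'.trans i4.symm

/-- **`GOne S L P A` gives `GOne S L P B` with `B ≤ A` minimal exact.** -/
theorem GOne.exists_mx (hc : IsCharacteristicTwoType G) (h : GOne S L P A) :
    ∃ B ≤ A, A ⊓ centralizer (zl (S : Subgroup G) L : Set G) ≤ B ∧ Mx (zl (S : Subgroup G) L) B ∧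
      GOne S L P B := by
  have hAL : A ≤ L := h.AS.trans h.SL
  have hex : Exa (zl (S : Subgroup G) L) A :=
    le_antisymm h.offU.le (h.no A hAL h.offU.toElemM)
  obtain ⟨B, hBA, hAB, hB⟩ := RRed.exists_mx h.offU.toElemM (S.isPGroup'.to_le h.AS) h.offU.ne hex
  have hBn : ¬ B ≤ centralizer (zl (S : Subgroup G) P : Set G) := fun h1 =>
    hB.ne fun x hx => h.cent ⟨hBA hx, h1 hx⟩
  obtain ⟨-, -, h2, h3, h4⟩ := exact_split hc h.par h.PL h.no h.comm (hBA.trans h.AS) hB.toElemM hB.exact hBn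
  have h5 : B ⊓ centralizer (zl (S : Subgroup G) P : Set G) ≤ centralizer (zl (S : Subgroup G) L : Set G) :=
    (inf_le_inf_right _ hBA).trans h.cent
  refine ⟨B, hBA, hAB, hB, h.par, h.PL, hBA.trans h.AS, h.comm, h.no, hB.off, h2, h5, h3, ?_⟩
  rw [← h4]
  exact (inf_eq_left.2 (le_centralizer_iff.1 h5)).symm

/-- `A ≤ S`, `A ≰ O₂(P)`: `O²(P) ≤ ⟨A^P⟩`. -/
theorem odd_le_ncl (hP : IsParS (S : Subgroup G) P) (hA : A ≤ (S : Subgroup G)) (hAn : ¬ A ≤ o2 P) :
    oddGen P ≤ NoFF.Basic.V A P := by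
  have hSP := hP.le
  have hAV : A ≤ NoFF.Basic.V A P := by
    have h1 : MulAut.conj (1 : G) • A ≤ NoFF.Basic.V A P := NoFF.Basic.Z_le_V (one_mem P)
    rwa [map_one, one_smul] at h1
  have hVP : NoFF.Basic.V A P ≤ P := by
    refine NoFF.Basic.V_le fun p hp x hx => ?_
    obtain ⟨y, hy, rfl⟩ := hx
    change p * y * p⁻¹ ∈ P
    exact mul_mem (mul_mem hp (hSP (hA hy))) (inv_mem hp)
  have hn : P ≤ normalizer (NoFF.Basic.V A P : Set G) := by
    have key : ∀ g ∈ P, ∀ x ∈ NoFF.Basic.V A P, g * x * g⁻¹ ∈ NoFF.Basic.V A P := by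
      intro g hg
      have h1 : NoFF.Basic.V A P ≤ (NoFF.Basic.V A P).comap (MulAut.conj g).toMonoidHom := by
        refine NoFF.Basic.V_le fun p hp x hx => ?_
        rw [mem_comap]
        have h2 : MulAut.conj (g * p) • A ≤ NoFF.Basic.V A P := NoFF.Basic.Z_le_V (mul_mem hg hp)
        apply h2
        obtain ⟨y, hy, rfl⟩ := hx
        exact ⟨y, hy, by simp [mul_assoc]⟩
      exact fun x hx => h1 hx
    intro g hg
    rw [mem_normalizer_iff]
    refine fun x => ⟨key g hg x, fun hx => ?_⟩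
    have h1 := key g⁻¹ (inv_mem hg) _ hx
    have e : g⁻¹ * (g * x * g⁻¹) * g⁻¹⁻¹ = x := by group
    rwa [e] at h1
  have hsup : P ≤ NoFF.Basic.V A P ⊔ (S : Subgroup G) := by
    rcases hP.toIsPar.sup_eq_or_inf_le S hVP hn with h1 | h1
    · rw [sup_comm] at h1
      exact (sup_comm (NoFF.Basic.V A P) (S : Subgroup G) ▸ h1).ge
    · exact absurd ((le_inf hA hAV).trans h1) hAn
  rw [MinSimple.VModule.oddGen_def, closure_le]
  rintro g ⟨hg, ho⟩
  exact IId.Cv.mem_of_odd hn hSP hsup S.isPGroup' hg ho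

/-- `A ≤ S`, `A ≰ O₂(P)`, `P ≤ L`: `O²(P)` centralises `C_G(⟨A^L⟩)`. -/
theorem odd_cent (hP : IsParS (S : Subgroup G) P) (hPL : P ≤ L) (hA : A ≤ (S : Subgroup G)) (hAn : ¬ A ≤ o2 P) :
    centralizer (NoFF.Basic.V A L : Set G) ≤ centralizer (oddGen P : Set G) := by
  refine centralizer_le ((odd_le_ncl hP hA hAn).trans ?_)
  exact NoFF.Basic.V_le fun p hp => NoFF.Basic.Z_le_V (hPL hp)

end fin

end Cfsg.Agent.Omega.NOThreeL.RRed
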