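import Cfsg.Agent.Omega.KL.TwoZ.Fr
import Cfsg.Agent.Omega.NOThreeL.RTree

/-!
# NO-3L, box R: the instance of 391's frame `KL.TwoZ.Fr` (two centres of any order)

`V* = ⟨Z^M₀⟩`, `M₀ = MZ S = ⟨P*(S)⟩`, `ZZ S V i = V i ∩ Z`.

* `Spl S V` : `V* = V 0 × V 1`, both `S`-invariant, generated by `V_P`'s, `V i ≤ ⟨Z_i^C_G(Z_j)⟩`, every `R ∈ P*(S)` in
  `C_G(Z_j)` which moves `Z_i` and every `g ∈ N_G(S)` which centralises some `Z_i` normalises `V 0` and `V 1`;
* `Spl.gf` : all `G`-level facts `GF`; `Spl.fr` : `KL.TwoZ.Fr`.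
-/

set_option autoImplicit false
set_option linter.unusedSectionVars false

namespace Cfsg.Agent.Omega.NOThreeL.RRed.InstZ

open Subgroup Cfsg Cfsg.Agent.ZN Cfsg.Agent.Omega.MinPar Cfsg.Agent.Omega.Frame Cfsg.Agent.Omega.FrameNOFF
open Cfsg.Agent.Omega.Node.NO3L Cfsg.Agent.Omega.NOThreeL.Basic
open Cfsg.Agent.Omega.NOThreeL.Merge (MZ)
open Cfsg.Agent.Omega.NOThreeL.RTree (RB)
open Cfsg.Agent.Omega.NoFF.Basic (conj_le_iff Z_le_V V_le)
open Cfsg.Agent.ZN.ChoiceSit (Syl)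
open Cfsg.Agent.MinSimple.MinParabolic (IsMinPar)
open Cfsg.Agent.MinSimple.VModule (le_o2 o2_isPGroup o2_le le_normalizer_o2 zc_le_zl)
open scoped Pointwise

universe u

variable {G : Type u} [Group G]

/-- `Z_i = V i ∩ Z` -/
abbrev ZZ (S : Subgroup G) (V : Fin 2 → Subgroup G) (i : Fin 2) : Subgroup G := V i ⊓ zc S

/-- **a splitting of `V*`** -/
structure Spl [Finite G] (S : Sylow 2 G) (V : Fin 2 → Subgroup G) : Prop where
  sup : V 0 ⊔ V 1 = zl (S : Subgroup G) (MZ (S : Subgroup G))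
  dis : V 0 ⊓ V 1 = ⊥
  ne : ∀ i, V i ≠ ⊥
  nS : ∀ i, (S : Subgroup G) ≤ normalizer (V i : Set G)
  wp : ∀ i, V i ≤ WP (S : Subgroup G)
  par : ∀ i j, i ≠ j → ∀ R, IsParS (S : Subgroup G) R → R ≤ centralizer (ZZ (S : Subgroup G) V j : Set G) →
    ¬ R ≤ centralizer (ZZ (S : Subgroup G) V i : Set G) → ∀ k, R ≤ normalizer (V k : Set G)
  nN : ∀ i, ∀ g ∈ normalizer ((S : Subgroup G) : Set G), g ∈ centralizer (ZZ (S : Subgroup G) V i : Set G) →
    ∀ k, g ∈ normalizer (V k : Set G)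
  gen : ∀ i j, i ≠ j → V i ≤ NoFF.Basic.V (ZZ (S : Subgroup G) V i)
    (centralizer (ZZ (S : Subgroup G) V j : Set G))

/-- the `G`-level facts -/
structure GF [Finite G] (T : Subgroup G) (V Z : Fin 2 → Subgroup G) : Prop where
  char2 : ∀ i, centralizer (Z i : Set G) ⊓ centralizer (o2 (centralizer (Z i : Set G)) : Set G) ≤
    o2 (centralizer (Z i : Set G))
  sqV : ∀ i, ∀ x ∈ V i, x ^ 2 = 1
  ZV : ∀ i, Z i ≤ V i
  ne : ∀ i, Z i ≠ ⊥
  zT : zc T = Z 0 ⊔ Z 1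
  dis : V 0 ⊓ V 1 = ⊥
  comm : ∀ i j, V i ≤ centralizer (V j : Set G)
  syl : ∀ i, Syl T (centralizer (Z i : Set G))
  nT : ∀ i, centralizer (Z i : Set G) ⊓ normalizer (T : Set G) ≤
    normalizer (Z (i + 1) : Set G) ⊓ normalizer (V i : Set G) ⊓ normalizer (V (i + 1) : Set G)
  nV : ∀ i, T ≤ normalizer (V i : Set G)
  VQ : ∀ i, V i ≤ o2 (centralizer (Z i : Set G))
  VC : ∀ i, ∀ c ∈ centralizer (Z i : Set G), MulAut.conj c • V i ≤ centralizer (V i : Set G)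
  VN : ∀ i, V (i + 1) ≤ NoFF.Basic.V (Z (i + 1)) (centralizer (Z i : Set G))
  uni : ∀ i j, i ≠ j → ∀ R : Subgroup G, IsMinPar T R → R ≤ centralizer (Z j : Set G) →
    ¬ R ≤ centralizer (Z i : Set G) → ∀ k, R ≤ normalizer (V k : Set G)
  par : ∀ i j, i ≠ j → ∀ R : Subgroup G, IsMinPar T R → R ≤ centralizer (Z j : Set G) →
    ¬ R ≤ centralizer (Z i : Set G) → IsParS T R
  long : ∀ i, IsLong T (centralizer (Z i : Set G))

namespace Spl

variable [Finite G] {S : Sylow 2 G} {V : Fin 2 → Subgroup G} (s : Spl S V)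
include s

theorem V_le (i : Fin 2) : V i ≤ zl (S : Subgroup G) (MZ (S : Subgroup G)) := by
  rw [← s.sup]
  rcases Fin.exists_fin_two.1 ⟨i, rfl⟩ with h | h
  · rw [h]; exact le_sup_left
  · rw [h]; exact le_sup_right

theorem inf_eq {i j : Fin 2} (h : i ≠ j) : V i ⊓ V j = ⊥ := by
  fin_cases i <;> fin_cases j
  · exact absurd rfl h
  · exact s.dis
  · rw [inf_comm]; exact s.dis
  · exact absurd rfl h

variable (h : RB S)
include h

theorem sq (i : Fin 2) : ∀ x ∈ V i, x ^ 2 = 1 := fun x hx => Star.zl_sq h.ctx.char2 h.data.noff x (s.V_le i hx)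

theorem comm (i j : Fin 2) : V i ≤ centralizer (V j : Set G) :=
  (s.V_le i).trans ((Star.zl_comm h.ctx.char2 h.data.noff).trans (centralizer_le (s.V_le j)))

omit s in
theorem S_ne : (S : Subgroup G) ≠ ⊥ := h.ctx.sylow_ne_bot S

theorem V_le_S (i : Fin 2) : V i ≤ (S : Subgroup G) :=
  ((s.wp i).trans (WP_le_Q h.data)).trans ((isLoc_centralizer_zc S (S_ne h)).o2_le S)

theorem ZZ_ne (i : Fin 2) : ZZ (S : Subgroup G) V i ≠ ⊥ := by
  have h1 := PLocal.OffenderStep.inf_centralizer_ne_bot (V i) (S : Subgroup G)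
    (S.isPGroup'.to_le (s.V_le_S h i)) S.isPGroup' (s.nS i) (s.ne i)
  intro h2
  apply h1
  rw [eq_bot_iff, ← h2]
  rintro x ⟨hx, hxS⟩
  refine mem_inf.2 ⟨hx, mem_zc.2 ⟨s.V_le_S h i hx, fun t ht => ?_, s.sq h i x hx⟩⟩
  have := mem_centralizer_iff.1 hxS t ht
  first | exact this | exact this.symm

omit s h in
theorem S_le_cent (V : Fin 2 → Subgroup G) (i : Fin 2) :
    (S : Subgroup G) ≤ centralizer (ZZ (S : Subgroup G) V i : Set G) :=
  (le_CZ S).trans (centralizer_le inf_le_right)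

theorem ZZ_pg (i : Fin 2) : IsPGroup 2 (ZZ (S : Subgroup G) V i) := S.isPGroup'.to_le (inf_le_left.trans (s.V_le_S h i))

theorem isLong (i : Fin 2) : IsLong (S : Subgroup G) (centralizer (ZZ (S : Subgroup G) V i : Set G)) :=
  ⟨isLoc_of_le_normalizer S (S_le_cent V i) (s.ZZ_pg h i) (s.ZZ_ne h i) (centralizer_le_normalizer _),
    centralizer_le inf_le_right⟩

theorem zT : zc (S : Subgroup G) = ZZ (S : Subgroup G) V 0 ⊔ ZZ (S : Subgroup G) V 1 := by
  refine le_antisymm ?_ (sup_le inf_le_right inf_le_right)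
  intro z hz
  have h1 : z ∈ V 0 ⊔ V 1 := by rw [s.sup]; exact zc_le_zl _ _ hz
  have h2 : V 0 ≤ normalizer (V 1 : Set G) := (s.comm h 0 1).trans (centralizer_le_normalizer _)
  have h3 : z ∈ ((V 0 ⊔ V 1 : Subgroup G) : Set G) := h1
  rw [coe_mul_of_left_le_normalizer_right _ _ h2] at h3
  obtain ⟨a, ha, b, hb, e⟩ := h3
  have e' : z = a * b := e.symm
  -- `S` centralises `a` and `b`
  have key : ∀ t ∈ (S : Subgroup G), t * a = a * t ∧ t * b = b * t := by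
    intro t ht
    have h4 : t * z * t⁻¹ = z := by
      have := (mem_zc.1 hz).2.1 t ht
      rw [this]; group
    have ha' : t * a * t⁻¹ ∈ V 0 := (mem_normalizer_iff.1 (s.nS 0 ht) a).1 ha
    have hb' : t * b * t⁻¹ ∈ V 1 := (mem_normalizer_iff.1 (s.nS 1 ht) b).1 hb
    have h5 : (t * a * t⁻¹) * (t * b * t⁻¹) = a * b := by
      rw [← e']
      conv_rhs => rw [← h4]
      rw [e']; group
    have h6 : a⁻¹ * (t * a * t⁻¹) = b * (t * b * t⁻¹)⁻¹ := by
      calc a⁻¹ * (t * a * t⁻¹) = a⁻¹ * ((t * a * t⁻¹) * (t * b * t⁻¹)) * (t * b * t⁻¹)⁻¹ := by group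
        _ = b * (t * b * t⁻¹)⁻¹ := by rw [h5]; group
    have h7 : a⁻¹ * (t * a * t⁻¹) ∈ V 0 ⊓ V 1 :=
      mem_inf.2 ⟨mul_mem (inv_mem ha) ha', by rw [h6]; exact mul_mem hb (inv_mem hb')⟩
    rw [s.dis, mem_bot] at h7
    have h8 : t * a * t⁻¹ = a := (inv_mul_eq_one.1 h7).symm
    have h9 : t * b * t⁻¹ = b := by
      rw [h8] at h5
      exact mul_left_cancel h5
    exact ⟨mul_inv_eq_iff_eq_mul.1 h8, mul_inv_eq_iff_eq_mul.1 h9⟩
  rw [e']
  refine mul_mem_sup (mem_inf.2 ⟨ha, mem_zc.2 ⟨s.V_le_S h 0 ha, fun t ht => ?_, s.sq h 0 a ha⟩⟩)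
    (mem_inf.2 ⟨hb, mem_zc.2 ⟨s.V_le_S h 1 hb, fun t ht => ?_, s.sq h 1 b hb⟩⟩)
  · first | exact (key t ht).1 | exact (key t ht).1.symm
  · first | exact (key t ht).2 | exact (key t ht).2.symm

theorem parS (i j : Fin 2) {R : Subgroup G} (hR : IsMinPar (S : Subgroup G) R)
    (hj : R ≤ centralizer (ZZ (S : Subgroup G) V j : Set G))
    (hi : ¬ R ≤ centralizer (ZZ (S : Subgroup G) V i : Set G)) : IsParS (S : Subgroup G) R := by
  have h1 : IsPar (S : Subgroup G) R := ⟨hR, ((s.isLong h j).loc.of_le S hR.le hj).o2_ne⟩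
  by_contra h2
  exact hi ((par_le_CZ S h1 h2).trans (centralizer_le inf_le_right))

/-- **the `G`-level facts** -/
theorem gf : GF (S : Subgroup G) V (ZZ (S : Subgroup G) V) where
  char2 i := (s.isLong h i).loc.char2 S h.ctx.char2
  sqV := s.sq h
  ZV _ := inf_le_left
  ne := s.ZZ_ne h
  zT := s.zT h
  dis := s.dis
  comm := s.comm h
  syl i := ⟨S_le_cent V i, S.isPGroup', fun Q _ hQ2 hQ => S.is_maximal' hQ2 hQ⟩
  nT i := by
    rintro g ⟨hg, hgS⟩
    have h1 := s.nN i g hgS hg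
    have h2 := normalizer_le_normalizer_zc _ hgS
    refine mem_inf.2 ⟨mem_inf.2 ⟨?_, h1 i⟩, h1 (i + 1)⟩
    rw [mem_normalizer_iff]
    intro x
    rw [mem_inf, mem_inf]
    exact and_congr (mem_normalizer_iff.1 (h1 (i + 1)) x) (mem_normalizer_iff.1 h2 x)
  nV := s.nS
  VQ i := ((s.wp i).trans (WP_le_FH _ _)).trans (NotA.FH_le_o2 h.data h.notA (s.isLong h i))
  VC i c hc := by
    have h1 := s.isLong h i
    refine ((conj_le_iff (g := c)).2 (s.wp i)).trans ((conj_WP_le_FH _ hc).trans ?_)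
    exact (NotA.FH_comm h.ctx.char2 h.data h.notA h1).trans (centralizer_le ((s.wp i).trans (WP_le_FH _ _)))
  VN i := s.gen (i + 1) i (OM.KTwo.ne_add_one i |>.symm)
  uni i j hij R hR hj hi := s.par i j hij R (s.parS h i j hR hj hi) hj hi
  par i j _ _ hR hj hi := s.parS h i j hR hj hi
  long := s.isLong h

/-- some `T`-minimal `R ≤ C_G(Z_i)` moves `Z_(i+1)` -/
theorem exists_par
    (hn : NonLoc (centralizer (ZZ (S : Subgroup G) V 0 : Set G)) (centralizer (ZZ (S : Subgroup G) V 1 : Set G)))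
    (i : Fin 2) : ∃ R : Subgroup G, IsMinPar (S : Subgroup G) R ∧
      R ≤ centralizer (ZZ (S : Subgroup G) V i : Set G) ∧
      ¬ R ≤ centralizer (ZZ (S : Subgroup G) V (i + 1) : Set G) := by
  by_contra hcon
  push Not at hcon
  have h1 : centralizer (ZZ (S : Subgroup G) V i : Set G) ≤
      normalizer (ZZ (S : Subgroup G) V (i + 1) : Set G) := by
    refine MinSimple.MinParabolic.le_of_forall (S_le_cent V i) ?_ fun R hR hRX =>
      (hcon R hR hRX).trans (centralizer_le_normalizer _)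
    exact ((s.gf h).nT i).trans (inf_le_left.trans inf_le_left)
  have h2 : centralizer (ZZ (S : Subgroup G) V (i + 1) : Set G) ≤
      normalizer (ZZ (S : Subgroup G) V (i + 1) : Set G) := centralizer_le_normalizer _
  refine s.ZZ_ne h (i + 1) ?_
  rcases Fin.exists_fin_two.1 ⟨i, rfl⟩ with e | e
  · subst e; exact hn _ (s.ZZ_pg h _) h1 h2
  · subst e; exact hn _ (s.ZZ_pg h _) h2 h1

/-- **the frame of `KL.TwoZ`** -/
theorem fr (mvs : ∀ i j, i ≠ j → ∀ R : Subgroup G, IsMinPar (S : Subgroup G) R →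
      R ≤ centralizer (ZZ (S : Subgroup G) V j : Set G) → ¬ R ≤ centralizer (ZZ (S : Subgroup G) V i : Set G) →
      ∀ z ∈ ZZ (S : Subgroup G) V i, z ≠ 1 → ¬ R ≤ centralizer ({z} : Set G))
    (odd : ∀ i j, i ≠ j → ∀ R : Subgroup G, IsMinPar (S : Subgroup G) R →
      R ≤ centralizer (ZZ (S : Subgroup G) V j : Set G) → ¬ R ≤ centralizer (ZZ (S : Subgroup G) V i : Set G) →
      ∀ g ∈ R, Odd (orderOf g) → g ∈ centralizer (V j : Set G))
    (hn : NonLoc (centralizer (ZZ (S : Subgroup G) V 0 : Set G)) (centralizer (ZZ (S : Subgroup G) V 1 : Set G))) :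
    KL.TwoZ.Fr (S : Subgroup G) V (ZZ (S : Subgroup G) V) where
  char2 := (s.gf h).char2
  sqV := (s.gf h).sqV
  ZV := (s.gf h).ZV
  ne := (s.gf h).ne
  zT := (s.gf h).zT
  syl := (s.gf h).syl
  nT := (s.gf h).nT
  nV := (s.gf h).nV
  VQ := (s.gf h).VQ
  VC := (s.gf h).VC
  VN := (s.gf h).VN
  par := s.exists_par h hn
  uni := (s.gf h).uni
  mvs := mvs
  odd := odd
  nonloc := hn

end Spl

end Cfsg.Agent.Omega.NOThreeL.RRed.InstZ
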