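import Cfsg.Agent.Omega.NOThreeL.RRed.ClassMod
import Cfsg.Agent.Omega.NOThreeL.RRed.ClassMx
import Cfsg.Agent.Omega.NOThreeL.RRed.InstZ

/-!
# NO-3L, box R: the instance of the class module theorem (#24537, helper241), text: helper732

`L` 2-local over `S`, generated by the members of `P*(S)` in `L`; `V = zl S L`; `EE S L` : the minimal exact `A ≤ S`.

* `Mv S L` : every `z ∈ Z#` is moved by some `P` with `GOne S L P A`;
* **`sys_of`** : `Sys S L V (EE S L)`;
* `GOne.mv'` : `A` moves every `P`-invariant `U ∋ z`, `z ∈ Z` moved by `P`;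
* `gen_le` : `W_A = ⟨(W_A ∩ Z)^E⟩` for every `E ⊴ L` which contains all `B ∈ EE` with `W_B = W_A`;
* `Mx.conj`, `norm_WW` : `N_G(S) ∩ N_G(L)` permutes the classes;
* **`spl_of`** : box R, exactly two classes `W_A ≠ W_B`: 692's `InstZ.Spl`.
-/

set_option autoImplicit false
set_option linter.unusedSectionVars false

namespace Cfsg.Agent.Omega.NOThreeL.RRed

open Subgroup Pointwise Cfsg Cfsg.Agent.ZN Cfsg.Agent.Omega.MinPar Cfsg.Agent.Omega.Frame
open Cfsg.Agent.Omega.FrameNOFF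
open Cfsg.Agent.Omega.FFThm (ElemM OffM NoOverM ConclM)
open Cfsg.Agent.ZN.ChoiceBase (cj)
open Cfsg.Agent.MinSimple.VModule (oddGen zc_le_zl)
open scoped commutatorElement

universe u

variable {G : Type u} [Group G]

section fin

variable [Finite G] {S : Sylow 2 G} {L P A : Subgroup G}

/-- `z ∈ Z` moved by `P`, `z ∈ U` normalised by `P`: `A` moves `U`. -/
theorem GOne.mv' (h : GOne S L P A) {U : Subgroup G} (hPU : P ≤ normalizer (U : Set G)) {z : G}
    (hz : z ∈ zc (S : Subgroup G)) (hzU : z ∈ U) (hzP : ¬ P ≤ centralizer ({z} : Set G)) :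
    ¬ A ≤ centralizer (U : Set G) := by
  intro hA
  have hn : P ≤ normalizer (zl (S : Subgroup G) P : Set G) := MinSimple.VModule.le_normalizer_zl _ _
  have hPW : P ≤ normalizer ((U ⊓ zl (S : Subgroup G) P : Subgroup G) : Set G) :=
    (le_inf hPU hn).trans (Subgroup.inf_normalizer_le_normalizer_inf)
  have hWD : ¬ U ⊓ zl (S : Subgroup G) P ≤ FrameFF.cv (S : Subgroup G) P := fun h1 =>
    not_mem_cv h.SP hz hzP (h1 ⟨hzU, zc_le_zl _ _ hz⟩)
  have h1 := par_cover h.par h.concl h.AS h.offP inf_le_right hPW hWD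
  apply h.offP.ne
  rw [le_centralizer_iff]
  refine h1.trans (sup_le ?_ inf_le_right)
  exact inf_le_left.trans (le_centralizer_iff.1 hA)

/-- `A ≰ O₂(P)` -/
theorem GOne.not_le_o2 (hc : IsCharacteristicTwoType G) (h : GOne S L P A) : ¬ A ≤ o2 P := by
  intro h1
  apply h.offP.ne
  refine h1.trans ?_
  rw [← h.par.inf_centralizer S hc]
  exact inf_le_right

end fin

namespace CI

/-- the minimal exact offenders in `S` -/
def EE [Finite G] (S : Sylow 2 G) (L : Subgroup G) : Set (Subgroup G) :=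
  {A | A ≤ (S : Subgroup G) ∧ Mx (zl (S : Subgroup G) L) A}

/-- every `z ∈ Z#` is moved by some `P` with `GOne S L P A` -/
def Mv [Finite G] (S : Sylow 2 G) (L : Subgroup G) : Prop :=
  ∀ z ∈ zc (S : Subgroup G), z ≠ 1 → ∃ P A, GOne S L P A ∧ ¬ P ≤ centralizer ({z} : Set G)

variable [Finite G] {S : Sylow 2 G} {L : Subgroup G}

/-- the same with a minimal exact `A` -/
theorem Mv.mx (hc : IsCharacteristicTwoType G) (h : Mv S L) {z : G} (hz : z ∈ zc (S : Subgroup G)) (hz1 : z ≠ 1) :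
    ∃ P, ∃ A ∈ EE S L, GOne S L P A ∧ ¬ P ≤ centralizer ({z} : Set G) := by
  obtain ⟨P, A, hg, hP⟩ := h z hz hz1
  obtain ⟨B, hBA, -, hB, hgB⟩ := hg.exists_mx hc
  exact ⟨P, B, ⟨hBA.trans hg.AS, hB⟩, hgB, hP⟩

/-- **the base** -/
theorem bs_of (hc : IsCharacteristicTwoType G) (hL : IsLoc (S : Subgroup G) L) :
    CM.Bs (S : Subgroup G) L (zl (S : Subgroup G) L) := by
  have hE := FFThm.elem_zl hc S hL
  refine
    { two := S.isPGroup'
      SM := hL.le
      odd := ?_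
      MV := MinSimple.VModule.le_normalizer_zl _ _
      comm := fun x hx => mem_centralizer_iff.2 fun y hy =>
        congrArg Subtype.val (hE.1.is_comm.comm ⟨y, hy⟩ ⟨x, hx⟩)
      sq := fun x hx => hE.2 x hx
      gen := ?_ }
  · rw [← Nat.not_even_iff_odd, even_iff_two_dvd]
    exact MinSimple.Basic.not_dvd_relIndex S hL.le
  · have hZ : zc (S : Subgroup G) ≤ zl (S : Subgroup G) L ⊓ centralizer ((S : Subgroup G) : Set G) := fun z hz =>
      ⟨zc_le_zl _ _ hz, mem_centralizer_iff.2 fun s hs => (mem_zc.1 hz).2.1 s hs⟩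
    exact CM.cl_mono L hZ

/-- `V ∩ C(S) = Z` -/
theorem mem_zc_of (hc : IsCharacteristicTwoType G) (hL : IsLoc (S : Subgroup G) L) {z : G}
    (hz : z ∈ zl (S : Subgroup G) L) (hzS : z ∈ centralizer ((S : Subgroup G) : Set G)) : z ∈ zc (S : Subgroup G) := by
  have hVS : zl (S : Subgroup G) L ≤ (S : Subgroup G) := (hL.zl_le S hc).trans ((MinSimple.VModule.zc_le _).trans (hL.o2_le S))
  exact mem_zc.2 ⟨hVS hz, fun t ht => mem_centralizer_iff.1 hzS t ht, (bs_of hc hL).sq z hz⟩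

/-- **the system** -/
theorem sys_of (hc : IsCharacteristicTwoType G) (hL : IsLoc (S : Subgroup G) L)
    (hgen : L ≤ sSup {P | IsParS (S : Subgroup G) P ∧ P ≤ L}) (hmv : Mv S L) :
    CM.Sys (S : Subgroup G) L (zl (S : Subgroup G) L) (EE S L) where
  toBs := bs_of hc hL
  le A hA := hA.1
  dich A hA U hU hn := by
    rcases hA.2.dich hc hL hgen (hA.1.trans hL.le) hU hn with h1 | h1
    · exact Or.inl h1
    · exact Or.inr h1.le
  mv z hz hzS hz1 := by
    obtain ⟨P, A, hA, hg, hP⟩ := hmv.mx hc (mem_zc_of hc hL hz hzS) hz1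
    exact ⟨A, hA, fun h1 => hg.mv (mem_zc_of hc hL hz hzS) hP (le_centralizer_iff.1 h1)⟩

/-! ### Generation over a normal subgroup -/

theorem le_E_sup (hc : IsCharacteristicTwoType G) {P B E : Subgroup G} (hg : GOne S L P B)
    (hE : L ≤ normalizer (E : Set G)) (hBE : B ≤ E) : P ≤ E ⊔ (S : Subgroup G) := by
  conv_lhs => rw [← NoFF.LinesPlug.oddGen_sup hg.SP (MinSimple.Basic.not_dvd_relIndex S hg.SP)]
  refine sup_le_sup_right ((odd_le_ncl hg.par hg.AS (hg.not_le_o2 hc)).trans ?_) _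
  exact CM.cl_le hBE (hg.PL.trans hE)

/-- **`W_A = ⟨(W_A ∩ Z)^E⟩`**, `E ⊴ L` contains all `B ∈ EE` with `W_B = W_A`. -/
theorem gen_le (hc : IsCharacteristicTwoType G) (hL : IsLoc (S : Subgroup G) L)
    (h : CM.Sys (S : Subgroup G) L (zl (S : Subgroup G) L) (EE S L)) (hmv : Mv S L) {A : Subgroup G}
    (hA : A ∈ EE S L) {E : Subgroup G} (hEL : E ≤ L) (hE : L ≤ normalizer (E : Set G))
    (hall : ∀ B ∈ EE S L, CM.WW (zl (S : Subgroup G) L) L B = CM.WW (zl (S : Subgroup G) L) L A → B ≤ E) :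
    CM.WW (zl (S : Subgroup G) L) L A ≤
      NoFF.Basic.V (CM.WW (zl (S : Subgroup G) L) L A ⊓ zc (S : Subgroup G)) E := by
  classical
  set V : Subgroup G := zl (S : Subgroup G) L with hV
  set W : Subgroup G := CM.WW V L A with hW
  have hWV : W ≤ V := h.WV hA
  have hLW : L ≤ normalizer (W : Set G) := h.nW A
  set U : Subgroup G := NoFF.Basic.V (W ⊓ zc (S : Subgroup G)) E with hU
  have hUW : U ≤ W := CM.cl_le inf_le_left (hEL.trans hLW)
  have hUV : U ≤ V := hUW.trans hWV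
  have hZU : W ⊓ zc (S : Subgroup G) ≤ U := CM.le_cl _ _
  have hEU : E ≤ normalizer (U : Set G) := CM.norm_cl _ _
  have hSz : (S : Subgroup G) ≤ normalizer (zc (S : Subgroup G) : Set G) :=
    (le_CZ S).trans (centralizer_le_normalizer _)
  have hSU : (S : Subgroup G) ≤ normalizer (U : Set G) :=
    KL.TwoZ.norm_V (CM.norm_inf (h.SM.trans hLW) hSz) (h.SM.trans hE)
  -- good members
  have good : ∀ z ∈ W, z ∈ zc (S : Subgroup G) → z ≠ 1 → ∃ P, ∃ B ∈ EE S L, GOne S L P B ∧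
      ¬ P ≤ centralizer ({z} : Set G) ∧ B ≤ E := by
    intro z hzW hz hz1
    obtain ⟨P, B, hB, hg, hP⟩ := hmv.mx hc hz hz1
    refine ⟨P, B, hB, hg, hP, hall B hB ?_⟩
    by_contra hne
    have h1 : W ≤ CM.CC V L B := h.le_of_ne hB hA hne
    refine hg.mv hz hP ?_
    have h2 : NoFF.Basic.V (zpowers z) L ≤ W := CM.cl_le (by rwa [zpowers_le]) hLW
    refine (CM.le_cl B L).trans (le_centralizer_iff.1 ?_)
    exact h2.trans (h1.trans inf_le_right)
  -- `[V, B] ≤ U`
  have inK : ∀ P B, GOne S L P B → B ≤ E → ∀ z ∈ W, z ∈ zc (S : Subgroup G) →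
      ¬ P ≤ centralizer ({z} : Set G) → B ≤ CM.Kr V U hUV := by
    intro P B hg hBE z hzW hz hP
    have hPU : P ≤ normalizer (U : Set G) := (le_E_sup hc hg hE hBE).trans (sup_le hEU hSU)
    rcases hg.dich hc hUV hPU with h1 | h1
    · exact absurd (le_centralizer_iff.1 h1) (hg.mv' hPU hz (hZU ⟨hzW, hz⟩) hP)
    · intro b hb
      refine CM.mem_Kr.2 ⟨h.MV (hg.PL (hg.SP (hg.AS hb))), fun v hv => ?_⟩
      have hn : U ≤ normalizer ((V ⊓ centralizer (B : Set G) : Subgroup G) : Set G) :=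
        hUV.trans (h.comm.trans ((centralizer_le (s := ((V ⊓ centralizer (B : Set G) : Subgroup G) : Set G))
          inf_le_left).trans (centralizer_le_normalizer _)))
      have hv' : v ∈ ((U ⊔ (V ⊓ centralizer (B : Set G)) : Subgroup G) : Set G) := by
        rw [← h1]; exact hv
      rw [coe_mul_of_left_le_normalizer_right _ _ hn] at hv'
      obtain ⟨u, hu, c, hcc, rfl⟩ := hv'
      have hbc : b * c = c * b := mem_centralizer_iff.1 hcc.2 b hb
      have e : b * (u * c) * b⁻¹ * (u * c)⁻¹ = b * u * b⁻¹ * u⁻¹ := by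
        calc b * (u * c) * b⁻¹ * (u * c)⁻¹ = b * u * (b⁻¹ * (b * c)) * b⁻¹ * c⁻¹ * u⁻¹ := by group
          _ = b * u * (b⁻¹ * (c * b)) * b⁻¹ * c⁻¹ * u⁻¹ := by rw [hbc]
          _ = b * u * (b⁻¹ * c * c⁻¹) * u⁻¹ := by
            have : c * b * b⁻¹ = c := by group
            group
          _ = b * u * b⁻¹ * u⁻¹ := by group
      show b * (u * c) * b⁻¹ * (u * c)⁻¹ ∈ U
      rw [e]
      exact mul_mem ((mem_normalizer_iff.1 (hPU (hg.SP (hg.AS hb))) u).1 hu) (inv_mem hu)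
  set Eg : Subgroup G := E ⊓ CM.Kr V U hUV with hEg
  have hEEg : E ≤ normalizer (Eg : Set G) :=
    CM.norm_inf le_normalizer (CM.norm_Kr hUV (hEL.trans h.MV) hEU)
  have hSEg : (S : Subgroup G) ≤ normalizer (Eg : Set G) :=
    CM.norm_inf (h.SM.trans hE) (CM.norm_Kr hUV (h.SM.trans h.MV) hSU)
  -- `C_W(Eg) = 1`
  have hbot : W ⊓ centralizer (Eg : Set G) = ⊥ := by
    by_contra hne
    have hf : Fact (Nat.Prime 2) := ⟨Nat.prime_two⟩
    have h1 := PLocal.OffenderStep.inf_centralizer_ne_bot (W ⊓ centralizer (Eg : Set G)) (S : Subgroup G)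
      (CM.isPGroup_of_sq fun v hv => h.sq v (hWV hv.1)) S.isPGroup'
      (CM.norm_inf (h.SM.trans hLW) (CM.norm_cent hSEg)) hne
    obtain ⟨z, hz1⟩ := Subgroup.ne_bot_iff_exists_ne_one.1 h1
    have hzW : (z : G) ∈ W := z.2.1.1
    have hz : (z : G) ∈ zc (S : Subgroup G) := mem_zc_of hc hL (hWV hzW) z.2.2
    obtain ⟨P, B, hB, hg, hP, hBE⟩ := good z hzW hz fun h0 => hz1 (Subtype.ext h0)
    have hBg : B ≤ Eg := le_inf hBE (inK P B hg hBE z hzW hz hP)
    apply hP
    conv_lhs => rw [← NoFF.LinesPlug.oddGen_sup hg.SP (MinSimple.Basic.not_dvd_relIndex S hg.SP)]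
    refine sup_le (fun y hy => ?_) (fun y hy => ?_)
    · have hy' : y ∈ Eg := CM.cl_le hBg ((le_E_sup hc hg hE hBE).trans (sup_le hEEg hSEg))
        (odd_le_ncl hg.par hg.AS (hg.not_le_o2 hc) hy)
      rw [mem_centralizer_singleton_iff]
      exact mem_centralizer_iff.1 z.2.1.2 y hy'
    · rw [mem_centralizer_singleton_iff]
      exact mem_centralizer_iff.1 z.2.2 y hy
  -- a minimal `E`-invariant subgroup of `W`
  have hWne : W ≠ ⊥ := fun h0 => hA.2.ne (h.WW_eq_bot.1 h0)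
  obtain ⟨X, ⟨hXW, hEX, hX⟩, hmin⟩ := Set.exists_min_image
    {Y : Subgroup G | Y ≤ W ∧ E ≤ normalizer (Y : Set G) ∧ Y ≠ ⊥} (fun Y => Nat.card Y) (Set.toFinite _)
    ⟨W, le_rfl, hEL.trans hLW, hWne⟩
  have key : ∀ l ∈ L, ∀ Y : Subgroup G, E ≤ normalizer (Y : Set G) →
      E ≤ normalizer ((MulAut.conj l • Y : Subgroup G) : Set G) := by
    intro l hl Y hY e he
    rw [CM.mem_norm_iff, NoFF.Basic.conj_conj]
    have h1 : l⁻¹ * e * l ∈ E := (mem_normalizer_iff''.1 (hE hl) e).1 he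
    have h2 : e * l = l * (l⁻¹ * e * l) := by group
    rw [h2, ← NoFF.Basic.conj_conj, CM.mem_norm_iff.1 (hY h1)]
  have hXU : ∀ l ∈ L, MulAut.conj l • X ≤ U := by
    intro l hl
    have hW1 : MulAut.conj l • X ≤ W := by
      rw [← CM.mem_norm_iff.1 (hLW hl)]
      exact NoFF.Basic.conj_le_iff.2 hXW
    have hEXl := key l hl X hEX
    have hEgX : Eg ≤ normalizer ((MulAut.conj l • X : Subgroup G) : Set G) := inf_le_left.trans hEXl
    set Y : Subgroup G := ⁅MulAut.conj l • X, Eg⁆ with hY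
    have hYX : Y ≤ MulAut.conj l • X := CM.comm_le_self hEgX
    have hEY : E ≤ normalizer (Y : Set G) := CM.norm_comm hEXl hEEg
    have hYU : Y ≤ U := (commutator_mono (hW1.trans hWV) le_rfl).trans (CM.comm_le_of hUV inf_le_right)
    have hYne : Y ≠ ⊥ := by
      intro h0
      apply hX
      have h1 : MulAut.conj l • X ≤ W ⊓ centralizer (Eg : Set G) :=
        le_inf hW1 (le_centralizer_iff.1 (CM.comm_eq_bot.1 h0))
      rw [hbot, le_bot_iff] at h1
      have h2 : Nat.card ↥(MulAut.conj l • X : Subgroup G) = Nat.card X := ChoiceBase.card_cj l X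
      rw [h1, Subgroup.card_bot] at h2
      exact Subgroup.card_eq_one.1 h2.symm
    have h1 := hmin (MulAut.conj l⁻¹ • Y) ⟨by
      rw [← CM.mem_norm_iff.1 (hLW (inv_mem hl))]
      exact NoFF.Basic.conj_le_iff.2 (hYX.trans hW1), key _ (inv_mem hl) Y hEY, by
      intro h0
      apply hYne
      have h2 : Nat.card ↥(MulAut.conj l⁻¹ • Y : Subgroup G) = Nat.card Y := ChoiceBase.card_cj l⁻¹ Y
      rw [h0, Subgroup.card_bot] at h2
      exact Subgroup.card_eq_one.1 h2.symm⟩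
    have h2 : Nat.card ↥(MulAut.conj l⁻¹ • Y : Subgroup G) = Nat.card Y := ChoiceBase.card_cj l⁻¹ Y
    have h3 : Nat.card ↥(MulAut.conj l • X : Subgroup G) = Nat.card X := ChoiceBase.card_cj l X
    have h4 : Y = MulAut.conj l • X := Subgroup.eq_of_le_of_card_ge hYX (by rw [h3, ← h2]; exact h1)
    rw [← h4]
    exact hYU
  have hVX : NoFF.Basic.V X L ≤ U := NoFF.Basic.V_le hXU
  rcases h.irr hA (hVX.trans hUW) (CM.norm_cl X L) with h1 | h1
  · exact absurd (le_bot_iff.1 (h1 ▸ CM.le_cl X L)) hX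
  · exact h1.ge.trans hVX

theorem norm_cent_set {K : Subgroup G} {X : Set G} (hX : ∀ g ∈ K, ∀ x ∈ X, g * x * g⁻¹ ∈ X) :
    K ≤ normalizer (centralizer X : Set G) := by
  have key : ∀ g ∈ K, ∀ y ∈ centralizer X, g * y * g⁻¹ ∈ centralizer X := by
    intro g hg y hy
    rw [mem_centralizer_iff]
    intro x hx
    have h1 := mem_centralizer_iff.1 hy _ (hX g⁻¹ (inv_mem hg) x hx)
    calc x * (g * y * g⁻¹) = g * ((g⁻¹ * x * g⁻¹⁻¹) * y) * g⁻¹ := by group
      _ = g * (y * (g⁻¹ * x * g⁻¹⁻¹)) * g⁻¹ := by rw [h1]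
      _ = (g * y * g⁻¹) * x := by group
  intro g hg
  rw [mem_normalizer_iff]
  intro y
  refine ⟨key g hg y, fun h => ?_⟩
  have h1 := key g⁻¹ (inv_mem hg) _ h
  have e : g⁻¹ * (g * y * g⁻¹) * g⁻¹⁻¹ = y := by group
  rwa [e] at h1

/-- **`W_A = ⟨(W_A ∩ Z)^{L ∩ C(X)}⟩`**, `X` an `L`-invariant union of other classes -/
theorem gen_oth (hc : IsCharacteristicTwoType G) (hL : IsLoc (S : Subgroup G) L)
    (h : CM.Sys (S : Subgroup G) L (zl (S : Subgroup G) L) (EE S L)) (hmv : Mv S L) {A : Subgroup G}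
    (hA : A ∈ EE S L) {X : Set G} (hX : ∀ x ∈ X, ∃ B ∈ EE S L,
      CM.WW (zl (S : Subgroup G) L) L B ≠ CM.WW (zl (S : Subgroup G) L) L A ∧ x ∈ CM.WW (zl (S : Subgroup G) L) L B)
    (hXL : ∀ g ∈ L, ∀ x ∈ X, g * x * g⁻¹ ∈ X) :
    CM.WW (zl (S : Subgroup G) L) L A ≤
      NoFF.Basic.V (CM.WW (zl (S : Subgroup G) L) L A ⊓ zc (S : Subgroup G)) (L ⊓ centralizer X) := by
  refine gen_le hc hL h hmv hA inf_le_left (CM.norm_inf le_normalizer (norm_cent_set hXL)) fun E hE hEA => ?_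
  refine le_inf (h.AM hE) fun e he => ?_
  rw [mem_centralizer_iff]
  intro x hx
  obtain ⟨B, hB, hBA, hxB⟩ := hX x hx
  have h1 : CM.WW (zl (S : Subgroup G) L) L B ≤ CM.CC (zl (S : Subgroup G) L) L E :=
    h.le_of_ne hE hB (by rw [hEA]; exact hBA.symm)
  have h2 := (CM.le_cl E L).trans (le_centralizer_iff.1 (h1.trans inf_le_right))
  exact mem_centralizer_iff.1 (h2 he) x hxB

/-! ### Conjugation -/

theorem exa_conj {V A : Subgroup G} (h : Exa V A) {g : G} (hg : g ∈ normalizer (V : Set G)) :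
    Exa V (cj g A) := by
  have h3 : cj g V = V := ChoiceBase.cj_eq_of_mem_normalizer hg
  have h4 : V ⊓ centralizer (cj g A : Set G) = cj g (V ⊓ centralizer (A : Set G)) := by
    rw [ChoiceBase.cj_inf, ChoiceBase.cj_centralizer, h3]
  have h5 : cj g A ⊓ centralizer (V : Set G) = cj g (A ⊓ centralizer (V : Set G)) := by
    rw [ChoiceBase.cj_inf, ChoiceBase.cj_centralizer, h3]
  unfold Exa
  rw [h4, h5, ChoiceBase.card_cj, ChoiceBase.card_cj, ChoiceBase.card_cj]
  exact h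

theorem mx_conj {V A : Subgroup G} (h : Mx V A) {g : G} (hg : g ∈ normalizer (V : Set G)) : Mx V (cj g A) := by
  have h3 : cj g (centralizer (V : Set G)) = centralizer (V : Set G) := by
    rw [ChoiceBase.cj_centralizer, ChoiceBase.cj_eq_of_mem_normalizer hg]
  refine ⟨VF.elemM_cj hg h.toElemM, h.pg.map _, fun h1 => h.ne ?_, exa_conj h.exact hg, fun B hB hBe hBc => ?_⟩
  · rw [← h3] at h1
    have h2 := ChoiceBase.cj_mono g⁻¹ h1
    rwa [ChoiceBase.cj_inv_cj, ChoiceBase.cj_inv_cj] at h2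
  · have h4 : cj g⁻¹ B ≤ A := by
      have h2 := ChoiceBase.cj_mono g⁻¹ hB
      rwa [ChoiceBase.cj_inv_cj] at h2
    have h5 : A ⊓ centralizer (V : Set G) ≤ cj g⁻¹ B := by
      have h6 : cj g (A ⊓ centralizer (V : Set G)) ≤ B := by
        rw [ChoiceBase.cj_inf, h3]
        exact hBc
      have h7 := ChoiceBase.cj_mono g⁻¹ h6
      rwa [ChoiceBase.cj_inv_cj] at h7
    have h6 : cj g (cj g⁻¹ B) = B := ChoiceBase.cj_cj_inv g B
    rcases h.min _ h4 (exa_conj hBe (inv_mem hg)) h5 with h7 | h7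
    · left
      have h8 := ChoiceBase.cj_mono g h7
      rwa [h6, h3] at h8
    · right
      rw [← h6, h7]

/-- `N_G(S) ∩ N_G(L)` normalises `V` -/
theorem norm_zl {g : G} (hS : g ∈ normalizer ((S : Subgroup G) : Set G)) (hL : g ∈ normalizer (L : Set G)) :
    g ∈ normalizer (zl (S : Subgroup G) L : Set G) := by
  have h1 := MinSimple.CosetFam.zl_conj g (S : Subgroup G) L
  rw [CM.mem_norm_iff.1 hS, CM.mem_norm_iff.1 hL] at h1
  exact CM.mem_norm_iff.2 h1.symm

/-- `N_G(S) ∩ N_G(L)` acts on `EE` -/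
theorem norm_EE {g : G} (hS : g ∈ normalizer ((S : Subgroup G) : Set G)) (hL : g ∈ normalizer (L : Set G))
    {A : Subgroup G} (hA : A ∈ EE S L) : MulAut.conj g • A ∈ EE S L := by
  refine ⟨?_, mx_conj hA.2 (norm_zl hS hL)⟩
  rw [← CM.mem_norm_iff.1 hS]
  exact NoFF.Basic.conj_le_iff.2 hA.1

/-- `N_G(S)` normalises `M₀` -/
theorem norm_MZ {g : G} (hS : g ∈ normalizer ((S : Subgroup G) : Set G)) :
    g ∈ normalizer (Merge.MZ (S : Subgroup G) : Set G) := by
  refine ChoiceBase.mem_normalizer_of_cj_le ?_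
  change MulAut.conj g • Merge.MZ (S : Subgroup G) ≤ Merge.MZ (S : Subgroup G)
  rw [Subgroup.pointwise_smul_subset_iff]
  refine sSup_le fun P hP => ?_
  rw [← Subgroup.pointwise_smul_subset_iff]
  have h5 := IsParS.map (MulAut.conj g) hP
  have h6 : (S : Subgroup G).map (MulAut.conj g).toMonoidHom = S := CM.mem_norm_iff.1 hS
  rw [h6] at h5
  exact le_sSup h5

/-! ### Two classes -/

/-- **Two classes: 692's `Spl`.** -/
theorem spl_of (h : RTree.RB S) (hL : IsLoc (S : Subgroup G) (Merge.MZ (S : Subgroup G)))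
    (hmv : Mv S (Merge.MZ (S : Subgroup G))) {A B : Subgroup G} (hA : A ∈ EE S (Merge.MZ (S : Subgroup G)))
    (hB : B ∈ EE S (Merge.MZ (S : Subgroup G)))
    (hne : CM.WW (zl (S : Subgroup G) (Merge.MZ (S : Subgroup G))) (Merge.MZ (S : Subgroup G)) A ≠
      CM.WW (zl (S : Subgroup G) (Merge.MZ (S : Subgroup G))) (Merge.MZ (S : Subgroup G)) B)
    (hall : ∀ C ∈ EE S (Merge.MZ (S : Subgroup G)),
      CM.WW (zl (S : Subgroup G) (Merge.MZ (S : Subgroup G))) (Merge.MZ (S : Subgroup G)) C =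
        CM.WW (zl (S : Subgroup G) (Merge.MZ (S : Subgroup G))) (Merge.MZ (S : Subgroup G)) A ∨
      CM.WW (zl (S : Subgroup G) (Merge.MZ (S : Subgroup G))) (Merge.MZ (S : Subgroup G)) C =
        CM.WW (zl (S : Subgroup G) (Merge.MZ (S : Subgroup G))) (Merge.MZ (S : Subgroup G)) B)
    (wA : CM.WW (zl (S : Subgroup G) (Merge.MZ (S : Subgroup G))) (Merge.MZ (S : Subgroup G)) A ≤
      Basic.WP (S : Subgroup G))
    (wB : CM.WW (zl (S : Subgroup G) (Merge.MZ (S : Subgroup G))) (Merge.MZ (S : Subgroup G)) B ≤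
      Basic.WP (S : Subgroup G)) :
    InstZ.Spl S ![CM.WW (zl (S : Subgroup G) (Merge.MZ (S : Subgroup G))) (Merge.MZ (S : Subgroup G)) A,
      CM.WW (zl (S : Subgroup G) (Merge.MZ (S : Subgroup G))) (Merge.MZ (S : Subgroup G)) B] := by
  classical
  set M : Subgroup G := Merge.MZ (S : Subgroup G) with hM
  set V : Subgroup G := zl (S : Subgroup G) M with hV
  have hc := h.ctx.char2
  have hgen : M ≤ sSup {P | IsParS (S : Subgroup G) P ∧ P ≤ M} :=
    sSup_le fun P hP => le_sSup ⟨hP, le_sSup hP⟩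
  have s : CM.Sys (S : Subgroup G) M V (EE S M) := sys_of hc hL hgen hmv
  -- symmetric facts
  have bot : CM.WW V M A ⊓ CM.WW V M B = ⊥ := by
    rw [eq_bot_iff, ← s.inf_bot hA]
    exact inf_le_inf_left _ (s.le_of_ne hA hB hne)
  have conj2 : ∀ g ∈ normalizer ((S : Subgroup G) : Set G), ∀ C ∈ EE S M,
      MulAut.conj g • CM.WW V M C = CM.WW V M A ∨ MulAut.conj g • CM.WW V M C = CM.WW V M B := by
    intro g hg C hC
    rw [CM.conj_WW (norm_MZ hg) (norm_zl hg (norm_MZ hg))]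
    exact hall _ (norm_EE hg (norm_MZ hg) hC)
  have inj : ∀ g : G, ∀ C D : Subgroup G, MulAut.conj g • C = MulAut.conj g • D → C = D := by
    intro g C D h1
    exact le_antisymm (NoFF.Basic.conj_le_iff.1 h1.le) (NoFF.Basic.conj_le_iff.1 h1.ge)
  have exz : ∀ C ∈ EE S M, ∃ z ∈ CM.WW V M C, z ∈ zc (S : Subgroup G) ∧ z ≠ 1 := by
    intro C hC
    obtain ⟨z, hz, hzS, hz1⟩ := s.exists_z (s.WV hC) (s.nW C) fun h0 => hC.2.ne (s.WW_eq_bot.1 h0)
    exact ⟨z, hz, mem_zc_of hc hL (s.WV hC hz) hzS, hz1⟩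
  -- an element of `N(S)` centralising `Z ∩ W_C`
  have fix : ∀ C ∈ EE S M, ∀ D ∈ EE S M, CM.WW V M C ⊓ CM.WW V M D = ⊥ →
      (∀ E ∈ EE S M, CM.WW V M E = CM.WW V M C ∨ CM.WW V M E = CM.WW V M D) →
      ∀ g ∈ normalizer ((S : Subgroup G) : Set G), g ∈ centralizer (CM.WW V M C ⊓ zc (S : Subgroup G) : Set G) →
      g ∈ normalizer (CM.WW V M C : Set G) ∧ g ∈ normalizer (CM.WW V M D : Set G) := by
    intro C hC D hD hb hall' g hg hgc
    obtain ⟨z, hz, hzc, hz1⟩ := exz C hC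
    have hgz : g⁻¹ * z * g = z := by
      have h1 : z * g = g * z := mem_centralizer_iff.1 hgc z ⟨hz, hzc⟩
      rw [mul_assoc, h1]; group
    have cv : ∀ E ∈ EE S M, MulAut.conj g • CM.WW V M E = CM.WW V M C ∨ MulAut.conj g • CM.WW V M E = CM.WW V M D := by
      intro E hE
      rw [CM.conj_WW (norm_MZ hg) (norm_zl hg (norm_MZ hg))]
      exact hall' _ (norm_EE hg (norm_MZ hg) hE)
    have h1 : MulAut.conj g • CM.WW V M C = CM.WW V M C := by
      rcases cv C hC with h1 | h1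
      · exact h1
      · exfalso
        apply hz1
        rw [← mem_bot, ← hb]
        refine ⟨hz, ?_⟩
        rw [← h1]
        change z ∈ MulAut.conj g • CM.WW V M C
        rw [NoFF.Basic.mem_conj, hgz]
        exact hz
    refine ⟨CM.mem_norm_iff.2 h1, CM.mem_norm_iff.2 ?_⟩
    rcases cv D hD with h2 | h2
    · exfalso
      have h3 : CM.WW V M D = CM.WW V M C := inj g _ _ (h2.trans h1.symm)
      rw [h3, inf_idem] at hb
      exact hC.2.ne (s.WW_eq_bot.1 hb)
    · exact h2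
  -- generation
  have gen : ∀ C ∈ EE S M, ∀ D ∈ EE S M, CM.WW V M C ≠ CM.WW V M D →
      CM.WW V M C ≤ NoFF.Basic.V (CM.WW V M C ⊓ zc (S : Subgroup G))
        (centralizer (CM.WW V M D ⊓ zc (S : Subgroup G) : Set G)) := by
    intro C hC D hD hCD
    refine (gen_le hc hL s hmv hC (E := M ⊓ centralizer (CM.WW V M D : Set G)) inf_le_left
      (CM.norm_inf le_normalizer (CM.norm_cent (s.nW D))) fun E hE hEC => ?_).trans ?_
    · refine le_inf (s.AM hE) ?_
      have h1 : CM.WW V M D ≤ CM.CC V M E := s.le_of_ne hE hD (by rw [hEC]; exact hCD)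
      exact (CM.le_cl E M).trans (le_centralizer_iff.1 (h1.trans inf_le_right))
    · refine NoFF.Basic.V_le fun p hp => NoFF.Basic.Z_le_V ?_
      exact centralizer_le (inf_le_left (a := CM.WW V M D)) hp.2
  have hbot' : CM.WW V M B ⊓ CM.WW V M A = ⊥ := by rw [inf_comm]; exact bot
  have hall' : ∀ C ∈ EE S M, CM.WW V M C = CM.WW V M B ∨ CM.WW V M C = CM.WW V M A := fun C hC => (hall C hC).symm
  refine
    { sup := ?_
      dis := bot
      ne := ?_
      nS := ?_
      wp := ?_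
      par := ?_
      nN := ?_
      gen := ?_ }
  · change CM.WW V M A ⊔ CM.WW V M B = V
    refine le_antisymm (sup_le (s.WV hA) (s.WV hB)) ?_
    conv_lhs => rw [s.iSup_eq]
    refine iSup₂_le fun C hC => ?_
    rcases hall C hC with h1 | h1
    · rw [h1]; exact le_sup_left
    · rw [h1]; exact le_sup_right
  · rw [Fin.forall_fin_two]
    exact ⟨fun h0 => hA.2.ne (s.WW_eq_bot.1 h0), fun h0 => hB.2.ne (s.WW_eq_bot.1 h0)⟩
  · rw [Fin.forall_fin_two]
    exact ⟨s.SM.trans (s.nW A), s.SM.trans (s.nW B)⟩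
  · rw [Fin.forall_fin_two]
    exact ⟨wA, wB⟩
  · intro i j _ R hR _ _
    have hRM : R ≤ M := le_sSup hR
    rw [Fin.forall_fin_two]
    exact ⟨hRM.trans (s.nW A), hRM.trans (s.nW B)⟩
  · rw [Fin.forall_fin_two]
    constructor
    · intro g hg hgc
      rw [Fin.forall_fin_two]
      exact fix A hA B hB bot hall g hg hgc
    · intro g hg hgc
      rw [Fin.forall_fin_two]
      exact (fix B hB A hA hbot' hall' g hg hgc).symm
  · intro i j hij
    fin_cases i <;> fin_cases j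
    · exact absurd rfl hij
    · exact gen A hA B hB hne
    · exact gen B hB A hA (Ne.symm hne)
    · exact absurd rfl hij

end CI

end Cfsg.Agent.Omega.NOThreeL.RRed
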