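import Cfsg.Agent.Omega.NOThreeL.RRed.WLeftBase
import Cfsg.Agent.Omega.NOThreeL.RWide.LeftCore

/-!
# `LData` from the class modules and the blocks (helper540, for `LeftPerm` of WideTree)

* **`ldata`** : `CM S W` (at least two classes), `Blk.Dec S M₀ V* N E ⊥`, `W i = ∏_{side b = i} N b`, `permN`, `mov`, `all`
  give `PInst.LData S N l W side`;
* **`left_perm_of`** : `C_G(Z)` permutes the lines of each class.
-/

set_option autoImplicit false
set_option linter.unusedSectionVars false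

namespace Cfsg.Agent.Omega.NOThreeL.RRed.LeftData

open Subgroup Cfsg Cfsg.Agent.ZN Cfsg.Agent.Omega.MinPar Cfsg.Agent.Omega.Frame Cfsg.Agent.Omega.FrameNOFF
open Cfsg.Agent.Omega.FFThm (NatKM)
open Cfsg.Agent.Omega.FrameFF (cv)
open Cfsg.Agent.Omega.NO3S.ThmB (Nb)
open Cfsg.Agent.Omega.NO3S.KeyRad (blk)
open Cfsg.Agent.Omega.NOThreeL.Merge (MZ)
open Cfsg.Agent.Omega.NOThreeL.RTree (RB)
open Cfsg.Agent.Omega.NOThreeL.RRed.GlueSig
open Cfsg.Agent.Omega.NOThreeL.RRed.WideTree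
open Cfsg.Agent.Omega.NOThreeL.RWide.PInst (LData left_core)
open scoped Pointwise

universe u

variable {G : Type u} [Group G] [Finite G] {S : Sylow 2 G} {κ ι : Type u} {W : κ → Subgroup G}
  {N E l : ι → Subgroup G} {side : ι → κ}

theorem cmi_le (C : CM (S : Subgroup G) W) (i : κ) : W i ≤ Wd (S : Subgroup G) := by
  rw [← C.sup]; exact le_iSup W i

theorem cmi_dis (C : CM (S : Subgroup G) W) {i j : κ} (hij : i ≠ j) : W i ⊓ W j = ⊥ := by
  rw [eq_bot_iff, ← C.ind i]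
  exact inf_le_inf_left _ (le_iSup (fun k : {k // k ≠ i} => W k) ⟨j, hij.symm⟩)

theorem dec_indep {L U : Subgroup G} (d : Blk.Dec (S : Subgroup G) L U N E ⊥) : iSupIndep N := by
  intro b
  rw [disjoint_iff_inf_le, ← d.ind b]
  refine inf_le_inf_left _ (le_sup_of_le_left (iSup₂_le fun c hc => ?_))
  exact le_iSup (fun c : {c // c ≠ b} => N c) ⟨c, hc⟩

theorem ldata (h : RB S) (C : CM (S : Subgroup G) W) (two : ∃ i j : κ, i ≠ j)
    (dec : Blk.Dec (S : Subgroup G) (MZ (S : Subgroup G)) (Wd (S : Subgroup G)) N E ⊥)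
    (hW : ∀ i, W i = ⨆ b : {b // side b = i}, N b)
    (permN : ∀ s ∈ normalizer ((S : Subgroup G) : Set G), ∀ b, ∃ c,
      MulAut.conj s • N b = N c ∧ MulAut.conj s • l b = l c)
    (mov : ∀ b, ∃ P, Act (S : Subgroup G) P ∧ ∃ (F : Type) (_ : Field F) (_ : CharP F 2) (k : ℕ)
      (M : NatKM F (S : Subgroup G) P (zl (S : Subgroup G) P) (cv (S : Subgroup G) P) k) (h : Nb M) (j : Fin k),
      (∀ i, NS.DD M i = ⊥) ∧ N b = blk M j ∧ l b = NS.YY h j)
    (all : ∀ b, ∃ A, KL.TwoS.Mx (o2 (centralizer (zc (S : Subgroup G) : Set G))) A ∧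
      ¬ A ≤ centralizer (N b : Set G)) : LData S N l W side where
  ind := dec_indep dec
  ne := dec.ne
  NW b := by
    rw [hW (side b)]
    exact le_iSup (fun c : {c // side c = side b} => N c) ⟨b, rfl⟩
  dis i j hij := cmi_dis C hij
  nS i := (WLeft.S_le_MZ h).trans (C.inv i)
  WS i := (cmi_le C i).trans (WLeft.Wd_le_S h)
  sq i w hw := WLeft.Wd_sq h w (cmi_le C i hw)
  Wne := C.ne
  two i := by
    obtain ⟨a, b, hab⟩ := two
    by_cases ha : a = i
    · exact ⟨b, fun hb => hab (ha.trans hb.symm)⟩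
    · exact ⟨a, ha⟩
  permN := permN
  src b := by
    obtain ⟨P, hP, hM⟩ := mov b
    obtain ⟨i, -, hi⟩ := C.one P hP
    exact ⟨P, hP.1, ⟨i, hi⟩, hM⟩
  all := all

/-- **PERM+** -/
theorem left_perm_of (h : RB S) (C : CM (S : Subgroup G) W) (two : ∃ i j : κ, i ≠ j)
    (dec : Blk.Dec (S : Subgroup G) (MZ (S : Subgroup G)) (Wd (S : Subgroup G)) N E ⊥)
    (hW : ∀ i, W i = ⨆ b : {b // side b = i}, N b)
    (permN : ∀ s ∈ normalizer ((S : Subgroup G) : Set G), ∀ b, ∃ c,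
      MulAut.conj s • N b = N c ∧ MulAut.conj s • l b = l c)
    (mov : ∀ b, ∃ P, Act (S : Subgroup G) P ∧ ∃ (F : Type) (_ : Field F) (_ : CharP F 2) (k : ℕ)
      (M : NatKM F (S : Subgroup G) P (zl (S : Subgroup G) P) (cv (S : Subgroup G) P) k) (h : Nb M) (j : Fin k),
      (∀ i, NS.DD M i = ⊥) ∧ N b = blk M j ∧ l b = NS.YY h j)
    (all : ∀ b, ∃ A, KL.TwoS.Mx (o2 (centralizer (zc (S : Subgroup G) : Set G))) A ∧
      ¬ A ≤ centralizer (N b : Set G)) :
    ∀ c ∈ centralizer (zc (S : Subgroup G) : Set G), ∀ b, ∃ b', side b' = side b ∧ MulAut.conj c • l b = l b' :=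
  left_core (ldata h C two dec hW permN mov all) h

end Cfsg.Agent.Omega.NOThreeL.RRed.LeftData
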