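import Cfsg.Agent.Omega.NOThreeL.RRed.Semi
import Cfsg.Agent.Omega.NOThreeL.RWide.TBlk

/-!
# NO-3L, box R: the `NBs` data give 655's `TBlk.Bls` (field `semi` from v5's `sD`)

`sD : ∀ s ∈ S, ∀ b, ∃ c, s` transports `(N b, D b, l b)` to `(N c, D c, l c)` (field of `NBs`, v5).
* `nbs_semi` : the elements of `S ∩ N(N b)` are semilinear on `N b`;
* **`nbs_bls`** : `Bls S (Wd S) N l E`; `nbs_blsD` : `Bls S (Wd S) N l D`.
-/

set_option autoImplicit false
set_option linter.unusedSectionVars false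

namespace Cfsg.Agent.Omega.NOThreeL.RRed.SemiNB

open Subgroup Cfsg Cfsg.Agent.ZN.ChoiceBase Cfsg.Agent.Omega.NOThreeL.RRed.WideTree
  Cfsg.Agent.Omega.NOThreeL.RRed.GOne Cfsg.Agent.Omega.NOThreeL.RRed.Semi Cfsg.Agent.Omega.NOThreeL.RWide
open scoped Pointwise

universe u

variable {G : Type u} [Group G] {S : Subgroup G} {ι : Type u} {N E D l : ι → Subgroup G} {q : ι → ℕ}

/-- `S` transports `(N b, D b, l b)` (v5's field `sD`) -/
abbrev SD (S : Subgroup G) (N D l : ι → Subgroup G) : Prop :=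
  ∀ s ∈ S, ∀ b, ∃ c, MulAut.conj s • N b = N c ∧ MulAut.conj s • D b = D c ∧ MulAut.conj s • l b = l c

theorem smul_mem_conj {s v : G} {K L : Subgroup G} (e : MulAut.conj s • K = L) (hv : v ∈ K) : s * v * s⁻¹ ∈ L := by
  rw [← e]
  exact Subgroup.mem_map_of_mem (MulAut.conj s).toMonoidHom hv

theorem nbs_N_inj (h : NBs S N E D l q) {b c : ι} (e : N b = N c) : b = c := by
  by_contra hbc
  have h1 := h.dec.ind b
  rw [sup_bot_eq] at h1
  have h2 : N b ≤ N b ⊓ ⨆ c : {c // c ≠ b}, N c := le_inf le_rfl (by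
    rw [e]; exact le_iSup (fun c : {c // c ≠ b} => N c) ⟨c, fun e' => hbc e'.symm⟩)
  rw [h1] at h2
  exact h.dec.ne b (le_bot_iff.1 h2)

/-- `s ∈ S ∩ N(N b)` normalises `D b` and `l b` -/
theorem nbs_norm (h : NBs S N E D l q) (sD : SD S N D l) {b : ι} {s : G} (hs : s ∈ S)
    (hsN : s ∈ normalizer (N b : Set G)) : (∀ d ∈ D b, s * d * s⁻¹ ∈ D b) ∧ ∀ v ∈ l b, s * v * s⁻¹ ∈ l b := by
  obtain ⟨c, h1, h2, h3⟩ := sD s hs b
  have h4 : MulAut.conj s • N b = N b := cj_eq_of_mem_normalizer hsN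
  have h5 : c = b := nbs_N_inj h (by rw [← h1, h4])
  subst h5
  exact ⟨fun d hd => smul_mem_conj h2 hd, fun v hv => smul_mem_conj h3 hv⟩

/-- **655's `semi`** -/
theorem nbs_semi (h : NBs S N E D l q) (sD : SD S N D l) {b : ι} {F : Type} [Field F] [Finite F]
    {e : G → Fin 2 → F} (hn : NatBlk S (D b) (N b) (l b) F e) {s : G} (hs : s ∈ S)
    (hsN : s ∈ normalizer (N b : Set G)) : ∃ (σ : F ≃+* F) (a c d : F), ∀ v ∈ N b,
      e (s * v * s⁻¹) = ![a * σ (e v 0) + c * σ (e v 1), d * σ (e v 1)] :=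
  natblk_semi' hn hsN (nbs_norm h sD hs hsN).1 ((h.DE b).trans (h.dec.EN b)) (nbs_norm h sD hs hsN).2

theorem nbs_nbE (h : NBs S N E D l q) (sD : SD S N D l) {b : ι} {F : Type} [Field F] [Finite F]
    {e : G → Fin 2 → F} (hn : NatBlk S (D b) (N b) (l b) F e) : TBlk.NB S (E b) (N b) (l b) F e where
  mul := hn.mul
  inj := hn.inj
  sur := hn.sur
  line := hn.line
  full M := by
    obtain ⟨g, hg, h1⟩ := hn.full M
    exact ⟨g, h.DE b hg, h1⟩
  root c := by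
    obtain ⟨s, hs, h1⟩ := hn.sylow c
    exact ⟨s, ⟨hs.1, h.DE b hs.2⟩, h1⟩
  semi _ hs hsN := nbs_semi h sD hn hs hsN

theorem nbs_nbD (h : NBs S N E D l q) (sD : SD S N D l) {b : ι} {F : Type} [Field F] [Finite F]
    {e : G → Fin 2 → F} (hn : NatBlk S (D b) (N b) (l b) F e) : TBlk.NB S (D b) (N b) (l b) F e where
  mul := hn.mul
  inj := hn.inj
  sur := hn.sur
  line := hn.line
  full := hn.full
  root := hn.sylow
  semi _ hs hsN := nbs_semi h sD hn hs hsN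

/-- **The `NBs` data are `Bls` data, `E`-version** -/
theorem nbs_bls (h : NBs S N E D l q) (sD : SD S N D l) : TBlk.Bls S (Wd S) N l E where
  com v hv w hw := (mem_centralizer_iff.1 (h.dec.ab hv) w hw).symm
  sup := by
    have h1 := h.dec.sup
    rwa [sup_bot_eq] at h1
  ind b := by
    have h1 := h.dec.ind b
    rwa [sup_bot_eq] at h1
  EN := h.dec.EN
  EC := h.dec.EC
  nat b := by
    obtain ⟨F, i1, i2, i3, e, -, hn⟩ := h.nat b
    exact ⟨F, i1, i2, i3, e, nbs_nbE h sD hn⟩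
  perm s hs b := by
    obtain ⟨c, h1, -, h3⟩ := sD s hs b
    exact ⟨c, h1, h3⟩

/-- **The `NBs` data are `Bls` data, `D`-version** -/
theorem nbs_blsD (h : NBs S N E D l q) (sD : SD S N D l) : TBlk.Bls S (Wd S) N l D where
  com := (nbs_bls h sD).com
  sup := (nbs_bls h sD).sup
  ind := (nbs_bls h sD).ind
  EN b := (h.DE b).trans (h.dec.EN b)
  EC b c hbc := (h.DE b).trans (h.dec.EC b c hbc)
  nat b := by
    obtain ⟨F, i1, i2, i3, e, -, hn⟩ := h.nat b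
    exact ⟨F, i1, i2, i3, e, nbs_nbD h sD hn⟩
  perm := (nbs_bls h sD).perm

/-- **`NBs` ⟹ `Bls`** (v5) -/
theorem _root_.Cfsg.Agent.Omega.NOThreeL.RRed.WideTree.NBs.bls (h : NBs S N E D l q) : TBlk.Bls S (Wd S) N l E :=
  nbs_bls h h.sD

theorem _root_.Cfsg.Agent.Omega.NOThreeL.RRed.WideTree.NBs.blsD (h : NBs S N E D l q) : TBlk.Bls S (Wd S) N l D :=
  nbs_blsD h h.sD

/-- **655's `semi`** (v5) -/
theorem _root_.Cfsg.Agent.Omega.NOThreeL.RRed.WideTree.NBs.semi (h : NBs S N E D l q) {b : ι} {F : Type} [Field F]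
    [Finite F] {e : G → Fin 2 → F} (hn : NatBlk S (D b) (N b) (l b) F e) {s : G} (hs : s ∈ S)
    (hsN : s ∈ normalizer (N b : Set G)) : ∃ (σ : F ≃+* F) (a c d : F), ∀ v ∈ N b,
      e (s * v * s⁻¹) = ![a * σ (e v 0) + c * σ (e v 1), d * σ (e v 1)] := nbs_semi h h.sD hn hs hsN

end Cfsg.Agent.Omega.NOThreeL.RRed.SemiNB
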