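import Cfsg.Agent.Omega.NOThreeL.RRed.Side
import Cfsg.Agent.Omega.NOThreeL.RRed.Base
import Cfsg.Agent.Omega.NOThreeL.VF.Nat
import Cfsg.Agent.Omega.IId.Cv.SplitTwo
import Cfsg.Agent.Omega.IId.SymWrD.Zero

/-!
# NO-3L, box R, the block theorem, (G1) of #23492 (helper704), text: helper245

`S ≤ L`, `L` 2-local, generated by the members of `P*(S)` in `L`; `U = zl S L` (`L = MZ S`: `U = V* = Wd S`).

* `exact_of` : exactness, `U = V C_U(A)`;
* `GOne S L P A` : `P ∈ P*(S)`, `P ≤ L`; no subgroup of `L` over-offends on `U`; `A ≤ S` is an offender on `U` and on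
  `V_P`, `C_A(V_P) ≤ C_A(U)`, `U = V_P C_U(A)`; the conclusion of the FF theorem for `P`;
* `exists_gOne` : existence, if `L` has an offender on `U`;
* `ffMod_of` : box R: some `A ≤ S` is an offender on `V*` (one `P ∈ F_z` with `P ≰ N_G(V^!(S))` suffices);
* `g1` : `GOne S (MZ S) P A` in box R;
* `Two2 S P` : `P` is of type `q = 2` or `S_n`; `GOne.tv` : then some `t ∈ A` is a transvection on `U`, its centre is
  in `V_P`;
* `tv_or` : the case split (a transvection on `U`, or some `P` of type `q ≥ 4`);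
* `gOne_of_opt` : `GOne S L R A` for every `R` whose line is moved by an optimal `A ≤ S`.
-/

set_option autoImplicit false
set_option linter.unusedSectionVars false

namespace Cfsg.Agent.Omega.NOThreeL.RRed

open Subgroup Cfsg Cfsg.Agent.ZN Cfsg.Agent.Omega.MinPar Cfsg.Agent.Omega.Frame Cfsg.Agent.Omega.FrameNOFF
open Cfsg.Agent.Omega.Node.NO3L Cfsg.Agent.Omega.NOThreeL.Basic Cfsg.Agent.Omega.NOThreeL.RTree
open Cfsg.Agent.Omega.NOThreeL.Merge (MZ S_le_MZ isLoc_MZ zl_MZ_comm zl_MZ_isPGroup)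
open Cfsg.Agent.Omega.NOThreeL.ZCut (FZ)
open Cfsg.Agent.Omega.NO3b.Bang (bang NN)
open Cfsg.Agent.Omega.NO3S (FFMod)
open Cfsg.Agent.Omega.FFThm (ElemM OffM NoOverM ConclM NatKM SymKM NatK SymK ActsSL ActsSym)
open Cfsg.Agent.Omega.FrameFF (cv)
open Cfsg.Agent.Omega.HOne.Main (vx SplitPar)
open Cfsg.Agent.ZN.CaseTwo (syl_of_sylow)
open Cfsg.Agent.Omega.NatPair (ap)
open Cfsg.Agent.Lib.SL2Mat

universe u

variable {G : Type u} [Group G]

/-! ### Exactness -/

/-- **Exactness**: `A` offends on `U`, not over-offends on `V ≤ U`, `C_A(V) ≤ C_A(U)`: `U = V C_U(A)`. -/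
theorem exact_of [Finite G] {U V A : Subgroup G} (hU : U ≤ centralizer (U : Set G)) (hVU : V ≤ U)
    (hoff : Nat.card U * Nat.card ↥(A ⊓ centralizer (U : Set G)) ≤
      Nat.card A * Nat.card ↥(U ⊓ centralizer (A : Set G)))
    (hno : Nat.card A * Nat.card ↥(V ⊓ centralizer (A : Set G)) ≤
      Nat.card V * Nat.card ↥(A ⊓ centralizer (V : Set G)))
    (hAc : A ⊓ centralizer (V : Set G) ≤ centralizer (U : Set G)) :
    U = V ⊔ (U ⊓ centralizer (A : Set G)) := by
  have e1 : A ⊓ centralizer (V : Set G) = A ⊓ centralizer (U : Set G) :=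
    le_antisymm (le_inf inf_le_left hAc) (inf_le_inf_left _ (centralizer_le hVU))
  have e2 : V ⊓ (U ⊓ centralizer (A : Set G)) = V ⊓ centralizer (A : Set G) := by
    rw [← inf_assoc, inf_eq_left.2 hVU]
  have h1 := Star.card_sup_mul hU hVU (inf_le_left : U ⊓ centralizer (A : Set G) ≤ U)
  rw [e2] at h1
  rw [e1] at hno
  set m := Nat.card ↥(V ⊔ (U ⊓ centralizer (A : Set G)))
  set w := Nat.card ↥(V ⊓ centralizer (A : Set G))
  set c := Nat.card ↥(A ⊓ centralizer (U : Set G))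
  set n := Nat.card ↥(U ⊓ centralizer (A : Set G))
  have pw : 0 < w := Nat.card_pos
  have pc : 0 < c := Nat.card_pos
  have h2 : Nat.card U * (c * w) ≤ m * (c * w) := by
    calc Nat.card U * (c * w) = (Nat.card U * c) * w := by ring
      _ ≤ (Nat.card A * n) * w := Nat.mul_le_mul_right _ hoff
      _ = (Nat.card A * w) * n := by ring
      _ ≤ (Nat.card V * c) * n := Nat.mul_le_mul_right _ hno
      _ = (m * w) * c := by rw [h1]; ring
      _ = m * (c * w) := by ring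
  exact (Subgroup.eq_of_le_of_card_ge (sup_le hVU inf_le_left)
    (Nat.le_of_mul_le_mul_right h2 (Nat.mul_pos pc pw))).symm

/-! ### (G1) for a pair `(L, U)` -/

/-- **(G1)** for `(L, zl S L)`. -/
structure GOne [Finite G] (S : Sylow 2 G) (L P A : Subgroup G) : Prop where
  par : IsParS (S : Subgroup G) P
  PL : P ≤ L
  AS : A ≤ (S : Subgroup G)
  comm : zl (S : Subgroup G) L ≤ centralizer (zl (S : Subgroup G) L : Set G)
  no : NoOverM (zl (S : Subgroup G) L) L
  offU : OffM (zl (S : Subgroup G) L) A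
  offP : OffM (zl (S : Subgroup G) P) A
  cent : A ⊓ centralizer (zl (S : Subgroup G) P : Set G) ≤ centralizer (zl (S : Subgroup G) L : Set G)
  concl : ConclM (S : Subgroup G) P
  ex : zl (S : Subgroup G) L = zl (S : Subgroup G) P ⊔ (zl (S : Subgroup G) L ⊓ centralizer (A : Set G))

section fin

variable [Finite G] {S : Sylow 2 G} {L P A : Subgroup G}

/-- **(G1)**: existence. -/
theorem exists_gOne (hc : IsCharacteristicTwoType G) (hL : IsLoc (S : Subgroup G) L)
    (hgen : L ≤ sSup {P | IsParS (S : Subgroup G) P ∧ P ≤ L})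
    (hoff : ∃ A ≤ L, OffM (zl (S : Subgroup G) L) A) : ∃ P A, GOne S L P A := by
  obtain ⟨hno, P, hP, hPL, A, hA, hoffU, hoffP, hAc, hcon⟩ := VF.one FFBr.ffthmM hc S hL hgen hoff
  have hVU : zl (S : Subgroup G) P ≤ zl (S : Subgroup G) L := Star.zl_mono _ hPL
  have hcomm : zl (S : Subgroup G) L ≤ centralizer (zl (S : Subgroup G) L : Set G) := by
    intro x hx
    rw [mem_centralizer_iff]
    intro y hy
    exact MinSimple.VModule.zc_comm _ _ (hL.zl_le S hc hy) _ (hL.zl_le S hc hx)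
  have hnoP := (FFBr.ffthmM G (S : Subgroup G) P (syl_of_sylow S hP.le) hP.toIsMinPar
    (hP.isLoc.char2 S hc) ⟨A, hA.trans hP.le, hoffP⟩).1
  refine ⟨P, A, hP, hPL, hA, hcomm, hno, hoffU, hoffP, hAc, hcon, ?_⟩
  exact exact_of hcomm hVU hoffU.le (hnoP A (hA.trans hP.le) hoffP.toElemM) hAc

namespace GOne

variable (h : GOne S L P A)
include h

theorem VU : zl (S : Subgroup G) P ≤ zl (S : Subgroup G) L := Star.zl_mono _ h.PL

theorem dec {u : G} (hu : u ∈ zl (S : Subgroup G) L) :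
    ∃ v ∈ zl (S : Subgroup G) P, ∃ w ∈ zl (S : Subgroup G) L ⊓ centralizer (A : Set G), u = v * w := by
  rw [h.ex] at hu
  have hn : (zl (S : Subgroup G) L ⊓ centralizer (A : Set G) : Subgroup G) ≤
      normalizer (zl (S : Subgroup G) P : Set G) :=
    inf_le_left.trans (h.comm.trans ((centralizer_le h.VU).trans (centralizer_le_normalizer _)))
  have hu' : u ∈ ((zl (S : Subgroup G) P ⊔ (zl (S : Subgroup G) L ⊓ centralizer (A : Set G)) : Subgroup G) :
      Set G) := hu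
  rw [coe_mul_of_right_le_normalizer_left _ _ hn] at hu'
  obtain ⟨v, hv, w, hw, e⟩ := hu'
  exact ⟨v, hv, w, hw, e.symm⟩

/-- `[U, a] = [V_P, a]` for `a ∈ A` -/
theorem comm_eq {u : G} (hu : u ∈ zl (S : Subgroup G) L) :
    ∃ v ∈ zl (S : Subgroup G) P, ∀ a ∈ A, a * u * a⁻¹ * u⁻¹ = a * v * a⁻¹ * v⁻¹ := by
  obtain ⟨v, hv, w, hw, rfl⟩ := h.dec hu
  refine ⟨v, hv, fun a ha => ?_⟩
  have h1 : a * w = w * a := mem_centralizer_iff.1 hw.2 a ha
  calc a * (v * w) * a⁻¹ * (v * w)⁻¹ = a * v * a⁻¹ * (a * w) * a⁻¹ * w⁻¹ * v⁻¹ := by group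
    _ = a * v * a⁻¹ * v⁻¹ := by rw [h1]; group

/-- a transvection on `V_P` in `A` is a transvection on `U` -/
theorem tv_of_tv {c t : G} (ht : t ∈ A) (hc : c ∈ zl (S : Subgroup G) P) (htv : Tv (zl (S : Subgroup G) P) c t) :
    Tv (zl (S : Subgroup G) L) c t := by
  intro u hu
  obtain ⟨v, hv, w, hw, rfl⟩ := h.dec hu
  have h1 : t * w = w * t := mem_centralizer_iff.1 hw.2 t ht
  have e : t * (v * w) * t⁻¹ = t * v * t⁻¹ * w := by
    calc t * (v * w) * t⁻¹ = t * v * t⁻¹ * (t * w) * t⁻¹ := by group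
      _ = _ := by rw [h1]; group
  rcases htv v hv with h2 | h2
  · left; rw [e, h2]
  · right
    rw [e, h2, mul_assoc, mul_assoc]
    congr 1
    exact mem_centralizer_iff.1 (h.comm hw.1) c (h.VU hc)

theorem not_cent {t : G} (ht : t ∉ centralizer (zl (S : Subgroup G) P : Set G)) :
    t ∉ centralizer (zl (S : Subgroup G) L : Set G) := fun h1 => ht (centralizer_le h.VU h1)

theorem SP : (S : Subgroup G) ≤ P := h.par.le

theorem SL : (S : Subgroup G) ≤ L := h.par.le.trans h.PL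

end GOne

end fin

/-! ### Transvections on `V_P` -/

/-- `V = N D`, `N ∩ D = 1`, `a` normalises `N`, centralises `D`, moves the coordinates of `n ∈ N` by `0` or `e c`. -/
theorem tv_of_split {V N D : Subgroup G} {X : Type*} [AddGroup X] (e : G → X) {a c : G}
    (hc : c ∈ N) (hdec : ∀ v ∈ V, ∃ n ∈ N, ∃ d ∈ D, v = n * d)
    (hinj : ∀ n ∈ N, e n = 0 → n = 1) (hmul : ∀ v ∈ N, ∀ w ∈ N, e (v * w) = e v + e w)
    (hcomm : ∀ d ∈ D, c * d = d * c)
    (haN : ∀ n ∈ N, a * n * a⁻¹ ∈ N) (haD : ∀ d ∈ D, a * d = d * a)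
    (hact : ∀ n ∈ N, e (a * n * a⁻¹) = e n ∨ e (a * n * a⁻¹) = e n + e c) : Tv V c a := by
  have h1 : e 1 = 0 := by
    have := hmul 1 (one_mem _) 1 (one_mem _)
    rw [one_mul] at this
    simpa using this
  have hi : ∀ n ∈ N, e n⁻¹ = - e n := by
    intro n hn
    have h2 := hmul n hn n⁻¹ (inv_mem hn)
    rw [mul_inv_cancel, h1] at h2
    exact (neg_eq_of_add_eq_zero_right h2.symm).symm
  have heq : ∀ x ∈ N, ∀ y ∈ N, e x = e y → x = y := by
    intro x hx y hy hxy
    have h2 : e (x * y⁻¹) = 0 := by rw [hmul x hx _ (inv_mem hy), hi y hy, hxy, add_neg_cancel]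
    exact mul_inv_eq_one.1 (hinj _ (mul_mem hx (inv_mem hy)) h2)
  intro v hv
  obtain ⟨n, hn, d, hd, rfl⟩ := hdec v hv
  have e1 : a * (n * d) * a⁻¹ = a * n * a⁻¹ * d := by
    calc a * (n * d) * a⁻¹ = a * n * a⁻¹ * (a * d) * a⁻¹ := by group
      _ = _ := by rw [haD d hd]; group
  rcases hact n hn with h2 | h2
  · left
    rw [e1, heq _ (haN n hn) _ hn h2]
  · right
    rw [← hmul n hn c hc] at h2
    rw [e1, heq _ (haN n hn) _ (mul_mem hn hc) h2, mul_assoc, hcomm d hd, mul_assoc]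

section nat

variable [Finite G] {F : Type} [Field F] [CharP F 2] {S : Sylow 2 G} {P A : Subgroup G} {k : ℕ}

theorem two_of_card (hF : Nat.card F = 2) (x : F) : x = 0 ∨ x = 1 := by
  have hfin : Finite F := Nat.finite_of_card_ne_zero (by rw [hF]; norm_num)
  have h2 := Nat.card_eq_two_iff' (0 : F)
  obtain ⟨y, hy, huniq⟩ := h2.1 hF
  by_cases h0 : x = 0
  · exact Or.inl h0
  · right
    rw [huniq x h0, huniq 1 one_ne_zero]

/-- **`q = 2`**: an offender `A ≤ S` on `V_P` contains a transvection on `V_P`. -/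
theorem tv_nat (hG : IsCharacteristicTwoType G) (hP : IsParS (S : Subgroup G) P)
    (M : NatKM F (S : Subgroup G) P (zl (S : Subgroup G) P) (cv (S : Subgroup G) P) k) (hk : 0 < k)
    (hF : Nat.card F = 2) (hA : A ≤ (S : Subgroup G)) (hoff : OffM (zl (S : Subgroup G) P) A) :
    ∃ t ∈ A, ∃ c ∈ zl (S : Subgroup G) P, c ≠ 1 ∧ Tv (zl (S : Subgroup G) P) c t ∧
      t ∉ centralizer (zl (S : Subgroup G) P : Set G) := by
  classical
  have hs : SplitPar (S : Subgroup G) P := IId.Cv.splitPar_two hG S hP M.toNatK hk hF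
  have hSP := hP.le
  have hDc : ∀ p ∈ P, ∀ d ∈ cv (S : Subgroup G) P, p * d = d * p := fun p hp d hd =>
    (mem_centralizer_iff.1 (IId.Cv.le_centralizer_cv hG S hP M.toNatK hs hp) d hd).symm
  have hinj : ∀ n ∈ vx (S : Subgroup G) P, M.e n = 0 → n = 1 := by
    intro n hn h0
    have h1 : n ∈ vx (S : Subgroup G) P ⊓ cv (S : Subgroup G) P :=
      ⟨hn, (M.ker n (HOne.vx_le _ _ hn)).1 h0⟩
    rwa [hs, mem_bot] at h1
  have hmul : ∀ v ∈ vx (S : Subgroup G) P, ∀ w ∈ vx (S : Subgroup G) P, M.e (v * w) = M.e v + M.e w :=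
    fun v hv w hw => M.mul v (HOne.vx_le _ _ hv) w (HOne.vx_le _ _ hw)
  obtain ⟨I, hI1, hI2⟩ := M.offM A hA hoff
  -- `I ≠ ∅`
  obtain ⟨i, hi⟩ : ∃ i, i ∈ I := by
    by_contra hcon
    push Not at hcon
    apply hoff.ne
    intro a ha
    obtain ⟨b, hb, hact⟩ := hI1 a ha
    have hb0 : b = 0 := funext fun j => hb j (hcon j)
    have haP := hSP (hA ha)
    rw [mem_centralizer_iff]
    intro v hv
    obtain ⟨n, hn, d, hd, rfl⟩ := IId.Cv.exists_mul M.toNatK hv
    have h1 : M.e (a * n * a⁻¹) = M.e n := by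
      funext j
      rw [hact.1 n (HOne.vx_le _ _ hn) j, hb0]
      refine VF.Nat.ext2' ?_ ?_
      · rw [VF.Nat.ap_up_0]; simp
      · rw [VF.Nat.ap_up_1]
    have h2 : a * n * a⁻¹ * n⁻¹ = 1 := by
      have hn' := IId.Cv.natK M.toNatK hs fun s hs' d hd => hDc s (hSP hs') d hd
      have h3 : a * n * a⁻¹ ∈ vx (S : Subgroup G) P :=
        (mem_normalizer_iff.1 (HOne.le_normalizer_vx _ _ haP) n).1 hn
      refine hinj _ (mul_mem h3 (inv_mem hn)) ?_
      have h4 : M.e (a * n * a⁻¹ * n⁻¹) + M.e n = M.e n := by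
        rw [← hmul _ (mul_mem h3 (inv_mem hn)) n hn, inv_mul_cancel_right, h1]
      simpa using h4
    have h3 : a * n = n * a := by
      have := mul_inv_eq_one.1 h2
      rwa [mul_inv_eq_iff_eq_mul] at this
    rw [← mul_assoc, h3, mul_assoc, mul_assoc, hDc a haP d hd]
  obtain ⟨t, ht, hact⟩ := hI2 (Pi.single i 1) (fun j hj => Pi.single_eq_of_ne (fun e => hj (by rw [e]; exact hi)) _)
  have htP := hSP (hA ht)
  obtain ⟨c₀, hc₀, hec₀⟩ := M.surj (Pi.single i ![1, 0])
  obtain ⟨c, hc, d₀, hd₀, rfl⟩ := IId.Cv.exists_mul M.toNatK hc₀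
  have hec : M.e c = Pi.single i ![1, 0] := by
    rw [M.mul c (HOne.vx_le _ _ hc) d₀ (HOne.cv_le _ _ hd₀), (M.ker d₀ (HOne.cv_le _ _ hd₀)).2 hd₀,
      add_zero] at hec₀
    exact hec₀
  have hVc : ∀ x ∈ zl (S : Subgroup G) P, ∀ y ∈ zl (S : Subgroup G) P, x * y = y * x := fun x hx y hy =>
    MinSimple.VModule.zc_comm _ _ (hP.isLoc.zl_le S hG hx) _ (hP.isLoc.zl_le S hG hy)
  refine ⟨t, ht, c, HOne.vx_le _ _ hc, ?_, ?_, ?_⟩
  · rintro rfl
    have h1 : M.e 1 = 0 := by
      have := hmul 1 (one_mem _) 1 (one_mem _)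
      rw [one_mul] at this
      simpa using this
    rw [h1] at hec
    have h2 := congrFun (congrFun hec i) 0
    simp at h2
  · refine tv_of_split (N := vx (S : Subgroup G) P) (D := cv (S : Subgroup G) P) M.e hc
      (fun v hv => IId.Cv.exists_mul M.toNatK hv) hinj hmul
      (fun d hd => hVc c (HOne.vx_le _ _ hc) d (HOne.cv_le _ _ hd))
      (fun n hn => (mem_normalizer_iff.1 (HOne.le_normalizer_vx _ _ htP) n).1 hn)
      (fun d hd => hDc t htP d hd) ?_
    intro n hn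
    have hnV := HOne.vx_le _ _ hn
    rcases two_of_card hF (M.e n i 1) with h0 | h1
    · left
      funext j
      rw [hact.1 n hnV j]
      refine VF.Nat.ext2' ?_ ?_
      · rw [VF.Nat.ap_up_0]
        by_cases hj : j = i
        · subst hj; rw [h0, mul_zero, add_zero]
        · rw [Pi.single_eq_of_ne hj, zero_mul, add_zero]
      · rw [VF.Nat.ap_up_1]
    · right
      rw [hec]
      funext j
      rw [hact.1 n hnV j, Pi.add_apply]
      refine VF.Nat.ext2' ?_ ?_
      · rw [VF.Nat.ap_up_0, Pi.add_apply]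
        by_cases hj : j = i
        · subst hj; rw [h1, Pi.single_eq_same, Pi.single_eq_same]; simp
        · rw [Pi.single_eq_of_ne hj, Pi.single_eq_of_ne hj, zero_mul]; rfl
      · rw [VF.Nat.ap_up_1, Pi.add_apply]
        by_cases hj : j = i
        · subst hj; rw [Pi.single_eq_same]; simp
        · rw [Pi.single_eq_of_ne hj]; simp
  · intro h0
    obtain ⟨v, hv, hev⟩ := M.surj (Pi.single i ![0, 1])
    have h1 : t * v * t⁻¹ = v := by
      rw [← mem_centralizer_iff.1 h0 v hv]; group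
    have h2 := hact.1 v hv i
    rw [h1] at h2
    have h3 := congrFun h2 0
    rw [VF.Nat.ap_up_0, hev] at h3
    simp at h3

end nat

section sym

variable [Finite G] {S : Sylow 2 G} {P A : Subgroup G} {k m : ℕ}

theorem zmod_eq_or (a b : ZMod 2) : a = b ∨ a = b + 1 := by
  revert a b; decide

theorem swp_of_eq {X : Type*} [DecidableEq X] (f : X → ZMod 2) {x y : X} (h : f x = f y) (z : X) :
    f (Equiv.swap x y z) = f z := by
  rcases eq_or_ne z x with rfl | hx
  · rw [Equiv.swap_apply_left, h]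
  · rcases eq_or_ne z y with rfl | hy
    · rw [Equiv.swap_apply_right, h]
    · rw [Equiv.swap_apply_of_ne_of_ne hx hy]

theorem swp_of_ne {X : Type*} [DecidableEq X] (f : X → ZMod 2) {x y : X} (hxy : x ≠ y) (h : f x ≠ f y) (z : X) :
    f (Equiv.swap x y z) = f z + ((Pi.single x 1 : X → ZMod 2) z + (Pi.single y 1 : X → ZMod 2) z) := by
  have h1 : f x = f y + 1 := (zmod_eq_or _ _).resolve_left h
  have h2 : f y = f x + 1 := (zmod_eq_or _ _).resolve_left (Ne.symm h)
  rcases eq_or_ne z x with rfl | hx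
  · rw [Equiv.swap_apply_left, Pi.single_eq_same, Pi.single_eq_of_ne hxy, add_zero, h2]
  · rcases eq_or_ne z y with rfl | hy
    · rw [Equiv.swap_apply_right, Pi.single_eq_same, Pi.single_eq_of_ne hx, zero_add, h1]
    · rw [Equiv.swap_apply_of_ne_of_ne hx hy, Pi.single_eq_of_ne hx, Pi.single_eq_of_ne hy, add_zero, add_zero]

/-- **`S_n`**: an offender `A ≤ S` on `V_P` contains a transvection on `V_P`. -/
theorem tv_sym (hG : IsCharacteristicTwoType G) (hP : IsParS (S : Subgroup G) P)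
    (M : SymKM (S : Subgroup G) P (zl (S : Subgroup G) P) (cv (S : Subgroup G) P) k m) (hk : 0 < k)
    (hm : 2 ≤ m) (hA : A ≤ (S : Subgroup G)) (hoff : OffM (zl (S : Subgroup G) P) A) :
    ∃ t ∈ A, ∃ c ∈ zl (S : Subgroup G) P, c ≠ 1 ∧ Tv (zl (S : Subgroup G) P) c t ∧
      t ∉ centralizer (zl (S : Subgroup G) P : Set G) := by
  classical
  obtain ⟨hDc, N, hNV, hsup, hinf, hNn⟩ := IId.SymWrD.exists_compl M.toSymK hk (by omega) (syl_of_sylow S hP.le)
    (hP.isLoc.char2 S hG)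
  have hSP := hP.le
  have hVc : ∀ x ∈ zl (S : Subgroup G) P, ∀ y ∈ zl (S : Subgroup G) P, x * y = y * x := fun x hx y hy =>
    MinSimple.VModule.zc_comm _ _ (hP.isLoc.zl_le S hG hx) _ (hP.isLoc.zl_le S hG hy)
  have hDV : cv (S : Subgroup G) P ≤ zl (S : Subgroup G) P := inf_le_left
  have hdec : ∀ v ∈ zl (S : Subgroup G) P, ∃ n ∈ N, ∃ d ∈ cv (S : Subgroup G) P, v = n * d := by
    intro v hv
    rw [← hsup] at hv
    exact F4.Split.mem_sup_comm (fun x hx y hy => hVc x (hNV hx) y (hDV hy)) hv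
  have hinj : ∀ n ∈ N, M.e n = 0 → n = 1 := by
    intro n hn h0
    have h1 : n ∈ N ⊓ cv (S : Subgroup G) P := ⟨hn, (M.ker n (hNV hn)).1 h0⟩
    rwa [hinf, mem_bot] at h1
  have hmul : ∀ v ∈ N, ∀ w ∈ N, M.e (v * w) = M.e v + M.e w := fun v hv w hw => M.mul v (hNV hv) w (hNV hw)
  obtain ⟨-, hof⟩ := M.offM A hA hoff
  obtain ⟨a, ha, hane⟩ := SetLike.not_le_iff_exists.1 hoff.ne
  obtain ⟨τ, hτ, hτ2⟩ := hof a ha
  obtain ⟨i, x, hix⟩ : ∃ i x, τ i x ≠ x := by
    by_contra hcon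
    push Not at hcon
    apply hane
    have haP := hSP (hA ha)
    rw [mem_centralizer_iff]
    intro v hv
    obtain ⟨n, hn, d, hd, rfl⟩ := hdec v hv
    have h1 : M.e (a * n * a⁻¹) = M.e n := by
      funext j z
      have := hτ n (hNV hn) j z
      rwa [hcon j z] at this
    have h3 : a * n * a⁻¹ ∈ N := (mem_normalizer_iff.1 (hNn haP) n).1 hn
    have h2 : a * n * a⁻¹ * n⁻¹ = 1 := by
      refine hinj _ (mul_mem h3 (inv_mem hn)) ?_
      have h4 : M.e (a * n * a⁻¹ * n⁻¹) + M.e n = M.e n := by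
        rw [← hmul _ (mul_mem h3 (inv_mem hn)) n hn, inv_mul_cancel_right, h1]
      simpa using h4
    have h4 : a * n = n * a := by
      have := mul_inv_eq_one.1 h2
      rwa [mul_inv_eq_iff_eq_mul] at this
    rw [← mul_assoc, h4, mul_assoc, mul_assoc, hDc a haP d hd]
  obtain ⟨-, t, ht, hact⟩ := hτ2 i x hix
  set y := τ i x with hy
  have hxy : x ≠ y := fun e => hix e.symm
  have htP := hSP (hA ht)
  have act_i : ∀ v ∈ zl (S : Subgroup G) P, ∀ z, M.e (t * v * t⁻¹) i z = M.e v i (Equiv.swap x y z) := by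
    intro v hv z
    have h1 := hact v hv i (Equiv.swap x y z)
    rwa [Function.update_self, Equiv.swap_apply_self] at h1
  have act_j : ∀ v ∈ zl (S : Subgroup G) P, ∀ j, j ≠ i → ∀ z, M.e (t * v * t⁻¹) j z = M.e v j z := by
    intro v hv j hj z
    have h1 := hact v hv j z
    rwa [Function.update_of_ne hj] at h1
  obtain ⟨c₀, hc₀, hec₀⟩ := M.surj (Pi.single i (Pi.single x 1 + Pi.single y 1)) (by
    intro j
    by_cases hj : j = i
    · subst hj
      rw [Pi.single_eq_same]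
      simp only [Pi.add_apply, Finset.sum_add_distrib]
      rw [Finset.sum_pi_single', Finset.sum_pi_single']
      simp
      decide
    · rw [Pi.single_eq_of_ne hj]
      simp)
  obtain ⟨c, hc, d₀, hd₀, rfl⟩ := hdec c₀ hc₀
  have hec : M.e c = Pi.single i (Pi.single x 1 + Pi.single y 1) := by
    rw [M.mul c (hNV hc) d₀ (hDV hd₀), (M.ker d₀ (hDV hd₀)).2 hd₀, add_zero] at hec₀
    exact hec₀
  refine ⟨t, ht, c, hNV hc, ?_, ?_, ?_⟩
  · rintro rfl
    have h1 : M.e 1 = 0 := by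
      have := hmul 1 (one_mem _) 1 (one_mem _)
      rw [one_mul] at this
      simpa using this
    rw [h1] at hec
    have h2 := congrFun (congrFun hec i) x
    rw [Pi.single_eq_same, Pi.add_apply, Pi.single_eq_same, Pi.single_eq_of_ne hxy, add_zero] at h2
    exact zero_ne_one h2
  · refine tv_of_split (N := N) (D := cv (S : Subgroup G) P) M.e hc hdec hinj hmul
      (fun d hd => hVc c (hNV hc) d (hDV hd))
      (fun n hn => (mem_normalizer_iff.1 (hNn htP) n).1 hn) (fun d hd => hDc t htP d hd) ?_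
    intro n hn
    have hnV := hNV hn
    by_cases h0 : M.e n i x = M.e n i y
    · left
      funext j z
      by_cases hj : j = i
      · subst hj; rw [act_i n hnV, swp_of_eq (M.e n j) h0]
      · rw [act_j n hnV j hj]
    · right
      rw [hec]
      funext j z
      by_cases hj : j = i
      · subst hj
        rw [act_i n hnV, swp_of_ne (M.e n j) hxy h0, Pi.add_apply, Pi.add_apply, Pi.single_eq_same, Pi.add_apply]
      · rw [act_j n hnV j hj, Pi.add_apply, Pi.add_apply, Pi.single_eq_of_ne hj]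
        simp
  · intro h0
    -- a third point
    obtain ⟨w, hw⟩ : ∃ w, w ∉ ({x, y} : Finset (Fin (2 ^ m + 1))) := by
      by_contra hcon
      push Not at hcon
      have h1 : (Finset.univ : Finset (Fin (2 ^ m + 1))) ⊆ {x, y} := fun w _ => hcon w
      have h2 := Finset.card_le_card h1
      have h3 : ({x, y} : Finset (Fin (2 ^ m + 1))).card ≤ 2 := Finset.card_le_two
      have h4 : 2 ^ 2 ≤ 2 ^ m := Nat.pow_le_pow_right (by norm_num) hm
      rw [Finset.card_univ, Fintype.card_fin] at h2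
      omega
    rw [Finset.mem_insert, Finset.mem_singleton, not_or] at hw
    obtain ⟨v, hv, hev⟩ := M.surj (Pi.single i (Pi.single x 1 + Pi.single w 1)) (by
      intro j
      by_cases hj : j = i
      · subst hj
        rw [Pi.single_eq_same]
        simp only [Pi.add_apply, Finset.sum_add_distrib]
        rw [Finset.sum_pi_single', Finset.sum_pi_single']
        simp
        decide
      · rw [Pi.single_eq_of_ne hj]
        simp)
    have h1 : t * v * t⁻¹ = v := by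
      rw [← mem_centralizer_iff.1 h0 v hv]; group
    have h2 := act_i v hv y
    rw [h1, Equiv.swap_apply_right, hev, Pi.single_eq_same, Pi.add_apply, Pi.add_apply,
      Pi.single_eq_of_ne hxy.symm, Pi.single_eq_same, Pi.single_eq_of_ne (Ne.symm hw.2),
      Pi.single_eq_of_ne (Ne.symm hw.1)] at h2
    exact absurd h2 (by decide)

end sym

/-! ### Shape `q = 2` or `S_n` -/

/-- `P` is of type `q = 2` or `S_n`. -/
def Two2 [Finite G] (S : Sylow 2 G) (P : Subgroup G) : Prop :=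
  (∃ (F : Type) (_ : Field F) (_ : CharP F 2) (k : ℕ), Nat.card F = 2 ∧ 0 < k ∧
    Nonempty (NatKM F (S : Subgroup G) P (zl (S : Subgroup G) P) (cv (S : Subgroup G) P) k)) ∨
  ∃ k m : ℕ, 0 < k ∧ 2 ≤ m ∧
    Nonempty (SymKM (S : Subgroup G) P (zl (S : Subgroup G) P) (cv (S : Subgroup G) P) k m)

/-- `P` is natural, `q ≥ 4` -/
def Big4 [Finite G] (S : Sylow 2 G) (P : Subgroup G) : Prop :=
  ∃ (F : Type) (_ : Field F) (_ : Finite F) (_ : CharP F 2) (k : ℕ), 4 ≤ Nat.card F ∧ 0 < k ∧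
    Nonempty (NatKM F (S : Subgroup G) P (zl (S : Subgroup G) P) (cv (S : Subgroup G) P) k)

section fin

variable [Finite G] {S : Sylow 2 G} {L P A : Subgroup G}

theorem two2_or (h : ConclM (S : Subgroup G) P) : Two2 S P ∨ Big4 S P := by
  rcases h with ⟨F, _, _, _, k, hk, hM⟩ | ⟨k, m, hk, hm, hM⟩
  · by_cases h4 : 4 ≤ Nat.card F
    · exact Or.inr ⟨F, inferInstance, inferInstance, inferInstance, k, h4, hk, hM⟩
    · left; left
      refine ⟨F, inferInstance, inferInstance, k, ?_, hk, hM⟩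
      have hf : Fact (Nat.Prime 2) := ⟨Nat.prime_two⟩
      have hA : IsPGroup 2 (Multiplicative F) := by
        intro x
        refine ⟨1, ?_⟩
        have : (2 : ℕ) • (Multiplicative.toAdd x) = 0 := by
          rw [two_nsmul]; exact CharTwo.add_self_eq_zero _
        rw [pow_one]
        exact congrArg Multiplicative.ofAdd this
      obtain ⟨n, hn⟩ := IsPGroup.iff_card.1 hA
      have hn' : Nat.card F = 2 ^ n := hn
      have h1 : 1 < Nat.card F := Finite.one_lt_card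
      have h2 : n < 2 := by
        by_contra hcon
        push Not at hcon
        have : 2 ^ 2 ≤ 2 ^ n := Nat.pow_le_pow_right (by norm_num) hcon
        omega
      have h3 : n ≠ 0 := by
        rintro rfl
        rw [hn', pow_zero] at h1
        omega
      have h4 : n = 1 := by omega
      rw [hn', h4, pow_one]
  · exact Or.inl (Or.inr ⟨k, m, hk, hm, hM⟩)

/-- an offender `A ≤ S` on `V_P` contains a transvection on `V_P` -/
theorem tv_par (hG : IsCharacteristicTwoType G) (hP : IsParS (S : Subgroup G) P) (h2 : Two2 S P)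
    (hA : A ≤ (S : Subgroup G)) (hoff : OffM (zl (S : Subgroup G) P) A) :
    ∃ t ∈ A, ∃ c ∈ zl (S : Subgroup G) P, c ≠ 1 ∧ Tv (zl (S : Subgroup G) P) c t ∧
      t ∉ centralizer (zl (S : Subgroup G) P : Set G) := by
  rcases h2 with ⟨F, _, _, k, hF, hk, ⟨M⟩⟩ | ⟨k, m, hk, hm, ⟨M⟩⟩
  · exact tv_nat hG hP M hk hF hA hoff
  · exact tv_sym hG hP M hk hm hA hoff

/-- **The transvection** on `U = zl S L`. -/
theorem GOne.tv (hG : IsCharacteristicTwoType G) (h : GOne S L P A) (h2 : Two2 S P) :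
    ∃ t ∈ A, ∃ c ∈ zl (S : Subgroup G) P, c ≠ 1 ∧ Tv (zl (S : Subgroup G) L) c t ∧
      t ∉ centralizer (zl (S : Subgroup G) L : Set G) := by
  obtain ⟨t, ht, c, hc, hc1, htv, hn⟩ := tv_par hG h.par h2 h.AS h.offP
  exact ⟨t, ht, c, hc, hc1, h.tv_of_tv ht hc htv, h.not_cent hn⟩

/-- **The case split**: a transvection on `U = zl S L` in `S`, or a `P` of type `q ≥ 4`. -/
theorem tv_or (hc : IsCharacteristicTwoType G) (hL : IsLoc (S : Subgroup G) L)
    (hgen : L ≤ sSup {P | IsParS (S : Subgroup G) P ∧ P ≤ L})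
    (hoff : ∃ A ≤ L, OffM (zl (S : Subgroup G) L) A) :
    (∃ t ∈ (S : Subgroup G), ∃ c ∈ zl (S : Subgroup G) L, c ≠ 1 ∧ Tv (zl (S : Subgroup G) L) c t ∧
      t ∉ centralizer (zl (S : Subgroup G) L : Set G)) ∨ ∃ P A, GOne S L P A ∧ Big4 S P := by
  obtain ⟨P, A, h⟩ := exists_gOne hc hL hgen hoff
  rcases two2_or h.concl with h2 | h4
  · left
    obtain ⟨t, ht, c, hc', hc1, htv, hn⟩ := h.tv hc h2
    exact ⟨t, h.AS ht, c, h.VU hc', hc1, htv, hn⟩
  · exact Or.inr ⟨P, A, h, h4⟩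

/-- (G1) for every `R ∈ P*(S)`, `R ≤ L`, whose line is moved by an optimal `A ≤ S`. -/
theorem gOne_of_opt (hc : IsCharacteristicTwoType G) {R : Subgroup G} (hR : IsParS (S : Subgroup G) R)
    (hRL : R ≤ L) (hcomm : zl (S : Subgroup G) L ≤ centralizer (zl (S : Subgroup G) L : Set G))
    (hno : NoOverM (zl (S : Subgroup G) L) L) (hA : A ≤ (S : Subgroup G))
    (h : Star.Opt (zl (S : Subgroup G) L) A) (hne : ¬ A ≤ centralizer (zl (S : Subgroup G) R : Set G)) :
    GOne S L R A := by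
  have hVU : zl (S : Subgroup G) R ≤ zl (S : Subgroup G) L := Star.zl_mono _ hRL
  have hff : OffM (zl (S : Subgroup G) R) A → NoOverM (zl (S : Subgroup G) R) R ∧ ConclM (S : Subgroup G) R :=
    fun ho => FFBr.ffthmM G (S : Subgroup G) R (syl_of_sylow S hR.le) hR.toIsMinPar
      (hR.isLoc.char2 S hc) ⟨A, hA.trans hR.le, ho⟩
  obtain ⟨h1, h2, h3, h4⟩ := h.exact (P := R) hcomm hVU hne (hA.trans hR.le) fun ho => (hff ho).1
  refine ⟨hR, hRL, hA, hcomm, hno, ⟨h.toElemM, h.ne, ?_⟩, h1, h2, (hff h1).2, h3⟩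
  rw [FFThm.relIndex_le_iff, h4]

/-! ### Box R -/

/-- **Some `A ≤ S` is an offender on `V*`.** -/
theorem ffMod_of (B : RB S) (hrc : ∃ z ∈ zc (S : Subgroup G), ∃ P ∈ FZ (S : Subgroup G) z,
    ¬ P ≤ normalizer (bang (S : Subgroup G) : Set G)) : FFMod (S : Subgroup G) (MZ (S : Subgroup G)) := by
  by_contra hn
  have hG := B.ctx
  have hm := B.data.noff
  obtain ⟨z, hz, P, hP, hPn⟩ := hrc
  have hSW : (S : Subgroup G) ≤ normalizer (zl (S : Subgroup G) (MZ (S : Subgroup G)) : Set G) :=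
    (S_le_MZ hG B.full).trans (MinSimple.VModule.le_normalizer_zl _ _)
  have hN : NN (S : Subgroup G) (zl (S : Subgroup G) (MZ (S : Subgroup G))) :=
    { le := le_of_le_normalizer S (zl_MZ_isPGroup hG hm) hSW
      norm := hSW
      comm := zl_MZ_comm hG hm
      sq := zl_MZ_sq hG.char2 hm
      nff := fun A hA ho => hn ⟨A, hA, ho⟩ }
  exact hPn (NO3b.Bang.le_normalizer_bang_of_cent hN (le_norm_cs hz hP))

/-- **(G1)**, `L = MZ S`, `U = V* = Wd S`. -/
theorem g1_of (B : RB S) (hrc : ∃ z ∈ zc (S : Subgroup G), ∃ P ∈ FZ (S : Subgroup G) z,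
    ¬ P ≤ normalizer (bang (S : Subgroup G) : Set G)) : ∃ P A, GOne S (MZ (S : Subgroup G)) P A := by
  obtain ⟨A₀, hA₀, hoff₀⟩ := ffMod_of B hrc
  exact exists_gOne B.ctx.char2 (isLoc_MZ B.ctx B.full B.data.noff)
    (sSup_le fun _ hP => le_sSup ⟨hP, Merge.le_MZ hP⟩) ⟨A₀, hA₀.trans (S_le_MZ B.ctx B.full), hoff₀⟩

/-- the hypothesis of `g1_of` from (RC') -/
theorem rc_ex (B : RB S) (hrc : ∀ z ∈ zc (S : Subgroup G), z ≠ 1 →
    ∃ P ∈ FZ (S : Subgroup G) z, ¬ P ≤ normalizer (bang (S : Subgroup G) : Set G)) :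
    ∃ z ∈ zc (S : Subgroup G), ∃ P ∈ FZ (S : Subgroup G) z,
      ¬ P ≤ normalizer (bang (S : Subgroup G) : Set G) := by
  have hne : zc (S : Subgroup G) ≠ ⊥ := MinSimple.Basic.zc_ne_bot S.isPGroup' (B.ctx.sylow_ne_bot S)
  obtain ⟨⟨z, hz⟩, hz1'⟩ := (Subgroup.ne_bot_iff_exists_ne_one).1 hne
  obtain ⟨P, hP, hPn⟩ := hrc z hz fun h3 => hz1' (Subtype.ext h3)
  exact ⟨z, hz, P, hP, hPn⟩

/-- **(G1)** in box R. -/
theorem g1 (B : RB S) (hrc : ∀ z ∈ zc (S : Subgroup G), z ≠ 1 →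
    ∃ P ∈ FZ (S : Subgroup G) z, ¬ P ≤ normalizer (bang (S : Subgroup G) : Set G)) :
    ∃ P A, GOne S (MZ (S : Subgroup G)) P A := g1_of B (rc_ex B hrc)

end fin

end Cfsg.Agent.Omega.NOThreeL.RRed
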