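import Cfsg.Agent.Omega.FFThmM

/-!
# NO-3L, box R: (T1) of #21468, abstract

`C` acts on the elementary abelian group `W` without over-offenders; `t ∈ C` is a transvection on `W` with centre `r`
which moves `u = p r p⁻¹`, `p ∈ C`, `p⁻¹ r p ∈ {u, r u}`.

* `eq_of_fix` : `d ∈ C`, `[W, d] ≤ ⟨r⟩`, `[u, d] = 1` implies `[W, d] = 1`;
* `tone` : `x ∈ C`, `[W, x] ≤ ⟨r⟩` implies that `x` acts as `1` or as `t` on `W`.
-/

set_option autoImplicit false

namespace Cfsg.Agent.Omega.NOThreeL.RRed.TOne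

open Subgroup Cfsg Cfsg.Agent.ZN
open Cfsg.Agent.Omega.FFThm (ElemM OffM NoOverM)

universe u

variable {G : Type u} [Group G]

/-- `x` acts on `W` with `[W, x] ≤ ⟨r⟩`. -/
def Tv (W : Subgroup G) (r x : G) : Prop := ∀ w ∈ W, x * w * x⁻¹ = w ∨ x * w * x⁻¹ = w * r

/-- The data of (T1). -/
structure Dat (C W : Subgroup G) (r u t p : G) : Prop where
  comm : ∀ v ∈ W, ∀ w ∈ W, v * w = w * v
  sq : ∀ w ∈ W, w * w = 1
  nor : ∀ c ∈ C, ∀ w ∈ W, c * w * c⁻¹ ∈ W
  no : NoOverM W C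
  mr : r ∈ W
  mu : u ∈ W
  ht : t ∈ C
  tv : Tv W r t
  tu : t * u * t⁻¹ = u * r
  hp : p ∈ C
  pr : p * r * p⁻¹ = u
  pr' : p⁻¹ * r * p = u ∨ p⁻¹ * r * p = r * u
  ru : r ≠ u
  u1 : u ≠ 1

namespace Dat

variable {C W : Subgroup G} {r u t p : G} (h : Dat C W r u t p)
include h

theorem r1 : r ≠ 1 := by
  rintro e
  apply h.u1
  rw [← h.pr, e]; group

theorem tr : t * r * t⁻¹ = r := by
  rcases h.tv r h.mr with e | e
  · exact e
  · exfalso
    rw [h.sq r h.mr] at e
    exact h.r1 (conj_eq_one_iff.1 e)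

/-- `t' = p t p⁻¹` is a transvection with centre `u`. -/
theorem tv' {w : G} (hw : w ∈ W) : p * t * p⁻¹ * w * (p * t * p⁻¹)⁻¹ = w ∨
    p * t * p⁻¹ * w * (p * t * p⁻¹)⁻¹ = w * u := by
  have hw' : p⁻¹ * w * p ∈ W := by
    have := h.nor p⁻¹ (C.inv_mem h.hp) w hw
    rwa [inv_inv] at this
  have e : p * t * p⁻¹ * w * (p * t * p⁻¹)⁻¹ = p * (t * (p⁻¹ * w * p) * t⁻¹) * p⁻¹ := by group
  rcases h.tv _ hw' with e1 | e1
  · left; rw [e, e1]; group
  · right; rw [e, e1, ← h.pr]; group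

theorem tr' : p * t * p⁻¹ * r * (p * t * p⁻¹)⁻¹ = r * u := by
  have e : p * t * p⁻¹ * r * (p * t * p⁻¹)⁻¹ = p * (t * (p⁻¹ * r * p) * t⁻¹) * p⁻¹ := by group
  rcases h.pr' with e1 | e1
  · rw [e, e1, h.tu]
    calc p * (u * r) * p⁻¹ = p * ((p⁻¹ * r * p) * r) * p⁻¹ := by rw [e1]
      _ = r * (p * r * p⁻¹) := by group
      _ = r * u := by rw [h.pr]
  · have e2 : t * (r * u) * t⁻¹ = r * u * r := by
      calc t * (r * u) * t⁻¹ = (t * r * t⁻¹) * (t * u * t⁻¹) := by group
        _ = r * u * r := by rw [h.tr, h.tu, mul_assoc]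
    rw [e, e1, e2]
    calc p * (r * u * r) * p⁻¹ = p * ((p⁻¹ * r * p) * r) * p⁻¹ := by rw [e1]
      _ = r * (p * r * p⁻¹) := by group
      _ = r * u := by rw [h.pr]

/-- an element of `C` which acts trivially on `r`, `u` and on `W` with `[W, d] ≤ ⟨r⟩` is trivial on `W`. -/
theorem eq_of_fix [Finite G] {d : G} (hd : d ∈ C) (hdt : Tv W r d) (hdu : d * u * d⁻¹ = u) :
    ∀ w ∈ W, d * w * d⁻¹ = w := by
  by_contra hcon
  push Not at hcon
  obtain ⟨w0, hw0, hne⟩ := hcon
  have hdw0 : d * w0 * d⁻¹ = w0 * r := (hdt w0 hw0).resolve_left hne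
  have hdr : d * r * d⁻¹ = r := by
    rcases hdt r h.mr with e | e
    · exact e
    · exfalso
      rw [h.sq r h.mr] at e
      exact h.r1 (conj_eq_one_iff.1 e)
  set s := p * t * p⁻¹ with hs
  have hsC : s ∈ C := C.mul_mem (C.mul_mem h.hp h.ht) (C.inv_mem h.hp)
  have hsu : s * u * s⁻¹ = u := by
    rcases h.tv' h.mu with e | e
    · exact e
    · exfalso
      rw [← hs, h.sq u h.mu] at e
      exact h.u1 (conj_eq_one_iff.1 e)
  -- `s⁻¹` on `W`
  have hsinv : ∀ w ∈ W, s⁻¹ * w * s = w ∨ s⁻¹ * w * s = w * u := by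
    intro w hw
    rcases h.tv' hw with e | e
    · left
      rw [← hs] at e
      nth_rewrite 1 [← e]; group
    · right
      rw [← hs] at e
      have e2 : s * (w * u) * s⁻¹ = w := by
        calc s * (w * u) * s⁻¹ = (s * w * s⁻¹) * (s * u * s⁻¹) := by group
          _ = w * (u * u) := by rw [e, hsu, mul_assoc]
          _ = w := by rw [h.sq u h.mu, mul_one]
      nth_rewrite 1 [← e2]; group
  -- the group
  let B : Subgroup G :=
    { carrier := {b | b ∈ C ∧ (∀ w ∈ W, d * w * d⁻¹ = w → b * w * b⁻¹ = w) ∧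
        (∀ w ∈ W, ∃ c, d * c * d⁻¹ = c ∧ c ∈ W ∧ b * w * b⁻¹ = w * c)}
      one_mem' := ⟨C.one_mem, fun w _ _ => by simp, fun w _ => ⟨1, by simp, W.one_mem, by simp⟩⟩
      mul_mem' := by
        rintro a b ⟨ha, ha1, ha2⟩ ⟨hb, hb1, hb2⟩
        refine ⟨C.mul_mem ha hb, fun w hw hdw => ?_, fun w hw => ?_⟩
        · calc a * b * w * (a * b)⁻¹ = a * (b * w * b⁻¹) * a⁻¹ := by group
            _ = w := by rw [hb1 w hw hdw, ha1 w hw hdw]
        · obtain ⟨c, hc, hcW, e⟩ := hb2 w hw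
          obtain ⟨c', hc', hcW', e'⟩ := ha2 w hw
          refine ⟨c' * c, ?_, W.mul_mem hcW' hcW, ?_⟩
          · calc d * (c' * c) * d⁻¹ = (d * c' * d⁻¹) * (d * c * d⁻¹) := by group
              _ = c' * c := by rw [hc, hc']
          · calc a * b * w * (a * b)⁻¹ = a * (b * w * b⁻¹) * a⁻¹ := by group
              _ = (a * w * a⁻¹) * (a * c * a⁻¹) := by rw [e]; group
              _ = w * (c' * c) := by rw [e', ha1 c hcW hc, mul_assoc]
      inv_mem' := by
        rintro b ⟨hb, hb1, hb2⟩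
        refine ⟨C.inv_mem hb, fun w hw hdw => ?_, fun w hw => ?_⟩
        · have e := hb1 w hw hdw
          rw [inv_inv]
          nth_rewrite 1 [← e]; group
        · obtain ⟨c, hc, hcW, e⟩ := hb2 w hw
          refine ⟨c, hc, hcW, ?_⟩
          have e2 : b * (w * c) * b⁻¹ = w := by
            calc b * (w * c) * b⁻¹ = (b * w * b⁻¹) * (b * c * b⁻¹) := by group
              _ = w * (c * c) := by rw [e, hb1 c hcW hc, mul_assoc]
              _ = w := by rw [h.sq c hcW, mul_one]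
          rw [inv_inv]
          nth_rewrite 1 [← e2]; group }
  have hBm : ∀ b, b ∈ B ↔ b ∈ C ∧ (∀ w ∈ W, d * w * d⁻¹ = w → b * w * b⁻¹ = w) ∧
        (∀ w ∈ W, ∃ c, d * c * d⁻¹ = c ∧ c ∈ W ∧ b * w * b⁻¹ = w * c) := fun b => Iff.rfl
  have hBC : B ≤ C := fun b hb => hb.1
  have hdB : d ∈ B := by
    refine ⟨hd, fun w _ e => e, fun w hw => ?_⟩
    rcases hdt w hw with e | e
    · exact ⟨1, by simp, W.one_mem, by rw [e, mul_one]⟩
    · exact ⟨r, hdr, h.mr, e⟩
  have hdru : d * (r * u) * d⁻¹ = r * u := by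
    calc d * (r * u) * d⁻¹ = (d * r * d⁻¹) * (d * u * d⁻¹) := by group
      _ = r * u := by rw [hdr, hdu]
  -- `d' = s d s⁻¹`
  have hd'1 : ∀ w ∈ W, d * w * d⁻¹ = w → s * d * s⁻¹ * w * (s * d * s⁻¹)⁻¹ = w := by
    intro w hw e
    have e0 : s * d * s⁻¹ * w * (s * d * s⁻¹)⁻¹ = s * (d * (s⁻¹ * w * s) * d⁻¹) * s⁻¹ := by group
    rcases hsinv w hw with e1 | e1
    · rw [e0, e1, e]
      calc s * w * s⁻¹ = s * (s⁻¹ * w * s) * s⁻¹ := by rw [e1]
        _ = w := by group
    · have e2 : d * (w * u) * d⁻¹ = w * u := by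
        calc d * (w * u) * d⁻¹ = (d * w * d⁻¹) * (d * u * d⁻¹) := by group
          _ = w * u := by rw [e, hdu]
      rw [e0, e1, e2]
      calc s * (w * u) * s⁻¹ = s * (s⁻¹ * w * s) * s⁻¹ := by rw [e1]
        _ = w := by group
  have hd'2 : ∀ w ∈ W, d * w * d⁻¹ = w * r → s * d * s⁻¹ * w * (s * d * s⁻¹)⁻¹ = w * (r * u) := by
    intro w hw e
    have e0 : s * d * s⁻¹ * w * (s * d * s⁻¹)⁻¹ = s * (d * (s⁻¹ * w * s) * d⁻¹) * s⁻¹ := by group
    have e3 : d * (s⁻¹ * w * s) * d⁻¹ = (s⁻¹ * w * s) * r := by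
      rcases hsinv w hw with e1 | e1
      · rw [e1, e]
      · have : d * (w * u) * d⁻¹ = w * u * r := by
          calc d * (w * u) * d⁻¹ = (d * w * d⁻¹) * (d * u * d⁻¹) := by group
            _ = w * (r * u) := by rw [e, hdu, mul_assoc]
            _ = w * u * r := by rw [h.comm r h.mr u h.mu, mul_assoc]
        rw [e1, this]
    rw [e0, e3]
    calc s * (s⁻¹ * w * s * r) * s⁻¹ = w * (s * r * s⁻¹) := by group
      _ = w * (r * u) := by rw [hs, h.tr']
  have hd'B : s * d * s⁻¹ ∈ B := by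
    refine ⟨C.mul_mem (C.mul_mem hsC hd) (C.inv_mem hsC), hd'1, fun w hw => ?_⟩
    rcases hdt w hw with e | e
    · exact ⟨1, by simp, W.one_mem, by rw [hd'1 w hw e, mul_one]⟩
    · exact ⟨r * u, hdru, W.mul_mem h.mr h.mu, hd'2 w hw e⟩
  -- `B` acts as an elementary abelian group
  have helem : ElemM W B := by
    refine ⟨fun b hb => ?_, fun a ha b hb => ?_⟩
    · rw [mem_centralizer_iff]
      intro w hw
      obtain ⟨c, hc, hcW, e⟩ := hb.2.2 w hw
      have e2 : b ^ 2 * w * (b ^ 2)⁻¹ = w := by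
        calc b ^ 2 * w * (b ^ 2)⁻¹ = b * (b * w * b⁻¹) * b⁻¹ := by rw [pow_two]; group
          _ = b * (w * c) * b⁻¹ := by rw [e]
          _ = (b * w * b⁻¹) * (b * c * b⁻¹) := by group
          _ = w * (c * c) := by rw [e, hb.2.1 c hcW hc, mul_assoc]
          _ = w := by rw [h.sq c hcW, mul_one]
      calc w * b ^ 2 = (b ^ 2 * w * (b ^ 2)⁻¹) * b ^ 2 := by rw [e2]
        _ = b ^ 2 * w := by group
    · rw [mem_centralizer_iff]
      intro w hw
      obtain ⟨c, hc, hcW, e⟩ := hb.2.2 w hw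
      obtain ⟨c', hc', hcW', e'⟩ := ha.2.2 w hw
      have e1 : a * b * w * (a * b)⁻¹ = w * c' * c := by
        calc a * b * w * (a * b)⁻¹ = a * (b * w * b⁻¹) * a⁻¹ := by group
          _ = (a * w * a⁻¹) * (a * c * a⁻¹) := by rw [e]; group
          _ = w * c' * c := by rw [e', ha.2.1 c hcW hc]
      have e2 : b * a * w * (b * a)⁻¹ = w * c' * c := by
        calc b * a * w * (b * a)⁻¹ = b * (a * w * a⁻¹) * b⁻¹ := by group
          _ = (b * w * b⁻¹) * (b * c' * b⁻¹) := by rw [e']; group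
          _ = w * (c * c') := by rw [e, hb.2.1 c' hcW' hc', mul_assoc]
          _ = w * c' * c := by rw [h.comm c hcW c' hcW', mul_assoc]
      have e3 : a * b * a⁻¹ * b⁻¹ * (b * a * w * (b * a)⁻¹) * (a * b * a⁻¹ * b⁻¹)⁻¹
          = a * b * w * (a * b)⁻¹ := by group
      rw [e2, e1] at e3
      -- the element fixes every `w' = w c' c`; apply it to `w c' c`
      have key : ∀ w ∈ W, ∀ c c', c ∈ W → c' ∈ W → d * c * d⁻¹ = c → d * c' * d⁻¹ = c' →
          a * b * a⁻¹ * b⁻¹ * (w * c' * c) * (a * b * a⁻¹ * b⁻¹)⁻¹ = w * c' * c →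
          a * b * a⁻¹ * b⁻¹ * w * (a * b * a⁻¹ * b⁻¹)⁻¹ = w := by
        intro w hw c c' hcW hcW' hc hc' hh
        have hab : a * b * a⁻¹ * b⁻¹ ∈ B :=
          B.mul_mem (B.mul_mem (B.mul_mem ha hb) (B.inv_mem ha)) (B.inv_mem hb)
        have f1 := hab.2.1 c hcW hc
        have f2 := hab.2.1 c' hcW' hc'
        set k := a * b * a⁻¹ * b⁻¹
        have f3 : k * (w * c' * c) * k⁻¹ = (k * w * k⁻¹) * c' * c := by
          calc k * (w * c' * c) * k⁻¹ = (k * w * k⁻¹) * (k * c' * k⁻¹) * (k * c * k⁻¹) := by group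
            _ = _ := by rw [f1, f2]
        rw [f3] at hh
        exact mul_right_cancel (mul_right_cancel hh)
      have e4 := key w hw c c' hcW hcW' hc hc' e3
      calc w * (a * b * a⁻¹ * b⁻¹) = (a * b * a⁻¹ * b⁻¹ * w * (a * b * a⁻¹ * b⁻¹)⁻¹) * (a * b * a⁻¹ * b⁻¹) := by
            rw [e4]
        _ = a * b * a⁻¹ * b⁻¹ * w := by group
  have hno := h.no B hBC helem
  -- `|W| ≤ 2 |W ∩ C(B)|`
  have hW2 : Nat.card W ≤ 2 * Nat.card ↥(W ⊓ centralizer (B : Set G)) := by
    let g : W →* G :=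
      { toFun := fun w => d * (w : G) * d⁻¹ * (w : G)⁻¹
        map_one' := by simp
        map_mul' := by
          intro a b
          have ha : d * (a : G) * d⁻¹ ∈ W := h.nor d hd a a.2
          have hb : d * (b : G) * d⁻¹ ∈ W := h.nor d hd b b.2
          have c1 : (a : G)⁻¹ * (d * (b : G) * d⁻¹ * (b : G)⁻¹) = (d * (b : G) * d⁻¹ * (b : G)⁻¹) * (a : G)⁻¹ :=
            h.comm _ (W.inv_mem a.2) _ (W.mul_mem hb (W.inv_mem b.2))
          calc d * ((a * b : W) : G) * d⁻¹ * ((a * b : W) : G)⁻¹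
              = (d * (a : G) * d⁻¹) * ((d * (b : G) * d⁻¹ * (b : G)⁻¹) * (a : G)⁻¹) := by
                rw [Subgroup.coe_mul]; group
            _ = d * (a : G) * d⁻¹ * (a : G)⁻¹ * (d * (b : G) * d⁻¹ * (b : G)⁻¹) := by
                rw [← c1]; group }
    have h1 : Nat.card W = Nat.card g.ker * Nat.card g.range := by
      rw [← Subgroup.index_ker, Subgroup.card_mul_index]
    have h2 : Nat.card g.range ≤ 2 := by
      have h3 : (g.range : Set G) ⊆ {1, r} := by
        rintro _ ⟨w, rfl⟩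
        change d * (w : G) * d⁻¹ * (w : G)⁻¹ ∈ ({1, r} : Set G)
        rcases hdt w w.2 with e | e
        · left; rw [e]; group
        · right
          rw [Set.mem_singleton_iff, e, h.comm _ w.2 _ h.mr]; group
      have h4 := Set.ncard_le_ncard h3 (Set.toFinite _)
      have h5 : ({1, r} : Set G).ncard ≤ 2 := Set.ncard_insert_le _ _ |>.trans (by simp)
      exact h4.trans h5
    have h3 : Nat.card g.ker ≤ Nat.card ↥(W ⊓ centralizer (B : Set G)) := by
      refine Nat.card_le_card_of_injective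
        (fun x : g.ker => (⟨(x : W), (x : W).2, ?_⟩ : ↥(W ⊓ centralizer (B : Set G)))) ?_
      · refine mem_centralizer_iff.2 fun b hb => ?_
        have hx : d * ((x : W) : G) * d⁻¹ * ((x : W) : G)⁻¹ = 1 := x.2
        have hx' : d * ((x : W) : G) * d⁻¹ = ((x : W) : G) := mul_inv_eq_one.1 hx
        have := hb.2.1 _ (x : W).2 hx'
        calc b * ((x : W) : G) = (b * ((x : W) : G) * b⁻¹) * b := by group
          _ = ((x : W) : G) * b := by rw [this]
      · intro x y hxy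
        have := congrArg (fun z : ↥(W ⊓ centralizer (B : Set G)) => (z : G)) hxy
        exact Subtype.ext (Subtype.ext this)
    calc Nat.card W = Nat.card g.ker * Nat.card g.range := h1
      _ ≤ Nat.card ↥(W ⊓ centralizer (B : Set G)) * 2 := Nat.mul_le_mul h3 h2
      _ = _ := mul_comm _ _
  -- `4 |B ∩ C(W)| ≤ |B|`
  have hB4 : 4 * Nat.card ↥(B ⊓ centralizer (W : Set G)) ≤ Nat.card B := by
    let f : B →* G :=
      { toFun := fun b => (b : G) * w0 * (b : G)⁻¹ * w0⁻¹
        map_one' := by simp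
        map_mul' := by
          intro a b
          obtain ⟨c, hc, hcW, e⟩ := b.2.2.2 w0 hw0
          obtain ⟨c', hc', hcW', e'⟩ := a.2.2.2 w0 hw0
          have e1 : ((a * b : B) : G) * w0 * ((a * b : B) : G)⁻¹ = w0 * c' * c := by
            calc ((a * b : B) : G) * w0 * ((a * b : B) : G)⁻¹ = (a : G) * ((b : G) * w0 * (b : G)⁻¹) * (a : G)⁻¹ := by
                  rw [Subgroup.coe_mul]; group
              _ = ((a : G) * w0 * (a : G)⁻¹) * ((a : G) * c * (a : G)⁻¹) := by rw [e]; group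
              _ = w0 * c' * c := by rw [e', a.2.2.1 c hcW hc]
          change ((a * b : B) : G) * w0 * ((a * b : B) : G)⁻¹ * w0⁻¹ = _
          rw [e1, e, e', h.comm w0 hw0 c' hcW', h.comm w0 hw0 c hcW]
          calc c' * w0 * c * w0⁻¹ = c' * (w0 * c) * w0⁻¹ := by group
            _ = c' * (c * w0) * w0⁻¹ := by rw [h.comm w0 hw0 c hcW]
            _ = c' * w0 * w0⁻¹ * (c * w0 * w0⁻¹) := by group }
    have h1 : Nat.card B = Nat.card f.ker * Nat.card f.range := by
      rw [← Subgroup.index_ker, Subgroup.card_mul_index]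
    have hr : r ∈ f.range := ⟨⟨d, hdB⟩, by
      change d * w0 * d⁻¹ * w0⁻¹ = r
      rw [hdw0, h.comm _ hw0 _ h.mr]; group⟩
    have hru : r * u ∈ f.range := ⟨⟨s * d * s⁻¹, hd'B⟩, by
      change s * d * s⁻¹ * w0 * (s * d * s⁻¹)⁻¹ * w0⁻¹ = r * u
      rw [hd'2 w0 hw0 hdw0, h.comm _ hw0 _ (W.mul_mem h.mr h.mu)]; group⟩
    have hu : u ∈ f.range := by
      have := f.range.mul_mem hr hru
      rwa [← mul_assoc, h.sq r h.mr, one_mul] at this
    have h2 : 4 ≤ Nat.card f.range := by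
      have h3 : ({1, r, u, r * u} : Set G) ⊆ (f.range : Set G) := by
        rintro x (rfl | rfl | rfl | rfl)
        · exact one_mem _
        · exact hr
        · exact hu
        · exact hru
      have h4 := Set.ncard_le_ncard h3 (Set.toFinite _)
      have h5 : ({1, r, u, r * u} : Set G).ncard = 4 := by
        have n1 : r * u ≠ 1 := fun e => h.ru (by
          have := mul_eq_one_iff_eq_inv.1 e
          rw [this]; exact (inv_eq_of_mul_eq_one_left (h.sq u h.mu)))
        have n2 : r ≠ r * u := fun e => h.u1 (by simpa using e.symm)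
        have n3 : u ≠ r * u := fun e => h.r1 (by simpa using e.symm)
        rw [Set.ncard_insert_of_notMem, Set.ncard_insert_of_notMem, Set.ncard_pair n3]
        · rintro (e | e)
          · exact h.ru e
          · exact n2 e
        · rintro (e | e | e)
          · exact h.r1 e.symm
          · exact h.u1 e.symm
          · exact n1 e.symm
      rw [h5] at h4
      exact h4
    have h3 : Nat.card ↥(B ⊓ centralizer (W : Set G)) ≤ Nat.card f.ker := by
      refine Nat.card_le_card_of_injective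
        (fun x : ↥(B ⊓ centralizer (W : Set G)) => (⟨⟨x, x.2.1⟩, ?_⟩ : f.ker)) ?_
      · rw [MonoidHom.mem_ker]
        change (x : G) * w0 * (x : G)⁻¹ * w0⁻¹ = 1
        have := mem_centralizer_iff.1 x.2.2 w0 hw0
        rw [← this]; group
      · intro x y hxy
        have := congrArg (fun z : f.ker => ((z : B) : G)) hxy
        exact Subtype.ext this
    calc 4 * Nat.card ↥(B ⊓ centralizer (W : Set G)) ≤ Nat.card f.range * Nat.card f.ker := Nat.mul_le_mul h2 h3
      _ = Nat.card B := by rw [h1, mul_comm]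
  have p1 : 0 < Nat.card ↥(B ⊓ centralizer (W : Set G)) := Nat.card_pos
  have p2 : 0 < Nat.card ↥(W ⊓ centralizer (B : Set G)) := Nat.card_pos
  nlinarith [Nat.mul_le_mul hB4 (le_refl (Nat.card ↥(W ⊓ centralizer (B : Set G)))),
    Nat.mul_le_mul hW2 (le_refl (Nat.card ↥(B ⊓ centralizer (W : Set G)))), Nat.mul_pos p1 p2]

/-- **(T1)** -/
theorem tone [Finite G] {x : G} (hx : x ∈ C) (hxt : Tv W r x) :
    (∀ w ∈ W, x * w * x⁻¹ = w) ∨ ∀ w ∈ W, x * w * x⁻¹ = t * w * t⁻¹ := by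
  rcases hxt u h.mu with e | e
  · exact Or.inl (h.eq_of_fix hx hxt e)
  · right
    have htinv : ∀ w ∈ W, t⁻¹ * w * t = w ∨ t⁻¹ * w * t = w * r := by
      intro w hw
      rcases h.tv w hw with e | e
      · left; nth_rewrite 1 [← e]; group
      · right
        have e2 : t * (w * r) * t⁻¹ = w := by
          calc t * (w * r) * t⁻¹ = (t * w * t⁻¹) * (t * r * t⁻¹) := by group
            _ = w * (r * r) := by rw [e, h.tr, mul_assoc]
            _ = w := by rw [h.sq r h.mr, mul_one]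
        nth_rewrite 1 [← e2]; group
    have hxr : x * r * x⁻¹ = r := by
      rcases hxt r h.mr with e | e
      · exact e
      · exfalso
        rw [h.sq r h.mr] at e
        exact h.r1 (conj_eq_one_iff.1 e)
    have htinvr : t⁻¹ * r * t = r := by
      have := h.tr
      nth_rewrite 1 [← this]; group
    have hd : t⁻¹ * x ∈ C := C.mul_mem (C.inv_mem h.ht) hx
    have hdt : Tv W r (t⁻¹ * x) := by
      intro w hw
      have e0 : t⁻¹ * x * w * (t⁻¹ * x)⁻¹ = t⁻¹ * (x * w * x⁻¹) * t := by group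
      rcases hxt w hw with e1 | e1 <;> rcases htinv w hw with e2 | e2
      · left; rw [e0, e1, e2]
      · right; rw [e0, e1, e2]
      · right
        rw [e0, e1]
        calc t⁻¹ * (w * r) * t = (t⁻¹ * w * t) * (t⁻¹ * r * t) := by group
          _ = w * r := by rw [e2, htinvr]
      · left
        rw [e0, e1]
        calc t⁻¹ * (w * r) * t = (t⁻¹ * w * t) * (t⁻¹ * r * t) := by group
          _ = w * (r * r) := by rw [e2, htinvr, mul_assoc]
          _ = w := by rw [h.sq r h.mr, mul_one]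
    have hdu : t⁻¹ * x * u * (t⁻¹ * x)⁻¹ = u := by
      calc t⁻¹ * x * u * (t⁻¹ * x)⁻¹ = t⁻¹ * (x * u * x⁻¹) * t := by group
        _ = t⁻¹ * (t * u * t⁻¹) * t := by rw [e, h.tu]
        _ = u := by group
    have h1 := h.eq_of_fix hd hdt hdu
    intro w hw
    have h2 := h1 w hw
    calc x * w * x⁻¹ = t * (t⁻¹ * x * w * (t⁻¹ * x)⁻¹) * t⁻¹ := by group
      _ = t * w * t⁻¹ := by rw [h2]

end Dat

end Cfsg.Agent.Omega.NOThreeL.RRed.TOne
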