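import Cfsg.Agent.Omega.NOThreeL.RRed.GlueSigT
import Cfsg.Agent.Omega.NOThreeL.RRed.BlkG1
import Cfsg.Agent.Omega.NOThreeL.RRed.Side
import Cfsg.Agent.Omega.NOThreeL.RRed.TvFin
import Cfsg.Agent.Omega.NO3S.Level.Basic

/-!
# NO-3L, box R: the tree of `GlueSig.FourOf` (RR S = 1, |Z| = 4, all |Z : C_Z(P)| = 2, some |V_P| ≠ 8, (L2))

`V* = Wd S = ⟨Z^M₀⟩`, `M₀ = MZ S = ⟨P*(S)⟩`.

* `Four S` : the hypotheses of `FourOf`;
* `ffMod_rr` : `RR S = 1` implies that `V*` is FF; `exists_gOne_rr` : some `P ∈ P*(S)` has an offender of `V*`;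
* `TvS S` : some `t ∈ S` is a transvection of `V*`; `Fld S` : some such `P` has natural `SL₂(q)`-blocks, `q ≥ 4`;
  `tvS_or` : one of them holds;
* `Bks S N E R₀ Om phi` : the `𝔽₂`-blocks (`TvFin.Full`): `V* = ∏ N b × R₀`, `N b` = even sets of letters of `Sym(n b)`,
  `n b` odd, `≥ 3`; `exists_bks` : the block theorem;
* `HypJ S N` : at some level (or `J(S)`) the best offenders move all blocks;
* sockets: `FourFld` (`Fld S`), `FourJ` (`R₀ = 1`, `HypJ`), `FourTwo` (`R₀ = 1`, not `HypJ`), `FourRest` (`R₀ ≠ 1`);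
* **`fourOf_of`** : they imply `FourOf`.
-/

set_option autoImplicit false
set_option linter.unusedSectionVars false

namespace Cfsg.Agent.Omega.NOThreeL.RRed.FourTree

open Subgroup Cfsg Cfsg.Agent.ZN Cfsg.Agent.Omega.MinPar Cfsg.Agent.Omega.Frame Cfsg.Agent.Omega.FrameNOFF
open Cfsg.Agent.Omega.Node.NO3L Cfsg.Agent.Omega.NOThreeL.Basic Cfsg.Agent.Omega.NOThreeL.RTree
open Cfsg.Agent.Omega.NOThreeL.RTreeF
open Cfsg.Agent.Omega.NOThreeL.Merge (MZ le_MZ S_le_MZ isLoc_MZ zl_MZ_comm zl_MZ_isPGroup)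
open Cfsg.Agent.Omega.NOThreeL.ZCut (FZ)
open Cfsg.Agent.Omega.NO3b.Bang (bang NN)
open Cfsg.Agent.Omega.NO3S (FFMod)
open Cfsg.Agent.Omega.NO3S.Level (Lev)
open Cfsg.Agent.Omega.NO1.BestOff (Best)
open Cfsg.Agent.Omega.FFThm (ElemM OffM NoOverM)
open Cfsg.Agent.Omega.NOThreeL.RZ (RR)
open Cfsg.Agent.Omega.NOThreeL.RRed.GlueSig

universe u

section defs

variable {G : Type u} [Group G]

/-- The hypotheses of `FourOf`. -/
structure Four [Finite G] (S : Sylow 2 G) : Prop extends RB S where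
  rr : RR (S : Subgroup G) = ⊥
  thin : Thin (S : Subgroup G)
  z4 : Nat.card (zc (S : Subgroup G)) = 4
  n8 : ∃ P, IsParS (S : Subgroup G) P ∧ Nat.card (zl (S : Subgroup G) P) ≠ 8
  l2 : L2 (S : Subgroup G)

/-- some `t ∈ S` is a transvection of `V*` -/
def TvS (S : Subgroup G) : Prop :=
  ∃ t ∈ S, ∃ c ∈ Wd S, c ≠ 1 ∧ Tv (Wd S) c t ∧ t ∉ centralizer (Wd S : Set G)

/-- some `P ∈ P*(S)` with an offender of `V*` has natural `SL₂(q)`-blocks, `q ≥ 4` -/
def Fld [Finite G] (S : Sylow 2 G) : Prop :=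
  ∃ P A, GOne S (MZ (S : Subgroup G)) P A ∧ Big4 S P

/-- **The `𝔽₂`-blocks of `V*`.** -/
structure Bks [Finite G] (S : Sylow 2 G) {I : Type u} (N E : I → Subgroup G) (R₀ : Subgroup G) (Om : I → Type u)
    [∀ i, Fintype (Om i)] [∀ i, DecidableEq (Om i)] (phi : ∀ i, Finset (Om i) → G) : Prop
    extends TvFin.Full (S : Subgroup G) (MZ (S : Subgroup G)) (Wd (S : Subgroup G)) N E R₀ Om phi where
  nonempty : Nonempty I

/-- `⟨best offenders of S on X⟩ C_S(X)` -/
def nxtX (S X : Subgroup G) : Subgroup G := (S ⊓ centralizer (X : Set G)) ⊔ sSup {A | A ≤ S ∧ Best X A}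

/-- A level `(K, X)` over `V*`. -/
structure LevX (S K X : Subgroup G) : Prop extends Lev S K where
  Xle : X ≤ zc K
  Xn : normalizer (K : Set G) ≤ normalizer (X : Set G)
  VX : Wd S ≤ X
  MX : MZ S ≤ normalizer (X : Set G)

/-- (J): `J(S)`, or the best offenders at some level, move all blocks. -/
def HypJ {ι : Type u} (S : Subgroup G) (N : ι → Subgroup G) : Prop :=
  (∀ b, ¬ jj S ≤ centralizer (N b : Set G)) ∨
    ∃ K X, LevX S K X ∧ ∀ b, ¬ nxtX S X ≤ centralizer (N b : Set G)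

end defs

section sockets

variable (K : Cls.{u}) (B : Fr.{u})

/-- fields -/
def FourFld : Prop :=
  ∀ (G : Type u) [Group G] [Finite G], K G → ∀ (S : Sylow 2 G), B G S → Four S → Fld S → IsKnownSimple' G

/-- `R₀ = 1`, one level -/
def FourJ : Prop :=
  ∀ (G : Type u) [Group G] [Finite G], K G → ∀ (S : Sylow 2 G), B G S → Four S → ¬ Fld S →
    ∀ (I : Type u) [Fintype I] [DecidableEq I] (N E : I → Subgroup G) (Om : I → Type u)
      [∀ i, Fintype (Om i)] [∀ i, DecidableEq (Om i)] (phi : ∀ i, Finset (Om i) → G), Bks S N E ⊥ Om phi →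
      HypJ (S : Subgroup G) N → IsKnownSimple' G

/-- `R₀ = 1`, two levels -/
def FourTwo : Prop :=
  ∀ (G : Type u) [Group G] [Finite G], K G → ∀ (S : Sylow 2 G), B G S → Four S → ¬ Fld S →
    ∀ (I : Type u) [Fintype I] [DecidableEq I] (N E : I → Subgroup G) (Om : I → Type u)
      [∀ i, Fintype (Om i)] [∀ i, DecidableEq (Om i)] (phi : ∀ i, Finset (Om i) → G), Bks S N E ⊥ Om phi →
      ¬ HypJ (S : Subgroup G) N → IsKnownSimple' G

/-- `R₀ ≠ 1` -/
def FourRest : Prop :=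
  ∀ (G : Type u) [Group G] [Finite G], K G → ∀ (S : Sylow 2 G), B G S → Four S → ¬ Fld S →
    ∀ (I : Type u) [Fintype I] [DecidableEq I] (N E : I → Subgroup G) (R₀ : Subgroup G) (Om : I → Type u)
      [∀ i, Fintype (Om i)] [∀ i, DecidableEq (Om i)] (phi : ∀ i, Finset (Om i) → G), Bks S N E R₀ Om phi →
      R₀ ≠ ⊥ → IsKnownSimple' G

end sockets

section tree

variable {G : Type u} [Group G]

/-- `RR S = 1` implies that `V*` is FF. -/
theorem ffMod_rr [Finite G] {S : Sylow 2 G} (B : RB S) (hr : RR (S : Subgroup G) = ⊥) :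
    FFMod (S : Subgroup G) (MZ (S : Subgroup G)) := by
  by_contra hn
  have hG := B.ctx
  have hm := B.data.noff
  have hne : zc (S : Subgroup G) ≠ ⊥ := MinSimple.Basic.zc_ne_bot S.isPGroup' (hG.sylow_ne_bot S)
  have hMW := MinSimple.VModule.le_normalizer_zl (S : Subgroup G) (MZ (S : Subgroup G))
  have hSW : (S : Subgroup G) ≤ normalizer (zl (S : Subgroup G) (MZ (S : Subgroup G)) : Set G) :=
    (S_le_MZ hG B.full).trans hMW
  have hN : NN (S : Subgroup G) (zl (S : Subgroup G) (MZ (S : Subgroup G))) :=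
    { le := le_of_le_normalizer S (zl_MZ_isPGroup hG hm) hSW
      norm := hSW
      comm := zl_MZ_comm hG hm
      sq := zl_MZ_sq hG.char2 hm
      nff := fun A hA ho => hn ⟨A, hA, ho⟩ }
  have hI : RZ.Inv (S : Subgroup G) (zl (S : Subgroup G) (MZ (S : Subgroup G))) :=
    { nn := hN
      ys := hMW
      gen := MinSimple.VModule.zl_le ((le_inf (MinSimple.VModule.zc_le_zl _ _) le_rfl).trans (RZ.Z_le _ _))
        (RZ.le_norm_V _ _) }
  have h1 := hI.le_RR
  rw [hr] at h1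
  exact hne (eq_bot_iff.2 ((MinSimple.VModule.zc_le_zl _ _).trans h1))

theorem off_rr [Finite G] {S : Sylow 2 G} (B : RB S) (hr : RR (S : Subgroup G) = ⊥) :
    ∃ A ≤ MZ (S : Subgroup G), OffM (zl (S : Subgroup G) (MZ (S : Subgroup G))) A := by
  obtain ⟨A, hA, h⟩ := ffMod_rr B hr
  exact ⟨A, hA.trans (S_le_MZ B.ctx B.full), h⟩

theorem gen_MZ [Finite G] (S : Sylow 2 G) :
    MZ (S : Subgroup G) ≤ sSup {P | IsParS (S : Subgroup G) P ∧ P ≤ MZ (S : Subgroup G)} :=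
  sSup_le fun _ hP => le_sSup ⟨hP, le_MZ hP⟩

/-- some `P ∈ P*(S)` has an offender of `V*` -/
theorem exists_gOne_rr [Finite G] {S : Sylow 2 G} (B : RB S) (hr : RR (S : Subgroup G) = ⊥) :
    ∃ P A, GOne S (MZ (S : Subgroup G)) P A :=
  exists_gOne B.ctx.char2 (isLoc_MZ B.ctx B.full B.data.noff) (gen_MZ S) (off_rr B hr)

/-- transvections or fields -/
theorem tvS_or [Finite G] {S : Sylow 2 G} (B : RB S) (hr : RR (S : Subgroup G) = ⊥) :
    TvS (S : Subgroup G) ∨ Fld S :=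
  tv_or B.ctx.char2 (isLoc_MZ B.ctx B.full B.data.noff) (gen_MZ S) (off_rr B hr)

/-- **The block theorem** in box R with `RR S = 1` and a transvection. -/
theorem exists_bks [Finite G] {S : Sylow 2 G} (B : RB S) (hr : RR (S : Subgroup G) = ⊥) (ht : TvS (S : Subgroup G)) :
    ∃ (I : Type u) (_ : Fintype I) (_ : DecidableEq I) (N E : I → Subgroup G) (R₀ : Subgroup G) (Om : I → Type u)
      (_ : ∀ i, Fintype (Om i)) (_ : ∀ i, DecidableEq (Om i)) (phi : ∀ i, Finset (Om i) → G),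
      Bks S N E R₀ Om phi := by
  obtain ⟨P, A, hg⟩ := exists_gOne_rr B hr
  have hSM := S_le_MZ B.ctx B.full
  obtain ⟨I, i1, i2, N, E, R₀, Om, i3, i4, phi, h⟩ :=
    TvFin.blocks_zl (S := S) hSM (zl_MZ_sq B.ctx.char2 B.data.noff) hg.no
  obtain ⟨t, htS, c, hc, -, htv, hne⟩ := ht
  obtain ⟨i, -⟩ := h.tvs t (hSM htS) c hc htv hne
  exact ⟨I, i1, i2, N, E, R₀, Om, i3, i4, phi, { toFull := h, nonempty := ⟨i⟩ }⟩

/-- **`FourOf` from its leaves** -/
theorem fourOf_of {K : Cls.{u}} {B : Fr.{u}}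
    (hb : ∀ (G : Type u) [Group G] [Finite G] (S : Sylow 2 G), B G S → RB S)
    (hf : FourFld K B) (hJ : FourJ K B) (h2 : FourTwo K B) (h0 : FourRest K B) : FourOf K B := by
  intro G _ _ hK S hB hr ht hz hn hl
  have h4 : Four S := { toRB := hb G S hB, rr := hr, thin := ht, z4 := hz, n8 := hn, l2 := hl }
  by_cases hF : Fld S
  · exact hf G hK S hB h4 hF
  · obtain ⟨I, i1, i2, N, E, R₀, Om, i3, i4, phi, hBk⟩ :=
      exists_bks (hb G S hB) hr ((tvS_or (hb G S hB) hr).resolve_right hF)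
    by_cases hR : R₀ = ⊥
    · subst hR
      by_cases hj : HypJ (S : Subgroup G) N
      · exact hJ G hK S hB h4 hF I N E Om phi hBk hj
      · exact h2 G hK S hB h4 hF I N E Om phi hBk hj
    · exact h0 G hK S hB h4 hF I N E R₀ Om phi hBk hR

end tree

end Cfsg.Agent.Omega.NOThreeL.RRed.FourTree
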