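import Cfsg.Agent.Omega.NOThreeL.RRed.TvTr
import Cfsg.Agent.Omega.NOThreeL.RZ.TwoC.DecE

/-!
# Blocks of letters: 455's `Orbs` (`O i = {{1, .., n} - p}`) and the generation of `N i` by differences

* `orbs : Full S M V N E R₀ Om phi → DecE.Orbs M N E (Orb phi)`;
* `hdif : N i ≤ ⟨y x⁻¹ : x, y ∈ Orb phi i⟩`.
-/

set_option autoImplicit false
set_option linter.unusedSectionVars false

namespace Cfsg.Agent.Omega.NOThreeL.RRed.TvTr

open Subgroup Cfsg
open Cfsg.Agent.Omega.KL.TwoS (Rel Lett)
open Cfsg.Agent.Omega.NOThreeL.RRed.TvFin (Full)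
open Cfsg.Agent.Omega.NOThreeL.RZ.TwoC.DecE (Orbs)
open scoped Pointwise

universe u

variable {G : Type u} [Group G]

section lett

variable {Ω : Type u} [Fintype Ω] [DecidableEq Ω] {V R : Subgroup G} {φ : Finset Ω → G} (L : Lett V R φ)
include L

theorem phi_comm (s t : Finset Ω) : φ s * φ t = φ t * φ s := by
  rw [← L.mul, ← L.mul, symmDiff_comm]

theorem phi_insert {a : Ω} {s : Finset Ω} (ha : a ∉ s) : φ (insert a s) = φ {a} * φ s := by
  rw [← L.mul]
  congr 1
  ext x
  rw [Finset.mem_symmDiff, Finset.mem_insert, Finset.mem_singleton]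
  by_cases hx : x = a
  · subst hx
    simp [ha]
  · simp [hx]

theorem erase_mul (p q : Ω) : φ (Finset.univ.erase p) * (φ (Finset.univ.erase q))⁻¹ = φ {p} * φ {q} := by
  rw [L.phi_inv, ← L.mul, ← L.mul]
  congr 1
  ext x
  rw [Finset.mem_symmDiff, Finset.mem_symmDiff, Finset.mem_erase, Finset.mem_erase, Finset.mem_singleton,
    Finset.mem_singleton]
  by_cases h1 : x = p <;> by_cases h2 : x = q <;> simp [h1, h2]

theorem diff_le {K : Subgroup G} (hK : ∀ p q, φ (Finset.univ.erase p) * (φ (Finset.univ.erase q))⁻¹ ∈ K) : V ≤ K := by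
  have key : ∀ s : Finset Ω, (Even s.card → φ s ∈ K) ∧ (Odd s.card → ∀ p, φ s * φ {p} ∈ K) := by
    intro s
    induction s using Finset.induction_on with
    | empty =>
      refine ⟨fun _ => by rw [L.phi_empty]; exact one_mem _, fun h => ?_⟩
      rw [Finset.card_empty] at h
      exact absurd h (by decide)
    | insert a s ha ih =>
      rw [Finset.card_insert_of_notMem ha, phi_insert L ha]
      refine ⟨fun h => ?_, fun h p => ?_⟩
      · rw [phi_comm L]
        exact ih.2 (by rcases Nat.even_or_odd s.card with h1 | h1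
                       · exact absurd h (Nat.not_even_iff_odd.2 h1.add_one)
                       · exact h1) a
      · have h1 : Even s.card := by
          rcases Nat.even_or_odd s.card with h1 | h1
          · exact h1
          · exact absurd h (Nat.not_odd_iff_even.2 h1.add_one)
        have e : φ {a} * φ s * φ {p} = φ s * (φ {a} * φ {p}) := by
          rw [phi_comm L {a} s, mul_assoc]
        rw [e, ← erase_mul L]
        exact mul_mem (ih.1 h1) (hK a p)
  intro v hv
  obtain ⟨s, hs, rfl⟩ := (L.mem v).1 hv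
  exact (key s).1 hs

end lett

section full

variable {S M V : Subgroup G} {I : Type u} {N E : I → Subgroup G} {R₀ : Subgroup G} {Om : I → Type u}
    [∀ i, Fintype (Om i)] [∀ i, DecidableEq (Om i)] {phi : ∀ i, Finset (Om i) → G}
    (F : Full S M V N E R₀ Om phi)
include F

theorem card_orb (i : I) : Nat.card (Orb phi i) = Fintype.card (Om i) := by
  rw [← Nat.card_eq_fintype_card]
  refine (Nat.card_congr (Equiv.ofBijective
    (fun p : Om i => (⟨phi i (Finset.univ.erase p), p, rfl⟩ : Orb phi i)) ⟨?_, ?_⟩)).symm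
  · intro p q hpq
    have h1 : phi i (Finset.univ.erase p) = phi i (Finset.univ.erase q) := congrArg Subtype.val hpq
    have h2 := (F.lett i).phi_inj ((F.lett i).even_erase p) ((F.lett i).even_erase q) h1
    by_contra hne
    have h3 : q ∈ Finset.univ.erase p := Finset.mem_erase.2 ⟨Ne.symm hne, Finset.mem_univ _⟩
    rw [h2] at h3
    exact (Finset.mem_erase.1 h3).1 rfl
  · rintro ⟨_, p, rfl⟩
    exact ⟨p, rfl⟩

/-- **455's `Orbs`** -/
theorem orbs : Orbs M N E (Orb phi) where
  sub := orb_sub F
  one := orb_one F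
  odd i := by rw [card_orb F i]; exact (F.lett i).odd
  tr i _ hx _ hy := orb_tr F i hx hy
  inv _ hg _ _ hij _ hx := orb_conj F hg hij hx

/-- the differences generate -/
theorem hdif (i : I) : N i ≤ closure {y | ∃ a ∈ Orb phi i, ∃ b ∈ Orb phi i, y = b * a⁻¹} :=
  diff_le (F.lett i) fun p q => subset_closure ⟨_, ⟨q, rfl⟩, _, ⟨p, rfl⟩, rfl⟩

end full

end Cfsg.Agent.Omega.NOThreeL.RRed.TvTr
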