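import Cfsg.Agent.Omega.NOThreeL.RRed.WideTree

/-!
# WideAll, one class, two natural blocks, `q = 4`: void (T3 of helper483's #26256, row 13 of #25504)

* `odd_trick` : `Y ≤ X` contains the squares and the 2-elements of `X`: `X ≤ Y`;
* `core` : `T` a 2-group, every 2-subgroup of `P₀` is conjugate in `P₀` to a subgroup of `T`, `P₀` acts on `N`, `T` centralises
  `l` (order 4), `R ≤ T` acts as a root group with line `l`, `P₀` fixes `v₀ ∈ l`, `v₀ ≠ 1`: then `P₀` centralises `l`;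
* `exists_swap` : some `s ∈ S` interchanges the two blocks;
* **`four_false`** : `Wide S`, `V*` irreducible for `M₀`, two natural blocks with `q = 4` are impossible.
-/

set_option autoImplicit false
set_option linter.unusedSectionVars false

namespace Cfsg.Agent.Omega.NOThreeL.RRed.OneTwoFour

open Subgroup Cfsg Cfsg.Agent.ZN Cfsg.Agent.Omega.MinPar Cfsg.Agent.Omega.Frame Cfsg.Agent.Omega.FrameNOFF
open Cfsg.Agent.Omega.Node.NO3L Cfsg.Agent.Omega.NOThreeL.Basic Cfsg.Agent.Omega.NOThreeL.RTree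
open Cfsg.Agent.Omega.NOThreeL.Merge (MZ)
open Cfsg.Agent.Omega.NOThreeL.RRed.WideTree
open Cfsg.Agent.Omega.NOThreeL.RRed.Blk
open Cfsg.Agent.ZN.ChoiceBase (cj mem_cj mem_normalizer_iff_cj card_cj isPGroup_cj)
open scoped Pointwise

universe u

variable {G : Type u} [Group G]

section abs

theorem odd_trick [Finite G] {X Y : Subgroup G} (h2 : ∀ x ∈ X, x * x ∈ Y)
    (he : ∀ x ∈ X, IsPGroup 2 (zpowers x) → x ∈ Y) : X ≤ Y := by
  intro x hx
  obtain ⟨a, n, hn, e⟩ := Nat.exists_eq_two_pow_mul_odd (orderOf_pos x).ne'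
  have h1 : x ^ n ∈ Y := by
    refine he _ (pow_mem hx n) (IsPGroup.of_card (n := a) ?_)
    rw [Nat.card_zpowers, orderOf_pow, e, Nat.gcd_eq_right (Dvd.intro_left _ rfl),
      Nat.mul_div_cancel _ hn.pos]
  obtain ⟨m, hm⟩ := hn
  have h3 : x ^ n = (x * x) ^ m * x := by rw [hm, pow_succ, pow_mul, pow_two]
  have h4 : x = ((x * x) ^ m)⁻¹ * x ^ n := by rw [h3]; group
  rw [h4]
  exact mul_mem (inv_mem (pow_mem (h2 x hx) m)) h1

/-- a Sylow 2-subgroup `W ≥ R` of `X`; every 2-element of `X` is conjugate in `X` into `W` -/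
theorem exists_syl_ge [Finite G] {X R : Subgroup G} (hR : IsPGroup 2 R) (hRX : R ≤ X) :
    ∃ W : Subgroup G, W ≤ X ∧ IsPGroup 2 W ∧ R ≤ W ∧
      ∀ y ∈ X, IsPGroup 2 (zpowers y) → ∃ x ∈ X, x⁻¹ * y * x ∈ W := by
  have hf : Fact (Nat.Prime 2) := ⟨Nat.prime_two⟩
  obtain ⟨Q, hQ⟩ := (hR.comap_of_injective X.subtype X.subtype_injective).exists_le_sylow
  refine ⟨(Q : Subgroup X).map X.subtype, map_subtype_le _, Q.isPGroup'.map _, ?_, ?_⟩
  · intro r hr
    exact ⟨⟨r, hRX hr⟩, hQ (mem_comap.2 hr), rfl⟩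
  · intro y hy hy2
    have h1 : IsPGroup 2 (zpowers (⟨y, hy⟩ : X)) := by
      have h2 : (zpowers (⟨y, hy⟩ : X)).map X.subtype = zpowers y := by rw [MonoidHom.map_zpowers]; rfl
      have h3 : IsPGroup 2 ((zpowers (⟨y, hy⟩ : X)).map X.subtype) := by rw [h2]; exact hy2
      have h4 := h3.comap_of_injective X.subtype X.subtype_injective
      rwa [comap_map_eq_self_of_injective X.subtype_injective] at h4
    obtain ⟨Q', hQ'⟩ := h1.exists_le_sylow
    obtain ⟨x, hx⟩ := MulAction.exists_smul_eq X Q Q'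
    have h5 : (⟨y, hy⟩ : X) ∈ (Q' : Subgroup X) := hQ' (mem_zpowers _)
    rw [← hx, Sylow.coe_subgroup_smul] at h5
    have h6 : x⁻¹ * (⟨y, hy⟩ : X) * x ∈ (Q : Subgroup X) := by
      have h7 := (mem_pointwise_smul_iff_inv_smul_mem (a := MulAut.conj x) (S := (Q : Subgroup X))).1 h5
      simpa [MulAut.conj_apply, MulAut.inv_def, MulAut.conj_symm_apply] using h7
    exact ⟨(x : G), x.2, ⟨_, h6, rfl⟩⟩

variable [Finite G]

theorem conj_cent {l : Subgroup G} {g c : G} (hg : g ∈ normalizer (l : Set G)) (hc : ∀ x ∈ l, c * x = x * c) :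
    ∀ x ∈ l, (g * c * g⁻¹) * x = x * (g * c * g⁻¹) := by
  intro x hx
  have h1 : g⁻¹ * x * g ∈ l := (mem_normalizer_iff''.1 hg x).1 hx
  have h3 := hc _ h1
  calc g * c * g⁻¹ * x = g * (c * (g⁻¹ * x * g)) * g⁻¹ := by group
    _ = g * ((g⁻¹ * x * g) * c) * g⁻¹ := by rw [h3]
    _ = x * (g * c * g⁻¹) := by group

theorem norm_of {l : Subgroup G} {g : G} (hg : ∀ x ∈ l, g * x * g⁻¹ ∈ l) : g ∈ normalizer (l : Set G) := by
  rw [mem_normalizer_iff_cj]
  refine Subgroup.eq_of_le_of_card_ge ?_ (by rw [card_cj])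
  rintro _ ⟨y, hy, rfl⟩
  exact hg y hy

/-- the elements of `l` -/
theorem four_elems {l : Subgroup G} {v₀ w x : G} (hcard : Nat.card l = 4) (h2 : v₀ * v₀ = 1) (hv : v₀ ∈ l)
    (hv1 : v₀ ≠ 1) (hw : w ∈ l) (hw1 : w ≠ 1) (hwv : w ≠ v₀) (hx : x ∈ l) :
    x = 1 ∨ x = v₀ ∨ x = w ∨ x = v₀ * w := by
  classical
  by_contra hcon
  push Not at hcon
  obtain ⟨c1, c2, c3, c4⟩ := hcon
  have hvw : v₀ * w ∈ l := mul_mem hv hw
  have h1 : ({1, v₀, w, v₀ * w, x} : Finset G).card = 5 := by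
    have n1 : v₀ * w ≠ 1 := fun e => hwv (by
      have h3 : v₀ * w = v₀ * v₀ := by rw [e, h2]
      exact mul_left_cancel h3)
    have n2 : v₀ * w ≠ v₀ := fun e => hw1 (by simpa using e)
    have n3 : v₀ * w ≠ w := fun e => hv1 (by simpa using e)
    rw [Finset.card_insert_of_notMem, Finset.card_insert_of_notMem, Finset.card_insert_of_notMem,
      Finset.card_insert_of_notMem, Finset.card_singleton]
    · simp only [Finset.mem_singleton]; exact fun e => c4 e.symm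
    · simp only [Finset.mem_insert, Finset.mem_singleton]
      rintro (e | e)
      · exact n3 e.symm
      · exact c3 e.symm
    · simp only [Finset.mem_insert, Finset.mem_singleton]
      rintro (e | e | e)
      · exact hwv e.symm
      · exact n2 e.symm
      · exact c2 e.symm
    · simp only [Finset.mem_insert, Finset.mem_singleton]
      rintro (e | e | e | e)
      · exact hv1 e.symm
      · exact hw1 e.symm
      · exact n1 e.symm
      · exact c1 e.symm
  have h3 : (({1, v₀, w, v₀ * w, x} : Finset G) : Set G) ⊆ (l : Set G) := by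
    intro y hy
    simp only [Finset.coe_insert, Finset.coe_singleton, Set.mem_insert_iff, Set.mem_singleton_iff] at hy
    rcases hy with rfl | rfl | rfl | rfl | rfl
    · exact one_mem l
    · exact hv
    · exact hw
    · exact hvw
    · exact hx
  have h4 := Set.ncard_le_ncard h3 (Set.toFinite _)
  rw [Set.ncard_coe_finset, h1] at h4
  have h5 : (l : Set G).ncard = 4 := hcard
  omega

theorem core {T P₀ N l R : Subgroup G} {v₀ : G} (hT : IsPGroup 2 T)
    (hsyl : ∀ W : Subgroup G, W ≤ P₀ → IsPGroup 2 W → ∃ h ∈ P₀, ∀ w ∈ W, h * w * h⁻¹ ∈ T)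
    (hTP : T ≤ P₀) (hPN : ∀ g ∈ P₀, ∀ x ∈ N, g * x * g⁻¹ ∈ N) (hN2 : ∀ x ∈ N, x * x = 1)
    (hlN : l ≤ N) (hcard : Nat.card l = 4) (hTl : ∀ t ∈ T, ∀ x ∈ l, t * x = x * t) (hRT : R ≤ T)
    (hRf : ∀ x ∈ N, x ∉ l → ∀ z ∈ l, ∃ r ∈ R, r * x * r⁻¹ * x⁻¹ = z)
    (hv : v₀ ∈ l) (hv1 : v₀ ≠ 1) (hvP : ∀ g ∈ P₀, g * v₀ = v₀ * g) : ∀ g ∈ P₀, ∀ x ∈ l, g * x = x * g := by
  have hRP : R ≤ P₀ := hRT.trans hTP
  have hvv : v₀ * v₀ = 1 := hN2 v₀ (hlN hv)
  have hvc : ∀ g ∈ P₀, g * v₀ * g⁻¹ = v₀ := fun g hg => by rw [hvP g hg, mul_inv_cancel_right]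
  -- Step A
  have hnor : ∀ g ∈ P₀, g ∈ normalizer (l : Set G) := by
    intro g hg
    by_contra hgn
    have hne : cj g l ≠ l := fun e => hgn (mem_normalizer_iff_cj.2 e)
    have hvl' : v₀ ∈ cj g l := ⟨v₀, hv, hvc g hg⟩
    obtain ⟨w, hw, hwl'⟩ : ∃ w ∈ l, w ∉ cj g l := by
      by_contra hcon
      push Not at hcon
      exact hne (Subgroup.eq_of_le_of_card_ge hcon (by rw [card_cj])).symm
    have hw1 : w ≠ 1 := fun e => hwl' (e ▸ one_mem _)
    have hwv : w ≠ v₀ := fun e => hwl' (e ▸ hvl')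
    -- `r'`
    have hgw : g⁻¹ * w * g ∈ N := by
      have := hPN g⁻¹ (inv_mem hg) w (hlN hw)
      rwa [inv_inv] at this
    have hgwl : g⁻¹ * w * g ∉ l := fun h => hwl' ⟨_, h, by
      change g * (g⁻¹ * w * g) * g⁻¹ = w
      group⟩
    obtain ⟨r, hr, e⟩ := hRf _ hgw hgwl v₀ hv
    set r' := g * r * g⁻¹ with hr'
    have hr'P : r' ∈ P₀ := mul_mem (mul_mem hg (hRP hr)) (inv_mem hg)
    have hr'w : r' * w * r'⁻¹ = v₀ * w := by
      have e1 : r' * w * r'⁻¹ * w⁻¹ = g * (r * (g⁻¹ * w * g) * r⁻¹ * (g⁻¹ * w * g)⁻¹) * g⁻¹ := by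
        rw [hr']; group
      rw [e, hvc g hg] at e1
      rw [← e1]; group
    have hr'2 : IsPGroup 2 (zpowers r') := by
      have h1 : zpowers r' = cj g (zpowers r) := by
        rw [hr']
        exact (MonoidHom.map_zpowers (MulAut.conj g).toMonoidHom r).symm
      rw [h1]
      exact isPGroup_cj g (hT.to_le (by rw [zpowers_le]; exact hRT hr))
    have hr'n : r' ∈ normalizer (l : Set G) := by
      refine norm_of fun x hx => ?_
      rcases four_elems hcard hvv hv hv1 hw hw1 hwv hx with rfl | rfl | rfl | rfl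
      · rw [mul_one, mul_inv_cancel]; exact one_mem _
      · rw [hvc r' hr'P]; exact hv
      · rw [hr'w]; exact mul_mem hv hw
      · have e2 : r' * (v₀ * w) * r'⁻¹ = (r' * v₀ * r'⁻¹) * (r' * w * r'⁻¹) := by group
        rw [e2, hvc r' hr'P, hr'w]
        exact mul_mem hv (mul_mem hv hw)
    have hRn : R ≤ normalizer (l : Set G) := fun r hr => norm_of fun x hx => by
      rw [hTl r (hRT hr) x hx, mul_inv_cancel_right]; exact hx
    have hXn : R ⊔ zpowers r' ≤ normalizer (l : Set G) := sup_le hRn (by rw [zpowers_le]; exact hr'n)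
    have hXP : R ⊔ zpowers r' ≤ P₀ := sup_le hRP (by rw [zpowers_le]; exact hr'P)
    obtain ⟨W, hWX, hW2, hRW, hWc⟩ := exists_syl_ge (hT.to_le hRT) (le_sup_left : R ≤ R ⊔ zpowers r')
    obtain ⟨h, hh, hhW⟩ := hsyl W (hWX.trans hXP) hW2
    -- `W` centralises `l`
    have hWy : ∀ x ∈ l, ∀ w' ∈ W, w' * (h⁻¹ * x * h) = (h⁻¹ * x * h) * w' := by
      intro x hx w' hw'
      have h1 := hTl _ (hhW w' hw') x hx
      calc w' * (h⁻¹ * x * h) = h⁻¹ * ((h * w' * h⁻¹) * x) * h := by group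
        _ = h⁻¹ * (x * (h * w' * h⁻¹)) * h := by rw [h1]
        _ = (h⁻¹ * x * h) * w' := by group
    have hle : cj h⁻¹ l ≤ l := by
      rintro _ ⟨x, hx, rfl⟩
      change h⁻¹ * x * h⁻¹⁻¹ ∈ l
      rw [inv_inv]
      by_contra hcon
      have hxN : h⁻¹ * x * h ∈ N := by
        have := hPN h⁻¹ (inv_mem hh) x (hlN hx)
        rwa [inv_inv] at this
      obtain ⟨r₁, hr₁, e1⟩ := hRf _ hxN hcon v₀ hv
      rw [hWy x hx r₁ (hRW hr₁), mul_inv_cancel_right, mul_inv_cancel] at e1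
      exact hv1 e1.symm
    have heq : cj h⁻¹ l = l := Subgroup.eq_of_le_of_card_ge hle (by rw [card_cj])
    have hWl : ∀ w' ∈ W, ∀ x ∈ l, w' * x = x * w' := by
      intro w' hw' x hx
      rw [← heq] at hx
      obtain ⟨y, hy, e1⟩ := hx
      have e2 : h⁻¹ * y * h = x := by
        rw [← e1]
        change _ = h⁻¹ * y * h⁻¹⁻¹
        rw [inv_inv]
      rw [← e2]
      exact hWy y hy w' hw'
    obtain ⟨x, hx, hxW⟩ := hWc r' (mem_sup_right (mem_zpowers r')) hr'2
    have h5 := conj_cent (hXn hx) (hWl _ hxW) w hw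
    have e3 : x * (x⁻¹ * r' * x) * x⁻¹ = r' := by group
    rw [e3] at h5
    rw [h5, mul_inv_cancel_right] at hr'w
    exact hv1 (by simpa using hr'w.symm)
  -- Step B
  have hle : P₀ ≤ centralizer (l : Set G) := by
    refine odd_trick ?_ ?_
    · intro g hg
      rw [mem_centralizer_iff]
      intro x hx
      have hgx : g * x * g⁻¹ ∈ l := (mem_normalizer_iff.1 (hnor g hg) x).1 hx
      have key : g * (g * x * g⁻¹) * g⁻¹ = x := by
        by_cases hx1 : x = 1
        · rw [hx1]; group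
        by_cases hxv : x = v₀
        · rw [hxv, hvc g hg, hvc g hg]
        rcases four_elems hcard hvv hv hv1 hx hx1 hxv hgx with e | e | e | e
        · exact absurd (conj_eq_one_iff.1 e) hx1
        · exfalso
          apply hxv
          have e1 : x = g⁻¹ * v₀ * g := by rw [← e]; group
          rw [e1, mul_assoc, ← hvP g hg]; group
        · rw [e, e]
        · have e2 : g * (v₀ * x) * g⁻¹ = (g * v₀ * g⁻¹) * (g * x * g⁻¹) := by group
          rw [e, e2, hvc g hg, e, ← mul_assoc, hvv, one_mul]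
      have e4 : (g * g) * x * (g * g)⁻¹ = x := by
        have : (g * g) * x * (g * g)⁻¹ = g * (g * x * g⁻¹) * g⁻¹ := by group
        rw [this, key]
      exact (mul_inv_eq_iff_eq_mul.1 e4).symm
    · intro g hg hg2
      obtain ⟨h, hh, hhg⟩ := hsyl (zpowers g) (by rw [zpowers_le]; exact hg) hg2
      have h1 := hTl _ (hhg g (mem_zpowers g))
      have h2 := conj_cent (inv_mem (hnor h hh)) h1
      rw [mem_centralizer_iff]
      intro x hx
      have h3 := h2 x hx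
      have e1 : h⁻¹ * (h * g * h⁻¹) * h⁻¹⁻¹ = g := by group
      rw [e1] at h3
      exact h3.symm
  intro g hg x hx
  exact (mem_centralizer_iff.1 (hle hg) x hx).symm

end abs

section grp

variable [Finite G]

theorem conj_into {S : Sylow 2 G} {P W : Subgroup G} (hSP : (S : Subgroup G) ≤ P) (hW : W ≤ P) (h2 : IsPGroup 2 W) :
    ∃ p ∈ P, ∀ w ∈ W, p * w * p⁻¹ ∈ (S : Subgroup G) := by
  have hf : Fact (Nat.Prime 2) := ⟨Nat.prime_two⟩
  obtain ⟨Q, hQ⟩ := (h2.comap_of_injective P.subtype P.subtype_injective).exists_le_sylow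
  obtain ⟨x, hx⟩ := MulAction.exists_smul_eq P Q (S.subtype hSP)
  refine ⟨x, x.2, fun w hw => ?_⟩
  have h1 : (⟨w, hW hw⟩ : P) ∈ (Q : Subgroup P) := hQ (mem_comap.2 hw)
  have h3 : MulAut.conj x • (⟨w, hW hw⟩ : P) ∈ ((x • Q : Sylow 2 P) : Subgroup P) := by
    rw [Sylow.coe_subgroup_smul]
    exact smul_mem_pointwise_smul _ _ _ h1
  rw [hx] at h3
  exact h3

theorem smul_eq_iff {X : Subgroup G} {g : G} : MulAut.conj g • X = X ↔ g ∈ normalizer (X : Set G) := by
  rw [mem_normalizer_iff_cj]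
  exact Iff.rfl

variable {S : Sylow 2 G} {ι : Type u} {N E D l : ι → Subgroup G} {q : ι → ℕ} {b c : ι}

section two

variable (h : NBs (S : Subgroup G) N E D l q) (hbc : b ≠ c) (hall : ∀ d, d = b ∨ d = c)
include h hbc hall

theorem swap_or {g : G} (hg : g ∈ MZ (S : Subgroup G)) :
    (MulAut.conj g • N b = N b ∧ MulAut.conj g • N c = N c) ∨
      (MulAut.conj g • N b = N c ∧ MulAut.conj g • N c = N b) := by
  obtain ⟨d, hd, -⟩ := h.dec.perm g hg b
  obtain ⟨d', hd', -⟩ := h.dec.perm g hg c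
  have hne : d ≠ d' := by
    rintro rfl
    rw [← hd'] at hd
    exact hbc (h.dec.Ninj (smul_left_cancel _ hd))
  rcases hall d with rfl | rfl <;> rcases hall d' with rfl | rfl
  · exact absurd rfl hne
  · exact Or.inl ⟨hd, hd'⟩
  · exact Or.inr ⟨hd, hd'⟩
  · exact absurd rfl hne

theorem not_both {g : G} (h1 : MulAut.conj g • N b = N b) (h2 : MulAut.conj g • N b = N c) : False :=
  hbc (h.dec.Ninj (h1.symm.trans h2))

/-- some `s ∈ S` interchanges the blocks -/
theorem exists_swap (B : RB S)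
    (hirr : ∀ U : Subgroup G, U ≤ Wd (S : Subgroup G) → MZ (S : Subgroup G) ≤ normalizer (U : Set G) → U ≠ ⊥ →
      Wd (S : Subgroup G) ≤ U) :
    ∃ s ∈ (S : Subgroup G), MulAut.conj s • N b = N c ∧ MulAut.conj s • N c = N b := by
  by_contra hcon
  have hS : ∀ s ∈ (S : Subgroup G), MulAut.conj s • N b = N b ∧ MulAut.conj s • N c = N c := by
    intro s hs
    rcases swap_or h hbc hall (SM B hs) with h1 | h1
    · exact h1
    · exact absurd ⟨s, hs, h1⟩ hcon
  have hM : MZ (S : Subgroup G) ≤ normalizer (N b : Set G) := by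
    refine sSup_le fun P hP => ?_
    have hP' : IsParS (S : Subgroup G) P := hP
    have hPM : P ≤ MZ (S : Subgroup G) := le_MZ hP'
    have hSP : (S : Subgroup G) ≤ P := hP'.isLoc.le
    refine odd_trick ?_ ?_
    · intro x hx
      rw [← smul_eq_iff, map_mul, mul_smul]
      rcases swap_or h hbc hall (hPM hx) with ⟨h1, h2⟩ | ⟨h1, h2⟩
      · rw [h1, h1]
      · rw [h1, h2]
    · intro x hx hx2
      rw [← smul_eq_iff]
      rcases swap_or h hbc hall (hPM hx) with ⟨h1, -⟩ | ⟨h1, h1'⟩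
      · exact h1
      exfalso
      obtain ⟨p, hp, hpx⟩ := conj_into hSP (by rw [zpowers_le]; exact hx) hx2
      obtain ⟨h3, h4⟩ := hS _ (hpx x (mem_zpowers x))
      rw [map_mul, map_mul, mul_smul, mul_smul, map_inv] at h3 h4
      rcases swap_or h hbc hall (hPM hp) with ⟨h5, h6⟩ | ⟨h5, h6⟩
      · have h7 : (MulAut.conj p)⁻¹ • N b = N b := by
          conv_lhs => rw [← h5]
          rw [inv_smul_smul]
        rw [h7, h1, h6] at h3
        exact hbc (h.dec.Ninj h3.symm)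
      · have h7 : (MulAut.conj p)⁻¹ • N b = N c := by
          conv_lhs => rw [← h6]
          rw [inv_smul_smul]
        rw [h7, h1', h5] at h3
        exact hbc (h.dec.Ninj h3.symm)
  have h1 := hirr (N b) (h.dec.NU b) hM (h.dec.ne b)
  have h2 : N c ≤ N b := (h.dec.NU c).trans h1
  apply h.dec.ne c
  rw [eq_bot_iff, ← h.dec.ind b]
  exact le_inf h2 (h.dec.N_le_Co hbc.symm)

theorem ext2 {x : G} (hx : x ∈ Wd (S : Subgroup G)) (h1 : IsC N ⊥ b x 1) (h2 : IsC N ⊥ c x 1) : x = 1 := by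
  have hR := h.dec
  have : Finite ι := by
    refine Set.finite_univ_iff.1 ((Set.toFinite {b, c}).subset fun d _ => ?_)
    rcases hall d with rfl | rfl
    · exact Or.inl rfl
    · exact Or.inr rfl
  have h3 := h.dec.mem_R hx fun d => by
    rcases hall d with rfl | rfl
    · exact h1
    · exact h2
  rwa [mem_bot] at h3

variable {s₀ : G} (hs₀ : s₀ ∈ (S : Subgroup G)) (hsb : MulAut.conj s₀ • N b = N c) (hsc : MulAut.conj s₀ • N c = N b)
include hs₀ hsb hsc

theorem eq_one_of {x : G} (hS : ∀ s ∈ (S : Subgroup G), s * x * s⁻¹ = x) (hx : x ∈ Wd (S : Subgroup G))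
    (h1 : IsC N ⊥ b x 1) : x = 1 := by
  refine ext2 h hbc hall hx h1 ?_
  have h2 := h.dec.comp_conj (h.dec.SL hs₀) hsb h1
  rwa [hS s₀ hs₀, mul_one, mul_inv_cancel] at h2

/-- `P ⊓ N(N b)` centralises the line `l b` if `P` fixes some `v ∈ Z`, `v ≠ 1`, `q b = 4`, `|Z| ≥ 4`. -/
theorem cent_line (B : RB S) (hq : q b = 4) (hZ : 4 ≤ Nat.card (zc (S : Subgroup G))) {P : Subgroup G}
    (hP : IsParS (S : Subgroup G) P) {v : G} (hv : v ∈ zc (S : Subgroup G)) (hv1 : v ≠ 1)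
    (hvP : ∀ g ∈ P, g * v * g⁻¹ = v) :
    (∀ z ∈ zc (S : Subgroup G), ∀ n, IsC N ⊥ b z n → n ∈ l b) ∧
      ∀ g ∈ P, MulAut.conj g • N b = N b → ∀ x ∈ l b, g * x = x * g := by
  classical
  have hSM : (S : Subgroup G) ≤ MZ (S : Subgroup G) := SM B
  have hPM : P ≤ MZ (S : Subgroup G) := le_MZ hP
  have hSP : (S : Subgroup G) ≤ P := hP.isLoc.le
  have hzS : ∀ z ∈ zc (S : Subgroup G), ∀ s ∈ (S : Subgroup G), s * z * s⁻¹ = z := fun z hz s hs => by
    rw [(mem_zc.1 hz).2.1 s hs, mul_inv_cancel_right]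
  obtain ⟨F, _, _, _, e, hF, hN⟩ := h.nat b
  have hEn : ∀ g ∈ D b, MulAut.conj g • N b = N b := fun g hg =>
    smul_eq_iff.2 (h.dec.EN b (h.DE b hg))
  have hnN : ∀ {g : G}, MulAut.conj g • N b = N b → ∀ x ∈ N b, g * x * g⁻¹ ∈ N b := fun hg x hx =>
    (conj_smul hg).1 hx
  have hchar : ∀ x : F, x + x = 0 := fun x => CharTwo.add_self_eq_zero x
  have he1 : e 1 = 0 := by
    have := hN.mul 1 (one_mem _) 1 (one_mem _)
    rw [one_mul] at this
    exact left_eq_add.1 this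
  have hN2 : ∀ x ∈ N b, x * x = 1 := fun x hx => hN.inj _ (mul_mem hx hx) (by
    rw [hN.mul x hx x hx]
    funext i
    exact hchar _)
  have hinv : ∀ x ∈ N b, x⁻¹ = x := fun x hx => inv_eq_of_mul_eq_one_right (hN2 x hx)
  have hein : ∀ x ∈ N b, ∀ y ∈ N b, e x = e y → x = y := fun x hx y hy hxy => by
    have h1 : x * y = 1 := hN.inj _ (mul_mem hx hy) (by
      rw [hN.mul x hx y hy, hxy]
      funext i
      exact hchar _)
    rw [eq_comm, ← hinv x hx]
    exact (eq_inv_of_mul_eq_one_right h1)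
  have hlN : l b ≤ N b := fun x hx => ((hN.line x).1 hx).1
  -- `|l b| = 4`
  have hcard : Nat.card (l b) = 4 := by
    rw [← hq, ← hF]
    refine Nat.card_congr (Equiv.ofBijective (fun x : l b => e (x : G) 0) ⟨?_, ?_⟩)
    · intro x y hxy
      obtain ⟨hx, hx1⟩ := (hN.line _).1 x.2
      obtain ⟨hy, hy1⟩ := (hN.line _).1 y.2
      refine Subtype.ext (hein _ hx _ hy ?_)
      funext i
      fin_cases i
      · exact hxy
      · exact hx1.trans hy1.symm
    · intro a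
      obtain ⟨x, hx, hxe⟩ := hN.sur ![a, 0]
      refine ⟨⟨x, (hN.line x).2 ⟨hx, by rw [hxe]; rfl⟩⟩, ?_⟩
      change e x 0 = a
      rw [hxe]; rfl
  -- commutators with the root elements
  have hcomm : ∀ s : G, MulAut.conj s • N b = N b → ∀ a : F,
      (∀ x ∈ N b, e (s * x * s⁻¹) = ![e x 0 + a * e x 1, e x 1]) → ∀ x ∈ N b,
      e (s * x * s⁻¹ * x⁻¹) = ![a * e x 1, 0] := by
    intro s hs a hsa x hx
    rw [hinv x hx, hN.mul _ (hnN hs x hx) x hx, hsa x hx]
    funext i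
    fin_cases i
    · change e x 0 + a * e x 1 + e x 0 = a * e x 1
      rw [add_comm (e x 0), add_assoc, hchar, add_zero]
    · change e x 1 + e x 1 = 0
      exact hchar _
  -- the `b`-components of `Z` are in `l b`
  have hcl : ∀ z ∈ zc (S : Subgroup G), ∀ n, IsC N ⊥ b z n → n ∈ l b := by
    intro z hz n hn
    obtain ⟨s, hs, hse⟩ := hN.sylow 1
    have h1 := h.dec.comp_conj (hSM hs.1) (hEn s hs.2) hn
    rw [hzS z hz s hs.1] at h1
    have h2 := h.dec.uniq h1 hn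
    refine (hN.line n).2 ⟨hn.1, ?_⟩
    have h3 := hse n hn.1
    rw [h2] at h3
    have h4 := congrFun h3 0
    change e n 0 = e n 0 + 1 * e n 1 at h4
    rw [one_mul] at h4
    exact left_eq_add.1 h4
  refine ⟨hcl, ?_⟩
  -- every element of `l b` is a component
  have hzW : ∀ z ∈ zc (S : Subgroup G), z ∈ Wd (S : Subgroup G) := fun z hz => zc_le_Wd _ hz
  have hsurj : ∀ n ∈ l b, ∃ z ∈ zc (S : Subgroup G), IsC N ⊥ b z n := by
    choose f hf using fun z : zc (S : Subgroup G) => h.dec.ex_comp b (hzW z z.2)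
    let φ : zc (S : Subgroup G) → l b := fun z => ⟨f z, hcl z z.2 _ (hf z)⟩
    have hφ : Function.Injective φ := by
      intro z z' hzz
      have h1 : f z = f z' := congrArg Subtype.val hzz
      have h2 := h.dec.comp_mul (h.dec.comp_inv (hf z)) (hf z')
      rw [h1, inv_mul_cancel] at h2
      have h3 : ((z : G))⁻¹ * (z' : G) = 1 :=
        eq_one_of h hbc hall hs₀ hsb hsc (hzS _ (mul_mem (inv_mem z.2) z'.2))
          (hzW _ (mul_mem (inv_mem z.2) z'.2)) h2
      exact Subtype.ext (inv_mul_eq_one.1 h3)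
    have hb : Function.Bijective φ := hφ.bijective_of_nat_card_le (by rw [hcard]; exact hZ)
    intro n hn
    obtain ⟨z, hz⟩ := hb.2 ⟨n, hn⟩
    have h1 : f z = n := congrArg Subtype.val hz
    exact ⟨z, z.2, h1 ▸ hf z⟩
  -- `v b`
  obtain ⟨v₀, hv₀⟩ := h.dec.ex_comp b (hzW v hv)
  have hv01 : v₀ ≠ 1 := by
    rintro rfl
    exact hv1 (eq_one_of h hbc hall hs₀ hsb hsc (hzS v hv) (hzW v hv) hv₀)
  have key := core (T := (S : Subgroup G) ⊓ normalizer (N b : Set G)) (P₀ := P ⊓ normalizer (N b : Set G))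
    (N := N b) (l := l b) (R := (S : Subgroup G) ⊓ D b) (v₀ := v₀) (S.isPGroup'.to_le inf_le_left) ?_
    (inf_le_inf_right _ hSP) (fun g hg x hx => (mem_normalizer_iff.1 hg.2 x).1 hx) hN2 hlN hcard ?_
    (inf_le_inf_left _ ((h.DE b).trans (h.dec.EN b))) ?_ (hcl v hv _ hv₀) hv01 ?_
  · intro g hg hgn x hx
    exact key g ⟨hg, smul_eq_iff.1 hgn⟩ x hx
  · -- Sylow
    intro W hW hW2
    obtain ⟨p, hp, hpW⟩ := conj_into hSP (hW.trans inf_le_left) hW2
    have hWn : ∀ w ∈ W, MulAut.conj w • N b = N b := fun w hw => smul_eq_iff.2 (hW hw).2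
    have main : ∀ g ∈ P, MulAut.conj g • N b = N b → (∀ w ∈ W, g * w * g⁻¹ ∈ (S : Subgroup G)) →
        ∃ h ∈ P ⊓ normalizer (N b : Set G), ∀ w ∈ W, h * w * h⁻¹ ∈ (S : Subgroup G) ⊓ normalizer (N b : Set G) := by
      intro g hg hgn hgW
      refine ⟨g, ⟨hg, smul_eq_iff.1 hgn⟩, fun w hw => mem_inf.2 ⟨hgW w hw, ?_⟩⟩
      exact mul_mem (mul_mem (smul_eq_iff.1 hgn) (hW hw).2) (inv_mem (smul_eq_iff.1 hgn))
    rcases swap_or h hbc hall (hPM hp) with ⟨h1, -⟩ | ⟨h1, h2⟩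
    · exact main p hp h1 hpW
    · refine main (s₀ * p) (mul_mem (hSP hs₀) hp) ?_ fun w hw => ?_
      · rw [map_mul, mul_smul, h1, hsc]
      · have e3 : s₀ * p * w * (s₀ * p)⁻¹ = s₀ * (p * w * p⁻¹) * s₀⁻¹ := by group
        rw [e3]
        exact mul_mem (mul_mem hs₀ (hpW w hw)) (inv_mem hs₀)
  · -- `T` centralises `l b`
    intro t ht x hx
    obtain ⟨z, hz, hzx⟩ := hsurj x hx
    have h1 := h.dec.comp_conj (hSM ht.1) (smul_eq_iff.2 ht.2) hzx
    rw [hzS z hz t ht.1] at h1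
    exact mul_inv_eq_iff_eq_mul.1 (h.dec.uniq h1 hzx)
  · -- the root group
    intro x hx hxl z hz
    have hx1 : e x 1 ≠ 0 := fun h0 => hxl ((hN.line x).2 ⟨hx, h0⟩)
    obtain ⟨hzN, hz1⟩ := (hN.line z).1 hz
    obtain ⟨s, hs, hse⟩ := hN.sylow (e z 0 / e x 1)
    refine ⟨s, hs, hein _ (mul_mem (hnN (hEn s hs.2) x hx) (inv_mem hx)) _ hzN ?_⟩
    rw [hcomm s (hEn s hs.2) _ hse x hx]
    funext i
    fin_cases i
    · change e z 0 / e x 1 * e x 1 = e z 0
      exact div_mul_cancel₀ _ hx1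
    · exact hz1.symm
  · intro g hg
    have h1 := h.dec.comp_conj (hPM hg.1) (smul_eq_iff.2 hg.2) hv₀
    rw [hvP g hg.1] at h1
    exact mul_inv_eq_iff_eq_mul.1 (h.dec.uniq h1 hv₀)

end two

/-- **T3: two natural blocks with `q = 4` are impossible in `WideAll`, one class.** -/
theorem four_false (W : Wide S)
    (hirr : ∀ U : Subgroup G, U ≤ Wd (S : Subgroup G) → MZ (S : Subgroup G) ≤ normalizer (U : Set G) → U ≠ ⊥ →
      Wd (S : Subgroup G) ≤ U)
    (h : NBs (S : Subgroup G) N E D l q) (hq : ∀ b, q b = 4) (hbc : b ≠ c) (hall : ∀ d, d = b ∨ d = c) : False := by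
  have B : RB S := W.toRB
  obtain ⟨s₀, hs₀, hsb, hsc⟩ := exists_swap h hbc hall B hirr
  have hZ : 4 ≤ Nat.card (zc (S : Subgroup G)) := W.four_le
  obtain ⟨P, hP, hne⟩ := B.ex
  obtain ⟨v, hv, hv1⟩ : ∃ v ∈ zc (S : Subgroup G) ⊓ centralizer (P : Set G), v ≠ 1 := by
    by_contra hcon
    push Not at hcon
    exact hne ((eq_bot_iff_forall _).2 hcon)
  have hvP : ∀ g ∈ P, g * v * g⁻¹ = v := fun g hg => by
    rw [mem_centralizer_iff.1 hv.2 g hg, mul_inv_cancel_right]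
  obtain ⟨a1, a2⟩ := cent_line h hbc hall hs₀ hsb hsc B (hq b) hZ hP hv.1 hv1 hvP
  obtain ⟨b1, b2⟩ := cent_line h hbc.symm (fun d => (hall d).symm) hs₀ hsc hsb B (hq c) hZ hP hv.1 hv1 hvP
  have hPM : P ≤ MZ (S : Subgroup G) := le_MZ hP
  have hSP : (S : Subgroup G) ≤ P := hP.isLoc.le
  -- `P` centralises `Z`
  have main : ∀ g ∈ P, MulAut.conj g • N b = N b → MulAut.conj g • N c = N c → ∀ z ∈ zc (S : Subgroup G),
      g * z * g⁻¹ = z := by
    intro g hg hgb hgc z hz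
    have hzW : z ∈ Wd (S : Subgroup G) := zc_le_Wd _ hz
    obtain ⟨n, hn⟩ := h.dec.ex_comp b hzW
    obtain ⟨m, hm⟩ := h.dec.ex_comp c hzW
    have h1 := h.dec.comp_conj (hPM hg) hgb hn
    have h2 := h.dec.comp_conj (hPM hg) hgc hm
    rw [a2 g hg hgb n (a1 z hz n hn), mul_inv_cancel_right] at h1
    rw [b2 g hg hgc m (b1 z hz m hm), mul_inv_cancel_right] at h2
    have h3 := h.dec.comp_mul (h.dec.comp_inv h1) hn
    have h4 := h.dec.comp_mul (h.dec.comp_inv h2) hm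
    rw [inv_mul_cancel] at h3 h4
    have h5 := ext2 h hbc hall (mul_mem (inv_mem (nor g (hPM hg) z hzW)) hzW) h3 h4
    exact inv_mul_eq_one.1 h5
  refine hP.not_zc ((le_trans ?_ (centralizer_le_normalizer _)))
  intro p hp
  rw [mem_centralizer_iff]
  intro z hz
  have key : p * z * p⁻¹ = z := by
    rcases swap_or h hbc hall (hPM hp) with ⟨h1, h2⟩ | ⟨h1, h2⟩
    · exact main p hp h1 h2 z hz
    · have h3 := main (s₀ * p) (mul_mem (hSP hs₀) hp) (by rw [map_mul, mul_smul, h1, hsc])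
        (by rw [map_mul, mul_smul, h2, hsb]) z hz
      have hsz : s₀ * z = z * s₀ := (mem_zc.1 hz).2.1 s₀ hs₀
      have h4 : p * z * p⁻¹ = s₀⁻¹ * (s₀ * p * z * (s₀ * p)⁻¹) * s₀ := by group
      rw [h4, h3, mul_assoc, ← hsz, inv_mul_cancel_left]
  exact (mul_inv_eq_iff_eq_mul.1 key).symm

/-- the same with the literals of `WideTree.WOneN` -/
theorem wOneTwo_four (W : Wide S) (hCM : CM (S : Subgroup G) (fun _ : PUnit.{u + 1} => Wd (S : Subgroup G)))
    (h : NBs (S : Subgroup G) N E D l (fun _ => 4)) (hι : Nat.card ι = 2) : False := by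
  obtain ⟨b, c, hbc, hall⟩ := Nat.card_eq_two_iff.1 hι
  refine four_false W (hCM.irr PUnit.unit) h (fun _ => rfl) hbc fun d => ?_
  have h1 : d ∈ ({b, c} : Set ι) := by rw [hall]; exact Set.mem_univ d
  simpa using h1

end grp

end Cfsg.Agent.Omega.NOThreeL.RRed.OneTwoFour
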