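import Cfsg.Agent.Omega.NOThreeL.RRed.LevVX.Core
import Cfsg.Agent.Omega.NOThreeL.RRed.BFr.Top
import Cfsg.Agent.Omega.NOThreeL.RLev.NoOverHat
import Cfsg.Agent.Omega.NOThreeL.RLev.ExistsHat

/-!
# NO-3L, box R, one class, letters: the top level is `(Q, V*)`, `Q = C_S(V*)`

`hB : Bks S N E ⊥ Om phi`, `V* = Wd S` irreducible for `M₀ = MZ S`; `h : TopLev S K X` (`K` the largest weakly closed
subgroup of `S` in `C_S(V*)`, `V* ≤ X ≤ Ω₁(Z(K))` with `N(K) ≤ N(X)`, moved by the best offenders of `S`).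

* **`top_X : X = V*`**, **`top_K : K = Q`**; `top_wc : WC S Q`, `top_N : N(Q) ≤ N(V*)`;
* `topQ : TopLev S Q V*`, `levQ : LevX S Q V*`;
* **`exists_topQ`** : box R: `J(S)` moves `V*`, or `TopLev S Q V*`;
* `zcQ_eq` : `Ω₁Z(Q) = V*` if the best offenders of `S` on `Ω₁Z(Q)` move `V*`.
-/

set_option autoImplicit false
set_option linter.unusedSectionVars false

namespace Cfsg.Agent.Omega.NOThreeL.RRed.LevVX

open Subgroup Cfsg Cfsg.Agent.ZN.ChoiceBase Cfsg.Agent.Omega.MinPar Cfsg.Agent.Omega.Frame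
open Cfsg.Agent.ZN (jj zc zl o2)
open Cfsg.Agent.PLocal.ThompsonJ (isElementaryAbelian_iff)
open Cfsg.Agent.Omega.NO3b.Wc (WC WH)
open Cfsg.Agent.Omega.NO1.BestOff (Best)
open Cfsg.Agent.Omega.NOThreeL.Merge (MZ S_le_MZ)
open Cfsg.Agent.Omega.NOThreeL.RTree (RB)
open Cfsg.Agent.Omega.NOThreeL.RTreeF (RBF)
open Cfsg.Agent.Omega.NOThreeL.RRed (Wd)
open Cfsg.Agent.Omega.NOThreeL.RRed.BFr
open Cfsg.Agent.Omega.NOThreeL.RRed.FourTree (Bks nxtX LevX)
open Cfsg.Agent.Omega.NOThreeL.RLev (TopLev HatLev exists_hatLev)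
open Cfsg.Agent.Omega.NO3b.EndX (AbsP)
open Cfsg.Agent.Omega.ML.Final (MLK)

universe u

variable {G : Type u} [Group G] [Finite G] {S : Sylow 2 G}

theorem rb_of (h : RBF S) : RB S :=
  { ctx := h.ctx, full := h.full, data := h.data, notA := h.notA, ff := Or.inl h.ff, ex := h.ex }

section top

variable {I : Type u} [Fintype I] [DecidableEq I] {N E : I → Subgroup G} {Om : I → Type u}
  [∀ i, Fintype (Om i)] [∀ i, DecidableEq (Om i)] {phi : ∀ i, Finset (Om i) → G}
  (B : RB S) (hB : Bks S N E ⊥ Om phi)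
  (irr : ∀ U : Subgroup G, U ≤ Wd (S : Subgroup G) → MZ (S : Subgroup G) ≤ normalizer (U : Set G) → U ≠ ⊥ →
    Wd (S : Subgroup G) ≤ U) {K X : Subgroup G} (h : TopLev S K X)

include B hB irr h

/-- **`X = V*`** -/
theorem top_X : X = Wd (S : Subgroup G) := by
  have MX : MZ (S : Subgroup G) ≤ normalizer (X : Set G) := h.YK.trans h.Xn
  have elX : IsElementaryAbelian 2 X := isElementaryAbelian_iff.2
    ⟨fun x hx y hy => ((mem_zc.1 (h.Xle hx)).2.2 y (mem_zc.1 (h.Xle hy)).1).symm, fun x hx => (mem_zc.1 (h.Xle hx)).2.1⟩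
  have VX : Wd (S : Subgroup G) ≤ X := h.VX
  have XS : X ≤ (S : Subgroup G) := fun x hx => h.le_S (mem_zc.1 (h.Xle hx)).1
  refine eq_of (ofFull hB.toFull) (bd_of B hB) elX VX MX irr XS
    (RLev.NoOverHat.noOver_hat' B.ctx.char2 h.wc h.max h.Xn h.VX h.centX (S_le_MZ B.ctx B.full) MX) h.Xn h.prinS ?_
  by_contra hcon
  push Not at hcon
  apply h.mv
  refine sup_le (inf_le_right.trans (centralizer_le h.VX)) (sSup_le fun A hA => ?_)
  exact (hcon A hA.1 hA.2).trans (centralizer_le h.VX)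

theorem top_N' : normalizer (K : Set G) ≤ normalizer (Wd (S : Subgroup G) : Set G) := by
  have h1 := h.Xn
  rwa [top_X B hB irr h] at h1

/-- `Q` is weakly closed -/
theorem top_wc : WC (S : Subgroup G) ((S : Subgroup G) ⊓ centralizer (Wd (S : Subgroup G) : Set G)) := by
  refine h.wc_of (le_inf h.le_S h.cent) inf_le_left fun g hg hgS => le_inf hgS ?_
  refine (cj_mono g inf_le_right).trans ?_
  rw [cj_centralizer, cj_eq_of_mem_normalizer (top_N' B hB irr h hg)]

/-- **`K = Q`** -/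
theorem top_K : K = (S : Subgroup G) ⊓ centralizer (Wd (S : Subgroup G) : Set G) :=
  le_antisymm (le_inf h.le_S h.cent) (h.max _ (top_wc B hB irr h) inf_le_right)

/-- **`N(Q) ≤ N(V*)`** -/
theorem top_N : normalizer (((S : Subgroup G) ⊓ centralizer (Wd (S : Subgroup G) : Set G) : Subgroup G) : Set G) ≤
    normalizer (Wd (S : Subgroup G) : Set G) := by
  have h1 := top_N' B hB irr h
  rwa [top_K B hB irr h] at h1

/-- **the top level is `(Q, V*)`** -/
theorem topQ : TopLev S ((S : Subgroup G) ⊓ centralizer (Wd (S : Subgroup G) : Set G)) (Wd (S : Subgroup G)) := by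
  have h1 := h
  rw [top_X B hB irr h] at h1
  rwa [top_K B hB irr h] at h1

theorem levQ : LevX (S : Subgroup G) ((S : Subgroup G) ⊓ centralizer (Wd (S : Subgroup G) : Set G))
    (Wd (S : Subgroup G)) := (topQ B hB irr h).levX

/-- `Ω₁Z(Q) = V*` -/
theorem zcQ_eq (hs : ¬ nxtX (S : Subgroup G)
    (zc ((S : Subgroup G) ⊓ centralizer (Wd (S : Subgroup G) : Set G))) ≤
      centralizer (Wd (S : Subgroup G) : Set G)) :
    zc ((S : Subgroup G) ⊓ centralizer (Wd (S : Subgroup G) : Set G)) = Wd (S : Subgroup G) := by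
  have h1 := topQ B hB irr h
  have h2 : TopLev S ((S : Subgroup G) ⊓ centralizer (Wd (S : Subgroup G) : Set G))
      (zc ((S : Subgroup G) ⊓ centralizer (Wd (S : Subgroup G) : Set G))) :=
    { toLev := h1.toLev
      wc := h1.wc
      cent := h1.cent
      max := h1.max
      eqK := h1.eqK
      Xle := le_rfl
      Xn := MinSimple.VModule.normalizer_le_normalizer_zc _
      VX := h1.Xle
      YK := h1.YK
      wcn := RLev.nxtX_wc h1.wc le_rfl (MinSimple.VModule.normalizer_le_normalizer_zc _)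
      mv := hs }
  exact top_X B hB irr h2

end top

section box

variable {I : Type u} [Fintype I] [DecidableEq I] {N E : I → Subgroup G} {Om : I → Type u}
  [∀ i, Fintype (Om i)] [∀ i, DecidableEq (Om i)] {phi : ∀ i, Finset (Om i) → G}

/-- **`J(S)` moves `V*`, or the top level is `(Q, V*)`.** -/
theorem exists_topQ (ml : MLK.{u, u}) (ha : AbsP.{u, u}) (h : RBF S) (hB : Bks S N E ⊥ Om phi)
    (irr : ∀ U : Subgroup G, U ≤ Wd (S : Subgroup G) → MZ (S : Subgroup G) ≤ normalizer (U : Set G) → U ≠ ⊥ →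
      Wd (S : Subgroup G) ≤ U) :
    ¬ jj (S : Subgroup G) ≤ centralizer (Wd (S : Subgroup G) : Set G) ∨
      TopLev S ((S : Subgroup G) ⊓ centralizer (Wd (S : Subgroup G) : Set G)) (Wd (S : Subgroup G)) := by
  rcases exists_hatLev ml ha h with h1 | ⟨K, X, h1⟩
  · exact Or.inl h1
  · exact Or.inr (topQ (rb_of h) hB irr h1.toTopLev)

end box

end Cfsg.Agent.Omega.NOThreeL.RRed.LevVX
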