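import Cfsg.Agent.Omega.NOThreeL.RRed.ClassD
import Cfsg.Agent.Omega.NOThreeL.RRed.TvFin

/-!
# NO-3L, box R: without `P` of type `q ≥ 4` every minimal exact offender is a transvection

`V = zl S L`, `S ≤ L`, `L` 2-local, generated by the members of `P*(S)` in `L`.

* `card_le_two` : `t` acts on `V` as a transvection: `|V| ≤ 2 |C_V(t)|`;
* `mx_tv` : no `GOne S L P A` with `Big4 S P`: a minimal exact offender `A ≤ L` is `⟨t⟩ C_A(V)`, `t` a transvection;
* `mx_cent` : it centralises `R₀` (`TvFin.Full`).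
-/

set_option autoImplicit false
set_option linter.unusedSectionVars false

namespace Cfsg.Agent.Omega.NOThreeL.RRed.AtomTv

open Subgroup Cfsg Cfsg.Agent.ZN Cfsg.Agent.Omega.MinPar Cfsg.Agent.Omega.Frame Cfsg.Agent.Omega.FrameNOFF
open Cfsg.Agent.Omega.NOThreeL.Basic
open Cfsg.Agent.Omega.FFThm (ElemM OffM NoOverM ConclM)
open Cfsg.Agent.ZN.ChoiceBase (cj)
open Cfsg.Agent.Omega.NOThreeL.RRed

universe u

variable {G : Type u} [Group G]

/-- `|V| ≤ 2 |C_V(B)|`, `B = ⟨t⟩ D`, `D` centralises `V`, `t` acts as a transvection. -/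
theorem card_le_two [Finite G] {V C : Subgroup G} {c t : G} (hV : V ≤ centralizer (V : Set G)) (hc : c ∈ V)
    (ht : Tv V c t) (hC : ∀ v ∈ V, t * v * t⁻¹ = v → v ∈ C) : Nat.card V ≤ 2 * Nat.card C := by
  classical
  by_cases h0 : V ≤ C
  · have := Subgroup.card_le_of_le h0
    omega
  obtain ⟨x, hx, hxC⟩ := SetLike.not_le_iff_exists.1 h0
  have hx1 : t * x * t⁻¹ = x * c := (ht x hx).resolve_left fun e => hxC (hC x hx e)
  have hsub : (V : Set G) ⊆ (C : Set G) ∪ (fun y => x * y) '' (C : Set G) := by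
    intro v hv
    rcases ht v hv with h1 | h1
    · exact Or.inl (hC v hv h1)
    · right
      refine ⟨x⁻¹ * v, hC _ (mul_mem (inv_mem hx) hv) ?_, by simp⟩
      have e : t * (x⁻¹ * v) * t⁻¹ = (t * x * t⁻¹)⁻¹ * (t * v * t⁻¹) := by group
      rw [e, hx1, h1]
      have h2 : c⁻¹ * (x⁻¹ * v) = (x⁻¹ * v) * c⁻¹ :=
        mem_centralizer_iff.1 (hV (mul_mem (inv_mem hx) hv)) _ (inv_mem hc)
      calc (x * c)⁻¹ * (v * c) = (c⁻¹ * (x⁻¹ * v)) * c := by group
        _ = x⁻¹ * v := by rw [h2]; group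
  have h1 := (Set.ncard_le_ncard hsub (Set.toFinite _)).trans (Set.ncard_union_le _ _)
  have h2 : ((fun y => x * y) '' (C : Set G)).ncard ≤ (C : Set G).ncard := Set.ncard_image_le (Set.toFinite _)
  have e1 : (V : Set G).ncard = Nat.card V := (Nat.card_coe_set_eq _).symm
  have e2 : (C : Set G).ncard = Nat.card C := (Nat.card_coe_set_eq _).symm
  omega

variable [Finite G] {S : Sylow 2 G} {L A : Subgroup G}

/-- **A minimal exact offender is a transvection** (no `P` of type `q ≥ 4`). -/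
theorem mx_tv (hc : IsCharacteristicTwoType G) (hL : IsLoc (S : Subgroup G) L)
    (hgen : L ≤ sSup {P | IsParS (S : Subgroup G) P ∧ P ≤ L}) (hF : ¬ ∃ P A, GOne S L P A ∧ Big4 S P)
    (hAL : A ≤ L) (h : Mx (zl (S : Subgroup G) L) A) :
    ∃ t ∈ A, ∃ c ∈ zl (S : Subgroup G) L, c ≠ 1 ∧ Tv (zl (S : Subgroup G) L) c t ∧
      t ∉ centralizer (zl (S : Subgroup G) L : Set G) ∧
        zpowers t ⊔ (A ⊓ centralizer (zl (S : Subgroup G) L : Set G)) = A := by
  obtain ⟨m, hm, P, hg⟩ := gOne_of_mx hc hL hgen hAL h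
  have h2 : Two2 S P := (two2_or hg.concl).resolve_right fun h4 => hF ⟨P, _, hg, h4⟩
  obtain ⟨t, ht, c, hcP, hc1, htv, hn⟩ := hg.tv hc h2
  have hLV : L ≤ normalizer (zl (S : Subgroup G) L : Set G) := MinSimple.VModule.le_normalizer_zl _ _
  have hcomm := hg.comm
  have hno := hg.no
  have hcV := hg.VU hcP
  set V : Subgroup G := zl (S : Subgroup G) L with hV
  have hmV := hLV hm
  have hmiV : m⁻¹ ∈ normalizer (V : Set G) := inv_mem hmV
  have hbk : ∀ x ∈ V, m⁻¹ * x * m ∈ V := fun x hx => by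
    have := (mem_normalizer_iff.1 hmiV x).1 hx
    rwa [inv_inv] at this
  set t' := m⁻¹ * t * m with ht'
  set c' := m⁻¹ * c * m with hc'
  have htA : t' ∈ A := ChoiceBase.mem_cj.1 ht
  have htv' : Tv V c' t' := by
    intro w hw
    have hw' : m * w * m⁻¹ ∈ V := (mem_normalizer_iff.1 hmV w).1 hw
    rcases htv _ hw' with e | e
    · left
      calc t' * w * t'⁻¹ = m⁻¹ * (t * (m * w * m⁻¹) * t⁻¹) * m := by rw [ht']; group
        _ = w := by rw [e]; group
    · right
      calc t' * w * t'⁻¹ = m⁻¹ * (t * (m * w * m⁻¹) * t⁻¹) * m := by rw [ht']; group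
        _ = w * c' := by rw [e, hc']; group
  have hn' : t' ∉ centralizer (V : Set G) := by
    intro h3
    apply hn
    rw [mem_centralizer_iff]
    intro v hv
    have h4 := mem_centralizer_iff.1 h3 _ (hbk v hv)
    have h5 : m⁻¹ * (v * t) * m = m⁻¹ * (t * v) * m := by
      calc m⁻¹ * (v * t) * m = (m⁻¹ * v * m) * t' := by rw [ht']; group
        _ = t' * (m⁻¹ * v * m) := h4
        _ = _ := by rw [ht']; group
    exact mul_left_cancel (mul_right_cancel h5)
  refine ⟨t', htA, c', hbk c hcV, ?_, htv', hn', ?_⟩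
  · intro e
    apply hc1
    have : c = m * c' * m⁻¹ := by rw [hc']; group
    rw [this, e]; group
  set D : Subgroup G := A ⊓ centralizer (V : Set G) with hD
  set B : Subgroup G := zpowers t' ⊔ D with hB
  have hBA : B ≤ A := sup_le (by rw [zpowers_le]; exact htA) inf_le_left
  have hBn : ¬ B ≤ centralizer (V : Set G) := fun h3 => hn' (h3 (le_sup_left (a := zpowers t') (mem_zpowers t')))
  -- `B` is exact
  have h1 : Nat.card B * Nat.card ↥(V ⊓ centralizer (B : Set G)) ≤
      Nat.card V * Nat.card ↥(B ⊓ centralizer (V : Set G)) :=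
    hno B (hBA.trans hAL) (VF.elemM_mono h.toElemM hBA)
  have h3 : Nat.card V ≤ 2 * Nat.card ↥(V ⊓ centralizer (B : Set G)) := by
    refine card_le_two hcomm (hbk c hcV) htv' fun v hv hv1 => mem_inf.2 ⟨hv, ?_⟩
    have h4 : B ≤ centralizer {v} := by
      refine sup_le ?_ (inf_le_right.trans (centralizer_le (Set.singleton_subset_iff.2 hv)))
      rw [zpowers_le, mem_centralizer_singleton_iff]
      exact mul_inv_eq_iff_eq_mul.1 hv1
    rw [mem_centralizer_iff]
    intro b hb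
    exact mem_centralizer_singleton_iff.1 (h4 hb)
  have h4 : 2 * Nat.card ↥(B ⊓ centralizer (V : Set G)) ≤ Nat.card B := by
    have h5 : B ⊓ centralizer (V : Set G) < B := lt_of_le_of_ne inf_le_left fun e => hBn (inf_eq_left.1 e)
    obtain ⟨k, hk⟩ := Subgroup.card_dvd_of_le h5.le
    have h6 : Nat.card ↥(B ⊓ centralizer (V : Set G)) ≠ Nat.card B := fun e =>
      h5.ne (Subgroup.eq_of_le_of_card_ge h5.le e.ge)
    have pB : 0 < Nat.card B := Nat.card_pos
    rw [hk] at h6 pB ⊢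
    have hk0 : k ≠ 0 := by rintro rfl; simp at pB
    have hk1 : k ≠ 1 := by rintro rfl; simp at h6
    rw [mul_comm 2]
    exact Nat.mul_le_mul_left _ (by omega)
  have hex : Nat.card V * Nat.card ↥(B ⊓ centralizer (V : Set G)) =
      Nat.card B * Nat.card ↥(V ⊓ centralizer (B : Set G)) := by
    refine le_antisymm ?_ h1
    calc Nat.card V * Nat.card ↥(B ⊓ centralizer (V : Set G))
        ≤ (2 * Nat.card ↥(V ⊓ centralizer (B : Set G))) * Nat.card ↥(B ⊓ centralizer (V : Set G)) :=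
          Nat.mul_le_mul_right _ h3
      _ = (2 * Nat.card ↥(B ⊓ centralizer (V : Set G))) * Nat.card ↥(V ⊓ centralizer (B : Set G)) := by ring
      _ ≤ _ := Nat.mul_le_mul_right _ h4
  exact (h.min B hBA hex le_sup_right).resolve_left hBn

/-- **It centralises `R₀`.** -/
theorem mx_cent (hc : IsCharacteristicTwoType G) (hL : IsLoc (S : Subgroup G) L)
    (hgen : L ≤ sSup {P | IsParS (S : Subgroup G) P ∧ P ≤ L}) (hF : ¬ ∃ P A, GOne S L P A ∧ Big4 S P)
    {I : Type u} {N E : I → Subgroup G} {R₀ : Subgroup G} {Om : I → Type u}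
    [∀ i, Fintype (Om i)] [∀ i, DecidableEq (Om i)] {phi : ∀ i, Finset (Om i) → G}
    (F : TvFin.Full (S : Subgroup G) L (zl (S : Subgroup G) L) N E R₀ Om phi) (hAL : A ≤ L)
    (h : Mx (zl (S : Subgroup G) L) A) : A ≤ centralizer (R₀ : Set G) := by
  obtain ⟨t, ht, c, hc', -, htv, -, hA⟩ := mx_tv hc hL hgen hF hAL h
  rw [← hA]
  refine sup_le ?_ (inf_le_right.trans (centralizer_le F.toDec.RU))
  rw [zpowers_le, mem_centralizer_iff]
  intro v hv
  have h1 := (F.fixR v (F.toDec.RU hv)).1 hv t (hAL ht) c hc' htv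
  exact (mul_inv_eq_iff_eq_mul.1 h1).symm

end Cfsg.Agent.Omega.NOThreeL.RRed.AtomTv
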