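import Cfsg.Agent.Omega.NOThreeL.RRed.ClassMx
import Cfsg.Agent.Omega.KL.FlagNO

/-!
# Box R, #25243: every `A ∈ 𝒜(O₂(C_G(Z)))` centralises `R₀` (helper930)

`V = B × R`, `B`, `R` invariant under `L`.
* `card_cent` : `|C_V(A)| = |C_B(A)| |C_R(A)|`;
* **`le_cent`** : an offender `A` on `V` which is no over-offender on `B` centralises `R`, if the minimal exact offenders
  in `A` do;
* **`hA`** : `V = zl S L ≤ O₂(C_G(Z))`, `Z = (Z ∩ B)(Z ∩ R)`, `B = ⟨(Z ∩ B)^{C_L(Z ∩ R)}⟩`, the minimal exact offenders of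
  `S` centralise `R`: every `A ∈ 𝒜(O₂(C_G(Z)))` centralises `R` (`MLK` for `C_L(Z ∩ R)` on `B`).
-/

set_option autoImplicit false
set_option linter.unusedSectionVars false

namespace Cfsg.Agent.Omega.NOThreeL.RRed.BestR

open Subgroup Cfsg Cfsg.Agent.ZN Cfsg.Agent.ZN.ChoiceBase Cfsg.Agent.Omega.MinPar
open Cfsg.Agent.Omega.FFThm (ElemM OffM NoOverM off_of_AA relIndex_le_iff)
open Cfsg.Agent.Omega.NOThreeL.RRed (Mx Exa)
open Cfsg.Agent.Omega.ML.Final (MLK)
open Cfsg.Agent.MinSimple.VModule (o2_isPGroup o2_le)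
open scoped Pointwise

universe u

variable {G : Type u} [Group G]

section abs

variable {V B R A L : Subgroup G}

/-- `C_V(A) = C_B(A) C_R(A)` -/
theorem cent_split (hVc : V ≤ centralizer (V : Set G)) (hs : B ⊔ R = V) (hi : B ⊓ R = ⊥)
    (nB : A ≤ normalizer (B : Set G)) (nR : A ≤ normalizer (R : Set G)) :
    V ⊓ centralizer (A : Set G) = (B ⊓ centralizer (A : Set G)) ⊔ (R ⊓ centralizer (A : Set G)) := by
  have hBV : B ≤ V := hs ▸ le_sup_left
  have hRV : R ≤ V := hs ▸ le_sup_right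
  apply le_antisymm
  · rintro x ⟨hx, hxA⟩
    have hx' : x ∈ B ⊔ R := by rw [hs]; exact hx
    have hn : B ≤ normalizer (R : Set G) :=
      hBV.trans (hVc.trans ((centralizer_le hRV).trans (centralizer_le_normalizer _)))
    have h1 : x ∈ ((B ⊔ R : Subgroup G) : Set G) := hx'
    rw [coe_mul_of_left_le_normalizer_right _ _ hn] at h1
    obtain ⟨b, hb, r, hr, e⟩ := h1
    have e' : b * r = x := e
    have key : ∀ a ∈ A, a * b * a⁻¹ = b ∧ a * r * a⁻¹ = r := by
      intro a ha
      have hab : a * b * a⁻¹ ∈ B := (mem_normalizer_iff.1 (nB ha) b).1 hb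
      have har : a * r * a⁻¹ ∈ R := (mem_normalizer_iff.1 (nR ha) r).1 hr
      have h2 : a * x = x * a := mem_centralizer_iff.1 hxA a ha
      have h3 : (a * b * a⁻¹) * (a * r * a⁻¹) = b * r := by
        have : (a * b * a⁻¹) * (a * r * a⁻¹) = a * (b * r) * a⁻¹ := by group
        rw [this, e', h2]; group
      have h4 : b⁻¹ * (a * b * a⁻¹) = r * (a * r * a⁻¹)⁻¹ := by
        rw [eq_mul_inv_iff_mul_eq, mul_assoc, h3]; group
      have h5 : b⁻¹ * (a * b * a⁻¹) ∈ B ⊓ R := by
        refine mem_inf.2 ⟨mul_mem (inv_mem hb) hab, ?_⟩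
        rw [h4]
        exact mul_mem hr (inv_mem har)
      have h6 := h5
      rw [hi, mem_bot] at h6
      refine ⟨(inv_mul_eq_one.1 h6).symm, ?_⟩
      rw [h6] at h4
      exact (mul_inv_eq_one.1 h4.symm).symm
    rw [← e']
    refine mul_mem (mem_sup_left ⟨hb, ?_⟩) (mem_sup_right ⟨hr, ?_⟩)
    · refine mem_centralizer_iff.2 ?_
      intro a ha
      have := (key a ha).1
      calc a * b = (a * b * a⁻¹) * a := by group
        _ = b * a := by rw [this]
    · refine mem_centralizer_iff.2 ?_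
      intro a ha
      have := (key a ha).2
      calc a * r = (a * r * a⁻¹) * a := by group
        _ = r * a := by rw [this]
  · exact sup_le (inf_le_inf_right _ hBV) (inf_le_inf_right _ hRV)

/-- `|C_V(A)| = |C_B(A)| |C_R(A)|` -/
theorem card_cent [Finite G] (hVc : V ≤ centralizer (V : Set G)) (hs : B ⊔ R = V) (hi : B ⊓ R = ⊥)
    (nB : A ≤ normalizer (B : Set G)) (nR : A ≤ normalizer (R : Set G)) :
    Nat.card ↥(V ⊓ centralizer (A : Set G)) =
      Nat.card ↥(B ⊓ centralizer (A : Set G)) * Nat.card ↥(R ⊓ centralizer (A : Set G)) := by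
  have hBV : B ≤ V := hs ▸ le_sup_left
  have hRV : R ≤ V := hs ▸ le_sup_right
  have h1 := Star.card_sup_mul hVc ((inf_le_left : B ⊓ centralizer (A : Set G) ≤ B).trans hBV)
    ((inf_le_left : R ⊓ centralizer (A : Set G) ≤ R).trans hRV)
  have h2 : (B ⊓ centralizer (A : Set G)) ⊓ (R ⊓ centralizer (A : Set G)) = ⊥ := by
    rw [eq_bot_iff, ← hi]
    exact inf_le_inf inf_le_left inf_le_left
  rw [h2, card_bot, mul_one, ← cent_split hVc hs hi nB nR] at h1
  exact h1

theorem card_mul [Finite G] (hVc : V ≤ centralizer (V : Set G)) (hs : B ⊔ R = V) (hi : B ⊓ R = ⊥) :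
    Nat.card V = Nat.card B * Nat.card R := by
  have h1 := Star.card_sup_mul hVc (hs ▸ le_sup_left : B ≤ V) (hs ▸ le_sup_right : R ≤ V)
  rwa [hi, card_bot, mul_one, hs] at h1

/-- **(BA)** -/
theorem le_cent [Finite G] (hVc : V ≤ centralizer (V : Set G)) (hs : B ⊔ R = V) (hi : B ⊓ R = ⊥)
    (nB : A ≤ normalizer (B : Set G)) (nR : A ≤ normalizer (R : Set G)) (pg : IsPGroup 2 A) (hE : ElemM V A)
    (off : Nat.card V * Nat.card ↥(A ⊓ centralizer (V : Set G)) ≤
      Nat.card A * Nat.card ↥(V ⊓ centralizer (A : Set G)))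
    (noB : Nat.card A * Nat.card ↥(B ⊓ centralizer (A : Set G)) ≤
      Nat.card B * Nat.card ↥(A ⊓ centralizer (B : Set G)))
    (no : NoOverM V L) (AL : A ≤ L) (hat : ∀ X ≤ A, Mx V X → X ≤ centralizer (R : Set G)) :
    A ≤ centralizer (R : Set G) := by
  have hBV : B ≤ V := hs ▸ le_sup_left
  have hRV : R ≤ V := hs ▸ le_sup_right
  set A₂ : Subgroup G := A ⊓ centralizer (B : Set G) with hA₂
  have hle : A₂ ≤ A := inf_le_left
  have hcV : A₂ ⊓ centralizer (V : Set G) = A ⊓ centralizer (V : Set G) := by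
    rw [hA₂, inf_assoc, inf_eq_right.2 (centralizer_le hBV)]
  have hE₂ : ElemM V A₂ := VF.elemM_mono hE hle
  have h1 := card_cent hVc hs hi nB nR
  have h2 := card_cent (A := A₂) hVc hs hi (hle.trans nB) (hle.trans nR)
  have h3 := card_mul hVc hs hi
  have hBA : B ⊓ centralizer (A₂ : Set G) = B :=
    inf_eq_left.2 (le_centralizer_iff.1 (inf_le_right : A₂ ≤ centralizer (B : Set G)))
  rw [hBA] at h2
  have h4 : Nat.card ↥(R ⊓ centralizer (A : Set G)) ≤ Nat.card ↥(R ⊓ centralizer (A₂ : Set G)) :=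
    Subgroup.card_le_of_le (inf_le_inf_left _ (centralizer_le hle))
  have h5 := no A₂ (hle.trans AL) hE₂
  rw [hcV, h2, h3] at h5
  rw [h1, h3] at off
  set bb := Nat.card B
  set rr := Nat.card R
  set a := Nat.card A
  set a2 := Nat.card A₂
  set cV := Nat.card ↥(A ⊓ centralizer (V : Set G))
  set bA := Nat.card ↥(B ⊓ centralizer (A : Set G))
  set rA := Nat.card ↥(R ⊓ centralizer (A : Set G))
  set rA2 := Nat.card ↥(R ⊓ centralizer (A₂ : Set G))
  have pb : 0 < bb := Nat.card_pos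
  have pc : 0 < cV := Nat.card_pos
  -- `rr cV ≤ a2 rA`
  have k1 : rr * cV ≤ a2 * rA := by
    refine Nat.le_of_mul_le_mul_left ?_ pb
    calc bb * (rr * cV) = bb * rr * cV := by ring
      _ ≤ a * (bA * rA) := off
      _ = (a * bA) * rA := by ring
      _ ≤ (bb * a2) * rA := Nat.mul_le_mul_right _ noB
      _ = bb * (a2 * rA) := by ring
  by_cases hC : A₂ ≤ centralizer (V : Set G)
  · have k2 : a2 = cV := by
      change Nat.card A₂ = Nat.card ↥(A ⊓ centralizer (V : Set G))
      rw [← hcV, inf_eq_left.2 hC]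
    rw [k2, mul_comm] at k1
    have k3 : rr ≤ rA := Nat.le_of_mul_le_mul_left k1 pc
    have k4 : R ⊓ centralizer (A : Set G) = R := Subgroup.eq_of_le_of_card_ge inf_le_left k3
    exact le_centralizer_iff.1 (inf_eq_left.1 k4)
  · exfalso
    have hex : Exa V A₂ := by
      unfold Exa
      rw [hcV, h2, h3]
      refine le_antisymm ?_ h5
      calc bb * rr * cV = bb * (rr * cV) := by ring
        _ ≤ bb * (a2 * rA) := Nat.mul_le_mul_left _ k1
        _ ≤ bb * (a2 * rA2) := Nat.mul_le_mul_left _ (Nat.mul_le_mul_left _ h4)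
        _ = a2 * (bb * rA2) := by ring
    obtain ⟨X, hX, -, hXm⟩ := exists_mx hE₂ (pg.to_le hle) hC hex
    apply hXm.ne
    have e1 := hat X (hX.trans hle) hXm
    have e2 : X ≤ centralizer (B : Set G) := hX.trans inf_le_right
    rw [le_centralizer_iff] at e1 e2 ⊢
    rw [← hs]
    exact sup_le e2 e1

end abs

section main

variable [Finite G] {S : Sylow 2 G} {L B R : Subgroup G}

/-- **`hA`** of #25243 -/
theorem hA (ml : MLK.{u, u}) (SL : (S : Subgroup G) ≤ L) (KG : IsKGroup L)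
    (el : IsElementaryAbelian 2 (zl (S : Subgroup G) L))
    (VO : zl (S : Subgroup G) L ≤ o2 (centralizer (zc (S : Subgroup G) : Set G)))
    (hs : B ⊔ R = zl (S : Subgroup G) L) (hi : B ⊓ R = ⊥) (nB : L ≤ normalizer (B : Set G))
    (nR : L ≤ normalizer (R : Set G))
    (hZ : zc (S : Subgroup G) ≤ (zc (S : Subgroup G) ⊓ B) ⊔ (zc (S : Subgroup G) ⊓ R))
    (gB : B ≤ NoFF.Basic.V (zc (S : Subgroup G) ⊓ B) (L ⊓ centralizer ((zc (S : Subgroup G) ⊓ R : Subgroup G) : Set G)))
    (no : NoOverM (zl (S : Subgroup G) L) L)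
    (hat : ∀ X ≤ (S : Subgroup G), Mx (zl (S : Subgroup G) L) X → X ≤ centralizer (R : Set G)) :
    ∀ A ∈ AA (o2 (centralizer (zc (S : Subgroup G) : Set G))), A ≤ centralizer (R : Set G) := by
  intro A hA
  set Z : Subgroup G := zc (S : Subgroup G) with hZd
  set V : Subgroup G := zl (S : Subgroup G) L with hV
  have hRV : R ≤ V := hs ▸ le_sup_right
  have hBV : B ≤ V := hs ▸ le_sup_left
  by_cases hne : A ≤ centralizer (V : Set G)
  · exact hne.trans (centralizer_le hRV)
  have hCS : Z ≤ centralizer ((S : Subgroup G) : Set G) := fun z hz =>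
    mem_centralizer_iff.2 fun s hs => (ChoiceBase.mem_zc.1 hz).2.2 s hs
  have hSC : (S : Subgroup G) ≤ centralizer (Z : Set G) := le_centralizer_iff.1 hCS
  have hOS : o2 (centralizer (Z : Set G)) ≤ (S : Subgroup G) := by
    refine MinSimple.VModule.o2_le_of_sylow S.isPGroup' ?_
    exact MinSimple.Basic.not_dvd_relIndex S hSC
  have hAS : A ≤ (S : Subgroup G) := hA.2.1.trans hOS
  have hVc : V ≤ centralizer (V : Set G) := by
    intro x hx
    rw [mem_centralizer_iff]
    exact fun y hy => congrArg (fun t : V => (t : G)) (el.1.is_comm.comm ⟨y, hy⟩ ⟨x, hx⟩)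
  have hoff := (off_of_AA el VO hA hne).offM
  refine le_cent hVc hs hi ((hAS.trans SL).trans nB) ((hAS.trans SL).trans nR) (S.isPGroup'.to_le hAS)
    hoff.toElemM hoff.le ?_ no (hAS.trans SL) fun X hX => hat X (hX.trans hAS)
  -- (NO) on `B`
  have AC : A ≤ centralizer (Z : Set G) := hAS.trans hSC
  set H : Subgroup G := L ⊓ centralizer ((Z ⊓ R : Subgroup G) : Set G) with hH
  have SH : (S : Subgroup G) ≤ H := le_inf SL (hSC.trans (centralizer_le inf_le_left))
  have hBH : NoFF.Basic.V (Z ⊓ B) H = B := by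
    refine le_antisymm (KL.FlagNO.V_le_of_norm inf_le_right (inf_le_left.trans nB)) gB
  have hX : H ⊓ centralizer ((Z ⊓ B : Subgroup G) : Set G) ≤ centralizer (Z : Set G) := by
    rintro x ⟨hx1, hx2⟩
    have h1 : Z ≤ centralizer ((zpowers x : Subgroup G) : Set G) := by
      refine hZ.trans (sup_le ?_ ?_)
      · rw [le_centralizer_iff, zpowers_le]; exact hx2
      · rw [le_centralizer_iff, zpowers_le]; exact hx1.2
    rw [le_centralizer_iff, zpowers_le] at h1
    exact h1
  have hsqV : ∀ v ∈ V, v ^ 2 = 1 := fun v hv => el.2 v hv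
  have key := KL.FlagNO.flag_no_of (T := (S : Subgroup G)) (H := H) (Z := Z ⊓ B) (B := A) ml S.isPGroup' SH
    (MinSimple.Basic.not_dvd_relIndex S SH) (hSC.trans (centralizer_le inf_le_left)) (KL.FlagNO.kgroup_le KG inf_le_left)
    (by rw [hBH]; exact fun v hv => hsqV v (hBV hv)) hX hA.2.1 (hAS.trans SH)
    (hAS.trans (hSC.trans (centralizer_le inf_le_left))) (fun a ha => hA.1.2 a ha)
  have h1 := key.1
  rw [hBH] at h1
  have h2 := (relIndex_le_iff (V := A) (A := B) (B := centralizer (A : Set G)) (D := centralizer (B : Set G))).2 h1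
  exact h2

end main

end Cfsg.Agent.Omega.NOThreeL.RRed.BestR
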