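import Cfsg.Agent.Omega.NOThreeL.RRed.TvTr

/-!
# Box R: classes and blocks of letters (helper559)

`V = ∏ W i` (direct, `W i` normalised by `M`, irreducible), `F : Full S M V N E R₀ Om phi` the blocks of letters of `V`.

* `exists_le` : every `N b` lies in one `W i`; `not_le_two` : in one only;
* `eq_sup` : `N b ≤ W i` for some `b` implies `W i = ∏_{N b ≤ W i} N b`;
* `le_R` : `W i ≤ R₀` if no `N b` lies in `W i`;
* **`exists_cls`** : a function `cls : I → ι` with `N b ≤ W (cls b)`, `W i = ∏_{cls b = i} N b` if `i` is in its image,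
  `W i ≤ R₀` otherwise, and `R₀ = ∏_{i ∉ im cls} W i`;
* `other_le` : `W j ≤ Co N R₀ b` for `j ≠ cls b`.
-/

set_option autoImplicit false
set_option linter.unusedSectionVars false

namespace Cfsg.Agent.Omega.NOThreeL.RRed.ClsBlk

open Subgroup Cfsg
open Cfsg.Agent.Omega.NOThreeL.RRed.TvFin (Full TvV)
open Cfsg.Agent.Omega.NOThreeL.RRed.Blk (Dec Co IsC)
open Cfsg.Agent.Omega.KL.TwoS (Rel Lett)
open scoped Pointwise

universe u v

variable {G : Type u} [Group G]

/-- `V = ∏ W i`, irreducible `M`-modules -/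
structure Irr (M V : Subgroup G) {ι : Type v} (W : ι → Subgroup G) : Prop where
  ne : ∀ i, W i ≠ ⊥
  sup : ⨆ i, W i = V
  ind : ∀ i, W i ⊓ (⨆ j : {j // j ≠ i}, W j) = ⊥
  inv : ∀ i, M ≤ normalizer (W i : Set G)
  irr : ∀ i, ∀ U : Subgroup G, U ≤ W i → M ≤ normalizer (U : Set G) → U ≠ ⊥ → W i ≤ U

variable {S M V : Subgroup G} {I : Type u} {N E : I → Subgroup G} {R₀ : Subgroup G} {Om : I → Type u}
    [∀ i, Fintype (Om i)] [∀ i, DecidableEq (Om i)] {phi : ∀ i, Finset (Om i) → G} {ι : Type v} {W : ι → Subgroup G}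

theorem Irr.le (h : Irr M V W) (i : ι) : W i ≤ V := by
  rw [← h.sup]
  exact le_iSup W i

theorem Irr.inf_bot (h : Irr M V W) {i j : ι} (hij : j ≠ i) : W i ⊓ W j = ⊥ := by
  rw [eq_bot_iff, ← h.ind i]
  exact inf_le_inf_left _ (le_iSup (fun k : {k // k ≠ i} => W k) ⟨j, hij⟩)

variable (h : Irr M V W) (F : Full S M V N E R₀ Om phi)
include h F

/-- an element of `M` acting as a transvection with centre `c`: `c` lies in a class -/
theorem exists_ctr {c x : G} (hx : x ∈ M) (hT : TvV V c x) (hne : x ∉ centralizer (V : Set G)) :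
    ∃ i, c ∈ W i := by
  by_contra hcon
  push Not at hcon
  apply hne
  have h1 : V ≤ centralizer ({x} : Set G) := by
    rw [← h.sup]
    refine iSup_le fun i w hw => ?_
    rw [mem_centralizer_singleton_iff]
    rcases hT w (h.le i hw) with e | e
    · exact (mul_inv_eq_iff_eq_mul.1 e).symm
    · exfalso
      apply hcon i
      have h2 : x * w * x⁻¹ ∈ W i := (mem_normalizer_iff.1 (h.inv i hx) w).1 hw
      rw [e] at h2
      have h3 := mul_mem (inv_mem hw) h2
      rwa [inv_mul_cancel_left] at h3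
  rw [mem_centralizer_iff]
  intro v hv
  exact mem_centralizer_singleton_iff.1 (h1 hv)

/-- every block lies in a class -/
theorem exists_le (b : I) : ∃ i, N b ≤ W i := by
  have L := F.lett b
  obtain ⟨u, v, huv⟩ : ∃ u v : Om b, u ≠ v := Fintype.exists_pair_of_one_lt_card (by
    have := F.three b
    omega)
  obtain ⟨x, hx, hr, hT⟩ := F.swap b u v huv
  have hxM := F.EL b hx
  have hc1 : phi b {u, v} ≠ 1 := Blk.ne_one_of L (F.three b) (by rw [Finset.card_pair huv]; exact even_two)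
    (Finset.mem_insert_self u {v})
  have hcN : phi b {u, v} ∈ N b := (L.mem _).2 ⟨_, by rw [Finset.card_pair huv]; exact even_two, rfl⟩
  have hne : x ∉ centralizer (V : Set G) := by
    intro hxc
    have h1 : Rel (phi b) x 1 := Blk.Rel.cent L ((centralizer_le (F.NU b)) hxc)
    have h2 := L.unique (F.three b) hr h1
    have h3 := Equiv.swap_eq_one_iff.1 h2
    exact huv h3
  obtain ⟨i, hi⟩ := exists_ctr h F hxM hT hne
  refine ⟨i, ?_⟩
  have h1 : N b ≤ N b ⊓ W i := by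
    refine Blk.le_of_inv L (F.three b) inf_le_left ?_ ?_
    · intro e he
      rw [mem_normalizer_iff]
      have hM := F.EL b he
      intro y
      constructor
      · intro hy
        exact mem_inf.2 ⟨(mem_normalizer_iff.1 (F.EN b he) y).1 (mem_inf.1 hy).1,
          (mem_normalizer_iff.1 (h.inv i hM) y).1 (mem_inf.1 hy).2⟩
      · intro hy
        exact mem_inf.2 ⟨(mem_normalizer_iff.1 (F.EN b he) y).2 (mem_inf.1 hy).1,
          (mem_normalizer_iff.1 (h.inv i hM) y).2 (mem_inf.1 hy).2⟩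
    · intro hb
      have h2 : phi b {u, v} ∈ N b ⊓ W i := mem_inf.2 ⟨hcN, hi⟩
      rw [hb, mem_bot] at h2
      exact hc1 h2
  exact h1.trans inf_le_right

/-- a class with a block is the product of its blocks -/
theorem eq_sup {i : ι} (hi : ∃ b, N b ≤ W i) : W i = ⨆ b : {b // N b ≤ W i}, N b := by
  obtain ⟨b, hb⟩ := hi
  refine le_antisymm (h.irr i _ (iSup_le fun c => c.2) ?_ fun hbot => F.ne b (eq_bot_iff.2 ?_)) (iSup_le fun c => c.2)
  · have h1 : ∀ g ∈ M, MulAut.conj g • (⨆ b : {b // N b ≤ W i}, N b) ≤ ⨆ b : {b // N b ≤ W i}, N b := by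
      intro g hg
      rw [show MulAut.conj g • (⨆ b : {b // N b ≤ W i}, N b) = ⨆ b : {b // N b ≤ W i}, MulAut.conj g • N b from
        Subgroup.map_iSup _ _]
      refine iSup_le fun d => ?_
      obtain ⟨e, he, -⟩ := F.perm g hg d.1
      rw [he]
      refine le_iSup (fun b : {b // N b ≤ W i} => N b.1) ⟨e, ?_⟩
      rw [← he]
      rintro _ ⟨x, hx, rfl⟩
      exact (mem_normalizer_iff.1 (h.inv i hg) x).1 (d.2 hx)
    intro g hg
    rw [mem_normalizer_iff]
    refine fun x => ⟨fun hx => h1 g hg ((Blk.conj_smul rfl).1 hx), fun hx => ?_⟩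
    have h2 := h1 g⁻¹ (inv_mem hg) ((Blk.conj_smul rfl).1 hx)
    have e : g⁻¹ * (g * x * g⁻¹) * g⁻¹⁻¹ = x := by group
    rwa [e] at h2
  · rw [← hbot]
    exact le_iSup (fun b : {b // N b ≤ W i} => N b.1) ⟨b, hb⟩

theorem not_le_two {b : I} {i j : ι} (hi : N b ≤ W i) (hj : N b ≤ W j) : j = i := by
  by_contra hne
  apply F.ne b
  rw [eq_bot_iff, ← h.inf_bot hne]
  exact le_inf hi hj

/-- a class without a block lies in `R₀` -/
theorem le_R {i : ι} (hi : ∀ b, ¬ N b ≤ W i) : W i ≤ R₀ := by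
  intro v hv
  rw [F.fixR v (h.le i hv)]
  intro x hx c hc hT
  by_cases hxc : x ∈ centralizer (V : Set G)
  · exact Blk.cent hxc (h.le i hv)
  rcases hT v (h.le i hv) with e | e
  · exact e
  exfalso
  obtain ⟨b, hxb, u, v', huv, rfl, hr⟩ := F.tvs x hx c hc hT hxc
  obtain ⟨j, hj⟩ := exists_le h F b
  have L := F.lett b
  have hcN : phi b {u, v'} ∈ N b := (L.mem _).2 ⟨_, by rw [Finset.card_pair huv]; exact even_two, rfl⟩
  have hc1 : phi b {u, v'} ≠ 1 := Blk.ne_one_of L (F.three b) (by rw [Finset.card_pair huv]; exact even_two)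
    (Finset.mem_insert_self u {v'})
  have h2 : x * v * x⁻¹ ∈ W i := (mem_normalizer_iff.1 (h.inv i hx) v).1 hv
  rw [e] at h2
  have h3 := mul_mem (inv_mem hv) h2
  rw [inv_mul_cancel_left] at h3
  have hji : j ≠ i := fun e => hi b (e ▸ hj)
  have h4 : phi b {u, v'} ∈ W i ⊓ W j := mem_inf.2 ⟨h3, hj hcN⟩
  rw [h.inf_bot hji, mem_bot] at h4
  exact hc1 h4

/-- the other classes lie in the complement of `N b` -/
theorem other_le {b : I} {i j : ι} (hb : N b ≤ W i) (hj : j ≠ i) : W j ≤ Co N R₀ b := by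
  by_cases hjb : ∃ c, N c ≤ W j
  · rw [eq_sup h F hjb]
    refine iSup_le fun c => F.toDec.N_le_Co fun e => hj ?_
    have h1 := c.2
    rw [e] at h1
    exact not_le_two h F hb h1
  · push Not at hjb
    exact (le_R h F hjb).trans (F.toDec.R_le_Co b)

/-- **Classes and blocks.** -/
theorem exists_cls [Finite I] : ∃ cls : I → ι, (∀ b, N b ≤ W (cls b)) ∧
    (∀ i, (∃ b, cls b = i) → W i = ⨆ b : {b // cls b = i}, N b) ∧
    (∀ i, (∀ b, cls b ≠ i) → W i ≤ R₀) ∧ R₀ = ⨆ i : {i // ∀ b, cls b ≠ i}, W i := by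
  choose cls hcls using exists_le h F
  have key : ∀ b i, N b ≤ W i ↔ cls b = i := fun b i =>
    ⟨fun hb => not_le_two h F hb (hcls b), fun e => e ▸ hcls b⟩
  have h1 : ∀ i, (∃ b, cls b = i) → W i = ⨆ b : {b // cls b = i}, N b := by
    rintro i ⟨b, hb⟩
    have h2 := eq_sup h F ⟨b, (key b i).2 hb⟩
    rw [h2]
    refine le_antisymm (iSup_le fun c => ?_) (iSup_le fun c => ?_)
    · exact le_iSup (fun b : {b // cls b = i} => N b.1) ⟨c.1, (key _ _).1 c.2⟩
    · exact le_iSup (fun b : {b // N b ≤ W i} => N b.1) ⟨c.1, (key _ _).2 c.2⟩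
  have h2 : ∀ i, (∀ b, cls b ≠ i) → W i ≤ R₀ := fun i hi => le_R h F fun b hb => hi b ((key b i).1 hb)
  refine ⟨cls, hcls, h1, h2, ?_⟩
  set Bg : Subgroup G := ⨆ i : {i // ∀ b, cls b ≠ i}, W i with hBg
  have h3 : Bg ≤ R₀ := iSup_le fun i => h2 i.1 i.2
  refine le_antisymm (fun r hr => ?_) h3
  have hV : V ≤ (⨆ b, N b) ⊔ Bg := by
    rw [← h.sup]
    refine iSup_le fun i => ?_
    by_cases hi : ∃ b, cls b = i
    · have h4 : (⨆ b : {b // cls b = i}, N b.1) ≤ ⨆ b, N b := iSup_le fun b => le_iSup N b.1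
      exact ((h1 i hi).le.trans h4).trans le_sup_left
    · have hi' : ∀ b, cls b ≠ i := fun b hb => hi ⟨b, hb⟩
      have h4 : W i ≤ Bg := le_iSup (fun i : {i // ∀ b, cls b ≠ i} => W i.1) ⟨i, hi'⟩
      exact h4.trans le_sup_right
  have hnB : (⨆ b, N b) ≤ V := iSup_le F.NU
  obtain ⟨a, ha, s, hs, e⟩ := Blk.mem_sup_of (F.toDec.nor hnB (h3.trans F.toDec.RU)) (hV (F.toDec.RU hr))
  have h4 : a ∈ (⨆ b, N b) ⊓ R₀ := by
    refine mem_inf.2 ⟨ha, ?_⟩
    have h5 : a = r * s⁻¹ := by rw [e, mul_inv_cancel_right]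
    rw [h5]
    exact mul_mem hr (inv_mem (h3 hs))
  rw [F.toDec.inf_R, mem_bot] at h4
  rw [e, h4, one_mul]
  exact hs

end Cfsg.Agent.Omega.NOThreeL.RRed.ClsBlk
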