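import Cfsg.Agent.Omega.NOThreeL.RRed.FullSup

/-!
# Box R, classes: the vectors of true full support satisfy `WideTree.FS` (#26368)

* `HBad S N O` : `BadG` for the vectors `z ∈ zc S` of full support in an invariant set of blocks (#26668, helper63; #27325);
* `fs_of` : `FS` for one invariant set `J` of blocks (`nS` as hypothesis);
* **`exists_fs`** : class modules `W k = ⨆_{cls b = k} N b`, `Dec`, `Orbs`, `HBad` give, for every class `i` of at least two,
  `z`, `e` of true full support in the class `i` resp. in all other classes with `FS S (W i) (Co W i) z`,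
  `FS S (Co W i) (W i) e`;
* `exists_fs_left` : with `Left S W` : some `A ∈ 𝒜(O₂(C(z) ∩ C(e)))` moves `W i`, for vectors of true full support.
-/

set_option autoImplicit false
set_option linter.unusedSectionVars false

namespace Cfsg.Agent.Omega.NOThreeL.RRed.FullSup

open Subgroup Cfsg Cfsg.Agent.ZN
open Cfsg.Agent.Omega.NOThreeL.Merge (MZ)
open Cfsg.Agent.Omega.NOThreeL.RTree (RB)
open Cfsg.Agent.Omega.NOThreeL.RRed.Blk
open Cfsg.Agent.Omega.NOThreeL.RRed.WideTree (NatBlk NBs CM FS BadG QQ Left Fits)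
open Cfsg.Agent.Omega.NOThreeL.RZ.TwoC.DecE (Orbs PP)

open scoped Pointwise

universe u v w

section

variable {G : Type u} [Group G] [Finite G] {S : Sylow 2 G} {ι κ : Type u} [Finite ι] {N E : ι → Subgroup G}
  {O : ι → Set G} {W : κ → Subgroup G} {cls : ι → κ}

/-- `bad` for the vectors of full support in an invariant set of blocks -/
def HBad (S : Subgroup G) (N : ι → Subgroup G) (O : ι → Set G) : Prop :=
  ∀ J : Set ι, InvJ (MZ S) N J → ∀ z ∈ FSup N ⊥ O J, z ∈ zc S → ∀ R B : Subgroup G, R = (⨆ b : J, N b) →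
    B = (⨆ b : {b // b ∉ J}, N b) →
    BadG (centralizer ({z} : Set G) ⊓ QQ S R B (S ⊓ centralizer (B : Set G))) (S ⊓ centralizer (B : Set G)) R

theorem compl_eq {J : Set ι} : (⨆ b : {b // b ∉ Jᶜ}, N b) = ⨆ b : J, N b := by
  apply le_antisymm
  · exact iSup_le fun b => le_iSup (fun b : J => N b) ⟨b.1, not_not.1 b.2⟩
  · exact iSup_le fun b => le_iSup (fun b : {b // b ∉ Jᶜ} => N b) ⟨b.1, fun h => h b.2⟩

/-- a class has a block -/
theorem exists_blk (hne : ∀ i, W i ≠ ⊥) (hW : ∀ k, W k = ⨆ b : {b // cls b = k}, N b) (k : κ) : ∃ b, cls b = k := by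
  by_contra hcon
  push Not at hcon
  apply hne k
  rw [hW, eq_bot_iff]
  exact iSup_le fun b => absurd b.2 (hcon b.1)

/-- **`FS` for an invariant set of blocks** -/
theorem fs_of (h : Dec (S : Subgroup G) (MZ (S : Subgroup G)) (Wd (S : Subgroup G)) N E ⊥)
    (o : Orbs (MZ (S : Subgroup G)) N E O) (hb : HBad (S : Subgroup G) N O) {J : Set ι}
    (hJ : InvJ (MZ (S : Subgroup G)) N J) {R B : Subgroup G} (hR : R = ⨆ b : J, N b)
    (hB : B = ⨆ b : {b // b ∉ J}, N b) {z : G} (hz : z ∈ FSup N ⊥ O J) (hzm : z ∈ R ⊓ zc (S : Subgroup G))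
    (hz1 : z ≠ 1) (hn : centralizer ({z} : Set G) ⊓ normalizer ((S : Subgroup G) : Set G) ≤
      normalizer (R : Set G) ⊓ normalizer (B : Set G)) : FS (S : Subgroup G) R B z where
  mem := hzm
  ne := hz1
  fact := by
    have h1 := fact_of h o hJ hz
    rwa [← hB] at h1
  nS := hn
  bad := hb J hJ z hz hzm.2 R B hR hB

/-- **`FS` for the vectors of true full support** -/
theorem exists_fs (hB : RB S) (hCM : CM (S : Subgroup G) W)
    (h : Dec (S : Subgroup G) (MZ (S : Subgroup G)) (Wd (S : Subgroup G)) N E ⊥)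
    (o : Orbs (MZ (S : Subgroup G)) N E O) (hW : ∀ k, W k = ⨆ b : {b // cls b = k}, N b)
    (hb : HBad (S : Subgroup G) N O) (i : κ) (hi : ∃ j, j ≠ i) :
    ∃ z ∈ FSup N ⊥ O {b | cls b = i}, ∃ e ∈ FSup N ⊥ O {b | cls b = i}ᶜ,
      FS (S : Subgroup G) (W i) (WideTree.Co W i) z ∧ FS (S : Subgroup G) (WideTree.Co W i) (W i) e := by
  have hJ := inv_cls h hW hCM.inv i
  obtain ⟨b₀, hb₀⟩ := exists_blk hCM.ne hW i
  obtain ⟨j, hj⟩ := hi
  obtain ⟨b₁, hb₁⟩ := exists_blk hCM.ne hW j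
  have hWi : W i = ⨆ b : ({b | cls b = i} : Set ι), N b := W_eq hW i
  have hOt : WideTree.Co W i = ⨆ b : {b // b ∉ ({b | cls b = i} : Set ι)}, N b := coW_eq hW i
  have hOt' : WideTree.Co W i = ⨆ b : ({b | cls b = i}ᶜ : Set ι), N b := hOt
  have hWi' : W i = ⨆ b : {b // b ∉ ({b | cls b = i}ᶜ : Set ι)}, N b := by rw [compl_eq, hWi]
  obtain ⟨z, hz, hzm, hz1⟩ := exists_full hB h o hJ ⟨b₀, hb₀⟩
  obtain ⟨e, he, hem, he1⟩ := exists_full hB h o hJ.compl ⟨b₁, fun h1 => hj (by rw [← hb₁]; exact h1)⟩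
  rw [← hOt'] at hem
  have hzm' : z ∈ W i ⊓ zc (S : Subgroup G) := by rw [hWi]; exact hzm
  have hf : ∀ k, k ≠ i → e ∉ ⨆ m : {m // m ≠ k}, W m := by
    intro k hk
    obtain ⟨b, hb⟩ := exists_blk hCM.ne hW k
    subst hb
    exact not_mem_of_fsup h o hW he (b := b) hk
  exact ⟨z, hz, e, he, fs_of h o hb hJ hWi hOt hz hzm' hz1 (nS_one hCM.ne hCM.ind hCM.nS hzm'.1 hz1),
    fs_of h o hb hJ.compl hOt' hWi' he hem he1 (nS_co hCM.ne hCM.ind hCM.nS hem.1 hf)⟩

/-- **with `Left`** -/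
theorem exists_fs_left (hB : RB S) (hCM : CM (S : Subgroup G) W) (hL : Left (S : Subgroup G) W)
    (h : Dec (S : Subgroup G) (MZ (S : Subgroup G)) (Wd (S : Subgroup G)) N E ⊥)
    (o : Orbs (MZ (S : Subgroup G)) N E O) (hW : ∀ k, W k = ⨆ b : {b // cls b = k}, N b)
    (hb : HBad (S : Subgroup G) N O) (i : κ) (hi : ∃ j, j ≠ i) :
    ∃ z ∈ FSup N ⊥ O {b | cls b = i}, ∃ e ∈ FSup N ⊥ O {b | cls b = i}ᶜ,
      FS (S : Subgroup G) (W i) (WideTree.Co W i) z ∧ FS (S : Subgroup G) (WideTree.Co W i) (W i) e ∧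
      ∃ A : Subgroup G, KL.TwoS.Mx (o2 (centralizer ({z} : Set G) ⊓ centralizer ({e} : Set G))) A ∧
        ¬ A ≤ centralizer (W i : Set G) := by
  obtain ⟨z, hz, e, he, h1, h2⟩ := exists_fs hB hCM h o hW hb i hi
  exact ⟨z, hz, e, he, h1, h2, hL i z e h1 h2⟩

end

end Cfsg.Agent.Omega.NOThreeL.RRed.FullSup
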