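import Cfsg.Agent.Omega.NOThreeL.RRed.TvFin
import Cfsg.Agent.Omega.NOThreeL.RRed.Blk.Tr
import Cfsg.Agent.Omega.NOThreeL.RRed.Blk.OneOf

/-!
# Blocks of letters (`q = 2`): the vector of full support (#25135 (0), #25243 (1)-(4), #25376 `FrE`)

`Full S M V N E R₀ Om phi`, `B = ⨆ i, N i`, `R₀` = the elements of `V` fixed by all transvections of `M`.

* `Orb phi i` : the vectors `{1, .., n} - {p}` of the block `i`; `orb_sub`, `orb_conj`, `orb_tr`, `orb_fix`, `orb_one`;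
* **`exists_e`** : `e ∈ B`, centralised by `S`, all components in the `Orb phi i`, every `M`-conjugate of `e` is a
  `⨆ E i`-conjugate, `M ≤ (M ⊓ C(R₀)) ⊔ (M ⊓ C(e))`, `e ≠ 1` if there is a block;
* `nonempty_of` : an element of `M` which acts as a transvection gives a block;
* **`frame_zl`** : everything for `V = zl S L` : `B`, `R₀`, `e` with `V = B × R₀`, `R₀ = ⟨(R₀ ⊓ zc S)^L⟩`,
  `zc S ≤ (B ⊓ zc S) ⊔ (R₀ ⊓ zc S)`, `e ∈ B ⊓ zc S`, `L ≤ (L ⊓ C(R₀)) ⊔ (L ⊓ C(e))`.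
-/

set_option autoImplicit false
set_option linter.unusedSectionVars false

namespace Cfsg.Agent.Omega.NOThreeL.RRed.TvTr

open Subgroup Cfsg
open Cfsg.Agent.ZN (zl zc)
open Cfsg.Agent.Omega.FFThm (NoOverM)
open Cfsg.Agent.Omega.KL.TwoS (Rel Lett)
open Cfsg.Agent.Omega.NOThreeL.RRed.Blk (Dec Co IsC)
open Cfsg.Agent.Omega.NOThreeL.RRed.TvFin (Full TvV of_zl blocks)
open Cfsg.Agent.Omega.NOThreeL.RRed.TvG (GHyp)
open scoped Pointwise

universe u

variable {G : Type u} [Group G]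

theorem conj_eq {g : G} {W : Subgroup G} (hg : g ∈ normalizer (W : Set G)) : MulAut.conj g • W = W := by
  ext x
  rw [mem_pointwise_smul_iff_inv_smul_mem, ← map_inv, MulAut.smul_def, MulAut.conj_apply, inv_inv]
  constructor
  · intro hx
    have := Blk.conj_of hg hx
    have e : g * (g⁻¹ * x * g) * g⁻¹ = x := by group
    rwa [e] at this
  · intro hx
    have := Blk.conj_of (inv_mem hg) hx
    rwa [inv_inv] at this

section full

variable {S M V : Subgroup G} {I : Type u} {N E : I → Subgroup G} {R₀ : Subgroup G} {Om : I → Type u}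
    [∀ i, Fintype (Om i)] [∀ i, DecidableEq (Om i)] {phi : ∀ i, Finset (Om i) → G}

/-- the vectors `{1, .., n} - {p}` -/
def Orb (phi : ∀ i, Finset (Om i) → G) (i : I) : Set G := {x | ∃ p : Om i, x = phi i (Finset.univ.erase p)}

omit [Group G] in
theorem map_erase {A B : Type u} [Fintype A] [Fintype B] [DecidableEq A] [DecidableEq B] (σ : A ≃ B) (p : A) :
    (Finset.univ.erase p).map σ.toEmbedding = Finset.univ.erase (σ p) := by
  rw [Finset.map_erase, Finset.map_univ_equiv]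
  rfl

variable (F : Full S M V N E R₀ Om phi)
include F

theorem orb_sub (i : I) : Orb phi i ⊆ N i := by
  rintro _ ⟨p, rfl⟩
  exact ((F.lett i).mem _).2 ⟨_, (F.lett i).even_erase p, rfl⟩

theorem orb_one (i : I) : (1 : G) ∉ Orb phi i := by
  rintro ⟨p, hp⟩
  exact Blk.erase_ne_one (F.lett i) (F.three i) p hp.symm

theorem orb_conj {g : G} (hg : g ∈ M) {i j : I} (hij : MulAut.conj g • N i = N j) {x : G} (hx : x ∈ Orb phi i) :
    g * x * g⁻¹ ∈ Orb phi j := by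
  obtain ⟨p, rfl⟩ := hx
  obtain ⟨τ, σ, h1, -, h3⟩ := F.letters g hg
  have hj : j = τ i := F.toDec.Ninj (by rw [← hij, h1])
  subst hj
  exact ⟨σ i p, by rw [h3, map_erase]⟩

theorem orb_tr (i : I) {x y : G} (hx : x ∈ Orb phi i) (hy : y ∈ Orb phi i) : ∃ e ∈ E i, e * x * e⁻¹ = y := by
  obtain ⟨p, rfl⟩ := hx
  obtain ⟨q, rfl⟩ := hy
  obtain ⟨e, he, h1⟩ := (F.lett i).all (Equiv.swap p q)
  refine ⟨e, he, ?_⟩
  rw [h1 _ ((F.lett i).even_erase p), map_erase, Equiv.swap_apply_left]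

/-- the letters of `i`, for the stabiliser of `i` -/
theorem lett_norm (i : I) : Lett (N i) (M ⊓ normalizer (N i : Set G)) (phi i) where
  odd := (F.lett i).odd
  mul := (F.lett i).mul
  inj := (F.lett i).inj
  mem := (F.lett i).mem
  act g hg := F.rel_of_fix hg.1 (conj_eq hg.2)
  all σ := by
    obtain ⟨e, he, h1⟩ := (F.lett i).all σ
    exact ⟨e, mem_inf.2 ⟨F.toDec.EL i he, F.toDec.EN i he⟩, h1⟩

theorem orb_fix (hS : IsPGroup 2 S) (i : I) :
    ∃ x ∈ Orb phi i, ∀ s ∈ S, MulAut.conj s • N i = N i → s * x * s⁻¹ = x := by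
  have L := lett_norm F i
  obtain ⟨p, hp⟩ := Blk.exists_fix (T := S ⊓ normalizer (N i : Set G)) L (F.three i)
    (inf_le_inf_right _ F.toDec.SL) (hS.to_le inf_le_left)
  refine ⟨_, ⟨p, rfl⟩, fun s hs hsi => ?_⟩
  have hn : s ∈ normalizer (N i : Set G) := by
    rw [mem_normalizer_iff]
    exact fun x => Blk.conj_smul hsi
  obtain ⟨σ, hσ⟩ := L.act s (mem_inf.2 ⟨F.toDec.SL hs, hn⟩)
  exact (L.fix_iff hσ p).2 (hp s (mem_inf.2 ⟨hs, hn⟩) σ hσ)

/-- an element of `M` which acts as a transvection gives a block -/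
theorem nonempty_of {x c : G} (hx : x ∈ M) (hc : c ∈ V) (hT : TvV V c x) (hne : x ∉ centralizer (V : Set G)) :
    Nonempty I := by
  obtain ⟨i, -⟩ := F.tvs x hx c hc hT hne
  exact ⟨i⟩

/-- **The vector of full support.** -/
theorem exists_e [Finite I] (hS : IsPGroup 2 S) :
    ∃ e ∈ ⨆ i, N i, (∀ s ∈ S, s * e = e * s) ∧ (∀ i, ∃ n ∈ Orb phi i, IsC N R₀ i e n) ∧
      (∀ y ∈ M, ∃ g ∈ ⨆ i, E i, g * e * g⁻¹ = y * e * y⁻¹) ∧
      M ≤ (M ⊓ centralizer (R₀ : Set G)) ⊔ (M ⊓ centralizer ({e} : Set G)) ∧ (Nonempty I → e ≠ 1) := by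
  obtain ⟨e, he, h1, h2, h3, h4⟩ := F.toDec.exists_tr (Orb phi) (orb_sub F) (orb_fix F hS)
    (fun g hg b c hbc x hx => orb_conj F hg hbc hx) fun b x hx y hy => orb_tr F b hx hy
  refine ⟨e, he, h1, h2, h3, h4, fun ⟨i⟩ he1 => ?_⟩
  obtain ⟨n, hn, h5⟩ := h2 i
  have h6 : n = 1 := F.toDec.uniq h5 (by rw [he1]; exact F.toDec.comp_one (one_mem _))
  exact orb_one F i (by rw [← h6]; exact hn)

end full

/-- **The frame for `V = zl S L`.** -/
theorem frame_zl [Finite G] {S : Sylow 2 G} {L : Subgroup G} (hSL : (S : Subgroup G) ≤ L)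
    (hsq : ∀ v ∈ zl (S : Subgroup G) L, v ^ 2 = 1) (hno : NoOverM (zl (S : Subgroup G) L) L) :
    ∃ (B R₀ : Subgroup G) (e : G), B ⊔ R₀ = zl (S : Subgroup G) L ∧ B ⊓ R₀ = ⊥ ∧
      L ≤ normalizer (B : Set G) ∧ L ≤ normalizer (R₀ : Set G) ∧
      (∀ v ∈ zl (S : Subgroup G) L, (v ∈ R₀ ↔
        ∀ x ∈ L, ∀ c ∈ zl (S : Subgroup G) L, TvV (zl (S : Subgroup G) L) c x → x * v * x⁻¹ = v)) ∧
      zc (S : Subgroup G) = (B ⊓ zc (S : Subgroup G)) ⊔ (R₀ ⊓ zc (S : Subgroup G)) ∧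
      (∀ K : Subgroup G, R₀ ⊓ zc (S : Subgroup G) ≤ K → L ≤ normalizer (K : Set G) → R₀ ≤ K) ∧
      e ∈ B ∧ e ∈ zc (S : Subgroup G) ∧
      ((∃ x ∈ L, ∃ c ∈ zl (S : Subgroup G) L, TvV (zl (S : Subgroup G) L) c x ∧
        x ∉ centralizer (zl (S : Subgroup G) L : Set G)) → e ≠ 1) ∧
      L ≤ (L ⊓ centralizer (R₀ : Set G)) ⊔ (L ⊓ centralizer ({e} : Set G)) := by
  have H := of_zl hSL hsq hno
  obtain ⟨I, i1, i2, N, E, R₀, Om, i3, i4, phi, F⟩ := blocks H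
  obtain ⟨e, he, h1, h2, h3, h4, h5⟩ := exists_e F S.isPGroup'
  have hV2 : IsPGroup 2 (zl (S : Subgroup G) L) := fun v => ⟨1, Subtype.ext (by
    show (v : G) ^ 2 ^ 1 = 1
    rw [pow_one]; exact hsq v v.2)⟩
  have hVS : zl (S : Subgroup G) L ≤ S := by
    have h6 : IsPGroup 2 ((S : Subgroup G) ⊔ zl (S : Subgroup G) L : Subgroup G) :=
      S.isPGroup'.to_sup_of_normal_right' hV2 (hSL.trans H.norm)
    exact le_sup_right.trans (S.is_maximal' h6 le_sup_left).le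
  have hzc : ∀ z ∈ zl (S : Subgroup G) L, (∀ s ∈ (S : Subgroup G), s * z = z * s) → z ∈ zc (S : Subgroup G) :=
    fun z hz hzS => MinSimple.VModule.mem_zc.2 ⟨hVS hz, hzS, hsq z hz⟩
  have hBV : (⨆ i, N i) ≤ zl (S : Subgroup G) L := F.toDec.B_le
  refine ⟨⨆ i, N i, R₀, e, F.toDec.sup, F.toDec.inf_R, F.toDec.le_norm_B, F.toDec.Rnor, fun v hv => F.fixR v hv,
    le_antisymm ?_ (sup_le inf_le_right inf_le_right), fun K hK hKL => ?_, he, hzc e (hBV he) h1, ?_, h4⟩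
  · intro z hz
    obtain ⟨b, hb, r, hr, e1, h6, h7⟩ := F.toDec.fix_split (MinSimple.VModule.zc_le_zl _ _ hz)
      (MinSimple.VModule.mem_zc.1 hz).2.1
    rw [e1]
    exact mul_mem (mem_sup_left (mem_inf.2 ⟨hb, hzc b (hBV hb) h6⟩))
      (mem_sup_right (mem_inf.2 ⟨hr, hzc r (F.toDec.RU hr) h7⟩))
  · refine F.toDec.R_le_of H.gen fun g hg z hz hzS => ?_
    exact Blk.conj_of (hKL hg) (hK (mem_inf.2 ⟨hz, hzc z (F.toDec.RU hz) hzS⟩))
  · rintro ⟨x, hx, c, hc, hT, hne⟩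
    exact h5 (nonempty_of F hx hc hT hne)

end Cfsg.Agent.Omega.NOThreeL.RRed.TvTr
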