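import Cfsg.Agent.Omega.NOThreeL.RRed.LeftLett
import Cfsg.Agent.Omega.NOThreeL.RRed.TvTr

/-!
# Box R, the left case: the classes of letters (`q = 2`) have blocks with three letters only (helper559)

`F : Full S M V N E R₀ Om phi` (blocks of letters), `x`, `y` two vectors fixed by `S`, `D' = C_G(x) ⊓ C_G(y)`,
`O' = O₂(D')`; `x` has the component `Ω_b - {p}` in the block `b`, `y` the component `1`.

* **`at_pair`** : the data `LeftLett.At` for `O'`;
* `cent_Co` : `E b` centralises the complement of `N b`;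
* `card_conj` : `M`-conjugate blocks have the same number of letters; `exists_conj` : the blocks of an irreducible class
  are conjugate;
* **`three_blk`** : some elementary abelian `A ≤ O'` of maximal order moves `N b`: `|Ω_b| = 3`;
* **`three_of_left`** : `W = ∏_{b ∈ J} N b` irreducible, some such `A` moves `W` (the field `Left` of the tree, `x`, `y` of
  full support in `W`, in the product of the other classes): `|Ω_b| = 3` for all `b ∈ J`.
-/

set_option autoImplicit false
set_option linter.unusedSectionVars false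

namespace Cfsg.Agent.Omega.NOThreeL.RRed.LeftThree

open Subgroup Cfsg
open Cfsg.Agent.ZN (o2)
open Cfsg.Agent.MinSimple.VModule (o2_isPGroup o2_le le_normalizer_o2 o2_le_of_sylow)
open Cfsg.Agent.Omega.NOThreeL.RRed.TvFin (Full)
open Cfsg.Agent.Omega.NOThreeL.RRed.TvTr (Orb)
open Cfsg.Agent.Omega.NOThreeL.RRed.Blk (Dec Co IsC)
open Cfsg.Agent.Omega.NOThreeL.RRed.LeftLett (At)
open scoped Pointwise

universe u

variable {G : Type u} [Group G]

section dec

variable {S M V : Subgroup G} {ι : Type u} {N E : ι → Subgroup G} {R₀ : Subgroup G} (F : Dec S M V N E R₀)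
include F

/-- `E b` centralises the complement of `N b` -/
theorem cent_Co (b : ι) : E b ≤ centralizer (Co N R₀ b : Set G) := by
  have h1 : Co N R₀ b ≤ centralizer (E b : Set G) := by
    refine sup_le (iSup_le fun c => ?_) ?_
    · have h1 := F.EC b c.1 (Ne.symm c.2)
      exact fun x hx => mem_centralizer_iff.2 fun y hy => (mem_centralizer_iff.1 (h1 hy) x hx).symm
    · have h1 := F.ER b
      exact fun x hx => mem_centralizer_iff.2 fun y hy => (mem_centralizer_iff.1 (h1 hy) x hx).symm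
  exact fun x hx => mem_centralizer_iff.2 fun y hy => (mem_centralizer_iff.1 (h1 hy) x hx).symm

/-- the blocks of an irreducible class are conjugate -/
theorem exists_conj {W : Subgroup G} {J : Set ι} (hW : W = ⨆ b : J, N b)
    (nW : M ≤ normalizer (W : Set G))
    (irr : ∀ U : Subgroup G, U ≤ W → M ≤ normalizer (U : Set G) → U ≠ ⊥ → W ≤ U) {b c : ι} (hb : b ∈ J) (hc : c ∈ J) :
    ∃ g ∈ M, MulAut.conj g • N b = N c := by
  set U : Subgroup G := ⨆ d : {d // ∃ g ∈ M, MulAut.conj g • N b = N d}, N d.1 with hU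
  have hbW : N b ≤ W := by
    rw [hW]
    exact le_iSup (fun d : J => N d) ⟨b, hb⟩
  have hUW : U ≤ W := by
    refine iSup_le fun d => ?_
    obtain ⟨g, hg, h⟩ := d.2
    rw [← h]
    rintro _ ⟨x, hx, rfl⟩
    exact (mem_normalizer_iff.1 (nW hg) x).1 (hbW hx)
  have h1 : ∀ g ∈ M, MulAut.conj g • U ≤ U := by
    intro g hg
    rw [hU, show MulAut.conj g • (⨆ d : {d // ∃ g ∈ M, MulAut.conj g • N b = N d}, N d.1) =
      ⨆ d : {d // ∃ g ∈ M, MulAut.conj g • N b = N d}, MulAut.conj g • N d.1 from Subgroup.map_iSup _ _]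
    refine iSup_le fun d => ?_
    obtain ⟨k, hk, h⟩ := d.2
    obtain ⟨e, he, -⟩ := F.perm g hg d.1
    rw [he]
    refine le_iSup (fun d : {d // ∃ g ∈ M, MulAut.conj g • N b = N d} => N d.1) ⟨e, g * k, mul_mem hg hk, ?_⟩
    rw [map_mul, mul_smul, h, he]
  have hMU : M ≤ normalizer (U : Set G) := by
    intro g hg
    rw [mem_normalizer_iff]
    refine fun x => ⟨fun hx => h1 g hg ((Blk.conj_smul rfl).1 hx), fun hx => ?_⟩
    have h2 := h1 g⁻¹ (inv_mem hg) ((Blk.conj_smul rfl).1 hx)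
    have e : g⁻¹ * (g * x * g⁻¹) * g⁻¹⁻¹ = x := by group
    rwa [e] at h2
  have hbU : N b ≤ U := le_iSup (fun d : {d // ∃ g ∈ M, MulAut.conj g • N b = N d} => N d.1)
    ⟨b, 1, one_mem _, by rw [map_one, one_smul]⟩
  have hU1 : U ≠ ⊥ := fun h => F.ne b (eq_bot_iff.2 (h ▸ hbU))
  have h3 := irr U hUW hMU hU1
  have hcW : N c ≤ W := by
    rw [hW]
    exact le_iSup (fun d : J => N d) ⟨c, hc⟩
  by_contra hne
  have h4 : U ≤ Co N R₀ c := by
    refine iSup_le fun d => F.N_le_Co fun e => hne ?_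
    rw [← e]
    exact d.2
  have h5 : N c ≤ N c ⊓ Co N R₀ c := le_inf le_rfl (hcW.trans (h3.trans h4))
  rw [show N c ⊓ Co N R₀ c = ⊥ from F.ind c] at h5
  exact F.ne c (eq_bot_iff.2 h5)

end dec

section full

variable {S : Sylow 2 G} {M V : Subgroup G} {I : Type u} {N E : I → Subgroup G} {R₀ : Subgroup G} {Om : I → Type u}
    [∀ i, Fintype (Om i)] [∀ i, DecidableEq (Om i)] {phi : ∀ i, Finset (Om i) → G}
    (F : Full (S : Subgroup G) M V N E R₀ Om phi)
include F

theorem card_conj {g : G} (hg : g ∈ M) {b c : I} (h : MulAut.conj g • N b = N c) :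
    Fintype.card (Om b) = Fintype.card (Om c) := by
  obtain ⟨τ, σ, h1, -, -⟩ := F.letters g hg
  have hc : c = τ b := F.toDec.Ninj (by rw [← h, h1])
  subst hc
  exact Fintype.card_congr (σ b)

variable [Finite G] {x y : G}

/-- **the data of one block for `O' = O₂(C_G(x) ⊓ C_G(y))`** -/
theorem at_pair (hx : (S : Subgroup G) ≤ centralizer ({x} : Set G)) (hy : (S : Subgroup G) ≤ centralizer ({y} : Set G))
    {b : I} {p : Om b} (hc : IsC N R₀ b x (phi b (Finset.univ.erase p))) (hyc : y ∈ Co N R₀ b) :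
    At M V N E R₀ phi b p x (o2 (centralizer ({x} : Set G) ⊓ centralizer ({y} : Set G))) where
  comp := hc
  two := o2_isPGroup _
  OM := (o2_le_of_sylow S.isPGroup' (MinSimple.Basic.not_dvd_relIndex S (le_inf hx hy))).trans F.SL
  Oe := (o2_le _).trans inf_le_left
  nO g hg hgx := le_normalizer_o2 _ (mem_inf.2 ⟨hgx, by
    rw [mem_centralizer_singleton_iff]
    exact (mem_centralizer_iff.1 (cent_Co F.toDec b hg) y hyc).symm⟩)

/-- **one block** -/
theorem three_blk (hx : (S : Subgroup G) ≤ centralizer ({x} : Set G))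
    (hy : (S : Subgroup G) ≤ centralizer ({y} : Set G)) {b : I} (hc : ∃ n ∈ Orb phi b, IsC N R₀ b x n)
    (hyc : y ∈ Co N R₀ b) (low : N b ≤ o2 (centralizer ({x} : Set G) ⊓ centralizer ({y} : Set G)))
    (sq : ∀ v ∈ V, v ^ 2 = 1)
    (hL : ∃ A, KL.TwoS.Mx (o2 (centralizer ({x} : Set G) ⊓ centralizer ({y} : Set G))) A ∧
      ¬ A ≤ centralizer (N b : Set G)) : Fintype.card (Om b) = 3 := by
  obtain ⟨_, ⟨p, rfl⟩, h1⟩ := hc
  obtain ⟨A, hA, mv⟩ := hL
  exact LeftLett.card_eq_three_mx F (at_pair F hx hy h1 hyc) hA low sq mv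

/-- **an irreducible class of letters in the left case: three letters in each block** -/
theorem three_of_left (hx : (S : Subgroup G) ≤ centralizer ({x} : Set G))
    (hy : (S : Subgroup G) ≤ centralizer ({y} : Set G)) {W : Subgroup G} {J : Set I} (hW : W = ⨆ b : J, N b)
    (nW : M ≤ normalizer (W : Set G))
    (irr : ∀ U : Subgroup G, U ≤ W → M ≤ normalizer (U : Set G) → U ≠ ⊥ → W ≤ U)
    (hc : ∀ b ∈ J, ∃ n ∈ Orb phi b, IsC N R₀ b x n) (hyc : ∀ b ∈ J, y ∈ Co N R₀ b)
    (low : W ≤ o2 (centralizer ({x} : Set G) ⊓ centralizer ({y} : Set G))) (sq : ∀ v ∈ V, v ^ 2 = 1)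
    (hL : ∃ A, KL.TwoS.Mx (o2 (centralizer ({x} : Set G) ⊓ centralizer ({y} : Set G))) A ∧
      ¬ A ≤ centralizer (W : Set G)) : ∀ b ∈ J, Fintype.card (Om b) = 3 := by
  obtain ⟨A, hA, mv⟩ := hL
  have h1 : ∃ b ∈ J, ¬ A ≤ centralizer (N b : Set G) := by
    by_contra hcon
    push Not at hcon
    apply mv
    have h2 : W ≤ centralizer (A : Set G) := by
      rw [hW]
      refine iSup_le fun b => ?_
      exact fun v hv => mem_centralizer_iff.2 fun a ha =>
        (mem_centralizer_iff.1 (hcon b b.2 ha) v hv).symm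
    exact fun a ha => mem_centralizer_iff.2 fun v hv => (mem_centralizer_iff.1 (h2 hv) a ha).symm
  obtain ⟨b, hb, hm⟩ := h1
  have hbW : N b ≤ W := by
    rw [hW]
    exact le_iSup (fun d : J => N d) ⟨b, hb⟩
  have h3 := three_blk F hx hy (hc b hb) (hyc b hb) (hbW.trans low) sq ⟨A, hA, hm⟩
  intro c hcJ
  obtain ⟨g, hg, h4⟩ := exists_conj F.toDec hW nW irr hb hcJ
  rw [← card_conj F hg h4, h3]

end full

end Cfsg.Agent.Omega.NOThreeL.RRed.LeftThree
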