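import Mathlib

/-!
# Sylow 2-subgroups of a finite symmetric group are self-normalising (556's literal)

`norm_le`: for a finite set `X` and `P : Sylow 2 (Equiv.Perm X)`, `N(P) ≤ P`. Induction on the set by
point stabilisers (556): the orbits of `P` have pairwise distinct sizes, and the stabiliser of a point
of the smallest orbit is a Sylow 2-subgroup of the symmetric group of the remaining points.
-/

namespace Cfsg.Agent.Omega.NOThreeL.RRed.SymSyl
open MulAction Subgroup

universe u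

set_option linter.unusedSectionVars false

variable {X : Type u} [Fintype X] [DecidableEq X]

theorem app_inv (f : Equiv.Perm X) (x : X) : f (f⁻¹ x) = x := Equiv.apply_symm_apply f x

theorem inv_app (f : Equiv.Perm X) (x : X) : f⁻¹ (f x) = x := Equiv.symm_apply_apply f x

/-- The permutations supported on `Y`. -/
def Sy (Y : Finset X) : Subgroup (Equiv.Perm X) where
  carrier := {g | ∀ x, x ∉ Y → g x = x}
  one_mem' := fun x _ => rfl
  mul_mem' := fun {a b} ha hb x hx => by rw [Equiv.Perm.mul_apply, hb x hx, ha x hx]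
  inv_mem' := fun {a} ha x hx => by rw [Equiv.Perm.inv_eq_iff_eq]; exact (ha x hx).symm

theorem mem_Sy {Y : Finset X} {g : Equiv.Perm X} : g ∈ Sy Y ↔ ∀ x, x ∉ Y → g x = x := Iff.rfl

theorem card_Sy (Y : Finset X) : Nat.card (Sy Y) = (Y.card).factorial := by
  have h1 : Nat.card (Sy Y) = Nat.card (Equiv.Perm {x // x ∈ Y}) :=
    (Nat.card_congr (Equiv.Perm.subtypeEquivSubtypePerm (fun x => x ∈ Y))).symm
  rw [h1, Nat.card_eq_fintype_card, Fintype.card_perm, Fintype.card_coe]

/-- `P` is a full Sylow 2-subgroup of `Sym(Y)`. -/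
structure Fu (Y : Finset X) (P : Subgroup (Equiv.Perm X)) : Prop where
  le : P ≤ Sy Y
  card : Nat.card P = 2 ^ (Y.card.factorial).factorization 2

theorem map_mem {Y : Finset X} {g : Equiv.Perm X} (hg : g ∈ Sy Y) {x : X} (hx : x ∈ Y) : g x ∈ Y := by
  by_contra h
  have := hg _ h
  exact h (by rw [g.injective this]; exact hx)

theorem stab_card (P : Subgroup (Equiv.Perm X)) (a : X) :
    (orbit P a).ncard * Nat.card (P ⊓ stabilizer (Equiv.Perm X) a : Subgroup (Equiv.Perm X)) = Nat.card P := by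
  have h1 : Nat.card (P ⊓ stabilizer (Equiv.Perm X) a : Subgroup (Equiv.Perm X)) = Nat.card (stabilizer P a) := by
    have h2 : (stabilizer P a).map P.subtype = P ⊓ stabilizer (Equiv.Perm X) a := by
      ext g
      simp only [Subgroup.mem_map, mem_stabilizer_iff, Subgroup.mem_inf, Subgroup.subtype_apply]
      constructor
      · rintro ⟨g', h1, rfl⟩
        exact ⟨g'.2, h1⟩
      · rintro ⟨h1, h2⟩
        exact ⟨⟨g, h1⟩, h2, rfl⟩
    rw [← h2]
    exact Nat.card_congr ((stabilizer P a).equivMapOfInjective P.subtype P.subtype_injective).toEquiv.symm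
  rw [h1, ← MulAction.index_stabilizer]
  exact Subgroup.index_mul_card _

theorem pow_of_dvd {P : Subgroup (Equiv.Perm X)} {Y : Finset X} (hP : P ≤ Sy Y) {k : ℕ}
    (hk : Nat.card P = 2 ^ k) : k ≤ (Y.card.factorial).factorization 2 := by
  have h1 : 2 ^ k ∣ Y.card.factorial := by
    rw [← hk, ← card_Sy Y]
    exact Subgroup.card_dvd_of_le hP
  exact (Nat.prime_two.pow_dvd_iff_le_factorization (Nat.factorial_ne_zero _)).1 h1

theorem pt {Y : Finset X} {P : Subgroup (Equiv.Perm X)} (F : Fu Y P) {a : X} (ha : a ∈ Y) :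
    ∃ j, (orbit P a).ncard = 2 ^ j ∧ Y.card.factorization 2 ≤ j ∧
      (j = Y.card.factorization 2 → Fu (Y.erase a) (P ⊓ stabilizer (Equiv.Perm X) a)) := by
  have h1 := stab_card P a
  rw [F.card] at h1
  obtain ⟨j, -, hj⟩ := (Nat.dvd_prime_pow Nat.prime_two).1 (Dvd.intro _ h1)
  obtain ⟨k, -, hk⟩ := (Nat.dvd_prime_pow Nat.prime_two).1 (Dvd.intro_left _ h1)
  have hle : P ⊓ stabilizer (Equiv.Perm X) a ≤ Sy (Y.erase a) := by
    rintro g ⟨hg, hga⟩ x hx
    by_cases hxa : x = a
    · subst hxa; exact hga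
    · exact F.le hg x fun h => hx (Finset.mem_erase.2 ⟨hxa, h⟩)
  have hk' := pow_of_dvd hle hk
  have hn : Y.card = (Y.erase a).card + 1 := (Finset.card_erase_add_one ha).symm
  have hN : (Y.card.factorial).factorization 2 =
      Y.card.factorization 2 + ((Y.erase a).card.factorial).factorization 2 := by
    conv_lhs => rw [hn, Nat.factorial_succ, ← hn]
    rw [Nat.factorization_mul (by omega) (Nat.factorial_ne_zero _), Finsupp.add_apply]
  rw [hj, hk, ← pow_add] at h1
  have h2 := Nat.pow_right_injective (le_refl 2) h1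
  refine ⟨j, hj, by omega, fun hjm => ⟨hle, ?_⟩⟩
  rw [hk]
  congr 1
  omega

theorem dvd_count (P : Subgroup (Equiv.Perm X)) (k : ℕ) : ∀ (m : ℕ) (Z : Finset X), Z.card ≤ m →
    (∀ g ∈ P, ∀ x ∈ Z, g x ∈ Z) → (∀ x ∈ Z, k ∣ (orbit P x).ncard) → k ∣ Z.card := by
  classical
  intro m
  induction m with
  | zero =>
    intro Z hZ _ _
    rw [Nat.le_zero.1 hZ]
    exact dvd_zero _
  | succ m ih =>
    intro Z hZ hP hk
    rcases Z.eq_empty_or_nonempty with rfl | ⟨x, hx⟩
    · exact dvd_zero _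
    have h1 := Finset.card_filter_add_card_filter_not (s := Z) (fun y => y ∈ orbit P x)
    have h2 : (Z.filter (fun y => y ∈ orbit P x)).card = (orbit P x).ncard := by
      rw [← Set.ncard_coe_finset]
      congr 1
      ext y
      simp only [Finset.coe_filter, Set.mem_ofPred_eq]
      refine ⟨fun h => h.2, fun h => ⟨?_, h⟩⟩
      obtain ⟨g, rfl⟩ := h
      exact hP g g.2 x hx
    have h3 : 0 < (Z.filter (fun y => y ∈ orbit P x)).card :=
      Finset.card_pos.2 ⟨x, Finset.mem_filter.2 ⟨hx, mem_orbit_self x⟩⟩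
    have h4 := ih (Z.filter (fun y => ¬ y ∈ orbit P x)) (by omega) (fun g hg y hy => by
      rw [Finset.mem_filter] at hy ⊢
      refine ⟨hP g hg y hy.1, fun h => hy.2 ?_⟩
      obtain ⟨g', hg'⟩ := h
      have hg'' : g' • x = (⟨g, hg⟩ : P) • y := hg'
      exact ⟨(⟨g, hg⟩ : P)⁻¹ * g', show ((⟨g, hg⟩ : P)⁻¹ * g') • x = y by
        rw [mul_smul, hg'', inv_smul_smul]⟩) (fun y hy => hk y (Finset.mem_filter.1 hy).1)
    rw [← h1]
    exact dvd_add (h2 ▸ hk x hx) h4

/-- A `P`-invariant set of 2-power size, whose `P`-orbits have 2-power sizes which separate them, is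
one orbit. -/
theorem one_orbit {P : Subgroup (Equiv.Perm X)} {Z : Finset X} (hne : Z.Nonempty) {j : ℕ}
    (hj : Z.card = 2 ^ j) (hP : ∀ g ∈ P, ∀ x ∈ Z, g x ∈ Z)
    (h2 : ∀ x ∈ Z, ∃ i, (orbit P x).ncard = 2 ^ i)
    (hd : ∀ x ∈ Z, ∀ y ∈ Z, (orbit P x).ncard = (orbit P y).ncard → y ∈ orbit P x) :
    ∃ x ∈ Z, (orbit P x).ncard = Z.card := by
  classical
  obtain ⟨x, hx, hmin⟩ := Finset.exists_min_image Z (fun x => (orbit P x).ncard) hne
  obtain ⟨i, hi⟩ := h2 x hx
  refine ⟨x, hx, ?_⟩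
  have h1 := Finset.card_filter_add_card_filter_not (s := Z) (fun y => y ∈ orbit P x)
  have h3 : (Z.filter (fun y => y ∈ orbit P x)).card = (orbit P x).ncard := by
    rw [← Set.ncard_coe_finset]
    congr 1
    ext y
    simp only [Finset.coe_filter, Set.mem_ofPred_eq]
    refine ⟨fun h => h.2, fun h => ⟨?_, h⟩⟩
    obtain ⟨g, rfl⟩ := h
    exact hP g g.2 x hx
  have h4 : 2 ^ (i + 1) ∣ (Z.filter (fun y => ¬ y ∈ orbit P x)).card := by
    refine dvd_count P _ _ _ le_rfl (fun g hg y hy => ?_) fun y hy => ?_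
    · rw [Finset.mem_filter] at hy ⊢
      refine ⟨hP g hg y hy.1, fun h => hy.2 ?_⟩
      obtain ⟨g', hg'⟩ := h
      have hg'' : g' • x = (⟨g, hg⟩ : P) • y := hg'
      exact ⟨(⟨g, hg⟩ : P)⁻¹ * g', show ((⟨g, hg⟩ : P)⁻¹ * g') • x = y by
        rw [mul_smul, hg'', inv_smul_smul]⟩
    · rw [Finset.mem_filter] at hy
      obtain ⟨i', hi'⟩ := h2 y hy.1
      have h5 := hmin y hy.1
      rw [hi, hi'] at h5
      have h6 : i ≤ i' := (Nat.pow_le_pow_iff_right (by norm_num)).1 h5
      have h7 : i ≠ i' := by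
        rintro rfl
        exact hy.2 (hd x hx y hy.1 (hi.trans hi'.symm))
      rw [hi']
      exact pow_dvd_pow 2 (by omega)
  rw [h3, hi, hj] at h1
  rw [hi, hj]
  obtain ⟨c, hc⟩ := h4
  rw [hc] at h1
  have h8 : 2 ^ i ≤ 2 ^ j := by omega
  have h9 : i ≤ j := (Nat.pow_le_pow_iff_right (by norm_num)).1 h8
  rcases eq_or_lt_of_le h9 with h | h
  · rw [h]
  · exfalso
    have h10 : 2 ^ (i + 1) ∣ 2 ^ j := pow_dvd_pow 2 h
    rw [← h1] at h10
    have h11 : 2 ^ (i + 1) ∣ 2 ^ i := (Nat.dvd_add_left (Dvd.intro _ rfl)).1 h10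
    have h12 := Nat.le_of_dvd (by positivity) h11
    have h13 : 2 ^ (i + 1) = 2 * 2 ^ i := by ring
    have h14 : 0 < 2 ^ i := by positivity
    omega

/-- The `P`-orbit as a finset. -/
theorem exists_orb {Y : Finset X} {P : Subgroup (Equiv.Perm X)} (hP : P ≤ Sy Y) {x : X} (hx : x ∈ Y) :
    ∃ Z : Finset X, Z ⊆ Y ∧ (∀ y, y ∈ Z ↔ y ∈ orbit P x) ∧ Z.card = (orbit P x).ncard := by
  classical
  refine ⟨Y.filter (fun y => y ∈ orbit P x), Finset.filter_subset _ _, fun y => ?_, ?_⟩
  · rw [Finset.mem_filter]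
    refine ⟨fun h => h.2, fun h => ⟨?_, h⟩⟩
    obtain ⟨g, rfl⟩ := h
    exact map_mem (hP g.2) hx
  · rw [← Set.ncard_coe_finset]
    congr 1
    ext y
    simp only [Finset.coe_filter, Set.mem_ofPred_eq]
    refine ⟨fun h => h.2, fun h => ⟨?_, h⟩⟩
    obtain ⟨g, rfl⟩ := h
    exact map_mem (hP g.2) hx

/-- Orbits of equal size are equal. -/
theorem orb_eq : ∀ (n : ℕ) (Y : Finset X), Y.card = n → ∀ P : Subgroup (Equiv.Perm X), Fu Y P →
    ∀ x ∈ Y, ∀ y ∈ Y, (orbit P x).ncard = (orbit P y).ncard → y ∈ orbit P x := by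
  classical
  intro n
  induction n with
  | zero =>
    intro Y hY P _ x hx
    rw [Finset.card_eq_zero.1 hY] at hx
    simp at hx
  | succ n ih =>
    intro Y hY P F x hx y hy hxy
    by_contra hno
    obtain ⟨Zx, hZx, hZx', hZxc⟩ := exists_orb F.le hx
    obtain ⟨Zy, hZy, hZy', hZyc⟩ := exists_orb F.le hy
    obtain ⟨j, hj, hmj, -⟩ := pt F hx
    have hdj : Disjoint Zx Zy := by
      rw [Finset.disjoint_left]
      intro z hz hz'
      rw [hZx'] at hz
      rw [hZy'] at hz'
      have h1 := MulAction.orbit_eq_iff.2 hz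
      have h2 := MulAction.orbit_eq_iff.2 hz'
      exact hno (by rw [← h1, h2]; exact mem_orbit_self y)
    -- a point outside with the smallest possible orbit
    have hex : ∃ a ∈ Y, a ∉ Zx ∧ a ∉ Zy ∧ (orbit P a).ncard = 2 ^ (Y.card.factorization 2) := by
      by_contra hcon
      push Not at hcon
      have h1 : 2 ^ (Y.card.factorization 2 + 1) ∣ (Y \ (Zx ∪ Zy)).card := by
        refine dvd_count P _ _ _ le_rfl (fun g hg z hz => ?_) fun z hz => ?_
        · rw [Finset.mem_sdiff, Finset.mem_union] at hz ⊢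
          refine ⟨map_mem (F.le hg) hz.1, fun h => hz.2 ?_⟩
          have key : ∀ w : X, g z ∈ orbit P w → z ∈ orbit P w := by
            rintro w ⟨g', hg'⟩
            have hg'' : g' • w = (⟨g, hg⟩ : P) • z := hg'
            exact ⟨(⟨g, hg⟩ : P)⁻¹ * g', show ((⟨g, hg⟩ : P)⁻¹ * g') • w = z by
              rw [mul_smul, hg'', inv_smul_smul]⟩
          rcases h with h | h
          · exact Or.inl ((hZx' z).2 (key x ((hZx' _).1 h)))
          · exact Or.inr ((hZy' z).2 (key y ((hZy' _).1 h)))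
        · rw [Finset.mem_sdiff, Finset.mem_union] at hz
          push Not at hz
          obtain ⟨i, hi, hmi, -⟩ := pt F hz.1
          have h2 := hcon z hz.1 hz.2.1 hz.2.2
          rw [hi] at h2 ⊢
          refine pow_dvd_pow 2 ?_
          rcases eq_or_lt_of_le hmi with h | h
          · exact absurd (by rw [h]) h2
          · exact h
      have h2 : (Y \ (Zx ∪ Zy)).card + (Zx ∪ Zy).card = Y.card :=
        Finset.card_sdiff_add_card_eq_card (Finset.union_subset hZx hZy)
      rw [Finset.card_union_of_disjoint hdj, hZxc, hZyc, ← hxy, hj] at h2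
      have h3 : 2 ^ (Y.card.factorization 2 + 1) ∣ 2 ^ j + 2 ^ j := by
        have : 2 ^ j + 2 ^ j = 2 ^ (j + 1) := by ring
        rw [this]
        exact pow_dvd_pow 2 (by omega)
      have h4 : 2 ^ (Y.card.factorization 2 + 1) ∣ Y.card := by
        conv_rhs => rw [← h2]
        exact dvd_add h1 h3
      have h5 := (Nat.prime_two.pow_dvd_iff_le_factorization (by omega)).1 h4
      omega
    obtain ⟨a, ha, hax, hay, hca⟩ := hex
    obtain ⟨i, hi, -, hF⟩ := pt F ha
    have hF' := hF (Nat.pow_right_injective (le_refl 2) (hi.symm.trans hca))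
    have hcard : (Y.erase a).card = n := by rw [Finset.card_erase_of_mem ha, hY]; rfl
    have hD := ih _ hcard _ hF'
    have one : ∀ (w : X) (Z : Finset X), Z ⊆ Y → a ∉ Z → (∀ y, y ∈ Z ↔ y ∈ orbit P w) →
        Z.card = (orbit P w).ncard → (orbit P w).ncard = 2 ^ j → w ∈ Y →
        ∃ v ∈ Z, (orbit (P ⊓ stabilizer (Equiv.Perm X) a : Subgroup (Equiv.Perm X)) v).ncard = 2 ^ j := by
      intro w Z hZ haZ hZ' hZc hwj hw
      have hsub : ∀ v ∈ Z, v ∈ Y.erase a := fun v hv =>
        Finset.mem_erase.2 ⟨fun h => haZ (h ▸ hv), hZ hv⟩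
      obtain ⟨v, hv, hvc⟩ := one_orbit (P := P ⊓ stabilizer (Equiv.Perm X) a) (Z := Z)
        ⟨w, (hZ' w).2 (mem_orbit_self w)⟩ (hZc.trans hwj) (fun g hg v hv => by
          rw [hZ'] at hv ⊢
          obtain ⟨g', rfl⟩ := hv
          exact ⟨⟨g, hg.1⟩ * g', rfl⟩)
        (fun v hv => by
          obtain ⟨i', hi', -⟩ := pt hF' (hsub v hv)
          exact ⟨i', hi'⟩)
        (fun v hv v' hv' => hD v (hsub v hv) v' (hsub v' hv'))
      exact ⟨v, hv, by rw [hvc, hZc, hwj]⟩
    obtain ⟨v, hv, hvc⟩ := one x Zx hZx hax hZx' hZxc hj hx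
    obtain ⟨v', hv', hvc'⟩ := one y Zy hZy hay hZy' hZyc (hxy ▸ hj) hy
    have h1 := hD v (Finset.mem_erase.2 ⟨fun h => hax (h ▸ hv), hZx hv⟩) v'
      (Finset.mem_erase.2 ⟨fun h => hay (h ▸ hv'), hZy hv'⟩) (hvc.trans hvc'.symm)
    refine (Finset.disjoint_left.1 hdj) (?_ : v' ∈ Zx) hv'
    rw [hZx'] at hv ⊢
    obtain ⟨g, rfl⟩ := hv
    obtain ⟨g', rfl⟩ := h1
    exact ⟨⟨g', g'.2.1⟩ * g, rfl⟩

/-- Self-normalising, with support. -/
theorem norm_aux : ∀ (n : ℕ) (Y : Finset X), Y.card = n → ∀ P : Subgroup (Equiv.Perm X), Fu Y P →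
    ∀ h ∈ Sy Y, h ∈ Subgroup.normalizer (P : Set (Equiv.Perm X)) → h ∈ P := by
  classical
  intro n
  induction n with
  | zero =>
    intro Y hY P _ h hh _
    rw [Finset.card_eq_zero.1 hY] at hh
    have : h = 1 := Equiv.ext fun x => hh x (by simp)
    rw [this]
    exact one_mem _
  | succ n ih =>
    intro Y hY P F h hh hn
    have hex : ∃ a ∈ Y, (orbit P a).ncard = 2 ^ (Y.card.factorization 2) := by
      by_contra hcon
      push Not at hcon
      have h1 : 2 ^ (Y.card.factorization 2 + 1) ∣ Y.card := by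
        refine dvd_count P _ _ _ le_rfl (fun g hg z hz => map_mem (F.le hg) hz) fun z hz => ?_
        obtain ⟨i, hi, hmi, -⟩ := pt F hz
        have h2 := hcon z hz
        rw [hi] at h2 ⊢
        refine pow_dvd_pow 2 ?_
        rcases eq_or_lt_of_le hmi with h | h
        · exact absurd (by rw [h]) h2
        · exact h
      have h5 := (Nat.prime_two.pow_dvd_iff_le_factorization (by omega)).1 h1
      omega
    obtain ⟨a, ha, hca⟩ := hex
    obtain ⟨i, hi, -, hF⟩ := pt F ha
    have hF' := hF (Nat.pow_right_injective (le_refl 2) (hi.symm.trans hca))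
    have hcard : (Y.erase a).card = n := by rw [Finset.card_erase_of_mem ha, hY]; rfl
    have horb : orbit P (h a) = (fun x => h x) '' orbit P a := by
      ext z
      constructor
      · rintro ⟨g, rfl⟩
        refine ⟨(h⁻¹ * g * h) a, ⟨⟨h⁻¹ * g * h, ?_⟩, rfl⟩, ?_⟩
        · have := (Subgroup.mem_normalizer_iff.1 (inv_mem hn) (g : Equiv.Perm X)).1 g.2
          rwa [inv_inv] at this
        · change h ((h⁻¹ * (g : Equiv.Perm X) * h) a) = (g : Equiv.Perm X) (h a)
          rw [Equiv.Perm.mul_apply, Equiv.Perm.mul_apply, app_inv]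
      · rintro ⟨_, ⟨g, rfl⟩, rfl⟩
        refine ⟨⟨h * g * h⁻¹, (Subgroup.mem_normalizer_iff.1 hn (g : Equiv.Perm X)).1 g.2⟩, ?_⟩
        change (h * (g : Equiv.Perm X) * h⁻¹) (h a) = h ((g : Equiv.Perm X) a)
        rw [Equiv.Perm.mul_apply, Equiv.Perm.mul_apply, inv_app]
    have hc : (orbit P a).ncard = (orbit P (h a)).ncard := by
      rw [horb, Set.ncard_image_of_injective _ h.injective]
    obtain ⟨g, hg⟩ := orb_eq _ Y rfl P F a ha (h a) (map_mem hh ha) hc
    have hg' : (g : Equiv.Perm X) a = h a := hg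
    have hfix : ((g : Equiv.Perm X)⁻¹ * h) a = a := by
      rw [Equiv.Perm.mul_apply, ← hg', inv_app]
    have hgn : (g : Equiv.Perm X)⁻¹ * h ∈ Subgroup.normalizer (P : Set (Equiv.Perm X)) :=
      mul_mem (inv_mem (Subgroup.le_normalizer g.2)) hn
    have hmem : (g : Equiv.Perm X)⁻¹ * h ∈ P ⊓ stabilizer (Equiv.Perm X) a := by
      refine ih _ hcard _ hF' _ ?_ ?_
      · intro z hz
        by_cases hza : z = a
        · rw [hza, hfix]
        · have hzY : z ∉ Y := fun hzY => hz (Finset.mem_erase.2 ⟨hza, hzY⟩)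
          exact mul_mem (inv_mem (F.le g.2)) hh z hzY
      · have hs : (g : Equiv.Perm X)⁻¹ * h ∈ stabilizer (Equiv.Perm X) a := hfix
        rw [Subgroup.mem_normalizer_iff]
        intro k
        have h1 := Subgroup.mem_normalizer_iff.1 hgn k
        have h2 := Subgroup.mem_normalizer_iff.1 (Subgroup.le_normalizer hs) k
        simp only [Subgroup.mem_inf] at h1 h2 ⊢
        rw [h1, h2]
    have := mul_mem g.2 hmem.1
    rwa [mul_inv_cancel_left] at this

/-- **Sylow 2-subgroups of a finite symmetric group are self-normalising.** -/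
theorem norm_le (P : Sylow 2 (Equiv.Perm X)) :
    Subgroup.normalizer ((P : Subgroup (Equiv.Perm X)) : Set (Equiv.Perm X)) ≤
      (P : Subgroup (Equiv.Perm X)) := by
  intro h hh
  refine norm_aux _ Finset.univ rfl _ ⟨fun g _ x hx => absurd (Finset.mem_univ x) hx, ?_⟩ h
    (fun x hx => absurd (Finset.mem_univ x) hx) hh
  rw [Sylow.card_eq_multiplicity, Nat.card_eq_fintype_card, Fintype.card_perm, Finset.card_univ]

end Cfsg.Agent.Omega.NOThreeL.RRed.SymSyl
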