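import Cfsg.Agent.Omega.NOThreeL.RRed.Blk.OneOf
import Cfsg.Agent.Omega.NOThreeL.RRed.TvFin
import Cfsg.Agent.Omega.NOThreeL.RRed.SymSyl

/-!
# Letters: the normaliser of the image of a Sylow 2-subgroup (#26066 (c), `Kind`, without `d ∈ N(E b)`)

The file `TvKind` (helper342) has the same with the hypothesis `d ∈ N(E b)`.

`Lett V R φ`, `R` acts on `V = {φ s : s even}` as `Sym(Ω)`, `|Ω|` odd, `T` Sylow in `R`.

* `Pairs P x y p`, `exists_pairs` : the transpositions in a Sylow 2-subgroup `P` of `Sym(Ω)`;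
* `exists_pi`, `exists_syl_pi` : `P` acts on the pairs as a Sylow 2-subgroup of `Sym(r)`, `|Ω| = 2 r + 1`;
* `tv_perm` : a permutation which acts on `V` as a transvection is a transposition;
* **`kind`** : `d` of odd order, `d ∈ N(V)`, `d ∈ N(T C(V))` ⟹ `d ∈ C(V)`;
* `syl`, `irr`, `mv`, `kind_full`, `sml` : for the blocks of `Full S M V N E R₀ Om phi` (`sml` = `BadE.Sml S (N b) (E b)`).
-/

set_option autoImplicit false
set_option linter.unusedSectionVars false

namespace Cfsg.Agent.Omega.NOThreeL.RRed.TvKindT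

open Subgroup Cfsg
open Cfsg.Agent.Omega.KL.TwoS (Rel Lett)
open Cfsg.Agent.Omega.NOThreeL.RRed.Blk (PermS)
open scoped Pointwise

universe u v w

section sym

variable {Ω : Type w} [Fintype Ω] [DecidableEq Ω] {ι : Type}

/-- The transpositions of `P` are `(x i, y i)`, they cover all letters except `p`. -/
structure Pairs (P : Subgroup (Equiv.Perm Ω)) (x y : ι → Ω) (p : Ω) : Prop where
  ne : ∀ i, x i ≠ y i
  sw : ∀ i, Equiv.swap (x i) (y i) ∈ P
  cov : ∀ a, a ≠ p → ∃ i, a = x i ∨ a = y i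
  xp : ∀ i, x i ≠ p
  yp : ∀ i, y i ≠ p
  inj : ∀ i j, i ≠ j → x i ≠ x j ∧ x i ≠ y j ∧ y i ≠ x j ∧ y i ≠ y j

theorem two_of_sq {H : Type*} [Group H] {A : Subgroup H} (h : ∀ a ∈ A, a * a = 1) : IsPGroup 2 A := fun a =>
  ⟨1, Subtype.ext (by
    show (a : H) ^ 2 ^ 1 = 1
    rw [pow_one, pow_two]; exact h a a.2)⟩

theorem exists_pairs (P : Sylow 2 (Equiv.Perm Ω)) {r : ℕ} (hc : Fintype.card Ω = 2 * r + 1) :
    ∃ (x y : Fin r → Ω) (p : Ω), Pairs (P : Subgroup (Equiv.Perm Ω)) x y p := by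
  classical
  have hc' : Fintype.card Ω = Fintype.card (Option (Fin r × Bool)) := by
    rw [hc, Fintype.card_option, Fintype.card_prod, Fintype.card_fin, Fintype.card_bool, mul_comm]
  let e : Ω ≃ Option (Fin r × Bool) := Fintype.equivOfCardEq hc'
  let x : Fin r → Ω := fun i => e.symm (some (i, false))
  let y : Fin r → Ω := fun i => e.symm (some (i, true))
  let p : Ω := e.symm none
  have ne : ∀ i, x i ≠ y i := fun i h => by
    have := e.symm.injective h
    simp at this
  have cov : ∀ a, a ≠ p → ∃ i, a = x i ∨ a = y i := by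
    intro a ha
    rcases h : e a with _ | ⟨i, b⟩
    · exact absurd (by rw [← e.symm_apply_apply a, h]) ha
    · refine ⟨i, ?_⟩
      rw [← e.symm_apply_apply a, h]
      rcases b with _ | _
      · exact Or.inl rfl
      · exact Or.inr rfl
  have xp : ∀ i, x i ≠ p := fun i h => by
    have := e.symm.injective h
    simp at this
  have yp : ∀ i, y i ≠ p := fun i h => by
    have := e.symm.injective h
    simp at this
  have inj : ∀ i j, i ≠ j → x i ≠ x j ∧ x i ≠ y j ∧ y i ≠ x j ∧ y i ≠ y j := by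
    intro i j hij
    refine ⟨fun h => ?_, fun h => ?_, fun h => ?_, fun h => ?_⟩ <;>
    · have := e.symm.injective h
      simp at this
      try exact hij this
  let A : Subgroup (Equiv.Perm Ω) := (⨅ i, MulAction.stabilizer (Equiv.Perm Ω) ({x i, y i} : Set Ω)) ⊓
    MulAction.stabilizer (Equiv.Perm Ω) p
  have hA : ∀ σ ∈ A, (∀ i, (σ (x i) = x i ∨ σ (x i) = y i) ∧ (σ (y i) = x i ∨ σ (y i) = y i)) ∧ σ p = p := by
    intro σ hσ
    obtain ⟨h1, h2⟩ := mem_inf.1 hσ
    refine ⟨fun i => ?_, MulAction.mem_stabilizer_iff.1 h2⟩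
    have h3 := MulAction.mem_stabilizer_iff.1 (mem_iInf.1 h1 i)
    have h4 : ∀ a ∈ ({x i, y i} : Set Ω), σ a = x i ∨ σ a = y i := by
      intro a ha
      have : σ • a ∈ σ • ({x i, y i} : Set Ω) := Set.smul_mem_smul_set ha
      rw [h3] at this
      exact this
    exact ⟨h4 _ (Or.inl rfl), h4 _ (Or.inr rfl)⟩
  have hA2 : IsPGroup 2 A := by
    refine two_of_sq fun σ hσ => ?_
    obtain ⟨h1, h2⟩ := hA σ hσ
    ext a
    rw [Equiv.Perm.mul_apply, Equiv.Perm.one_apply]
    by_cases hap : a = p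
    · rw [hap, h2, h2]
    · obtain ⟨i, hi⟩ := cov a hap
      obtain ⟨h3, h4⟩ := h1 i
      have h5 : σ (x i) ≠ σ (y i) := σ.injective.ne (ne i)
      rcases h3 with h3 | h3 <;> rcases h4 with h4 | h4 <;> rcases hi with rfl | rfl
      · exact absurd (h3.trans h4.symm) h5
      · exact absurd (h3.trans h4.symm) h5
      · rw [h3, h3]
      · rw [h4, h4]
      · rw [h3, h4]
      · rw [h4, h3]
      · exact absurd (h3.trans h4.symm) h5
      · exact absurd (h3.trans h4.symm) h5
  have hsw : ∀ i, Equiv.swap (x i) (y i) ∈ A := by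
    intro i
    refine mem_inf.2 ⟨mem_iInf.2 fun j => ?_, ?_⟩
    · rw [MulAction.mem_stabilizer_iff]
      by_cases hij : i = j
      · subst hij
        ext a
        rw [Set.mem_smul_set_iff_inv_smul_mem, Equiv.swap_inv, Equiv.Perm.smul_def]
        constructor
        · rintro (h | h)
          · rw [Equiv.swap_apply_eq_iff, Equiv.swap_apply_left] at h
            exact Or.inr h
          · rw [Set.mem_singleton_iff, Equiv.swap_apply_eq_iff, Equiv.swap_apply_right] at h
            exact Or.inl h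
        · rintro (h | h)
          · rw [h, Equiv.swap_apply_left]; exact Or.inr rfl
          · rw [Set.mem_singleton_iff] at h
            rw [h, Equiv.swap_apply_right]; exact Or.inl rfl
      · obtain ⟨i1, i2, i3, i4⟩ := inj i j hij
        have e1 : Equiv.swap (x i) (y i) (x j) = x j := Equiv.swap_apply_of_ne_of_ne i1.symm i3.symm
        have e2 : Equiv.swap (x i) (y i) (y j) = y j := Equiv.swap_apply_of_ne_of_ne i2.symm i4.symm
        ext a
        rw [Set.mem_smul_set_iff_inv_smul_mem, Equiv.swap_inv, Equiv.Perm.smul_def]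
        constructor
        · rintro (h | h)
          · rw [Equiv.swap_apply_eq_iff, e1] at h
            exact Or.inl h
          · rw [Set.mem_singleton_iff, Equiv.swap_apply_eq_iff, e2] at h
            exact Or.inr h
        · rintro (h | h)
          · rw [h, e1]; exact Or.inl rfl
          · rw [Set.mem_singleton_iff] at h
            rw [h, e2]; exact Or.inr rfl
    · rw [MulAction.mem_stabilizer_iff, Equiv.Perm.smul_def]
      exact Equiv.swap_apply_of_ne_of_ne (xp i).symm (yp i).symm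
  obtain ⟨Q, hQ⟩ := hA2.exists_le_sylow
  obtain ⟨g, hg⟩ := MulAction.exists_smul_eq (Equiv.Perm Ω) Q P
  refine ⟨fun i => g (x i), fun i => g (y i), g p, fun i => g.injective.ne (ne i), fun i => ?_, fun a ha => ?_,
    fun i => g.injective.ne (xp i), fun i => g.injective.ne (yp i), fun i j hij => ?_⟩
  · rw [Equiv.swap_apply_apply, ← hg]
    exact ⟨_, hQ (hsw i), rfl⟩
  · obtain ⟨i, hi⟩ := cov (g⁻¹ a) fun h => ha (by rw [← h]; exact (g.apply_symm_apply a).symm)
    refine ⟨i, hi.imp (fun h => ?_) fun h => ?_⟩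
    · rw [← h]; exact (g.apply_symm_apply a).symm
    · rw [← h]; exact (g.apply_symm_apply a).symm
  · obtain ⟨i1, i2, i3, i4⟩ := inj i j hij
    exact ⟨g.injective.ne i1, g.injective.ne i2, g.injective.ne i3, g.injective.ne i4⟩

/-- `σ` maps the pair `i` to the pair `j` -/
def Mv (x y : ι → Ω) (σ : Equiv.Perm Ω) (i j : ι) : Prop :=
  (σ (x i) = x j ∧ σ (y i) = y j) ∨ (σ (x i) = y j ∧ σ (y i) = x j)

theorem Mv.mul {x y : ι → Ω} {σ τ : Equiv.Perm Ω} {i j k : ι} (h : Mv x y σ j k) (h' : Mv x y τ i j) :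
    Mv x y (σ * τ) i k := by
  unfold Mv at *
  rw [Equiv.Perm.mul_apply, Equiv.Perm.mul_apply]
  rcases h' with ⟨h1, h2⟩ | ⟨h1, h2⟩ <;> rcases h with ⟨h3, h4⟩ | ⟨h3, h4⟩ <;> rw [h1, h2]
  · exact Or.inl ⟨h3, h4⟩
  · exact Or.inr ⟨h3, h4⟩
  · exact Or.inr ⟨h4, h3⟩
  · exact Or.inl ⟨h4, h3⟩

section pairs

variable {P : Subgroup (Equiv.Perm Ω)} {x y : ι → Ω} {p : Ω} (hp : Pairs P x y p)
include hp

theorem Mv.uniq {σ : Equiv.Perm Ω} {i j k : ι} (h : Mv x y σ i j) (h' : Mv x y σ i k) : j = k := by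
  by_contra hjk
  obtain ⟨i1, i2, i3, i4⟩ := hp.inj j k hjk
  rcases h with ⟨h1, -⟩ | ⟨h1, -⟩ <;> rcases h' with ⟨h2, -⟩ | ⟨h2, -⟩
  · exact i1 (h1.symm.trans h2)
  · exact i2 (h1.symm.trans h2)
  · exact i3 (h1.symm.trans h2)
  · exact i4 (h1.symm.trans h2)

theorem three (hP : IsPGroup 2 P) {a b c : Ω} (hab : a ≠ b) (hac : a ≠ c) (h : Equiv.swap a b ∈ P)
    (h' : Equiv.swap a c ∈ P) : b = c := by
  by_contra hbc
  have h1 := Equiv.Perm.isThreeCycle_swap_mul_swap_same hab hac hbc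
  obtain ⟨n, hn⟩ := hP ⟨_, mul_mem h h'⟩
  have h2 : (Equiv.swap a b * Equiv.swap a c) ^ 2 ^ n = 1 := congrArg Subtype.val hn
  have h3 := orderOf_dvd_of_pow_eq_one h2
  rw [h1.orderOf] at h3
  have := Nat.Prime.dvd_of_dvd_pow Nat.prime_three h3
  omega

theorem uniq (hP : IsPGroup 2 P) {a b : Ω} (hab : a ≠ b) (h : Equiv.swap a b ∈ P) :
    ∃ i, (a = x i ∧ b = y i) ∨ (a = y i ∧ b = x i) := by
  have key : ∀ a b, a ≠ b → Equiv.swap a b ∈ P → a ≠ p → ∃ i, (a = x i ∧ b = y i) ∨ (a = y i ∧ b = x i) := by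
    intro a b hab h ha
    obtain ⟨i, rfl | rfl⟩ := hp.cov a ha
    · exact ⟨i, Or.inl ⟨rfl, three hp hP hab (hp.ne i) h (hp.sw i)⟩⟩
    · exact ⟨i, Or.inr ⟨rfl, three hp hP hab (hp.ne i).symm h (by rw [Equiv.swap_comm]; exact hp.sw i)⟩⟩
  by_cases ha : a = p
  · obtain ⟨i, h1⟩ := key b a hab.symm (by rwa [Equiv.swap_comm]) fun hb => hab (ha.trans hb.symm)
    exact ⟨i, h1.elim (fun h2 => Or.inr ⟨h2.2, h2.1⟩) fun h2 => Or.inl ⟨h2.2, h2.1⟩⟩
  · exact key a b hab h ha

theorem exists_mv (hP : IsPGroup 2 P) {σ : Equiv.Perm Ω} (hσ : σ ∈ P) (i : ι) : ∃ j, Mv x y σ i j := by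
  have h1 : Equiv.swap (σ (x i)) (σ (y i)) ∈ P := by
    rw [Equiv.swap_apply_apply]
    exact mul_mem (mul_mem hσ (hp.sw i)) (inv_mem hσ)
  exact uniq hp hP (σ.injective.ne (hp.ne i)) h1

theorem fix_p (hP : IsPGroup 2 P) {σ : Equiv.Perm Ω} (hσ : σ ∈ P) : σ p = p := by
  by_contra hne
  obtain ⟨i, hi⟩ := hp.cov _ hne
  obtain ⟨j, hj⟩ := exists_mv hp hP (inv_mem hσ) i
  have h0 : σ⁻¹ (σ p) = p := σ.symm_apply_apply p
  rcases hi with hi | hi <;> rw [hi] at h0 <;> rcases hj with ⟨h1, h2⟩ | ⟨h1, h2⟩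
  · exact hp.xp j (h1.symm.trans h0)
  · exact hp.yp j (h1.symm.trans h0)
  · exact hp.yp j (h2.symm.trans h0)
  · exact hp.xp j (h2.symm.trans h0)

theorem exists_pi (hP : IsPGroup 2 P) : ∃ f : P →* Equiv.Perm ι, ∀ (σ : P) (i : ι), Mv x y σ i (f σ i) := by
  have h1 : ∀ (σ : P) (i : ι), ∃ j, Mv x y σ i j := fun σ i => exists_mv hp hP σ.2 i
  choose f hf using h1
  let F : P →* Function.End ι :=
    { toFun := f
      map_one' := by
        funext i
        exact Mv.uniq hp (hf 1 i) (Or.inl ⟨rfl, rfl⟩)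
      map_mul' := fun σ τ => by
        funext i
        exact Mv.uniq hp (hf (σ * τ) i) ((hf σ _).mul (hf τ i)) }
  exact ⟨F.toHomPerm, fun σ i => hf σ i⟩

end pairs

/-- the image on the pairs is a Sylow subgroup -/
theorem exists_syl_pi (P : Sylow 2 (Equiv.Perm Ω)) {r : ℕ} (hc : Fintype.card Ω = 2 * r + 1) {x y : Fin r → Ω}
    {p : Ω} (hp : Pairs (P : Subgroup (Equiv.Perm Ω)) x y p) {f : P →* Equiv.Perm (Fin r)}
    (hf : ∀ (σ : P) (i : Fin r), Mv x y σ i (f σ i)) :
    ∃ Q : Sylow 2 (Equiv.Perm (Fin r)), (Q : Subgroup (Equiv.Perm (Fin r))) = f.range := by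
  classical
  have hk : Nat.card f.ker ≤ 2 ^ r := by
    let g : f.ker → (Fin r → Bool) := fun σ i => decide ((σ : Equiv.Perm Ω) (x i) = x i)
    have hg : Function.Injective g := by
      intro σ τ h
      have h1 : ∀ (σ : f.ker) i, Mv x y (σ : Equiv.Perm Ω) i i := by
        intro σ i
        have := hf σ i
        rw [MonoidHom.mem_ker.1 σ.2] at this
        exact this
      apply Subtype.ext
      apply Subtype.ext
      ext a
      by_cases ha : a = p
      · rw [ha, fix_p hp P.isPGroup' σ.1.2, fix_p hp P.isPGroup' τ.1.2]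
      · obtain ⟨i, hi⟩ := hp.cov a ha
        have h2 : ((σ : Equiv.Perm Ω) (x i) = x i ↔ (τ : Equiv.Perm Ω) (x i) = x i) := by
          have := congrFun h i
          exact decide_eq_decide.1 this
        have hne := hp.ne i
        rcases h1 σ i with ⟨h3, h4⟩ | ⟨h3, h4⟩ <;> rcases h1 τ i with ⟨h5, h6⟩ | ⟨h5, h6⟩ <;> rcases hi with hi | hi <;>
          rw [hi]
        · rw [h3, h5]
        · rw [h4, h6]
        · exact absurd (h5.symm.trans (h2.1 h3)).symm hne
        · exact absurd (h5.symm.trans (h2.1 h3)).symm hne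
        · exact absurd (h3.symm.trans (h2.2 h5)).symm hne
        · exact absurd (h3.symm.trans (h2.2 h5)).symm hne
        · rw [h3, h5]
        · rw [h4, h6]
    have h1 := Nat.card_le_card_of_injective g hg
    rw [Nat.card_eq_fintype_card (α := Fin r → Bool), Fintype.card_fun, Fintype.card_bool, Fintype.card_fin] at h1
    exact h1
  have h2 : Nat.card f.ker * Nat.card f.range = Nat.card P := by
    rw [← Subgroup.index_ker, Subgroup.card_mul_index]
  have hP : Nat.card P = 2 ^ (r + (Nat.factorial r).factorization 2) := by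
    have h3 := P.card_eq_multiplicity
    rw [Nat.card_eq_fintype_card (α := Equiv.Perm Ω), Fintype.card_perm, hc] at h3
    rw [h3]
    congr 1
    rw [Nat.factorization_def _ Nat.prime_two, Nat.factorization_def _ Nat.prime_two,
      padicValNat_factorial_mul_add _ (by norm_num), padicValNat_factorial_mul, add_comm]
  have hr : IsPGroup 2 f.range := P.isPGroup'.of_surjective f.rangeRestrict f.rangeRestrict_surjective
  obtain ⟨k, hk2⟩ := IsPGroup.iff_card.1 hr
  have h4 : (Nat.factorial r).factorization 2 ≤ k := by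
    have h5 : 2 ^ (r + (Nat.factorial r).factorization 2) ≤ 2 ^ (r + k) := by
      rw [← hP, ← h2, hk2, pow_add]
      exact Nat.mul_le_mul_right _ hk
    have := (Nat.pow_le_pow_iff_right (by norm_num : 1 < 2)).1 h5
    omega
  have h6 : Nat.card (Equiv.Perm (Fin r)) = Nat.factorial r := by
    rw [Nat.card_eq_fintype_card, Fintype.card_perm, Fintype.card_fin]
  have h5 : k ≤ (Nat.factorial r).factorization 2 := by
    rw [← Nat.prime_two.pow_dvd_iff_le_factorization (Nat.factorial_ne_zero r), ← hk2, ← h6]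
    exact Subgroup.card_subgroup_dvd_card _
  have h7 : Nat.card f.range = 2 ^ (Nat.card (Equiv.Perm (Fin r))).factorization 2 := by
    rw [h6, hk2, le_antisymm h5 h4]
  exact ⟨Sylow.ofCard f.range h7, rfl⟩

end sym


section letters

variable {G : Type u} [Group G] {Ω : Type w} [Fintype Ω] [DecidableEq Ω] {V R T : Subgroup G} {φ : Finset Ω → G}
  (L : Lett V R φ) (h3 : 3 ≤ Fintype.card Ω)
include L

theorem phi_mem {s : Finset Ω} (hs : Even s.card) : φ s ∈ V := (L.mem _).2 ⟨s, hs, rfl⟩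

theorem pair_mem {a b : Ω} (hab : a ≠ b) : φ {a, b} ∈ V :=
  phi_mem L (by rw [Finset.card_pair hab]; exact even_two)

theorem pair_inj {a b x y : Ω} (hab : a ≠ b) (hxy : x ≠ y) (h : φ {a, b} = φ {x, y}) :
    ({a, b} : Finset Ω) = {x, y} :=
  L.phi_inj (by rw [Finset.card_pair hab]; exact even_two) (by rw [Finset.card_pair hxy]; exact even_two) h

/-- `s` and the transposition `(a, b)` -/
theorem rel_swap {t : G} {a b : Ω} (hab : a ≠ b) (ht : Rel φ t (Equiv.swap a b)) {s : Finset Ω} (hs : Even s.card) :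
    ((a ∈ s ↔ b ∈ s) ∧ t * φ s * t⁻¹ = φ s) ∨ (¬ (a ∈ s ↔ b ∈ s) ∧ t * φ s * t⁻¹ = φ s * φ {a, b}) := by
  by_cases h : a ∈ s ↔ b ∈ s
  · left
    refine ⟨h, ?_⟩
    rw [ht s hs]
    congr 1
    ext z
    rw [Finset.mem_map_equiv, Equiv.symm_swap]
    by_cases hza : z = a
    · rw [hza, Equiv.swap_apply_left, h]
    by_cases hzb : z = b
    · rw [hzb, Equiv.swap_apply_right, h]
    rw [Equiv.swap_apply_of_ne_of_ne hza hzb]
  · right
    refine ⟨h, ?_⟩
    rw [ht s hs, ← L.mul]
    congr 1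
    ext z
    rw [Finset.mem_map_equiv, Equiv.symm_swap, Finset.mem_symmDiff, Finset.mem_insert, Finset.mem_singleton]
    by_cases hza : z = a
    · rw [hza, Equiv.swap_apply_left]
      simp only [true_or, not_true_eq_false, and_false, false_or, true_and]
      tauto
    by_cases hzb : z = b
    · rw [hzb, Equiv.swap_apply_right]
      simp only [or_true, not_true_eq_false, and_false, false_or, true_and]
      tauto
    rw [Equiv.swap_apply_of_ne_of_ne hza hzb]
    simp [hza, hzb]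

/-- a permutation with a fixed letter which acts as a transvection is a transposition -/
theorem tv_perm {t c : G} {σ : Equiv.Perm Ω} (ht : Rel φ t σ)
    (hT : ∀ v ∈ V, t * v * t⁻¹ = v ∨ t * v * t⁻¹ = v * c) {q : Ω} (hq : σ q = q) (hσ : σ ≠ 1) :
    ∃ a b, a ≠ b ∧ σ = Equiv.swap a b ∧ c = φ {a, b} := by
  obtain ⟨a, ha⟩ : ∃ a, σ a ≠ a := by
    by_contra hcon
    push Not at hcon
    exact hσ (Equiv.ext hcon)
  obtain ⟨b, hb⟩ : ∃ b, σ a = b := ⟨_, rfl⟩
  rw [hb] at ha
  have hqa : q ≠ a := by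
    rintro rfl
    exact ha (hb.symm.trans hq)
  have hqb : q ≠ b := by
    rintro rfl
    exact hqa (σ.injective (hq.trans hb.symm))
  have hc : c = φ {a, b} := by
    have e1 := L.pair ht hqa.symm
    rw [hb, hq] at e1
    rcases hT _ (pair_mem L hqa.symm) with h | h
    · exfalso
      rw [e1] at h
      have h1 := pair_inj L hqb.symm hqa.symm h
      have h2 : b ∈ ({a, q} : Finset Ω) := by rw [← h1]; simp
      simp only [Finset.mem_insert, Finset.mem_singleton] at h2
      exact h2.elim ha fun h => hqb h.symm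
    · rw [e1] at h
      have h1 : c = φ {a, q} * φ {b, q} := by
        rw [h, ← mul_assoc, L.phi_sq, one_mul]
      rw [h1, ← L.mul]
      congr 1
      ext z
      simp only [Finset.mem_symmDiff, Finset.mem_insert, Finset.mem_singleton]
      by_cases hzq : z = q
      · subst hzq
        simp [hqa, hqb]
      · simp only [hzq, or_false]
        by_cases hza : z = a
        · subst hza
          simp [Ne.symm ha]
        · simp [hza]
  have hfix : ∀ z, z ≠ a → z ≠ b → σ z = z := by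
    intro z hza hzb
    have e1 := L.pair ht hza.symm
    rw [hb] at e1
    have hbz : b ≠ σ z := fun h => hza (σ.injective (h.symm.trans hb.symm))
    have h1 : ({b, σ z} : Finset Ω) = {z, b} := by
      rcases hT _ (pair_mem L hza.symm) with h | h
      · exfalso
        rw [e1] at h
        have h1 := pair_inj L hbz hza.symm h
        have h2 : b ∈ ({a, z} : Finset Ω) := by rw [← h1]; simp
        simp only [Finset.mem_insert, Finset.mem_singleton] at h2
        exact h2.elim ha fun h => hzb h.symm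
      · refine pair_inj L hbz hzb ?_
        rw [← e1, h, hc, ← L.mul]
        congr 1
        ext u
        simp only [Finset.mem_symmDiff, Finset.mem_insert, Finset.mem_singleton]
        by_cases hua : u = a
        · subst hua
          simp [Ne.symm hza, Ne.symm ha]
        · simp only [hua, false_or]
          by_cases huz : u = z
          · subst huz
            simp [hzb]
          · simp [huz]
    have h2 : σ z ∈ ({z, b} : Finset Ω) := by rw [← h1]; simp
    simp only [Finset.mem_insert, Finset.mem_singleton] at h2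
    exact h2.elim id fun h => absurd h.symm hbz
  have hσb : σ b = a := by
    by_contra hne
    have h1 : σ b ≠ b := fun h => ha (σ.injective (h.trans hb.symm))
    exact h1 (σ.injective (hfix _ hne h1))
  refine ⟨a, b, Ne.symm ha, ?_, hc⟩
  ext z
  by_cases hza : z = a
  · rw [hza, Equiv.swap_apply_left, hb]
  by_cases hzb : z = b
  · rw [hzb, Equiv.swap_apply_right, hσb]
  rw [Equiv.swap_apply_of_ne_of_ne hza hzb, hfix z hza hzb]

theorem rel_norm [Finite G] {g : G} {σ : Equiv.Perm Ω} (h : Rel φ g σ) : g ∈ normalizer (V : Set G) := by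
  refine mem_normalizer_fintype fun v hv => ?_
  obtain ⟨s, hs, rfl⟩ := (L.mem v).1 hv
  rw [h s hs]
  exact phi_mem L (by rwa [Finset.card_map])

include h3

/-- the image of a Sylow subgroup -/
theorem exists_perm_syl [Finite G] (hTR : T ≤ R) (hT : IsPGroup 2 T)
    (hsyl : ∀ Q : Subgroup G, Q ≤ R → IsPGroup 2 Q → T ≤ Q → Q = T) :
    ∃ P : Sylow 2 (Equiv.Perm Ω), (P : Subgroup (Equiv.Perm Ω)) = PermS φ T := by
  obtain ⟨F, hF⟩ := Blk.exists_hom L h3 (le_refl R)
  have hT2 : IsPGroup 2 (T.subgroupOf R) := hT.comap_of_injective R.subtype R.subtype_injective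
  let PT : Sylow 2 R :=
    { toSubgroup := T.subgroupOf R
      isPGroup' := hT2
      is_maximal' := fun {Q} hQ hle => by
        have h1 : Q.map R.subtype = T := by
          refine hsyl _ (map_subtype_le Q) (hQ.map R.subtype) fun t ht => ?_
          exact ⟨⟨t, hTR ht⟩, hle (show (⟨t, hTR ht⟩ : R) ∈ T.subgroupOf R from ht), rfl⟩
        rw [← comap_map_eq_self_of_injective R.subtype_injective Q, h1]
        rfl }
  have hs : Function.Surjective F := by
    intro σ
    obtain ⟨g, hg, h⟩ := L.all σ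
    exact ⟨⟨g, hg⟩, (L.unique h3 h (hF ⟨g, hg⟩)).symm⟩
  have : Fact (Nat.Prime 2) := ⟨Nat.prime_two⟩
  refine ⟨PT.mapSurjective hs, ?_⟩
  rw [Sylow.coe_mapSurjective]
  ext σ
  constructor
  · rintro ⟨t, ht, rfl⟩
    exact ⟨t, ht, hF t⟩
  · rintro ⟨t, ht, h⟩
    exact ⟨⟨t, hTR ht⟩, ht, (L.unique h3 h (hF ⟨t, hTR ht⟩)).symm⟩

/-- **Kind** : an element of odd order which normalises `V` and the image of `T` centralises `V`. -/
theorem kind [Finite G] (hTR : T ≤ R) (hT : IsPGroup 2 T)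
    (hsyl : ∀ Q : Subgroup G, Q ≤ R → IsPGroup 2 Q → T ≤ Q → Q = T) {d : G} (hodd : Odd (orderOf d))
    (hV : d ∈ normalizer (V : Set G))
    (hd : d ∈ normalizer ((T ⊔ centralizer (V : Set G) : Subgroup G) : Set G)) :
    d ∈ centralizer (V : Set G) := by
  obtain ⟨r, hr⟩ := L.odd
  obtain ⟨P, hP⟩ := exists_perm_syl L h3 hTR hT hsyl
  obtain ⟨x, y, p, hp⟩ := exists_pairs P hr
  obtain ⟨f, hf⟩ := exists_pi hp P.isPGroup'
  obtain ⟨Q, hQ⟩ := exists_syl_pi P hr hp hf
  have ht : ∀ i, ∃ t ∈ T, Rel φ t (Equiv.swap (x i) (y i)) := fun i => by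
    have := hp.sw i
    rw [hP] at this
    exact this
  choose t htT htr using ht
  have hTV : T ≤ normalizer (V : Set G) := fun g hg => by
    obtain ⟨σ, hσ⟩ := L.act g (hTR hg)
    exact rel_norm L hσ
  have hVC : normalizer (V : Set G) ≤ normalizer ((centralizer (V : Set G) : Subgroup G) : Set G) := by
    intro g hg
    refine mem_normalizer_fintype fun k hk => ?_
    rw [SetLike.mem_coe, mem_centralizer_iff]
    intro v hv
    have h1 : g⁻¹ * v * g ∈ V := by
      have := (mem_normalizer_iff.1 (inv_mem hg) v).1 hv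
      rwa [inv_inv] at this
    have h2 := mem_centralizer_iff.1 hk _ h1
    calc v * (g * k * g⁻¹) = g * ((g⁻¹ * v * g) * k) * g⁻¹ := by group
      _ = g * (k * (g⁻¹ * v * g)) * g⁻¹ := by rw [h2]
      _ = g * k * g⁻¹ * v := by group
  -- elements of `T ⊔ C(V)`
  have hex : ∀ g ∈ T, ∃ t' ∈ T, ∃ σ : Equiv.Perm Ω, σ ∈ P ∧ Rel φ t' σ ∧
      ∀ w ∈ V, d * g * d⁻¹ * w * (d * g * d⁻¹)⁻¹ = t' * w * t'⁻¹ := by
    intro g hg
    have h1 : d * g * d⁻¹ ∈ T ⊔ centralizer (V : Set G) :=
      (mem_normalizer_iff.1 hd g).1 ((le_sup_left : T ≤ T ⊔ centralizer (V : Set G)) hg)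
    obtain ⟨t', ht', k, hk, e⟩ := Blk.mem_sup_of (hTV.trans hVC) h1
    obtain ⟨σ, hσ⟩ := L.act t' (hTR ht')
    refine ⟨t', ht', σ, ?_, hσ, fun w hw => ?_⟩
    · have h2 : σ ∈ PermS φ T := ⟨t', ht', hσ⟩
      rwa [← hP] at h2
    · rw [e]
      have h2 := Blk.cent hk hw
      calc t' * k * w * (t' * k)⁻¹ = t' * (k * w * k⁻¹) * t'⁻¹ := by group
        _ = t' * w * t'⁻¹ := by rw [h2]
  have hdV : ∀ v ∈ V, d * v * d⁻¹ ∈ V := fun v hv => (mem_normalizer_iff.1 hV v).1 hv
  have hdV' : ∀ v ∈ V, d⁻¹ * v * d ∈ V := fun v hv => by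
    have := (mem_normalizer_iff.1 (inv_mem hV) v).1 hv
    rwa [inv_inv] at this
  -- the transvections
  have key : ∀ i, ∃ j, d * φ {x i, y i} * d⁻¹ = φ {x j, y j} ∧
      ∀ w ∈ V, d * t i * d⁻¹ * w * (d * t i * d⁻¹)⁻¹ = t j * w * (t j)⁻¹ := by
    intro i
    obtain ⟨t', ht', σ, hσP, hσ, h1⟩ := hex (t i) (htT i)
    have h2 : ∀ w ∈ V, t' * w * t'⁻¹ = w ∨ t' * w * t'⁻¹ = w * (d * φ {x i, y i} * d⁻¹) := by
      intro w hw
      rw [← h1 w hw]
      obtain ⟨s, hs, hs'⟩ := (L.mem _).1 (hdV' w hw)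
      have e : d * t i * d⁻¹ * w * (d * t i * d⁻¹)⁻¹ = d * (t i * (d⁻¹ * w * d) * (t i)⁻¹) * d⁻¹ := by group
      rcases rel_swap L (hp.ne i) (htr i) hs with ⟨-, h⟩ | ⟨-, h⟩
      · left
        rw [e, ← hs', h, hs']; group
      · right
        rw [e, ← hs', h, hs']; group
    have hσ1 : σ ≠ 1 := by
      rintro rfl
      have h4 : Rel φ (t i) 1 := by
        intro s hs
        have h5 := hdV _ (phi_mem L hs)
        have h6 := h1 _ h5
        obtain ⟨s', hs', e'⟩ := (L.mem _).1 h5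
        have h7 := hσ s' hs'
        have e1 : (1 : Equiv.Perm Ω).toEmbedding = Function.Embedding.refl Ω := by
          ext x
          simp
        rw [e1, Finset.map_refl] at h7 ⊢
        rw [e'] at h7
        rw [h7] at h6
        have e2 : d * t i * d⁻¹ * (d * φ s * d⁻¹) * (d * t i * d⁻¹)⁻¹ = d * (t i * φ s * (t i)⁻¹) * d⁻¹ := by group
        rw [e2] at h6
        exact mul_left_cancel (mul_right_cancel h6)
      have h5 := L.unique h3 h4 (htr i)
      have h6 := congrArg (fun e : Equiv.Perm Ω => e (x i)) h5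
      simp only [Equiv.Perm.one_apply, Equiv.swap_apply_left] at h6
      exact hp.ne i h6
    obtain ⟨a, b, hab, rfl, hc⟩ := tv_perm L hσ h2 (fix_p hp P.isPGroup' hσP) hσ1
    obtain ⟨j, hj⟩ := uniq hp P.isPGroup' hab hσP
    have e1 : ({a, b} : Finset Ω) = {x j, y j} := by
      rcases hj with ⟨rfl, rfl⟩ | ⟨rfl, rfl⟩
      · rfl
      · rw [Finset.pair_comm]
    have e2 : Equiv.swap a b = Equiv.swap (x j) (y j) := by
      rcases hj with ⟨rfl, rfl⟩ | ⟨rfl, rfl⟩
      · rfl
      · rw [Equiv.swap_comm]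
    refine ⟨j, by rw [hc, e1], fun w hw => ?_⟩
    rw [h1 w hw]
    rw [e2] at hσ
    exact Blk.Rel.eq_of L hσ (htr j) hw
  choose δ hδ hδt using key
  have hcinj : ∀ i j, φ {x i, y i} = φ {x j, y j} → i = j := by
    intro i j h
    by_contra hij
    have h1 := pair_inj L (hp.ne i) (hp.ne j) h
    have h2 : x i ∈ ({x j, y j} : Finset Ω) := by rw [← h1]; simp
    simp only [Finset.mem_insert, Finset.mem_singleton] at h2
    obtain ⟨i1, i2, i3, i4⟩ := hp.inj i j hij
    exact h2.elim i1 i2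
  have hδinj : Function.Injective δ := by
    intro i j h
    apply hcinj
    have h1 := (hδ i).trans ((congrArg (fun k => φ {x k, y k}) h).trans (hδ j).symm)
    exact mul_left_cancel (mul_right_cancel h1)
  let D : Equiv.Perm (Fin r) := Equiv.ofBijective δ (Finite.injective_iff_bijective.1 hδinj)
  have hD : ∀ i, d * φ {x i, y i} * d⁻¹ = φ {x (D i), y (D i)} := hδ
  -- permutations of the pairs
  have hmv : ∀ (σ : P) (g : G), Rel φ g σ → ∀ i, g * φ {x i, y i} * g⁻¹ = φ {x (f σ i), y (f σ i)} := by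
    intro σ g hg i
    rw [L.pair hg (hp.ne i)]
    rcases hf σ i with ⟨h1, h2⟩ | ⟨h1, h2⟩
    · rw [h1, h2]
    · rw [h1, h2, Finset.pair_comm]
  have hDQ : D ∈ normalizer ((Q : Subgroup (Equiv.Perm (Fin r))) : Set (Equiv.Perm (Fin r))) := by
    refine mem_normalizer_fintype fun q hq => ?_
    rw [SetLike.mem_coe] at hq ⊢
    rw [hQ] at hq ⊢
    obtain ⟨σ, rfl⟩ := hq
    have h1 : (σ : Equiv.Perm Ω) ∈ PermS φ T := by
      rw [← hP]; exact σ.2
    obtain ⟨g, hg, hgσ⟩ := h1
    obtain ⟨t', ht', σ', hσP, hσ', h2⟩ := hex g hg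
    refine ⟨⟨σ', hσP⟩, ?_⟩
    rw [eq_mul_inv_iff_mul_eq]
    ext1 i
    rw [Equiv.Perm.mul_apply, Equiv.Perm.mul_apply]
    apply hcinj
    rw [← hmv ⟨σ', hσP⟩ t' hσ', ← hD i, ← h2 _ (hdV _ (pair_mem L (hp.ne i))), ← hD, ← hmv σ g hgσ]
    group
  have hD1 : D = 1 := by
    have h1 : D ∈ (Q : Subgroup (Equiv.Perm (Fin r))) := SymSyl.norm_le Q hDQ
    obtain ⟨k, hk⟩ := Q.isPGroup' ⟨D, h1⟩
    have h2 : D ^ 2 ^ k = 1 := congrArg Subtype.val hk
    have h4 : ∀ n : ℕ, ∀ i, d ^ n * φ {x i, y i} * (d ^ n)⁻¹ = φ {x ((D ^ n) i), y ((D ^ n) i)} := by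
      intro n
      induction n with
      | zero => intro i; simp
      | succ n ih =>
        intro i
        have e : d ^ (n + 1) * φ {x i, y i} * (d ^ (n + 1))⁻¹ = d ^ n * (d * φ {x i, y i} * d⁻¹) * (d ^ n)⁻¹ := by
          rw [pow_succ]; group
        rw [e, hD, ih, pow_succ, Equiv.Perm.mul_apply]
    have h5 : D ^ orderOf d = 1 := by
      ext1 i
      apply hcinj
      rw [← h4, pow_orderOf_eq_one]
      simp
    have h6 := orderOf_dvd_of_pow_eq_one h2
    have h7 := orderOf_dvd_of_pow_eq_one h5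
    have h8 : Nat.Coprime (2 ^ k) (orderOf d) := Nat.Coprime.pow_left _ (Nat.coprime_two_left.2 hodd)
    exact orderOf_eq_one_iff.1 (Nat.eq_one_of_dvd_coprimes h8 h6 h7)
  have hc1 : ∀ i, d * φ {x i, y i} * d⁻¹ = φ {x i, y i} := fun i => by
    have := hD i
    rw [hD1] at this
    exact this
  have ht1 : ∀ i, ∀ w ∈ V, d * t i * d⁻¹ * w * (d * t i * d⁻¹)⁻¹ = t i * w * (t i)⁻¹ := fun i => by
    have h1 : δ i = i := congrArg (fun e : Equiv.Perm (Fin r) => e i) hD1
    have := hδt i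
    rwa [h1] at this
  -- the fixed vectors of the transvections
  have hW : ∀ n : ℕ, ∀ s : Finset Ω, s.card = n → Even s.card → (∀ i, x i ∈ s ↔ y i ∈ s) → d * φ s * d⁻¹ = φ s := by
    intro n
    induction n using Nat.strong_induction_on with
    | _ n ih =>
      intro s hn hs hxy
      by_cases h0 : ∃ a ∈ s, a ≠ p
      · obtain ⟨a, ha, hap⟩ := h0
        obtain ⟨i, hi⟩ := hp.cov a hap
        have hx : x i ∈ s := by
          rcases hi with rfl | rfl
          · exact ha
          · exact (hxy i).2 ha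
        have hy : y i ∈ s := (hxy i).1 hx
        have hy' : y i ∈ s.erase (x i) := Finset.mem_erase.2 ⟨(hp.ne i).symm, hy⟩
        have hcard : ((s.erase (x i)).erase (y i)).card + 2 = s.card := by
          rw [Finset.card_erase_of_mem hy', Finset.card_erase_of_mem hx]
          have h1 : 0 < (s.erase (x i)).card := Finset.card_pos.2 ⟨_, hy'⟩
          rw [Finset.card_erase_of_mem hx] at h1
          omega
        have hev : Even ((s.erase (x i)).erase (y i)).card := by
          rw [← hcard, Nat.even_add] at hs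
          exact hs.2 even_two
        have h1 := ih _ (by omega) ((s.erase (x i)).erase (y i)) rfl hev fun j => by
          by_cases hij : i = j
          · subst hij
            simp
          · obtain ⟨i1, i2, i3, i4⟩ := hp.inj i j hij
            simp only [Finset.mem_erase]
            exact ⟨fun h => ⟨i4.symm, i2.symm, (hxy j).1 h.2.2⟩, fun h => ⟨i3.symm, i1.symm, (hxy j).2 h.2.2⟩⟩
        have h2 : φ s = φ ((s.erase (x i)).erase (y i)) * φ {x i, y i} := by
          rw [← L.mul]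
          congr 1
          ext z
          rw [Finset.mem_symmDiff, Finset.mem_insert, Finset.mem_singleton, Finset.mem_erase, Finset.mem_erase]
          constructor
          · intro h
            by_cases hzx : z = x i
            · exact Or.inr ⟨Or.inl hzx, fun h' => h'.2.1 hzx⟩
            · by_cases hzy : z = y i
              · exact Or.inr ⟨Or.inr hzy, fun h' => h'.1 hzy⟩
              · exact Or.inl ⟨⟨hzy, hzx, h⟩, fun h' => h'.elim hzx hzy⟩
          · rintro (⟨h, -⟩ | ⟨h | h, -⟩)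
            · exact h.2.2
            · rw [h]; exact hx
            · rw [h]; exact hy
        calc d * φ s * d⁻¹ = (d * φ ((s.erase (x i)).erase (y i)) * d⁻¹) * (d * φ {x i, y i} * d⁻¹) := by
              rw [h2]; group
          _ = φ s := by rw [h1, hc1, ← h2]
      · push Not at h0
        have h1 : s.card ≤ 1 := Finset.card_le_one.2 fun a ha b hb => (h0 a ha).trans (h0 b hb).symm
        have h2 : s = ∅ := by
          rw [← Finset.card_eq_zero]
          rcases Nat.le_one_iff_eq_zero_or_eq_one.1 h1 with h | h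
          · exact h
          · rw [h] at hs
            exact absurd hs (by decide)
        rw [h2, L.phi_empty]
        group
  have hd2 : ∀ v ∈ V, d ^ 2 * v * (d ^ 2)⁻¹ = v := by
    intro v hv
    have hu : d * v * d⁻¹ * v⁻¹ ∈ V := mul_mem (hdV v hv) (inv_mem hv)
    obtain ⟨s, hs, hsu⟩ := (L.mem _).1 hu
    have h1 : ∀ i, x i ∈ s ↔ y i ∈ s := by
      intro i
      obtain ⟨s', hs', rfl⟩ := (L.mem _).1 hv
      have h2 : t i * (d * φ s' * d⁻¹) * (t i)⁻¹ = d * (t i * φ s' * (t i)⁻¹) * d⁻¹ := by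
        rw [← ht1 i _ (hdV _ hv)]
        group
      have h4 : t i * φ s * (t i)⁻¹ = φ s := by
        rw [hsu]
        have e : t i * (d * φ s' * d⁻¹ * (φ s')⁻¹) * (t i)⁻¹ =
          (t i * (d * φ s' * d⁻¹) * (t i)⁻¹) * (t i * φ s' * (t i)⁻¹)⁻¹ := by group
        rw [e, h2]
        rcases rel_swap L (hp.ne i) (htr i) hs' with ⟨-, h⟩ | ⟨-, h⟩
        · rw [h]
        · rw [h]
          have e2 : d * (φ s' * φ {x i, y i}) * d⁻¹ = d * φ s' * d⁻¹ * (d * φ {x i, y i} * d⁻¹) := by group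
          rw [e2, hc1]
          group
      rcases rel_swap L (hp.ne i) (htr i) hs with ⟨h, -⟩ | ⟨-, h⟩
      · exact h
      · exfalso
        rw [h4] at h
        have h5 : φ {x i, y i} = 1 := (mul_eq_left.1 h.symm)
        have h6 := L.inj _ (by rw [Finset.card_pair (hp.ne i)]; exact even_two) h5
        have h7 : x i ∈ ({x i, y i} : Finset Ω) := by simp
        rw [h6] at h7
        simp at h7
    have h2 := hW _ s rfl hs h1
    have h4 : φ s * φ s = 1 := L.phi_sq s
    have h5 : d * v * d⁻¹ = φ s * v := by rw [hsu]; group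
    calc d ^ 2 * v * (d ^ 2)⁻¹ = d * (d * v * d⁻¹) * d⁻¹ := by rw [pow_two]; group
      _ = d * (φ s * v) * d⁻¹ := by rw [h5]
      _ = (d * φ s * d⁻¹) * (d * v * d⁻¹) := by group
      _ = v := by rw [h2, h5, ← mul_assoc, h4, one_mul]
  have hd2' : d ^ 2 ∈ centralizer (V : Set G) := by
    rw [mem_centralizer_iff]
    intro v hv
    have := hd2 v hv
    rw [mul_inv_eq_iff_eq_mul] at this
    exact this.symm
  obtain ⟨k, hk⟩ := hodd
  have h1 : (d ^ 2) ^ (k + 1) = d := by
    rw [← pow_mul, show 2 * (k + 1) = orderOf d + 1 by omega, pow_succ, pow_orderOf_eq_one, one_mul]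
  rw [← h1]
  exact pow_mem hd2' _

end letters

section full

open Cfsg.Agent.Omega.NOThreeL.RRed.TvFin
open Cfsg.Agent.Omega.NOThreeL.RRed.Blk (Dec)

variable {G : Type u} [Group G] [Finite G] {S : Sylow 2 G} {M V : Subgroup G} {I : Type u} {N E : I → Subgroup G}
  {R₀ : Subgroup G} {Om : I → Type u} [∀ i, Fintype (Om i)] [∀ i, DecidableEq (Om i)] {phi : ∀ i, Finset (Om i) → G}

theorem conj_sub (h : Dec (S : Subgroup G) M V N E R₀) (b : I) {Q : Subgroup G} (hQ : Q ≤ E b) (h2 : IsPGroup 2 Q) :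
    ∃ e ∈ E b, ∀ q ∈ Q, e * q * e⁻¹ ∈ (S : Subgroup G) ⊓ E b :=
  Blk.exists_conj_sub S h.SL (iSup_le h.EL) h.iSup_normal (le_iSup E b) (h.E_normal b) hQ h2

/-- `S ⊓ E b` is a Sylow 2-subgroup of `E b` -/
theorem syl (h : Dec (S : Subgroup G) M V N E R₀) (b : I) : ∀ Q : Subgroup G, Q ≤ E b → IsPGroup 2 Q →
    (S : Subgroup G) ⊓ E b ≤ Q → Q = (S : Subgroup G) ⊓ E b := by
  intro Q hQ h2 hle
  obtain ⟨e, -, he⟩ := conj_sub h b hQ h2
  have h1 : MulAut.conj e • Q ≤ (S : Subgroup G) ⊓ E b := by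
    rintro _ ⟨q, hq, rfl⟩
    exact he q hq
  have h3 := Subgroup.card_le_of_le h1
  have h4 : Nat.card (MulAut.conj e • Q : Subgroup G) = Nat.card Q :=
    Nat.card_congr (Subgroup.equivSMul (MulAut.conj e) Q).symm.toEquiv
  rw [h4] at h3
  exact (Subgroup.eq_of_le_of_card_ge hle h3).symm

variable (F : Full (S : Subgroup G) M V N E R₀ Om phi)
include F

/-- the blocks of letters are irreducible -/
theorem irr (b : I) : ∀ W : Subgroup G, W ≤ N b → E b ≤ normalizer (W : Set G) → W ≠ ⊥ → N b ≤ W :=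
  fun _ hW hn hne => Blk.le_of_inv (F.lett b) (F.three b) hW hn hne

/-- `S ⊓ E b` moves `N b` -/
theorem mv (b : I) : ¬ (S : Subgroup G) ⊓ E b ≤ centralizer (N b : Set G) := by
  intro h
  obtain ⟨t, ht, x, y, hxy, hrel⟩ := Blk.exists_swap (F.lett b) (F.three b) fun Q hQ h2 => conj_sub F.toDec b hQ h2
  have h1 := (F.lett b).unique (F.three b) (Blk.Rel.cent (F.lett b) (h ht)) hrel
  have h2 := congrArg (fun e : Equiv.Perm (Om b) => e x) h1
  simp only [Equiv.Perm.one_apply, Equiv.swap_apply_left] at h2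
  exact hxy h2

/-- **`Kind` for the blocks of letters.** -/
theorem kind_full (b : I) {d : G} (hodd : Odd (orderOf d)) (hN : d ∈ normalizer (N b : Set G))
    (hd : d ∈ normalizer ((((S : Subgroup G) ⊓ E b) ⊔ centralizer (N b : Set G) : Subgroup G) : Set G)) :
    d ∈ centralizer (N b : Set G) :=
  kind (F.lett b) (F.three b) inf_le_right (S.isPGroup'.to_le inf_le_left) (syl F.toDec b) hodd hN hd

/-- `BadE.Sml S (N b) (E b)` (helper885), unfolded. -/
theorem sml (b : I) : ∀ d : G, Odd (orderOf d) → d ∈ normalizer (N b : Set G) → d ∈ normalizer (E b : Set G) →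
    d ∈ normalizer ((((S : Subgroup G) ⊓ E b) ⊔ centralizer (N b : Set G) : Subgroup G) : Set G) →
    (∀ s ∈ (S : Subgroup G) ⊓ E b, ∀ w ∈ N b, Commute (s * d * s⁻¹ * d⁻¹) (d * w * d⁻¹ * w⁻¹)) →
    d ∈ centralizer (N b : Set G) :=
  fun _ hodd hN _ hd _ => kind_full F b hodd hN hd

end full

end Cfsg.Agent.Omega.NOThreeL.RRed.TvKindT
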