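import Cfsg.Agent.Omega.NOThreeL.RRed.FsOf
import Cfsg.Agent.Omega.NOThreeL.RRed.LemmaE
import Cfsg.Agent.Omega.NOThreeL.RRed.TvKindT
import Cfsg.Agent.Omega.NOThreeL.RRed.TvTr
import Cfsg.Agent.Omega.NOThreeL.RRed.Blk.AsmHn

/-!
# Box R: `HBad` for natural blocks and blocks of letters, any mixture (#27311, #27325, #26668)

* `Kd S N b A` : `A ≤ S` moves `N b`, centralises the other blocks, and the conclusion of LEMMA E for `b`;
* `kd_nat` : natural blocks (from 863's `LemmaE.mem_cent`); `kd_let` : blocks of letters (from 556's `kind_full`);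
* **`hBad_of`** : `Dec`, `Orbs`, `N_G(S)` permutes the `N b`, `∀ b, ∃ A, Kd S N b A` imply `HBad S N O`.
-/

set_option autoImplicit false
set_option linter.unusedSectionVars false

namespace Cfsg.Agent.Omega.NOThreeL.RRed.HBadOf

open Subgroup Cfsg Cfsg.Agent.ZN
open Cfsg.Agent.Omega.NOThreeL.Merge (MZ)
open Cfsg.Agent.Omega.NOThreeL.RRed.Blk (Dec Co IsC FSup InvJ PermS mem_PermS conj_of conj_smul mem_sup_of)
open Cfsg.Agent.Omega.NOThreeL.RRed.WideTree (BadG QQ)
open Cfsg.Agent.Omega.NOThreeL.RRed.FullSup (HBad)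
open Cfsg.Agent.Omega.NOThreeL.RRed.LemmaE (Up)
open Cfsg.Agent.Omega.NOThreeL.RRed.TvFin (Full)
open Cfsg.Agent.Omega.NOThreeL.RZ.TwoC.DecE (Orbs)
open Cfsg.Agent.Omega.KL.TwoS (Rel Lett Mx)
open scoped Pointwise

universe u v

variable {G : Type u} [Group G] {ι : Type v}

/-- LEMMA E for the block `b` -/
structure Kd (S : Subgroup G) (N : ι → Subgroup G) (b : ι) (A : Subgroup G) : Prop where
  le : A ≤ S
  nor : A ≤ normalizer (N b : Set G)
  oth : ∀ c, c ≠ b → A ≤ centralizer (N c : Set G)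
  mv : ¬ A ≤ centralizer (N b : Set G)
  kd : ∀ T ≤ S, A ≤ T → ∀ d : G, Odd (orderOf d) → d ∈ normalizer (N b : Set G) → d ∈ normalizer (Wd S : Set G) →
    d ∈ normalizer (T : Set G) → (∃ z ∈ N b, z ≠ 1 ∧ (∀ a ∈ A, a * z * a⁻¹ = z) ∧ d * z * d⁻¹ = z) →
    (∀ a ∈ A, ∀ w ∈ N b, (a * d * a⁻¹ * d⁻¹) * (d * w * d⁻¹ * w⁻¹) = (d * w * d⁻¹ * w⁻¹) * (a * d * a⁻¹ * d⁻¹)) →
    d ∈ centralizer (N b : Set G)

/-- **natural blocks** -/
theorem kd_nat [Finite G] {S : Subgroup G} {N : ι → Subgroup G} {b : ι} {A : Subgroup G} {F : Type} [Field F] [CharP F 2]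
    {e : G → Fin 2 → F} (mul : ∀ v ∈ N b, ∀ w ∈ N b, e (v * w) = e v + e w) (inj : ∀ v ∈ N b, e v = 0 → v = 1)
    (sur : ∀ x, ∃ v ∈ N b, e v = x) (le : A ≤ S) (nor : A ≤ normalizer (N b : Set G))
    (oth : ∀ c, c ≠ b → A ≤ centralizer (N c : Set G)) (all : ∀ β, ∃ a ∈ A, Up (N b) e a β) (mx : Mx (Wd S) A)
    (rt : ∀ A' ≤ S, Mx (Wd S) A' → ¬ A' ≤ centralizer (N b : Set G) → ∀ a ∈ A', ∃ β, Up (N b) e a β) :
    Kd S N b A where
  le := le
  nor := nor
  oth := oth
  mv h := by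
    obtain ⟨a, ha, hup⟩ := all 1
    obtain ⟨w, hw, hw'⟩ := sur ![0, 1]
    have h1 := congrFun (hup w hw) 0
    rw [← mem_centralizer_iff.1 (h ha) w hw, mul_inv_cancel_right, hw'] at h1
    simp at h1
  kd := by
    rintro T hT hAT d hodd hN hV hdT ⟨z, hz, hz1, hzA, hzd⟩ hcomm
    refine LemmaE.mem_cent mul inj sur nor all hN ?_ hodd hz hz1 hzd hzA hcomm
    intro a ha
    have hmv : ¬ A ≤ centralizer (N b : Set G) := by
      intro h
      obtain ⟨a, ha, hup⟩ := all 1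
      obtain ⟨w, hw, hw'⟩ := sur ![0, 1]
      have h1 := congrFun (hup w hw) 0
      rw [← mem_centralizer_iff.1 (h ha) w hw, mul_inv_cancel_right, hw'] at h1
      simp at h1
    have hle : MulAut.conj d • A ≤ S := by
      rintro _ ⟨x, hx, rfl⟩
      exact hT (conj_of hdT (hAT hx))
    refine rt _ hle ?_ (fun h1 => hmv ?_) (d * a * d⁻¹) ⟨a, ha, rfl⟩
    · exact CI.mx_conj mx hV
    · intro x hx
      rw [mem_centralizer_iff]
      intro w hw
      have h2 := mem_centralizer_iff.1 (h1 ⟨x, hx, rfl⟩) _ (conj_of hN hw)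
      have h3 : d * (w * x) * d⁻¹ = d * (x * w) * d⁻¹ := by
        calc d * (w * x) * d⁻¹ = (d * w * d⁻¹) * (d * x * d⁻¹) := by group
          _ = (d * x * d⁻¹) * (d * w * d⁻¹) := h2
          _ = d * (x * w) * d⁻¹ := by group
      exact mul_left_cancel (mul_right_cancel h3)

/-! ### Letters -/

section letters

variable [Finite G] {S : Sylow 2 G} {M V : Subgroup G} {I : Type u} {N E : I → Subgroup G} {R₀ : Subgroup G}
  {Om : I → Type u} [∀ i, Fintype (Om i)] [∀ i, DecidableEq (Om i)] {phi : ∀ i, Finset (Om i) → G}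
  (F : Full (S : Subgroup G) M V N E R₀ Om phi)
include F

/-- an element of `N_S(N b)` acts on `N b` as an element of `S ⊓ E b` -/
theorem inner_S (b : I) {s : G} (hs : s ∈ S) (hn : s ∈ normalizer (N b : Set G)) :
    ∃ t ∈ (S : Subgroup G) ⊓ E b, s * t⁻¹ ∈ centralizer (N b : Set G) := by
  have L := TvTr.lett_norm F b
  obtain ⟨P, hP⟩ := TvKindT.exists_perm_syl (F.lett b) (F.three b) (T := (S : Subgroup G) ⊓ E b) inf_le_right
    (S.isPGroup'.to_le inf_le_left) (TvKindT.syl F.toDec b)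
  have hT' : (S : Subgroup G) ⊓ normalizer (N b : Set G) ≤ M ⊓ normalizer (N b : Set G) :=
    inf_le_inf_right _ F.toDec.SL
  obtain ⟨f, hf⟩ := Blk.exists_hom L (F.three b) hT'
  have h2 : IsPGroup 2 (PermS (phi b) ((S : Subgroup G) ⊓ normalizer (N b : Set G))) := by
    have h3 : PermS (phi b) ((S : Subgroup G) ⊓ normalizer (N b : Set G)) = f.range := by
      ext σ
      constructor
      · rintro ⟨k, hk, hr⟩
        exact ⟨⟨k, hk⟩, (L.unique (F.three b) hr (hf ⟨k, hk⟩)).symm⟩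
      · rintro ⟨k, rfl⟩
        exact ⟨k, k.2, hf k⟩
    rw [h3]
    exact (S.isPGroup'.to_le inf_le_left : IsPGroup 2
      ((S : Subgroup G) ⊓ normalizer (N b : Set G) : Subgroup G)).of_surjective f.rangeRestrict
        f.rangeRestrict_surjective
  have hle : (P : Subgroup (Equiv.Perm (Om b))) ≤ PermS (phi b) ((S : Subgroup G) ⊓ normalizer (N b : Set G)) := by
    rw [hP]
    rintro σ ⟨k, hk, hr⟩
    exact ⟨k, mem_inf.2 ⟨hk.1, F.toDec.EN b hk.2⟩, hr⟩
  have heq := P.is_maximal' h2 hle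
  obtain ⟨σ, hσ⟩ := L.act s (hT' (mem_inf.2 ⟨hs, hn⟩))
  have hmem : σ ∈ PermS (phi b) ((S : Subgroup G) ⊓ E b) := by
    rw [← hP]
    show σ ∈ (P : Subgroup (Equiv.Perm (Om b)))
    have h4 : σ ∈ PermS (phi b) ((S : Subgroup G) ⊓ normalizer (N b : Set G)) := ⟨s, mem_inf.2 ⟨hs, hn⟩, hσ⟩
    rw [heq] at h4
    exact h4
  obtain ⟨t, ht, hr⟩ := hmem
  refine ⟨t, ht, ?_⟩
  rw [mem_centralizer_iff]
  intro w hw
  have htn : t ∈ normalizer (N b : Set G) := F.toDec.EN b ht.2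
  have h5 : t⁻¹ * w * t ∈ N b := by
    have := conj_of (inv_mem htn) hw
    rwa [inv_inv] at this
  have h6 := Blk.Rel.eq_of (F.lett b) hr hσ h5
  have h7 : w = s * (t⁻¹ * w * t) * s⁻¹ := by
    rw [← h6]; group
  calc w * (s * t⁻¹) = (s * (t⁻¹ * w * t) * s⁻¹) * (s * t⁻¹) := by rw [← h7]
    _ = s * t⁻¹ * w := by group

/-- **blocks of letters** -/
theorem kd_full (b : I) {T : Subgroup G} (hT : T ≤ S) (hAT : (S : Subgroup G) ⊓ E b ≤ T) {d : G}
    (hodd : Odd (orderOf d)) (hN : d ∈ normalizer (N b : Set G)) (hdT : d ∈ normalizer (T : Set G)) :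
    d ∈ centralizer (N b : Set G) := by
  refine TvKindT.kind_full F b hodd hN ?_
  have hC : ∀ g ∈ normalizer (N b : Set G), ∀ x ∈ centralizer (N b : Set G), g * x * g⁻¹ ∈ centralizer (N b : Set G) := by
    intro g hg x hx
    rw [mem_centralizer_iff]
    intro w hw
    have h1 := conj_of (inv_mem hg) hw
    rw [inv_inv] at h1
    have h2 := mem_centralizer_iff.1 hx _ h1
    calc w * (g * x * g⁻¹) = g * (g⁻¹ * w * g * x) * g⁻¹ := by group
      _ = g * (x * (g⁻¹ * w * g)) * g⁻¹ := by rw [h2]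
      _ = g * x * g⁻¹ * w := by group
  have key : ∀ g ∈ normalizer (N b : Set G), g ∈ normalizer (T : Set G) →
      ∀ x ∈ ((S : Subgroup G) ⊓ E b) ⊔ centralizer (N b : Set G),
        g * x * g⁻¹ ∈ ((S : Subgroup G) ⊓ E b) ⊔ centralizer (N b : Set G) := by
    intro g hgN hgT x hx
    have hle : (S : Subgroup G) ⊓ E b ≤ normalizer ((centralizer (N b : Set G) : Subgroup G) : Set G) := by
      intro y hy
      have hyN := F.toDec.EN b hy.2
      rw [mem_normalizer_iff]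
      refine fun w => ⟨fun hw => hC y hyN w hw, fun hw => ?_⟩
      have h1 := hC y⁻¹ (inv_mem hyN) _ hw
      have e : y⁻¹ * (y * w * y⁻¹) * y⁻¹⁻¹ = w := by group
      rwa [e] at h1
    obtain ⟨s, hs, c, hc, rfl⟩ := mem_sup_of hle hx
    have h1 : g * s * g⁻¹ ∈ T := conj_of hgT (hAT hs)
    have h2 : g * s * g⁻¹ ∈ normalizer (N b : Set G) :=
      mul_mem (mul_mem hgN (F.toDec.EN b hs.2)) (inv_mem hgN)
    obtain ⟨t, ht, h3⟩ := inner_S F b (hT h1) h2
    have e1 : g * (s * c) * g⁻¹ = (g * s * g⁻¹ * t⁻¹) * t * (g * c * g⁻¹) := by group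
    rw [e1]
    exact mul_mem (mul_mem (mem_sup_right h3) (mem_sup_left ht)) (mem_sup_right (hC g hgN c hc))
  rw [mem_normalizer_iff]
  refine fun x => ⟨fun hx => key d hN hdT x hx, fun hx => ?_⟩
  have h1 := key d⁻¹ (inv_mem hN) (inv_mem hdT) _ hx
  have e : d⁻¹ * (d * x * d⁻¹) * d⁻¹⁻¹ = x := by group
  rwa [e] at h1

/-- **blocks of letters** in a family `N'` which contains `N b` -/
theorem kd_let {N' : ι → Subgroup G} {b' : ι} (b : I) (hb : N' b' = N b)
    (oth : ∀ c, c ≠ b' → E b ≤ centralizer (N' c : Set G)) : Kd (S : Subgroup G) N' b' ((S : Subgroup G) ⊓ E b) where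
  le := inf_le_left
  nor := by rw [hb]; exact inf_le_right.trans (F.toDec.EN b)
  oth c hc := inf_le_right.trans (oth c hc)
  mv := by rw [hb]; exact TvKindT.mv F b
  kd := by
    intro T hT hAT d hodd hN _ hdT _ _
    rw [hb] at hN ⊢
    exact kd_full F b hT hAT hodd hN hdT

end letters

/-! ### `HBad` -/

/-- the inverse permutes the blocks too -/
theorem perm_inv [Finite ι] {N : ι → Subgroup G} (hinj : ∀ b c, N b = N c → b = c) {x : G}
    (hx : ∀ b, ∃ c, MulAut.conj x • N b = N c) (b : ι) : ∃ c, MulAut.conj x • N c = N b := by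
  choose f hf using hx
  have h1 : Function.Injective f := by
    intro a c hac
    have h2 := hf a
    rw [hac, ← hf c] at h2
    exact hinj _ _ (smul_left_cancel _ h2)
  obtain ⟨c, hc⟩ := (Finite.injective_iff_surjective.1 h1) b
  exact ⟨c, by rw [hf, hc]⟩

/-- the elements of `G` which permute the blocks -/
def PG [Finite ι] (N : ι → Subgroup G) (hinj : ∀ b c, N b = N c → b = c) : Subgroup G where
  carrier := {x | ∀ b, ∃ c, MulAut.conj x • N b = N c}
  one_mem' b := ⟨b, by rw [map_one, one_smul]⟩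
  mul_mem' := by
    intro x y hx hy b
    obtain ⟨c, hc⟩ := hy b
    obtain ⟨d, hd⟩ := hx c
    exact ⟨d, by rw [map_mul, mul_smul, hc, hd]⟩
  inv_mem' := by
    intro x hx b
    obtain ⟨c, hc⟩ := perm_inv hinj hx b
    exact ⟨c, by rw [map_inv, ← hc, inv_smul_smul]⟩

/-- **`HBad` from LEMMA E for every block** -/
theorem hBad_of [Finite G] {ι : Type u} [Finite ι] {S : Subgroup G} {N E : ι → Subgroup G} {O : ι → Set G}
    (h : Dec S (MZ S) (Wd S) N E ⊥) (one : ∀ b, (1 : G) ∉ O b)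
    (permN : ∀ n ∈ normalizer (S : Set G), ∀ b, ∃ c, MulAut.conj n • N b = N c) (hk : ∀ b, ∃ A, Kd S N b A) :
    HBad S N O := by
  intro J hJ z hz hzS R B hR hB d hd hodd hcomm
  have hQ := hd.2
  have hdz : d * z * d⁻¹ = z := by
    rw [mem_centralizer_singleton_iff.1 hd.1, mul_inv_cancel_right]
  have hdR : d ∈ normalizer (R : Set G) := hQ.1.1.2
  have hdB : d ∈ normalizer (B : Set G) := hQ.1.2
  have hdT : d ∈ normalizer ((S ⊓ centralizer (B : Set G) : Subgroup G) : Set G) := hQ.2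
  have hinj : ∀ b c, N b = N c → b = c := fun b c => h.Ninj
  have hdP : ∀ b, ∃ c, MulAut.conj d • N b = N c := by
    have h1 : MZ S ⊔ normalizer (S : Set G) ≤ PG N hinj := by
      refine sup_le (fun x hx b => ?_) fun x hx b => permN x hx b
      obtain ⟨c, hc, -⟩ := h.perm x hx b
      exact ⟨c, hc⟩
    exact h1 hQ.1.1.1
  have hsupW : R ⊔ B = Wd S := by
    rw [hR, hB, ← h.sup, sup_bot_eq]
    apply le_antisymm
    · exact sup_le (iSup_le fun b => le_iSup N b.1) (iSup_le fun b => le_iSup N b.1)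
    · refine iSup_le fun b => ?_
      by_cases hb : b ∈ J
      · exact (le_iSup (fun b : J => N b) ⟨b, hb⟩).trans le_sup_left
      · exact (le_iSup (fun b : {b // b ∉ J} => N b) ⟨b, hb⟩).trans le_sup_right
  have hdW : d ∈ normalizer (Wd S : Set G) := by
    have key : ∀ g : G, g ∈ normalizer (R : Set G) → g ∈ normalizer (B : Set G) → ∀ x ∈ Wd S, g * x * g⁻¹ ∈ Wd S := by
      intro g hgR hgB x hx
      rw [← hsupW] at hx ⊢
      have hRW : R ≤ Wd S := hsupW ▸ le_sup_left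
      have hBW : B ≤ Wd S := hsupW ▸ le_sup_right
      obtain ⟨r, hr, s, hs, rfl⟩ := mem_sup_of (h.nor hRW hBW) hx
      have e1 : g * (r * s) * g⁻¹ = (g * r * g⁻¹) * (g * s * g⁻¹) := by group
      rw [e1]
      exact mul_mem (mem_sup_left (conj_of hgR hr)) (mem_sup_right (conj_of hgB hs))
    rw [mem_normalizer_iff]
    refine fun x => ⟨fun hx => key d hdR hdB x hx, fun hx => ?_⟩
    have h1 := key d⁻¹ (inv_mem hdR) (inv_mem hdB) _ hx
    have e : d⁻¹ * (d * x * d⁻¹) * d⁻¹⁻¹ = x := by group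
    rwa [e] at h1
  -- every block
  have hall : ∀ b ∈ J, d ∈ centralizer (N b : Set G) := by
    intro b hb
    obtain ⟨A, K⟩ := hk b
    have hNR : N b ≤ R := by
      rw [hR]; exact le_iSup (fun b : J => N b) ⟨b, hb⟩
    have hAT : A ≤ S ⊓ centralizer (B : Set G) := by
      refine le_inf K.le ?_
      rw [hB, le_centralizer_iff]
      refine iSup_le fun c => ?_
      rw [le_centralizer_iff]
      exact K.oth c.1 fun e => c.2 (e ▸ hb)
    obtain ⟨c, hc⟩ := hdP b
    have hcb : c = b := by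
      by_contra hcb
      apply K.mv
      intro a ha
      rw [mem_centralizer_iff]
      intro w hw
      -- `d A d⁻¹` centralises `N b`
      have h1 : ∀ a' ∈ A, ∀ v ∈ N b, (d * a' * d⁻¹) * v * (d * a' * d⁻¹)⁻¹ = v := by
        intro a' ha' v hv
        obtain ⟨c', hc'⟩ := perm_inv hinj hdP b
        have hne : c' ≠ b := by
          rintro rfl
          exact hcb (hinj _ _ (hc.symm.trans hc'))
        have hv' : d⁻¹ * v * d ∈ N c' := by
          rw [conj_smul hc']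
          have e : d * (d⁻¹ * v * d) * d⁻¹ = v := by group
          rwa [e]
        have h2 := mem_centralizer_iff.1 (K.oth c' hne ha') _ hv'
        calc (d * a' * d⁻¹) * v * (d * a' * d⁻¹)⁻¹ = d * (a' * (d⁻¹ * v * d)) * a'⁻¹ * d⁻¹ := by group
          _ = d * (d⁻¹ * v * d * a') * a'⁻¹ * d⁻¹ := by rw [h2]
          _ = v := by group
      have h3 := hcomm a (hAT ha) w (hNR hw)
      set y := d * w * d⁻¹ with hy
      have hyc : y ∈ N c := (conj_smul hc).1 hw
      set y' := d * (a⁻¹ * w * a) * d⁻¹ with hy'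
      have haw : a⁻¹ * w * a ∈ N b := by
        have := conj_of (inv_mem (K.nor ha)) hw
        rwa [inv_inv] at this
      have hy'c : y' ∈ N c := (conj_smul hc).1 haw
      have h4 := mem_centralizer_iff.1 (K.oth c hcb ha) _ hy'c
      -- `k (y w⁻¹) k⁻¹ = y' (a w⁻¹ a⁻¹)`
      have h5 : (a * d * a⁻¹ * d⁻¹) * (y * w⁻¹) * (a * d * a⁻¹ * d⁻¹)⁻¹ = y' * (a * w⁻¹ * a⁻¹) := by
        have h6 := h1 a⁻¹ (inv_mem ha) w⁻¹ (inv_mem hw)
        calc (a * d * a⁻¹ * d⁻¹) * (y * w⁻¹) * (a * d * a⁻¹ * d⁻¹)⁻¹ =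
            a * (d * (a⁻¹ * w * a) * d⁻¹) * ((d * a⁻¹ * d⁻¹) * w⁻¹ * (d * a⁻¹ * d⁻¹)⁻¹) * a⁻¹ := by
              rw [hy]; group
          _ = (a * y') * w⁻¹ * a⁻¹ := by rw [h6]
          _ = (y' * a) * w⁻¹ * a⁻¹ := by rw [← h4]
          _ = y' * (a * w⁻¹ * a⁻¹) := by group
      have h7 : (a * d * a⁻¹ * d⁻¹) * (y * w⁻¹) * (a * d * a⁻¹ * d⁻¹)⁻¹ = y * w⁻¹ := by
        rw [h3, mul_inv_cancel_right]
      rw [h5] at h7
      have h8 : y⁻¹ * y' = w⁻¹ * (a * w * a⁻¹) := by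
        have h9 : y' = y * w⁻¹ * (a * w⁻¹ * a⁻¹)⁻¹ := by rw [← h7]; group
        rw [h9]; group
      have h9 : y⁻¹ * y' ∈ N b ⊓ Co N ⊥ b := by
        refine mem_inf.2 ⟨?_, h.N_le_Co hcb (mul_mem (inv_mem hyc) hy'c)⟩
        rw [h8]
        exact mul_mem (inv_mem hw) (conj_of (K.nor ha) hw)
      rw [show N b ⊓ Co N ⊥ b = ⊥ from h.ind b, mem_bot, h8] at h9
      have h10 : a * w * a⁻¹ = w := (inv_mul_eq_one.1 h9).symm
      exact (mul_inv_eq_iff_eq_mul.1 h10).symm
    rw [hcb] at hc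
    have hdN : d ∈ normalizer (N b : Set G) := by
      rw [mem_normalizer_iff]
      exact fun x => conj_smul hc
    -- the component
    obtain ⟨n, hn, hnc⟩ := hz.2 b hb
    have hmap : ∀ x ∈ Co N ⊥ b, d * x * d⁻¹ ∈ Co N ⊥ b := by
      intro x hx
      have h1 : MulAut.conj d • Co N ⊥ b ≤ Co N ⊥ b := by
        unfold Co
        rw [sup_bot_eq, show MulAut.conj d • (⨆ c : {c // c ≠ b}, N c) = ⨆ c : {c // c ≠ b}, MulAut.conj d • N c from
          Subgroup.map_iSup _ _]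
        refine iSup_le fun c => ?_
        obtain ⟨e, he⟩ := hdP c
        rw [he]
        refine le_iSup (fun c : {c // c ≠ b} => N c) ⟨e, fun h1 => c.2 ?_⟩
        rw [h1, ← hc] at he
        exact hinj _ _ (smul_left_cancel _ he)
      exact h1 ((conj_smul rfl).1 hx)
    have hdn : d * n * d⁻¹ = n := by
      refine h.uniq (b := b) (x := z) ⟨conj_of hdN hnc.1, ?_⟩ hnc
      have h1 := hmap _ hnc.2
      have e1 : d * (n⁻¹ * z) * d⁻¹ = (d * n * d⁻¹)⁻¹ * (d * z * d⁻¹) := by group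
      rwa [e1, hdz] at h1
    have hAn : ∀ a ∈ A, a * n * a⁻¹ = n := by
      intro a ha
      have haM : a ∈ MZ S := h.SL (K.le ha)
      have haN : MulAut.conj a • N b = N b := TvTr.conj_eq (K.nor ha)
      have h1 := h.comp_conj haM haN hnc
      have h2 : a * z * a⁻¹ = z := by
        have h3 := (MinSimple.VModule.mem_zc.1 hzS).2.1 a (K.le ha)
        rw [h3, mul_inv_cancel_right]
      rw [h2] at h1
      exact h.uniq h1 hnc
    refine K.kd _ inf_le_left hAT d hodd hdN hdW hdT ⟨n, hnc.1, ?_, hAn, hdn⟩ fun a ha w hw =>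
      hcomm a (hAT ha) w (hNR hw)
    rintro rfl
    exact one b hn
  rw [hR]
  have h1 : (⨆ b : J, N b) ≤ centralizer ({d} : Set G) := iSup_le fun b x hx => by
    rw [mem_centralizer_singleton_iff]
    exact (mem_centralizer_iff.1 (hall b b.2) x hx)
  rw [mem_centralizer_iff]
  exact fun x hx => mem_centralizer_singleton_iff.1 (h1 hx)

end Cfsg.Agent.Omega.NOThreeL.RRed.HBadOf
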