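import Cfsg.Agent.Omega.NOThreeL.RRed.WideTree
import Cfsg.Agent.Omega.NOThreeL.RRed.Blk.Restr

/-!
# Box R, classes: the vectors of full support (#26368 `FS`, #26343 `tr`)

* `NatBlk.trans` : `D` is transitive on `N ∖ {1}`; **`nbs_orbs`** : `NBs` gives `Orbs (MZ S) N E (N b ∖ {1})`; `nbs_hdif`;
* `NBsJ` : for an `MZ S`-invariant set `J` of blocks, `R = ⨆ b ∈ J, N b`, `B = ⨆ b ∉ J, N b`:
  **`exists_full`** : `z ∈ R ⊓ zc S`, `z ≠ 1`, all components `b ∈ J` in `O b`; **`fact_of`** for every such `z`;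
  **`tr_of`** : blocks which are `MZ S`-conjugate are conjugate under `MZ S ⊓ C(z) ⊓ C(z')`;
* classes `cls : ι → κ`, `W k = ⨆_{cls b = k} N b` : `inv_cls`, `W_eq`, `coW_eq`; `nS_one`, `nS_co` : `n ∈ N(S)` which
  permutes the `W k` and fixes `z` (support `{i}`), resp. `e` (support `κ ∖ {i}`), normalises `W i`.
-/

set_option autoImplicit false
set_option linter.unusedSectionVars false

namespace Cfsg.Agent.Omega.NOThreeL.RRed.FullSup

open Subgroup Cfsg Cfsg.Agent.ZN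
open Cfsg.Agent.Omega.NOThreeL.Merge (MZ)
open Cfsg.Agent.Omega.NOThreeL.RTree (RB)
open Cfsg.Agent.Omega.NOThreeL.RRed.Blk
open Cfsg.Agent.Omega.NOThreeL.RRed.WideTree (NatBlk NBs)
open Cfsg.Agent.Omega.NOThreeL.RZ.TwoC.DecE (Orbs PP)

open scoped Pointwise Matrix

universe u v w

section nat

variable {G : Type u} [Group G] {S D N l : Subgroup G} {F : Type} [Field F] {e : G → Fin 2 → F}

/-- `SL₂(F)` is transitive on nonzero vectors -/
theorem sl_from {x : Fin 2 → F} (hx : x ≠ 0) : ∃ M : Matrix.SpecialLinearGroup (Fin 2) F, M.1.mulVec ![1, 0] = x := by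
  by_cases h0 : x 0 = 0
  · have h1 : x 1 ≠ 0 := by
      intro h1
      apply hx
      funext i
      fin_cases i
      · exact h0
      · exact h1
    refine ⟨⟨!![0, -(x 1)⁻¹; x 1, 0], ?_⟩, ?_⟩
    · rw [Matrix.det_fin_two_of]
      field_simp
      ring
    · funext i
      fin_cases i
      · simp [Matrix.mulVec, dotProduct, h0]
      · simp [Matrix.mulVec, dotProduct]
  · refine ⟨⟨!![x 0, 0; x 1, (x 0)⁻¹], ?_⟩, ?_⟩
    · rw [Matrix.det_fin_two_of]
      field_simp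
      ring
    · funext i
      fin_cases i
      · simp [Matrix.mulVec, dotProduct]
      · simp [Matrix.mulVec, dotProduct]

theorem sl_trans {x y : Fin 2 → F} (hx : x ≠ 0) (hy : y ≠ 0) :
    ∃ M : Matrix.SpecialLinearGroup (Fin 2) F, M.1.mulVec x = y := by
  obtain ⟨A, hA⟩ := sl_from hx
  obtain ⟨B, hB⟩ := sl_from hy
  refine ⟨B * A⁻¹, ?_⟩
  rw [← hA, Matrix.mulVec_mulVec, ← Matrix.SpecialLinearGroup.coe_mul, inv_mul_cancel_right, hB]

variable (h : NatBlk S D N l F e)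
include h

theorem e_one : e 1 = 0 := by
  have h1 := h.mul 1 (one_mem _) 1 (one_mem _)
  rw [one_mul] at h1
  exact left_eq_add.1 h1

theorem e_ne {v : G} (hv : v ∈ N) (h1 : v ≠ 1) : e v ≠ 0 := fun h0 => h1 (h.inj v hv h0)

theorem sq_one [CharP F 2] {v : G} (hv : v ∈ N) : v * v = 1 := by
  refine h.inj _ (mul_mem hv hv) ?_
  rw [h.mul v hv v hv]
  funext i
  exact CharTwo.add_self_eq_zero _

theorem e_inj [CharP F 2] {v w : G} (hv : v ∈ N) (hw : w ∈ N) (e1 : e v = e w) : v = w := by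
  have h1 : v * w = 1 := by
    refine h.inj _ (mul_mem hv hw) ?_
    rw [h.mul v hv w hw, e1]
    funext i
    exact CharTwo.add_self_eq_zero _
  have h2 : v * w = w * w := by rw [h1, sq_one h hw]
  exact mul_right_cancel h2

/-- `D` is transitive on `N ∖ {1}` -/
theorem NatBlk_trans [CharP F 2] (hD : D ≤ normalizer (N : Set G)) {x y : G} (hx : x ∈ N) (hx1 : x ≠ 1) (hy : y ∈ N)
    (hy1 : y ≠ 1) : ∃ g ∈ D, g * x * g⁻¹ = y := by
  obtain ⟨M, hM⟩ := sl_trans (e_ne h hx hx1) (e_ne h hy hy1)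
  obtain ⟨g, hg, hgM⟩ := h.full M
  exact ⟨g, hg, e_inj h (conj_of (hD hg) hx) hy (by rw [hgM x hx, hM])⟩

theorem card_even [Finite G] [CharP F 2] : Even (Nat.card N) := by
  obtain ⟨v, hv, hev⟩ := h.sur ![1, 0]
  have h1 : v ≠ 1 := by
    rintro rfl
    rw [e_one h] at hev
    have := congrFun hev 0
    simp at this
  have h2 : orderOf (⟨v, hv⟩ : N) = 2 := by
    refine orderOf_eq_prime ?_ fun e1 => h1 (congrArg Subtype.val e1)
    exact Subtype.ext (by show v ^ 2 = 1; rw [pow_two]; exact sq_one h hv)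
  rw [even_iff_two_dvd, ← h2]
  exact orderOf_dvd_natCard _

theorem odd_sharp [Finite G] [CharP F 2] : Odd (Nat.card {x | x ∈ N ∧ x ≠ 1}) := by
  have h1 : Nat.card {x | x ∈ N ∧ x ≠ 1} + 1 = Nat.card N := by
    have e1 : {x | x ∈ N ∧ x ≠ 1} = (N : Set G) \ {1} := rfl
    rw [e1]
    have h2 := Set.ncard_sdiff_singleton_add_one (s := (N : Set G)) (a := 1) N.one_mem (Set.toFinite _)
    exact h2
  have h2 := card_even h
  rw [← h1] at h2
  rcases Nat.even_or_odd (Nat.card {x | x ∈ N ∧ x ≠ 1}) with h3 | h3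
  · exact absurd h2 (Nat.not_even_iff_odd.2 h3.add_one)
  · exact h3

/-- `N` is generated by differences of elements of `N ∖ {1}` -/
theorem le_diff [CharP F 2] :
    N ≤ closure {g | ∃ x ∈ {x | x ∈ N ∧ x ≠ 1}, ∃ y ∈ {x | x ∈ N ∧ x ≠ 1}, g = y * x⁻¹} := by
  intro v hv
  by_cases hv1 : v = 1
  · rw [hv1]; exact one_mem _
  have key : ∀ u : Fin 2 → F, u ≠ 0 → u ≠ e v →
      v ∈ closure {g | ∃ x ∈ {x | x ∈ N ∧ x ≠ 1}, ∃ y ∈ {x | x ∈ N ∧ x ≠ 1}, g = y * x⁻¹} := by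
    intro u hu huv
    obtain ⟨x, hx, hxu⟩ := h.sur u
    refine subset_closure ⟨x, ⟨hx, ?_⟩, v * x, ⟨mul_mem hv hx, ?_⟩, by group⟩
    · rintro rfl
      rw [e_one h] at hxu
      exact hu hxu.symm
    · intro h1
      have h2 : v * x = x * x := by rw [h1, sq_one h hx]
      have h3 : v = x := mul_right_cancel h2
      exact huv (by rw [h3, hxu])
  by_cases h1 : (![1, 0] : Fin 2 → F) = e v
  · refine key ![0, 1] ?_ ?_
    · intro h2
      have := congrFun h2 1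
      simp at this
    · rw [← h1]
      intro h2
      have := congrFun h2 1
      simp at this
  · refine key ![1, 0] ?_ h1
    intro h2
    have := congrFun h2 0
    simp at this

end nat

section nbs

variable {G : Type u} [Group G] [Finite G] {S : Subgroup G} {ι : Type u} {N E D l : ι → Subgroup G} {q : ι → ℕ}

/-- **natural blocks: `O b = N b ∖ {1}`** -/
theorem nbs_orbs (h : NBs S N E D l q) : Orbs (MZ S) N E (fun b => {x | x ∈ N b ∧ x ≠ 1}) where
  sub b := fun _ hx => hx.1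
  one b := fun hx => hx.2 rfl
  odd b := by
    obtain ⟨F, _, _, _, e, -, hn⟩ := h.nat b
    exact odd_sharp hn
  tr b := by
    obtain ⟨F, _, _, _, e, -, hn⟩ := h.nat b
    intro x hx y hy
    obtain ⟨g, hg, h1⟩ := NatBlk_trans hn ((h.DE b).trans (h.dec.EN b)) hx.1 hx.2 hy.1 hy.2
    exact ⟨g, h.DE b hg, h1⟩
  inv g _ b c hbc x hx := ⟨(conj_smul hbc).1 hx.1, fun h1 => hx.2 (by
    have h2 : g⁻¹ * (g * x * g⁻¹) * g = g⁻¹ * 1 * g := by rw [h1]
    simpa [mul_assoc] using h2)⟩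

theorem nbs_hdif (h : NBs S N E D l q) (b : ι) :
    N b ≤ closure {g | ∃ x ∈ {x | x ∈ N b ∧ x ≠ 1}, ∃ y ∈ {x | x ∈ N b ∧ x ≠ 1}, g = y * x⁻¹} := by
  obtain ⟨F, _, _, _, e, -, hn⟩ := h.nat b
  exact le_diff hn

end nbs

/-! ### `R = ⨆ b ∈ J, N b`, `B = ⨆ b ∉ J, N b` -/

section inv

variable {G : Type u} [Group G] [Finite G] {S : Sylow 2 G} {ι : Type v} [Finite ι] {N E : ι → Subgroup G}
  {O : ι → Set G} {J : Set ι}

/-- **the vector of full support** -/
theorem exists_full (hB : RB S) (h : Dec (S : Subgroup G) (MZ (S : Subgroup G)) (Wd (S : Subgroup G)) N E ⊥)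
    (o : Orbs (MZ (S : Subgroup G)) N E O) (hJ : InvJ (MZ (S : Subgroup G)) N J) (hne : J.Nonempty) :
    ∃ z ∈ FSup N ⊥ O J, z ∈ (⨆ b : J, N b) ⊓ zc (S : Subgroup G) ∧ z ≠ 1 := by
  obtain ⟨z, hz, hzS⟩ := exists_fsup h o S.isPGroup' hJ
  have hW : z ∈ Wd (S : Subgroup G) := (iSup_le fun b : J => h.NU b : (⨆ b : J, N b) ≤ _) hz.1
  refine ⟨z, hz, mem_inf.2 ⟨hz.1, zc_of_fix hB hW fun s hs => ?_⟩, fsup_ne_one h o hz hne⟩
  rw [mul_inv_eq_iff_eq_mul]
  exact (mem_centralizer_singleton_iff.1 (hzS hs))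

/-- **`fact`** -/
theorem fact_of (h : Dec (S : Subgroup G) (MZ (S : Subgroup G)) (Wd (S : Subgroup G)) N E ⊥)
    (o : Orbs (MZ (S : Subgroup G)) N E O) (hJ : InvJ (MZ (S : Subgroup G)) N J) {z : G} (hz : z ∈ FSup N ⊥ O J) :
    MZ (S : Subgroup G) ≤ (MZ (S : Subgroup G) ⊓ centralizer ((⨆ b : {b // b ∉ J}, N b : Subgroup G) : Set G)) ⊔
      (MZ (S : Subgroup G) ⊓ centralizer ({z} : Set G)) := by
  have h1 := fsup_le h o hJ hz
  have e : CoJ N ⊥ J = ⨆ b : {b // b ∉ J}, N b := sup_bot_eq _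
  rwa [e] at h1

/-- **863's `tr`** -/
theorem tr_of (h : Dec (S : Subgroup G) (MZ (S : Subgroup G)) (Wd (S : Subgroup G)) N E ⊥)
    (o : Orbs (MZ (S : Subgroup G)) N E O) (hJ : InvJ (MZ (S : Subgroup G)) N J) {z z' : G} (hz : z ∈ FSup N ⊥ O J)
    (hz' : z' ∈ FSup N ⊥ O Jᶜ) {b c : ι} (hbc : ∃ y ∈ MZ (S : Subgroup G), MulAut.conj y • N b = N c) :
    ∃ k ∈ MZ (S : Subgroup G) ⊓ centralizer ({z} : Set G) ⊓ centralizer ({z'} : Set G),
      MulAut.conj k • N b = N c := by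
  obtain ⟨y, hy, hyb⟩ := hbc
  obtain ⟨g, hg, h1⟩ := fsup_joint h o hJ hz hz' hy
  have hgL : g ∈ MZ (S : Subgroup G) := RZ.TwoC.DecE.E_le h hg
  have hgc : g ∈ normalizer (N c : Set G) := by
    have h2 : (⨆ b, E b) ≤ normalizer (N c : Set G) := iSup_le fun d => by
      by_cases hd : d = c
      · rw [hd]; exact h.EN c
      · exact (h.EC d c hd).trans (centralizer_le_normalizer _)
    exact h2 hg
  refine ⟨g⁻¹ * y, mem_inf.2 ⟨mem_inf.2 ⟨mul_mem (inv_mem hgL) hy, h1.1⟩, h1.2⟩, ?_⟩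
  rw [map_mul, mul_smul, hyb]
  exact RZ.TwoC.DecE.smul_of_norm (inv_mem hgc)

end inv

/-! ### Classes -/

section cls

variable {G : Type u} [Group G] {S L U : Subgroup G} {ι : Type v} {κ : Type w} {N E : ι → Subgroup G}
  {W : κ → Subgroup G} {cls : ι → κ}

/-- the blocks of one class are `L`-invariant -/
theorem inv_cls (h : Dec S L U N E ⊥) (hW : ∀ k, W k = ⨆ b : {b // cls b = k}, N b)
    (hn : ∀ k, L ≤ normalizer (W k : Set G)) (k : κ) : InvJ L N {b | cls b = k} := by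
  intro g hg b hb c hbc
  by_contra hc
  have h1 : N b ≤ W k := by rw [hW]; exact le_iSup (fun b : {b // cls b = k} => N b) ⟨b, hb⟩
  have h2 : N c ≤ W k := by
    rw [← hbc]
    rintro _ ⟨x, hx, rfl⟩
    exact conj_of (hn k hg) (h1 hx)
  have h3 : W k ≤ Co N ⊥ c := by
    rw [hW]
    exact iSup_le fun d => h.N_le_Co fun e => hc (by rw [← e]; exact d.2)
  apply h.ne c
  rw [eq_bot_iff, ← (show N c ⊓ Co N ⊥ c = ⊥ from h.ind c)]
  exact le_inf le_rfl (h2.trans h3)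

theorem W_eq (hW : ∀ k, W k = ⨆ b : {b // cls b = k}, N b) (k : κ) :
    W k = ⨆ b : ({b | cls b = k} : Set ι), N b := hW k

theorem coW_eq (hW : ∀ k, W k = ⨆ b : {b // cls b = k}, N b) (k : κ) :
    (⨆ j : {j // j ≠ k}, W j) = ⨆ b : {b // b ∉ ({b | cls b = k} : Set ι)}, N b := by
  apply le_antisymm
  · refine iSup_le fun j => ?_
    rw [hW]
    exact iSup_le fun b => le_iSup (fun b : {b // b ∉ ({b | cls b = k} : Set ι)} => N b)
      ⟨b.1, fun e => j.2 (by rw [← b.2]; exact e)⟩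
  · refine iSup_le fun b => ?_
    refine le_trans ?_ (le_iSup (fun j : {j // j ≠ k} => W j) ⟨cls b.1, b.2⟩)
    rw [hW]
    exact le_iSup (fun c : {c // cls c = cls b.1} => N c) ⟨b.1, rfl⟩

/-- a class vector of full support is outside `⨆ m ≠ k, W m` for every class `k` of its support -/
theorem not_mem_of_fsup (h : Dec S L U N E ⊥) {O : ι → Set G} (o : Orbs L N E O)
    (hW : ∀ k, W k = ⨆ b : {b // cls b = k}, N b) {J : Set ι} {e : G} (he : e ∈ FSup N ⊥ O J) {b : ι} (hb : b ∈ J) :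
    e ∉ ⨆ m : {m // m ≠ cls b}, W m := by
  intro h1
  obtain ⟨n, hn, hc⟩ := he.2 b hb
  have h2 : (⨆ m : {m // m ≠ cls b}, W m) ≤ Co N ⊥ b := by
    refine iSup_le fun m => ?_
    rw [hW]
    exact iSup_le fun d => h.N_le_Co fun e => m.2 (by rw [← d.2, e])
  have h3 := h.uniq hc (h.comp_one (h2 h1))
  exact o.one b (h3 ▸ hn)

end cls

section perm

variable {G : Type u} [Group G] {κ : Type w} {W : κ → Subgroup G} {P : Subgroup G}
  (hne : ∀ i, W i ≠ ⊥) (hind : ∀ i, W i ⊓ (⨆ j : {j // j ≠ i}, W j) = ⊥)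
  (hP : ∀ n ∈ P, ∀ i, ∃ j, MulAut.conj n • W i = W j)
include hne hind

theorem W_inj {i j : κ} (e : W i = W j) : i = j := by
  by_contra hij
  apply hne j
  rw [eq_bot_iff, ← hind j]
  exact le_inf le_rfl (by rw [← e]; exact le_iSup (fun m : {m // m ≠ j} => W m) ⟨i, hij⟩)

include hP

/-- `n` fixes the class `i`: it maps the other classes to classes `≠ i` -/
theorem norm_co {n : G} (hn : n ∈ P) {i : κ} (hi : MulAut.conj n • W i = W i) :
    n ∈ normalizer (W i : Set G) ∧ n ∈ normalizer ((⨆ j : {j // j ≠ i}, W j : Subgroup G) : Set G) := by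
  have key : ∀ n ∈ P, MulAut.conj n • W i = W i → ∀ x ∈ (⨆ j : {j // j ≠ i}, W j),
      n * x * n⁻¹ ∈ ⨆ j : {j // j ≠ i}, W j := by
    intro n hn hi x hx
    have h1 : MulAut.conj n • (⨆ j : {j // j ≠ i}, W j) ≤ ⨆ j : {j // j ≠ i}, W j := by
      rw [show MulAut.conj n • (⨆ j : {j // j ≠ i}, W j) = ⨆ j : {j // j ≠ i}, MulAut.conj n • W j from
        Subgroup.map_iSup _ _]
      refine iSup_le fun j => ?_
      obtain ⟨m, hm⟩ := hP n hn j
      rw [hm]
      refine le_iSup (fun j : {j // j ≠ i} => W j) ⟨m, fun e => j.2 ?_⟩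
      rw [e, ← hi] at hm
      exact W_inj hne hind (smul_left_cancel _ hm)
    exact h1 ((conj_smul rfl).1 hx)
  have hi' : MulAut.conj n⁻¹ • W i = W i := by
    conv_lhs => rw [← hi]
    rw [map_inv, inv_smul_smul]
  constructor
  · rw [mem_normalizer_iff]
    exact fun x => conj_smul hi
  · rw [mem_normalizer_iff]
    refine fun x => ⟨fun hx => key n hn hi x hx, fun hx => ?_⟩
    have h1 := key n⁻¹ (inv_mem hn) hi' _ hx
    have e : n⁻¹ * (n * x * n⁻¹) * n⁻¹⁻¹ = x := by group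
    rwa [e] at h1

/-- **`FS.nS` for one class** -/
theorem nS_one {i : κ} {z : G} (hz : z ∈ W i) (hz1 : z ≠ 1) :
    centralizer ({z} : Set G) ⊓ P ≤ normalizer (W i : Set G) ⊓
      normalizer ((⨆ j : {j // j ≠ i}, W j : Subgroup G) : Set G) := by
  rintro n ⟨hnz, hn⟩
  obtain ⟨j, hj⟩ := hP n hn i
  have h1 : z ∈ W j := by
    have h2 := (conj_smul hj).1 hz
    rwa [mem_centralizer_singleton_iff.1 hnz, mul_inv_cancel_right] at h2
  have h3 : j = i := by
    by_contra hji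
    apply hz1
    have h4 : z ∈ W i ⊓ (⨆ j : {j // j ≠ i}, W j) :=
      mem_inf.2 ⟨hz, (le_iSup (fun j : {j // j ≠ i} => W j) ⟨j, hji⟩) h1⟩
    rwa [hind, mem_bot] at h4
  rw [h3] at hj
  exact mem_inf.2 (norm_co hne hind hP hn hj)

/-- **`FS.nS` for all classes but one** -/
theorem nS_co {i : κ} {e : G} (he : e ∈ ⨆ j : {j // j ≠ i}, W j)
    (hf : ∀ k, k ≠ i → e ∉ ⨆ m : {m // m ≠ k}, W m) :
    centralizer ({e} : Set G) ⊓ P ≤ normalizer ((⨆ j : {j // j ≠ i}, W j : Subgroup G) : Set G) ⊓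
      normalizer (W i : Set G) := by
  rintro n ⟨hnz, hn⟩
  obtain ⟨k, hk⟩ := hP n hn i
  have h3 : k = i := by
    by_contra hki
    apply hf k hki
    have h1 : MulAut.conj n • (⨆ j : {j // j ≠ i}, W j) ≤ ⨆ m : {m // m ≠ k}, W m := by
      rw [show MulAut.conj n • (⨆ j : {j // j ≠ i}, W j) = ⨆ j : {j // j ≠ i}, MulAut.conj n • W j from
        Subgroup.map_iSup _ _]
      refine iSup_le fun j => ?_
      obtain ⟨m, hm⟩ := hP n hn j
      rw [hm]
      refine le_iSup (fun m : {m // m ≠ k} => W m) ⟨m, fun e => j.2 ?_⟩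
      rw [e, ← hk] at hm
      exact W_inj hne hind (smul_left_cancel _ hm)
    have h2 := h1 ((conj_smul rfl).1 he)
    rwa [mem_centralizer_singleton_iff.1 hnz, mul_inv_cancel_right] at h2
  rw [h3] at hk
  have h4 := norm_co hne hind hP hn hk
  exact mem_inf.2 ⟨h4.2, h4.1⟩

end perm

end Cfsg.Agent.Omega.NOThreeL.RRed.FullSup
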