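import Cfsg.Agent.Omega.NOThreeL.RRed.Blk.AsmRR
import Cfsg.Agent.Omega.NOThreeL.RRed.Blk.AsmHn
import Cfsg.Agent.Omega.NOThreeL.RRed.Blk.TypesNorm

/-!
# NO-3L, box R: `N_G(S)` permutes the natural blocks (mixed case, input `permN₁` of `HBad`)

`FF₁ = RRs S (MZ S) Q`, `N₁ D = un Q (NN (EB S Q) Q.Mod D)`, `C₁ D = un Q (CC (EB S Q) Q.Mod D)`.

* `un_map_tau` : the image of a block under `n ∈ N_G(S)`;
* **`permN_rrs`** : `n ∈ N_G(S)`, `D ∈ FF₁` ⟹ `N₁ D`^n `= N₁ D'`, `C₁ D`^n `= C₁ D'` for some `D' ∈ FF₁`;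
* `permN_rrs'` : the same for the index type `FF₁`.
-/

set_option autoImplicit false
set_option linter.unusedSectionVars false

namespace Cfsg.Agent.Omega.NOThreeL.RRed.PermRRs

open Subgroup Cfsg Cfsg.Agent.ZN Cfsg.Agent.Omega.MinPar
open Cfsg.Agent.Omega.FFThm (NoOverM)
open Cfsg.Agent.Omega.NOThreeL.RSplit (Nrm)
open Cfsg.Agent.Omega.NOThreeL.Merge (MZ isLoc_MZ)
open Cfsg.Agent.Omega.NOThreeL.RTree (RB)
open Cfsg.Agent.Omega.NOThreeL.RRed.NS (un val_mem_un)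
open Cfsg.Agent.Omega.NOThreeL.RRed.WideTree (MvAct)
open Cfsg.Agent.Omega.NOThreeL.RRed.Blk
open Cfsg.Agent.Omega.NOThreeL.RRed.Blk.TypesNat (XH ph XH_faith no_XH two_of tau val_tau sig tau_sig map_sig NB_tr
  NB_uniq)
open Cfsg.Agent.Omega.NOThreeL.RRed.Blk.Asm
open Cfsg.Agent.Omega.NOThreeL.RRed.Blk.AsmG (RRs)
open Cfsg.Agent.Omega.NOThreeL.RRed.Blk.AsmCore (im)
open Cfsg.Agent.Omega.NOThreeL.RRed.Blk.AsmOneBlk (EB nat_fam hn_rrs)
open scoped Pointwise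

universe u

section

variable {G : Type u} [Group G] {H U : Subgroup G} (Q : Nrm H U) {n : G}

/-- the image of a block -/
theorem un_map_tau (hU : n ∈ normalizer (U : Set G)) (W : AddSubgroup Q.Mod) :
    un Q (W.map (tau Q hU).toAddMonoidHom) = MulAut.conj n • un Q W := by
  ext x
  constructor
  · rintro ⟨_, ⟨m, hm, rfl⟩, rfl⟩
    exact ⟨Q.val m, ⟨m, hm, rfl⟩, rfl⟩
  · rintro ⟨_, ⟨m, hm, rfl⟩, rfl⟩
    exact ⟨_, ⟨m, hm, rfl⟩, rfl⟩

end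

variable {G : Type u} [Group G] [Finite G] {S : Sylow 2 G}

/-- **`N_G(S)` permutes the natural blocks.** -/
theorem permN_rrs (B : RB S) (mv : MvAct (S : Subgroup G))
    (no : NoOverM (zl (S : Subgroup G) (MZ (S : Subgroup G))) (MZ (S : Subgroup G)))
    (Q : Nrm (MZ (S : Subgroup G)) (zl (S : Subgroup G) (MZ (S : Subgroup G)))) {n : G}
    (hn : n ∈ normalizer ((S : Subgroup G) : Set G)) {D : Subgroup (XH Q)} (hD : D ∈ RRs S (MZ (S : Subgroup G)) Q) :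
    ∃ D' ∈ RRs S (MZ (S : Subgroup G)) Q,
      MulAut.conj n • un Q (NN (EB S Q) Q.Mod D) = un Q (NN (EB S Q) Q.Mod D') ∧
      MulAut.conj n • un Q (CC (EB S Q) Q.Mod D) = un Q (CC (EB S Q) Q.Mod D') := by
  have hL := isLoc_MZ B.ctx B.full B.data.noff
  obtain ⟨-, h4, hGB, -, -⟩ := nat_fam B mv no Q
  obtain ⟨A, hA, hAD, hA'⟩ := hn_rrs hL.le hn hD
  subst hAD
  have hU : n ∈ normalizer (zl (S : Subgroup G) (MZ (S : Subgroup G)) : Set G) := AsmHn.nS_Wd hn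
  have hM : n ∈ normalizer (MZ (S : Subgroup G) : Set G) := AsmHn.nS_MZ hn
  have h1 := NB_tr (hGB _ hD).nb (tau Q hU) (sig Q hU hM) (tau_sig Q hU hM)
  have h2 : (im Q A).map (sig Q hU hM).toMonoidHom = im Q (MulAut.conj n • A) := map_sig Q hU hM A (hA.trans hL.le)
  rw [h2] at h1
  have h3 := NB_uniq h1 (hGB _ hA').nb (two_of Q (NS.elem_Wd B)) (fun x hx => XH_faith Q x hx) (no_XH Q no) (h4 _ hA')
  refine ⟨_, hA', ?_, ?_⟩
  · rw [← h3.1, un_map_tau]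
  · rw [← h3.2, un_map_tau]

/-- **the same, indexed by `FF₁`** (`permN₁` of `hBad_mix`) -/
theorem permN_rrs' (B : RB S) (mv : MvAct (S : Subgroup G))
    (no : NoOverM (zl (S : Subgroup G) (MZ (S : Subgroup G))) (MZ (S : Subgroup G)))
    (Q : Nrm (MZ (S : Subgroup G)) (zl (S : Subgroup G) (MZ (S : Subgroup G)))) :
    ∀ n ∈ normalizer ((S : Subgroup G) : Set G), ∀ b : RRs S (MZ (S : Subgroup G)) Q,
      ∃ c : RRs S (MZ (S : Subgroup G)) Q,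
        MulAut.conj n • un Q (NN (EB S Q) Q.Mod b.1) = un Q (NN (EB S Q) Q.Mod c.1) := by
  intro n hn b
  obtain ⟨D', hD', h1, -⟩ := permN_rrs B mv no Q hn b.2
  exact ⟨⟨D', hD'⟩, h1⟩

end Cfsg.Agent.Omega.NOThreeL.RRed.PermRRs
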