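import Cfsg.Agent.Omega.NOThreeL.RRed.ClassMx
import Cfsg.Agent.Omega.NOThreeL.RRed.TvFin

/-!
# Box R: if no `P` is of type `q ≥ 4`, the minimal exact offenders are transvections (helper930)

`V = zl S L`, no `GOne S L P A` with `Big4 S P`:
* **`mx_tv`** : a minimal exact `X ≤ L` is `⟨t⟩ C_X(V)`, `t` a transvection of `V`;
* **`mx_le_cent`** : over `TvFin.Full`: every minimal exact `X ≤ L` centralises `R₀`.
-/

set_option autoImplicit false
set_option linter.unusedSectionVars false

namespace Cfsg.Agent.Omega.NOThreeL.RRed.TvAtom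

open Subgroup Cfsg Cfsg.Agent.ZN Cfsg.Agent.Omega.MinPar Cfsg.Agent.Omega.Frame
open Cfsg.Agent.Omega.FFThm (ElemM OffM NoOverM)
open Cfsg.Agent.Omega.NOThreeL.RRed
open Cfsg.Agent.ZN.ChoiceBase (cj)
open Cfsg.Agent.Omega.NOThreeL.RRed.TvFin (TvV Full)
open scoped Pointwise

universe u

variable {G : Type u} [Group G]

/-- a transvection fixes a subgroup of index `≤ 2` -/
theorem card_le_tv [Finite G] {V : Subgroup G} {c t : G} (ht : TvV V c t) :
    Nat.card V ≤ 2 * Nat.card ↥(V ⊓ centralizer ({t} : Set G)) := by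
  classical
  by_cases h : V ≤ centralizer ({t} : Set G)
  · rw [inf_eq_left.2 h]; omega
  · obtain ⟨a, ha, hat⟩ := Set.not_subset.1 h
    have key : ∀ v ∈ V, v ∉ centralizer ({t} : Set G) → v * a⁻¹ ∈ centralizer ({t} : Set G) := by
      intro v hv hvt
      have fx : ∀ {w : G}, t * w * t⁻¹ = w ↔ w ∈ centralizer ({t} : Set G) := by
        intro w
        rw [mem_centralizer_singleton_iff]
        constructor
        · intro e
          have : t * w = w * t := by
            calc t * w = (t * w * t⁻¹) * t := by group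
              _ = w * t := by rw [e]
          exact this.symm
        · intro e; rw [← e]; group
      have h1 : t * v * t⁻¹ = v * c := (ht v hv).resolve_left fun e => hvt (fx.1 e)
      have h2 : t * a * t⁻¹ = a * c := (ht a ha).resolve_left fun e => hat (fx.1 e)
      rw [← fx]
      have e : t * (v * a⁻¹) * t⁻¹ = (t * v * t⁻¹) * (t * a * t⁻¹)⁻¹ := by group
      rw [e, h1, h2]; group
    have h1 : (V ⊓ centralizer ({t} : Set G) : Subgroup G).relIndex V = 2 := by
      rw [relIndex, index_eq_two_iff]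
      refine ⟨⟨a⁻¹, inv_mem ha⟩, fun b => ?_⟩
      rw [mem_subgroupOf, mem_subgroupOf, mem_inf, mem_inf]
      by_cases hb : (b : G) ∈ centralizer ({t} : Set G)
      · refine Or.inr ⟨⟨b.2, hb⟩, fun hc => hat ?_⟩
        have h3 : (b : G) * a⁻¹ ∈ centralizer ({t} : Set G) := hc.2
        have h4 := mul_mem (inv_mem h3) hb
        have e : ((b : G) * a⁻¹)⁻¹ * b = a := by group
        rwa [e] at h4
      · exact Or.inl ⟨⟨mul_mem b.2 (inv_mem ha), key b b.2 hb⟩, fun hc => hb hc.2⟩
    have h2 := card_mul_index ((V ⊓ centralizer ({t} : Set G)).subgroupOf V)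
    rw [← relIndex, h1, Nat.card_congr (subgroupOfEquivOfLe inf_le_left).toEquiv] at h2
    omega

section fin

variable [Finite G] {S : Sylow 2 G} {L X : Subgroup G}

/-- **A minimal exact offender is a transvection group** if no `P` is of type `q ≥ 4`. -/
theorem mx_tv (hc : IsCharacteristicTwoType G) (hL : IsLoc (S : Subgroup G) L)
    (hgen : L ≤ sSup {P | IsParS (S : Subgroup G) P ∧ P ≤ L}) (hF : ¬ ∃ P A, GOne S L P A ∧ Big4 S P)
    (hXL : X ≤ L) (h : Mx (zl (S : Subgroup G) L) X) :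
    ∃ t ∈ X, ∃ c ∈ zl (S : Subgroup G) L, t ∉ centralizer (zl (S : Subgroup G) L : Set G) ∧
      TvV (zl (S : Subgroup G) L) c t ∧ X = zpowers t ⊔ (X ⊓ centralizer (zl (S : Subgroup G) L : Set G)) := by
  obtain ⟨m, hm, P, hg⟩ := gOne_of_mx hc hL hgen hXL h
  have h2 := (two2_or hg.concl).resolve_right fun h4 => hF ⟨P, _, hg, h4⟩
  obtain ⟨t', ht', c', hc', -, htv, hn⟩ := hg.tv hc h2
  set V : Subgroup G := zl (S : Subgroup G) L with hV
  have hLV : L ≤ normalizer (V : Set G) := MinSimple.VModule.le_normalizer_zl _ _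
  have hmV := hLV hm
  have nV : ∀ {v : G}, v ∈ V ↔ m * v * m⁻¹ ∈ V := fun {v} => mem_normalizer_iff.1 hmV v
  obtain ⟨t, ht, rfl⟩ := ht'
  have et : (MulAut.conj m).toMonoidHom t = m * t * m⁻¹ := rfl
  rw [et] at htv hn
  set c := m⁻¹ * c' * m with hcd
  have ec : m * c * m⁻¹ = c' := by rw [hcd]; group
  have hcV : c ∈ V := by rw [nV, ec]; exact hg.VU hc'
  have hTv : TvV V c t := by
    intro w hw
    rcases htv (m * w * m⁻¹) (nV.1 hw) with h3 | h3
    · left
      have e : m * (t * w * t⁻¹) * m⁻¹ = m * w * m⁻¹ := by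
        rw [← h3]; group
      exact mul_left_cancel (mul_right_cancel e)
    · right
      have e : m * (t * w * t⁻¹) * m⁻¹ = m * (w * c) * m⁻¹ := by
        have e1 : m * (w * c) * m⁻¹ = (m * w * m⁻¹) * (m * c * m⁻¹) := by group
        rw [e1, ec, ← h3]; group
      exact mul_left_cancel (mul_right_cancel e)
  have htn : t ∉ centralizer (V : Set G) := by
    intro hcon
    apply hn
    rw [mem_centralizer_iff]
    intro v hv
    have hv' : m⁻¹ * v * m ∈ V := by
      rw [nV]
      have e : m * (m⁻¹ * v * m) * m⁻¹ = v := by group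
      rwa [e]
    have h3 : (m⁻¹ * v * m) * t = t * (m⁻¹ * v * m) := mem_centralizer_iff.1 hcon _ hv'
    calc v * (m * t * m⁻¹) = m * ((m⁻¹ * v * m) * t) * m⁻¹ := by group
      _ = m * (t * (m⁻¹ * v * m)) * m⁻¹ := by rw [h3]
      _ = m * t * m⁻¹ * v := by group
  refine ⟨t, ht, c, hcV, htn, hTv, ?_⟩
  set Y : Subgroup G := zpowers t ⊔ (X ⊓ centralizer (V : Set G)) with hY
  have hYX : Y ≤ X := sup_le ((zpowers_le).2 ht) inf_le_left
  have htY : t ∈ Y := mem_sup_left (mem_zpowers t)
  have hYn : ¬ Y ≤ centralizer (V : Set G) := fun hcon => htn (hcon htY)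
  have hCY : V ⊓ centralizer (Y : Set G) = V ⊓ centralizer ({t} : Set G) := by
    apply le_antisymm
    · exact inf_le_inf_left _ (centralizer_le (Set.singleton_subset_iff.2 htY))
    · refine le_inf inf_le_left ?_
      rw [le_centralizer_iff, hY]
      refine sup_le ?_ (inf_le_right.trans (centralizer_le inf_le_left))
      rw [zpowers_le, mem_centralizer_iff]
      intro v hv
      exact (mem_centralizer_singleton_iff.1 hv.2)
  have h1 : Nat.card V ≤ 2 * Nat.card ↥(V ⊓ centralizer (Y : Set G)) := hCY ▸ card_le_tv hTv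
  have h3 : 2 * Nat.card ↥(Y ⊓ centralizer (V : Set G)) ≤ Nat.card Y := by
    have h4 : Y ⊓ centralizer (V : Set G) < Y := lt_of_le_of_ne inf_le_left fun e => hYn (inf_eq_left.1 e)
    have h5 := card_mul_index ((Y ⊓ centralizer (V : Set G)).subgroupOf Y)
    rw [Nat.card_congr (subgroupOfEquivOfLe inf_le_left).toEquiv] at h5
    have h6 : ((Y ⊓ centralizer (V : Set G)).subgroupOf Y).index ≠ 1 := by
      rw [Ne, index_eq_one, subgroupOf_eq_top]
      exact fun h7 => absurd h7 (not_le_of_gt h4)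
    have h7 : ((Y ⊓ centralizer (V : Set G)).subgroupOf Y).index ≠ 0 := index_ne_zero_of_finite
    have h8 : 2 ≤ ((Y ⊓ centralizer (V : Set G)).subgroupOf Y).index := by omega
    calc 2 * Nat.card ↥(Y ⊓ centralizer (V : Set G)) =
        Nat.card ↥(Y ⊓ centralizer (V : Set G)) * 2 := mul_comm _ _
      _ ≤ _ := Nat.mul_le_mul_left _ h8
      _ = Nat.card Y := h5
  have hno := hg.no Y (hYX.trans hXL) (VF.elemM_mono h.toElemM hYX)
  have hex : Nat.card V * Nat.card ↥(Y ⊓ centralizer (V : Set G)) =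
      Nat.card Y * Nat.card ↥(V ⊓ centralizer (Y : Set G)) := by
    refine le_antisymm ?_ hno
    calc Nat.card V * Nat.card ↥(Y ⊓ centralizer (V : Set G)) ≤
        (2 * Nat.card ↥(V ⊓ centralizer (Y : Set G))) * Nat.card ↥(Y ⊓ centralizer (V : Set G)) :=
          Nat.mul_le_mul_right _ h1
      _ = (2 * Nat.card ↥(Y ⊓ centralizer (V : Set G))) * Nat.card ↥(V ⊓ centralizer (Y : Set G)) := by ring
      _ ≤ _ := Nat.mul_le_mul_right _ h3
  rcases h.min Y hYX hex le_sup_right with h4 | h4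
  · exact absurd h4 hYn
  · exact h4.symm

/-- **Every minimal exact offender centralises `R₀`** if no `P` is of type `q ≥ 4`. -/
theorem mx_le_cent (hc : IsCharacteristicTwoType G) (hL : IsLoc (S : Subgroup G) L)
    (hgen : L ≤ sSup {P | IsParS (S : Subgroup G) P ∧ P ≤ L}) (hF : ¬ ∃ P A, GOne S L P A ∧ Big4 S P)
    {I : Type u} {N E : I → Subgroup G} {R₀ : Subgroup G} {Om : I → Type u}
    [∀ i, Fintype (Om i)] [∀ i, DecidableEq (Om i)] {phi : ∀ i, Finset (Om i) → G}
    (F : Full (S : Subgroup G) L (zl (S : Subgroup G) L) N E R₀ Om phi) (hXL : X ≤ L)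
    (h : Mx (zl (S : Subgroup G) L) X) : X ≤ centralizer (R₀ : Set G) := by
  obtain ⟨t, ht, c, hcV, -, htv, e⟩ := mx_tv hc hL hgen hF hXL h
  have hRV : R₀ ≤ zl (S : Subgroup G) L := F.sup ▸ le_sup_right
  rw [e]
  refine sup_le ?_ (inf_le_right.trans (centralizer_le hRV))
  rw [zpowers_le, mem_centralizer_iff]
  intro v hv
  have h1 := (F.fixR v (hRV hv)).1 hv t (hXL ht) c hcV htv
  calc v * t = (t * v * t⁻¹) * t := by rw [h1]
    _ = t * v := by group

end fin

end Cfsg.Agent.Omega.NOThreeL.RRed.TvAtom
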