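import Cfsg.Agent.Omega.NOThreeL.RRed.TvActP
import Cfsg.Agent.Omega.NOThreeL.RRed.TvAtom
import Cfsg.Agent.Omega.NOThreeL.RRed.Blk.AsmInp
import Cfsg.Agent.Omega.NOThreeL.RRed.Blk.AsmUn
import Cfsg.Agent.Omega.NOThreeL.RRed.Blk.AsmLn
import Cfsg.Agent.Omega.NOThreeL.RRed.EOneTr

/-!
# NO-3L, box R: `C_Z(E₁) = 1` implies `MvAct` ((M4) of #27316)

* `MvBig S` : (M3n), the literal `mv_big`: `z ∈ Z` outside of the complement of a natural block is moved by an active `P`;
* `mx_big_or` : a minimal exact offender `X ≤ MZ S` is a transvection group, or an `L`-conjugate is in `EP` of a `P` of type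
  `q ≥ 4`;
* `permC_inp` : the complements of the natural blocks are permuted;
* **`mvAct_of_parts`** : `Spl S (MZ S)`, `MvBig S`, `E1S S` ⟹ `MvAct S` (letters: `TvActP.act_of`).
-/

set_option autoImplicit false
set_option linter.unusedSectionVars false

namespace Cfsg.Agent.Omega.NOThreeL.RRed.MvEnd

open Subgroup Cfsg Cfsg.Agent.ZN Cfsg.Agent.Omega.MinPar
open Cfsg.Agent.ZN.ChoiceBase (cj)
open Cfsg.Agent.Omega.FFThm (ElemM OffM NoOverM ConclM)
open Cfsg.Agent.Omega.NOThreeL.RSplit (Nrm)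
open Cfsg.Agent.Omega.NOThreeL.Star (YS)
open Cfsg.Agent.Omega.NOThreeL.RRed
open Cfsg.Agent.Omega.NOThreeL.RRed.NS (fxd brk mem_fxd un val_mem_un smul_eq_iff)
open Cfsg.Agent.Omega.NOThreeL.RRed.WideTree (Act MvAct)
open Cfsg.Agent.Omega.NOThreeL.RTree (RB)
open Cfsg.Agent.Omega.NOThreeL.Merge (MZ le_MZ isLoc_MZ)
open Cfsg.Agent.Omega.NOThreeL.RRed.EOne (E1 E1S)
open Cfsg.Agent.Omega.NOThreeL.RRed.TvFin (TvV Full)
open Cfsg.Agent.Omega.NOThreeL.RRed.FourTree (Bks gen_MZ)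
open Cfsg.Agent.Omega.NOThreeL.RRed.Blk
open Cfsg.Agent.Omega.NOThreeL.RRed.Blk.TypesNat (XH ph ph_smul XH_faith ph_eq ph_surj)
open Cfsg.Agent.Omega.NOThreeL.RRed.Blk.Asm
open Cfsg.Agent.Omega.NOThreeL.RRed.Blk.AsmG (Inp RRs Ps sSup_Ps inact)
open Cfsg.Agent.Omega.NOThreeL.RRed.Blk.AsmCore (EP KP im ph_mem_im)
open Cfsg.Agent.Omega.NOThreeL.RRed.Blk.AsmInp (Spl type_of inp_of act_iff nrm_box)
open scoped Pointwise

universe u

variable {G : Type u} [Group G] [Finite G] {S : Sylow 2 G}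

/-- (M3n): `z ∈ Z` outside of the complement of a natural block is moved by an active `P`. -/
def MvBig (S : Sylow 2 G) : Prop :=
  ∀ Q : Nrm (MZ (S : Subgroup G)) (zl (S : Subgroup G) (MZ (S : Subgroup G))), Inp S (MZ (S : Subgroup G)) Q →
    Spl S (MZ (S : Subgroup G)) →
    ∀ D ∈ FFs (im Q '' AsmCore.EE (S : Subgroup G) (zl (S : Subgroup G) (MZ (S : Subgroup G)))) (RRs S (MZ (S : Subgroup G)) Q),
    ∀ z ∈ zc (S : Subgroup G), ∀ hU : z ∈ zl (S : Subgroup G) (MZ (S : Subgroup G)),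
      Q.of z hU ∉ CC (im Q '' AsmCore.EE (S : Subgroup G) (zl (S : Subgroup G) (MZ (S : Subgroup G)))) Q.Mod D →
      ∃ P, IsParS (S : Subgroup G) P ∧ P ≤ MZ (S : Subgroup G) ∧
        (EP (S : Subgroup G) P (zl (S : Subgroup G) (MZ (S : Subgroup G)))).Nonempty ∧ ¬ P ≤ centralizer ({z} : Set G)

section gen

variable {L X : Subgroup G}

/-- **A minimal exact offender is a transvection group, or a conjugate belongs to a `P` of type `q ≥ 4`.** -/
theorem mx_big_or (hc : IsCharacteristicTwoType G) (hL : IsLoc (S : Subgroup G) L)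
    (hgen : L ≤ sSup {P | IsParS (S : Subgroup G) P ∧ P ≤ L}) (hXL : X ≤ L) (h : Mx (zl (S : Subgroup G) L) X) :
    (∃ t ∈ X, ∃ c ∈ zl (S : Subgroup G) L, TvV (zl (S : Subgroup G) L) c t ∧
        X = zpowers t ⊔ (X ⊓ centralizer (zl (S : Subgroup G) L : Set G))) ∨
      ∃ m ∈ L, ∃ P, GOne S L P (cj m X) ∧ Big4 S P := by
  obtain ⟨m, hm, P, hg⟩ := gOne_of_mx hc hL hgen hXL h
  rcases two2_or hg.concl with h2 | h4
  · left
    obtain ⟨t', ht', c', hc', -, htv, hn⟩ := hg.tv hc h2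
    set V : Subgroup G := zl (S : Subgroup G) L with hV
    have hLV : L ≤ normalizer (V : Set G) := MinSimple.VModule.le_normalizer_zl _ _
    have hmV := hLV hm
    have nV : ∀ {v : G}, v ∈ V ↔ m * v * m⁻¹ ∈ V := fun {v} => mem_normalizer_iff.1 hmV v
    obtain ⟨t, ht, rfl⟩ := ht'
    have et : (MulAut.conj m).toMonoidHom t = m * t * m⁻¹ := rfl
    rw [et] at htv hn
    set c := m⁻¹ * c' * m with hcd
    have ec : m * c * m⁻¹ = c' := by rw [hcd]; group
    have hcV : c ∈ V := by rw [nV, ec]; exact hg.VU hc'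
    have hTv : TvV V c t := by
      intro w hw
      rcases htv (m * w * m⁻¹) (nV.1 hw) with h3 | h3
      · left
        have e : m * (t * w * t⁻¹) * m⁻¹ = m * w * m⁻¹ := by
          rw [← h3]; group
        exact mul_left_cancel (mul_right_cancel e)
      · right
        have e : m * (t * w * t⁻¹) * m⁻¹ = m * (w * c) * m⁻¹ := by
          have e1 : m * (w * c) * m⁻¹ = (m * w * m⁻¹) * (m * c * m⁻¹) := by group
          rw [e1, ec, ← h3]; group
        exact mul_left_cancel (mul_right_cancel e)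
    have htn : t ∉ centralizer (V : Set G) := by
      intro hcon
      apply hn
      rw [mem_centralizer_iff]
      intro v hv
      have hv' : m⁻¹ * v * m ∈ V := by
        rw [nV]
        have e : m * (m⁻¹ * v * m) * m⁻¹ = v := by group
        rwa [e]
      have h3 : (m⁻¹ * v * m) * t = t * (m⁻¹ * v * m) := mem_centralizer_iff.1 hcon _ hv'
      calc v * (m * t * m⁻¹) = m * ((m⁻¹ * v * m) * t) * m⁻¹ := by group
        _ = m * (t * (m⁻¹ * v * m)) * m⁻¹ := by rw [h3]
        _ = m * t * m⁻¹ * v := by group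
    refine ⟨t, ht, c, hcV, hTv, ?_⟩
    set Y : Subgroup G := zpowers t ⊔ (X ⊓ centralizer (V : Set G)) with hY
    have hYX : Y ≤ X := sup_le ((zpowers_le).2 ht) inf_le_left
    have htY : t ∈ Y := mem_sup_left (mem_zpowers t)
    have hYn : ¬ Y ≤ centralizer (V : Set G) := fun hcon => htn (hcon htY)
    have hCY : V ⊓ centralizer (Y : Set G) = V ⊓ centralizer ({t} : Set G) := by
      apply le_antisymm
      · exact inf_le_inf_left _ (centralizer_le (Set.singleton_subset_iff.2 htY))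
      · refine le_inf inf_le_left ?_
        rw [le_centralizer_iff, hY]
        refine sup_le ?_ (inf_le_right.trans (centralizer_le inf_le_left))
        rw [zpowers_le, mem_centralizer_iff]
        intro v hv
        exact (mem_centralizer_singleton_iff.1 hv.2)
    have h1 : Nat.card V ≤ 2 * Nat.card ↥(V ⊓ centralizer (Y : Set G)) := hCY ▸ TvAtom.card_le_tv hTv
    have h3 : 2 * Nat.card ↥(Y ⊓ centralizer (V : Set G)) ≤ Nat.card Y := by
      have h4 : Y ⊓ centralizer (V : Set G) < Y := lt_of_le_of_ne inf_le_left fun e => hYn (inf_eq_left.1 e)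
      have h5 := card_mul_index ((Y ⊓ centralizer (V : Set G)).subgroupOf Y)
      rw [Nat.card_congr (subgroupOfEquivOfLe inf_le_left).toEquiv] at h5
      have h6 : ((Y ⊓ centralizer (V : Set G)).subgroupOf Y).index ≠ 1 := by
        rw [Ne, index_eq_one, subgroupOf_eq_top]
        exact fun h7 => absurd h7 (not_le_of_gt h4)
      have h7 : ((Y ⊓ centralizer (V : Set G)).subgroupOf Y).index ≠ 0 := index_ne_zero_of_finite
      have h8 : 2 ≤ ((Y ⊓ centralizer (V : Set G)).subgroupOf Y).index := by omega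
      calc 2 * Nat.card ↥(Y ⊓ centralizer (V : Set G)) =
          Nat.card ↥(Y ⊓ centralizer (V : Set G)) * 2 := mul_comm _ _
        _ ≤ _ := Nat.mul_le_mul_left _ h8
        _ = Nat.card Y := h5
    have hno := hg.no Y (hYX.trans hXL) (VF.elemM_mono h.toElemM hYX)
    have hex : Nat.card V * Nat.card ↥(Y ⊓ centralizer (V : Set G)) =
        Nat.card Y * Nat.card ↥(V ⊓ centralizer (Y : Set G)) := by
      refine le_antisymm ?_ hno
      calc Nat.card V * Nat.card ↥(Y ⊓ centralizer (V : Set G)) ≤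
          (2 * Nat.card ↥(V ⊓ centralizer (Y : Set G))) * Nat.card ↥(Y ⊓ centralizer (V : Set G)) :=
            Nat.mul_le_mul_right _ h1
        _ = (2 * Nat.card ↥(Y ⊓ centralizer (V : Set G))) * Nat.card ↥(V ⊓ centralizer (Y : Set G)) := by ring
        _ ≤ _ := Nat.mul_le_mul_right _ h3
    rcases h.min Y hYX hex le_sup_right with h4 | h4
    · exact absurd h4 hYn
    · exact h4.symm
  · exact Or.inr ⟨m, hm, P, hg, h4⟩

end gen

section box

/-- **The complements of the natural blocks are permuted.** -/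
theorem permC_inp {L : Subgroup G} {Q : Nrm L (zl (S : Subgroup G) L)} (hc : IsCharacteristicTwoType G)
    (hL : IsLoc (S : Subgroup G) L) (hs : Spl S L) (I : Inp S L Q) :
    ∀ g : XH Q, ∀ D ∈ FFs (im Q '' AsmCore.EE (S : Subgroup G) (zl (S : Subgroup G) L)) (RRs S L Q),
      ∃ D' ∈ FFs (im Q '' AsmCore.EE (S : Subgroup G) (zl (S : Subgroup G) L)) (RRs S L Q), Nat.card D' = Nat.card D ∧
        ∀ m, m ∈ CC (im Q '' AsmCore.EE (S : Subgroup G) (zl (S : Subgroup G) L)) Q.Mod D ↔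
          g • m ∈ CC (im Q '' AsmCore.EE (S : Subgroup G) (zl (S : Subgroup G) L)) Q.Mod D' := by
  have no := I.no
  have h2 := I.two
  obtain ⟨h1, h4, hGB, hF⟩ := I.main (RR := RRs S L Q) le_rfl
  have hRE : RRs S L Q ⊆ im Q '' AsmCore.EE (S : Subgroup G) (zl (S : Subgroup G) L) := by
    rintro _ ⟨-, P, -, -, A, hA, rfl⟩
    exact ⟨A, hA.1, rfl⟩
  exact Asm.permC h2 I.hf I.hno (EE := im Q '' AsmCore.EE (S : Subgroup G) (zl (S : Subgroup G) L)) I.es
    (Ps := Ps (S : Subgroup G) L Q) (by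
    rintro _ ⟨P, hP, hPL, rfl⟩
    by_cases ne : (EP (S : Subgroup G) P (zl (S : Subgroup G) L)).Nonempty
    · refine Or.inr ⟨_, _, I.ac P hP hPL ne, ?_⟩
      rintro _ ⟨A, hA, rfl⟩ hA4 N C hNC
      rcases type_of hc hL no hP hPL ne with h3 | ⟨F, i1, i2, i3, k, hF4, hk, ⟨M⟩⟩
      · have h5 := AsmSmall.card_small hc hL hP hPL no h3 Q hA
        exfalso
        change 4 ≤ Nat.card (im Q A) at hA4
        have h6 : Nat.card (im Q A) ≤ 2 := h5
        omega
      · obtain ⟨-, N', C', hNB, -, -, -, hC, -⟩ := AsmAct.typC_nat hc hL hP hPL no M (hs P hP hPL ne F k M hF4) Q hF4 _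
          ⟨A, hA, rfl⟩
        have h6 := hNB.uniq h2 I.hf I.hno hNC hA4
        rw [← h6.2]
        exact hC
    · exact Or.inl (inact hc Q hP ne)) (sSup_Ps Q I.gen) hRE (fun A hA => hA.1) (by
    intro D hD
    exact ⟨_, _, hGB D (le_FFs hD)⟩)

/-- **(M4)** -/
theorem mvAct_of_parts (B : RB S) (he : E1S (S : Subgroup G)) (hs : Spl S (MZ (S : Subgroup G))) (hb : MvBig S) :
    MvAct (S : Subgroup G) := by
  intro z hz hz1
  by_contra hcon
  push Not at hcon
  apply hz1
  have hc := B.ctx.char2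
  have hL := isLoc_MZ B.ctx B.full B.data.noff
  have hgen := gen_MZ S
  have hSL : (S : Subgroup G) ≤ MZ (S : Subgroup G) := hL.le
  have hzU : z ∈ zl (S : Subgroup G) (MZ (S : Subgroup G)) := MinSimple.VModule.zc_le_zl _ _ hz
  -- it is enough that `E₁` centralises `z`
  suffices hE : E1 (S : Subgroup G) ≤ centralizer ({z} : Set G) by
    have h6 : z ∈ zc (S : Subgroup G) ⊓ centralizer (E1 (S : Subgroup G) : Set G) :=
      ⟨hz, mem_centralizer_iff.2 fun e he' => (mem_centralizer_singleton_iff.1 (hE he'))⟩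
    rwa [show zc (S : Subgroup G) ⊓ centralizer (E1 (S : Subgroup G) : Set G) = ⊥ from he, Subgroup.mem_bot] at h6
  by_cases hne : ∃ A : Subgroup G, A ≤ (S : Subgroup G) ∧ Mx (zl (S : Subgroup G) (YS (S : Subgroup G))) A
  swap
  · refine EOne.E1_le_of (D := ⊥) (by rw [Subgroup.normalizer_eq_top (⊥ : Subgroup G)]; exact le_top)
      (fun A hA hM => absurd ⟨A, hA, hM⟩ hne) |>.trans bot_le
  obtain ⟨A₀, hA₀, hM₀⟩ := hne
  obtain ⟨P₁, A₁, g₁⟩ := exists_gOne hc hL hgen ⟨A₀, hA₀.trans hSL, Mx.off hM₀⟩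
  have no := g₁.no
  have hel := FFThm.elem_zl hc S hL
  set Q := nrm_box B with hQ
  have I : Inp S (MZ (S : Subgroup G)) Q := inp_of hc hL no hgen hs Q
  obtain ⟨h1, h4, hGB, hF⟩ := I.main (RR := RRs S (MZ (S : Subgroup G)) Q) le_rfl
  have hpC := permC_inp hc hL hs I
  -- the fixed vectors of all transvections
  obtain ⟨J, iJ, jJ, N, E, R₀, Om, iO, jO, phi, F⟩ := TvFin.blocks_zl (S := S) (L := MZ (S : Subgroup G)) hSL
    (fun v hv => hel.2 v hv) no
  have hzR : z ∈ R₀ := by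
    by_contra hzR
    have hJ : Nonempty J := by
      by_contra hJ
      rw [not_nonempty_iff] at hJ
      apply hzR
      have h5 := F.sup
      rw [iSup_of_empty, bot_sup_eq] at h5
      rw [h5]
      exact hzU
    obtain ⟨P, hP, hPz, A, hA, hM, hn⟩ := TvActP.act_of B ⟨F, hJ⟩ hz hzR
    exact hPz (hcon P ⟨hP, A, hA, hM, hn⟩)
  -- the intersection of all complements
  set T : AddSubgroup Q.Mod := ⨅ D ∈ FFs (im Q '' AsmCore.EE (S : Subgroup G) (zl (S : Subgroup G) (MZ (S : Subgroup G))))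
    (RRs S (MZ (S : Subgroup G)) Q), CC (im Q '' AsmCore.EE (S : Subgroup G) (zl (S : Subgroup G) (MZ (S : Subgroup G)))) Q.Mod D
    with hT
  have memT : ∀ m : Q.Mod, m ∈ T ↔ ∀ D ∈ FFs (im Q '' AsmCore.EE (S : Subgroup G) (zl (S : Subgroup G) (MZ (S : Subgroup G))))
      (RRs S (MZ (S : Subgroup G)) Q), m ∈ CC (im Q '' AsmCore.EE (S : Subgroup G) (zl (S : Subgroup G) (MZ (S : Subgroup G)))) Q.Mod D := by
    intro m
    simp only [hT, AddSubgroup.mem_iInf]
  have hTinv : ∀ g : XH Q, ∀ m ∈ T, g • m ∈ T := by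
    intro g m hm
    rw [memT] at hm ⊢
    intro D hD
    obtain ⟨D', hD', -, h5⟩ := hpC g⁻¹ D hD
    rw [h5, inv_smul_smul]
    exact hm D' hD'
  have hzT : Q.of z hzU ∈ T := by
    rw [memT]
    intro D hD
    by_contra hnD
    obtain ⟨P, hP, hPL, ne, hPz⟩ := hb Q I hs D hD z hz hzU hnD
    exact hPz (hcon P ((act_iff hc hP).2 ne))
  set R : Subgroup G := un Q T ⊓ R₀ with hR
  have hzRR : z ∈ R := ⟨⟨_, hzT, rfl⟩, hzR⟩
  have hRn : MZ (S : Subgroup G) ≤ normalizer (R : Set G) := by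
    refine (le_inf ((AsmUn.inv_iff Q T).1 hTinv) F.Rnor).trans ?_
    exact Subgroup.inf_normalizer_le_normalizer_inf
  have hRU : R ≤ zl (S : Subgroup G) (MZ (S : Subgroup G)) := inf_le_left.trans (AsmUn.un_le Q T)
  have hE : E1 (S : Subgroup G) ≤ centralizer (R : Set G) := by
    refine EOne.E1_le_of (hRn.trans (RZ.norm_cent le_rfl)) fun A hA hM => ?_
    rcases mx_big_or hc hL hgen (hA.trans hSL) hM with ⟨t, ht, c, hcV, htv, e⟩ | ⟨m, hm, P, hg, hB4⟩
    · rw [e]
      refine sup_le ?_ (inf_le_right.trans (centralizer_le hRU))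
      rw [zpowers_le, mem_centralizer_iff]
      intro v hv
      have h5 := (F.fixR v (hRU hv)).1 hv.2 t (hSL (hA ht)) c hcV htv
      calc v * t = (t * v * t⁻¹) * t := by rw [h5]
        _ = t * v := by group
    · have hmV : m ∈ normalizer (zl (S : Subgroup G) (MZ (S : Subgroup G)) : Set G) :=
        MinSimple.VModule.le_normalizer_zl _ _ hm
      have hA' : cj m A ∈ EP (S : Subgroup G) P (zl (S : Subgroup G) (MZ (S : Subgroup G))) :=
        ⟨⟨hg.AS, CI.mx_conj hM hmV⟩, hg.offP.ne⟩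
      obtain ⟨F', i1, i2, i3, k, hF4, hk, ⟨M⟩⟩ := hB4
      have hsp := hs P hg.par hg.PL ⟨_, hA'⟩ F' k M hF4
      have h5 := (AsmAct.typC_nat hc hL hg.par hg.PL no M hsp Q hF4 _ ⟨_, hA', rfl⟩).1
      have hD : im Q (cj m A) ∈ FFs (im Q '' AsmCore.EE (S : Subgroup G) (zl (S : Subgroup G) (MZ (S : Subgroup G))))
          (RRs S (MZ (S : Subgroup G)) Q) := le_FFs ⟨h5, P, hg.par, hg.PL, _, hA', rfl⟩
      have h6 : cj m A ≤ centralizer (R : Set G) := by
        intro a ha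
        rw [mem_centralizer_iff]
        rintro _ ⟨⟨v, hv, rfl⟩, -⟩
        have h7 := (hGB _ hD).nb.C_le ((memT v).1 hv _ hD) _ (ph_mem_im Q (a := ⟨a, hSL (hg.AS ha)⟩) ha)
        rw [ph_smul, smul_eq_iff] at h7
        exact (mul_inv_eq_iff_eq_mul.1 h7).symm
      have hmR : m⁻¹ ∈ normalizer (R : Set G) := inv_mem (hRn hm)
      have h7 := ChoiceBase.cj_mono m⁻¹ h6
      rwa [ChoiceBase.cj_inv_cj, ChoiceBase.cj_centralizer, ChoiceBase.cj_eq_of_mem_normalizer hmR] at h7
  exact hE.trans (centralizer_le (Set.singleton_subset_iff.2 hzRR))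

end box

end Cfsg.Agent.Omega.NOThreeL.RRed.MvEnd
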