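import Cfsg.Agent.Omega.TV.Basic

/-!
# NO-3L, [R-red], smallest shape: L5 and L6 of #21468 (helper858), the linear part

`M` acts on the `𝔽₂`-module `V`.  `Uq ρ c φ` : `c` is the centre of exactly one induced transvection, with functional
`φ` ((T1)).

* `Uq.conj`, `Uq.symm` ((T2)), `Uq.add`;
* `Tf` : the situation of L5, L6 (`v₁`, `v₂`, `a`, `Z = {0, v₁, v₂, v₁ + v₂}`, L2, L3);
* `Tf.delta` : L5, first part; `Tf.five` : L5, last part;
* `Tf.six` : L6.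
-/

set_option autoImplicit false
set_option linter.unusedSectionVars false

namespace Cfsg.Agent.Omega.NOThreeL.RRed

open Module Cfsg.Agent.Omega.TV

variable {M : Type*} [Group M] {V : Type*} [AddCommGroup V] [Module (ZMod 2) V]
  {ρ : M →* (V ≃ₗ[ZMod 2] V)}

/-- `g` induces the transvection with centre `c` and functional `φ`. -/
def Ind (ρ : M →* (V ≃ₗ[ZMod 2] V)) (g : M) (c : V) (φ : Dual (ZMod 2) V) : Prop :=
  ∀ w, ρ g w = w + φ w • c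

theorem Ind.conj {g : M} {c : V} {φ : Dual (ZMod 2) V} (h : Ind ρ g c φ) (x : M) :
    Ind ρ (x * g * x⁻¹) (ρ x c) (φ ∘ₗ (ρ x⁻¹ : V ≃ₗ[ZMod 2] V).toLinearMap) := by
  intro w
  rw [rmul, rmul, h, map_add, rinv', map_smul]
  rfl

/-- `c` is the centre of exactly one induced transvection, with functional `φ`. -/
structure Uq (ρ : M →* (V ≃ₗ[ZMod 2] V)) (c : V) (φ : Dual (ZMod 2) V) : Prop where
  ne : φ ≠ 0
  fn : Fn ρ c φ
  uq : ∀ ψ, Fn ρ c ψ → ψ = 0 ∨ ψ = φ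

namespace Uq

variable {c d : V} {φ ψ : Dual (ZMod 2) V}

theorem self (h : Uq ρ c φ) : φ c = 0 := h.fn.1

theorem eq (h : Uq ρ c φ) (h' : Uq ρ c ψ) : φ = ψ := (h'.uq _ h.fn).resolve_left h.ne

theorem ex (h : Uq ρ c φ) : ∃ g, Ind ρ g c φ := h.fn.2

theorem conj (h : Uq ρ c φ) (g : M) : Uq ρ (ρ g c) (φ ∘ₗ (ρ g⁻¹ : V ≃ₗ[ZMod 2] V).toLinearMap) where
  ne := by
    intro h0
    apply h.ne
    ext w
    have h1 := LinearMap.congr_fun h0 (ρ g w)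
    simpa [rinv] using h1
  fn := h.fn.conj g
  uq := by
    intro ψ hψ
    have h1 := hψ.conj g⁻¹
    rw [rinv] at h1
    rcases h.uq _ h1 with h2 | h2
    · left
      ext w
      have h3 := LinearMap.congr_fun h2 (ρ g⁻¹ w)
      simpa [rinv'] using h3
    · right
      ext w
      have h3 := LinearMap.congr_fun h2 (ρ g⁻¹ w)
      simpa [rinv'] using h3

/-- **(T2)** -/
theorem symm_aux (hc : Uq ρ c φ) (hd : Uq ρ d ψ) (h : φ d = 1) : ψ c = 1 := by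
  by_contra hcon
  have h0 := z2_ne_one hcon
  have h1 := Fn.cc hd.fn hc.fn
  rw [h, one_smul, h0, zero_smul, add_zero] at h1
  have h2 := h1.addc hd.fn
  have e : d + c + d = c := by
    calc d + c + d = c + (d + d) := by abel
      _ = c := by rw [v_add_self, add_zero]
  rw [e] at h2
  rcases hc.uq _ h2 with h3 | h3
  · exact hd.ne h3
  · rw [h3] at hd
    rw [hd.self] at h
    exact absurd h (by decide)

theorem symm (hc : Uq ρ c φ) (hd : Uq ρ d ψ) : φ d = ψ c := by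
  rcases z2 (φ d) with h | h
  · rcases z2 (ψ c) with h' | h'
    · rw [h, h']
    · have := hd.symm_aux hc h'
      rw [h] at this
      exact absurd this (by decide)
  · rw [h, hc.symm_aux hd h]

/-- `f_{c+d} = f_c + f_d` if `f_c(d) = 1`. -/
theorem add (hc : Uq ρ c φ) (hd : Uq ρ d ψ) (h : φ d = 1) : Uq ρ (c + d) (φ + ψ) := by
  obtain ⟨g, hg⟩ := hc.ex
  have h1 := hd.conj g
  have e1 : ρ g d = c + d := by rw [hg, h, one_smul, add_comm]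
  have e2 : ψ ∘ₗ (ρ g⁻¹ : V ≃ₗ[ZMod 2] V).toLinearMap = φ + ψ := by
    ext w
    have h2 : ρ g⁻¹ w = w + φ w • c := by
      have h3 : ρ g (w + φ w • c) = w := by
        rw [hg]
        simp only [map_add, map_smul, hc.self, smul_zero, add_zero]
        rw [add_assoc, v_add_self, add_zero]
      conv_lhs => rw [← h3]
      rw [rinv]
    show ψ (ρ g⁻¹ w) = φ w + ψ w
    rw [h2]
    simp only [map_add, map_smul, smul_eq_mul]
    rw [← hc.symm hd, h, mul_one, add_comm]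
  rwa [e1, e2] at h1

end Uq

/-- The orbit of `v₁`. -/
def Om (ρ : M →* (V ≃ₗ[ZMod 2] V)) (v₁ : V) : Set V := {c | ∃ g, ρ g v₁ = c}

theorem Om.conj {v₁ c : V} (h : c ∈ Om ρ v₁) (g : M) : ρ g c ∈ Om ρ v₁ := by
  obtain ⟨k, rfl⟩ := h
  exact ⟨g * k, rmul ρ g k v₁⟩

theorem Om.add {v₁ c d : V} {φ : Dual (ZMod 2) V} (hd : d ∈ Om ρ v₁) (hc : Uq ρ c φ) (h : φ d = 1) :
    c + d ∈ Om ρ v₁ := by
  obtain ⟨g, hg⟩ := hc.ex
  have h1 := Om.conj hd g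
  rwa [hg, h, one_smul, add_comm] at h1

theorem Om.ne_zero {v₁ c : V} (hv : v₁ ≠ 0) (h : c ∈ Om ρ v₁) : c ≠ 0 := by
  obtain ⟨k, rfl⟩ := h
  intro h0
  apply hv
  have h1 := congrArg (ρ k⁻¹) h0
  rwa [rinv, map_zero] at h1

/-- The centres of the transvections induced by `S`. -/
def DS (ρ : M →* (V ≃ₗ[ZMod 2] V)) (S : Subgroup M) (v₁ : V) : Set V :=
  {c | c ∈ Om ρ v₁ ∧ ∃ φ, Uq ρ c φ ∧ ∃ s ∈ S, Ind ρ s c φ}

/-- A finite set of vectors permuted by `x` has an `x`-fixed sum. -/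
theorem fix_sum {F : Finset V} {x : M} (hx : ∀ c ∈ F, ρ x c ∈ F) : ρ x (∑ c ∈ F, c) = ∑ c ∈ F, c := by
  classical
  have hi : Set.InjOn (fun c => ρ x c) (F : Set V) := fun _ _ _ _ h => (ρ x).injective h
  have h1 : F.image (fun c => ρ x c) = F := by
    refine Finset.eq_of_subset_of_card_le ?_ ?_
    · intro y hy
      obtain ⟨c, hc, rfl⟩ := Finset.mem_image.1 hy
      exact hx c hc
    · rw [Finset.card_image_of_injOn hi]
  rw [map_sum]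
  conv_rhs => rw [← h1]
  rw [Finset.sum_image hi]

/-- The situation of L5 and L6. -/
structure Tf (ρ : M →* (V ≃ₗ[ZMod 2] V)) (S : Subgroup M) (v₁ v₂ a : V) (f₁ fa : Dual (ZMod 2) V) : Prop where
  ne1 : v₁ ≠ 0
  u1 : Uq ρ v₁ f₁
  ua : Uq ρ a fa
  om : a ∈ Om ρ v₁
  one : f₁ a = 1
  f12 : f₁ v₂ = 0
  fa2 : fa v₂ = 0
  t : ∃ s ∈ S, Ind ρ s v₁ f₁
  s1 : ∀ s ∈ S, ρ s v₁ = v₁
  s2 : ∀ s ∈ S, ρ s v₂ = v₂
  sa : ∀ s ∈ S, ρ s a = a ∨ ρ s a = a + v₁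
  fix : ∀ w, (∀ s ∈ S, ρ s w = w) → w = 0 ∨ w = v₁ ∨ w = v₂ ∨ w = v₁ + v₂
  L2 : ∀ c ∈ Om ρ v₁, (∀ s ∈ S, ρ s c = c) → c = v₁
  L3 : ∀ g, ρ g v₂ = v₂ → ∀ w, (w = v₁ ∨ w = a ∨ w = v₁ + a) → (ρ g w = v₁ ∨ ρ g w = a ∨ ρ g w = v₁ + a)

namespace Tf

variable {S : Subgroup M} {v₁ v₂ a : V} {f₁ fa : Dual (ZMod 2) V} (h : Tf ρ S v₁ v₂ a f₁ fa)
include h

theorem v1_mem : v₁ ∈ Om ρ v₁ := ⟨1, rone ρ v₁⟩

theorem fa1 : fa v₁ = 1 := by rw [← h.u1.symm h.ua, h.one]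

theorem v1_DS : v₁ ∈ DS ρ S v₁ := ⟨h.v1_mem, f₁, h.u1, h.t⟩

theorem S_DS {s : M} (hs : s ∈ S) {c : V} (hc : c ∈ DS ρ S v₁) : ρ s c ∈ DS ρ S v₁ := by
  obtain ⟨h1, φ, h2, s0, hs0, h3⟩ := hc
  exact ⟨Om.conj h1 s, _, h2.conj s, s * s0 * s⁻¹, S.mul_mem (S.mul_mem hs hs0) (S.inv_mem hs), h3.conj s⟩

theorem S_ne {s : M} (hs : s ∈ S) {c : V} (hc : c ≠ v₁) : ρ s c ≠ v₁ := by
  intro h1
  apply hc
  apply (ρ s).injective
  rw [h1, h.s1 s hs]

/-- **L5, first part.** `δ = ∏ (D_S - v₁) = v₂`, `R` fixes `v₁ + v₂`, everything permuting `D_S` and fixing `v₁`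
fixes `v₂`. -/
theorem delta [Finite V] {P₀ R : Set M}
    (hP : ∀ p ∈ P₀, ∀ c ∈ DS ρ S v₁, c ≠ v₁ → ρ p c ∈ DS ρ S v₁ ∧ ρ p c ≠ v₁)
    (hP2 : ∀ p ∈ P₀, ρ p v₂ = v₂) (hP1 : ∃ p ∈ P₀, ρ p v₁ ≠ v₁)
    (hR : ∀ r ∈ R, ∀ c ∈ DS ρ S v₁, ρ r c ∈ DS ρ S v₁) (hR1 : ∃ r ∈ R, ρ r v₁ ≠ v₁) :
    (∀ r ∈ R, ρ r (v₁ + v₂) = v₁ + v₂) ∧
      ∀ x, (∀ c ∈ DS ρ S v₁, ρ x c ∈ DS ρ S v₁) → ρ x v₁ = v₁ → ρ x v₂ = v₂ := by
  classical
  let D : Finset V := (Set.toFinite (DS ρ S v₁)).toFinset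
  let E : Finset V := D.erase v₁
  have hD : ∀ c, c ∈ D ↔ c ∈ DS ρ S v₁ := fun c => Set.Finite.mem_toFinset _
  have hE : ∀ c, c ∈ E ↔ c ∈ DS ρ S v₁ ∧ c ≠ v₁ := fun c => by
    rw [Finset.mem_erase, hD, and_comm]
  have hsum : ∑ c ∈ D, c = v₁ + ∑ c ∈ E, c :=
    (Finset.add_sum_erase D (fun c => c) ((hD _).2 h.v1_DS)).symm
  set δ := ∑ c ∈ E, c with hδ
  have hS : ∀ s ∈ S, ρ s δ = δ := fun s hs => fix_sum fun c hc => by
    rw [hE] at hc ⊢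
    exact ⟨h.S_DS hs hc.1, h.S_ne hs hc.2⟩
  have hPd : ∀ p ∈ P₀, ρ p δ = δ := fun p hp => fix_sum fun c hc => by
    rw [hE] at hc ⊢
    exact hP p hp c hc.1 hc.2
  have hRd : ∀ r ∈ R, ρ r (v₁ + δ) = v₁ + δ := fun r hr => by
    rw [← hsum]
    exact fix_sum fun c hc => by
      rw [hD] at hc ⊢
      exact hR r hr c hc
  obtain ⟨p, hp, hp1⟩ := hP1
  obtain ⟨r, hr, hr1⟩ := hR1
  have hd2 : δ = v₂ := by
    rcases h.fix δ hS with h1 | h1 | h1 | h1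
    · exfalso
      have h2 := hRd r hr
      rw [h1, add_zero] at h2
      exact hr1 h2
    · exfalso
      have h2 := hPd p hp
      rw [h1] at h2
      exact hp1 h2
    · exact h1
    · exfalso
      have h2 := hPd p hp
      rw [h1, map_add, hP2 p hp] at h2
      exact hp1 (add_right_cancel h2)
  refine ⟨fun r hr => hd2 ▸ hRd r hr, fun x hx hx1 => ?_⟩
  have h1 : ρ x δ = δ := fix_sum fun c hc => by
    rw [hE] at hc ⊢
    refine ⟨hx c hc.1, fun h2 => hc.2 ?_⟩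
    apply (ρ x).injective
    rw [h2, hx1]
  rwa [hd2] at h1

/-- `b` with `f_b(v₂) = 0`, `f_b(v₁) = 1` lies in `{a, a + v₁}`. -/
theorem of_L3 {b : V} {fb : Dual (ZMod 2) V} (hb0 : b ≠ 0) (hb : Uq ρ b fb) (h1 : fb v₁ = 1) (h2 : fb v₂ = 0) :
    b = a ∨ b = a + v₁ := by
  obtain ⟨g, hg⟩ := hb.ex
  have h3 := h.L3 g (by rw [hg, h2, zero_smul, add_zero]) v₁ (Or.inl rfl)
  rw [hg, h1, one_smul] at h3
  rcases h3 with h3 | h3 | h3
  · exact absurd (add_eq_left.1 h3) hb0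
  · right
    rw [← h3, add_comm v₁ b, add_add_self]
  · left
    exact add_left_cancel h3

/-- **L5, last part.** -/
theorem five {r : M} (hR12 : ρ r (v₁ + v₂) = v₁ + v₂) (hr1 : ρ r v₁ ≠ v₁) (hrD : ρ r v₁ ∈ DS ρ S v₁)
    (hno : ∀ c ∈ Om ρ v₁, ∀ φ, Uq ρ c φ → φ v₁ = 0 → φ v₂ = 0) : False := by
  have hx := h.u1.conj r
  have hy := h.ua.conj r
  set x := ρ r v₁ with hxd
  set y := ρ r a with hyd
  set fy := fa ∘ₗ (ρ r⁻¹ : V ≃ₗ[ZMod 2] V).toLinearMap with hfy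
  have hy12 : fy (v₁ + v₂) = 1 := by
    have h1 : ρ r⁻¹ (v₁ + v₂) = v₁ + v₂ := by
      conv_lhs => rw [← hR12]
      rw [rinv]
    show fa (ρ r⁻¹ (v₁ + v₂)) = 1
    rw [h1, map_add, h.fa1, h.fa2, add_zero]
  have hyO : y ∈ Om ρ v₁ := Om.conj h.om r
  rcases z2 (fy v₁) with h1 | h1
  · have h2 := hno y hyO fy hy h1
    rw [map_add, h1, h2, add_zero] at hy12
    exact absurd hy12 (by decide)
  · have h2 : fy v₂ = 0 := by
      rw [map_add, h1] at hy12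
      exact add_eq_left.1 hy12
    have h3 := h.of_L3 (Om.ne_zero h.ne1 hyO) hy h1 h2
    obtain ⟨_, φ, hφ, s, hs, hsi⟩ := hrD
    have e1 : φ y = 1 := by
      rw [hφ.eq hx]
      show f₁ (ρ r⁻¹ (ρ r a)) = 1
      rw [rinv, h.one]
    have e2 : ρ s y = y + x := by rw [hsi, e1, one_smul]
    have e3 : ρ s y = y ∨ ρ s y = y + v₁ := by
      rcases h3 with h3 | h3
      · rw [h3]; exact h.sa s hs
      · rw [h3, map_add, h.s1 s hs]
        rcases h.sa s hs with h4 | h4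
        · left; rw [h4]
        · right; rw [h4]
    rw [e2] at e3
    rcases e3 with e3 | e3
    · exact Om.ne_zero h.ne1 (Om.conj h.v1_mem r) (add_eq_left.1 e3)
    · exact hr1 (add_left_cancel e3)

/-- `e = v₁ + a + b` of L6. -/
theorem e_of {b : V} {fb : Dual (ZMod 2) V} (hbO : b ∈ Om ρ v₁) (hb : Uq ρ b fb) (h1 : fb v₁ = 1) (h2 : fb v₂ = 1)
    (h3 : fa b = 0) : ∃ e ∈ Om ρ v₁, ∃ fe, Uq ρ e fe ∧ fe v₁ = 0 ∧ fe v₂ = 1 ∧ fe a = 1 := by
  have e1 : f₁ b = 1 := by rw [h.u1.symm hb, h1]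
  have u1 := h.u1.add h.ua h.one
  have e2 : (f₁ + fa) b = 1 := by rw [LinearMap.add_apply, e1, h3, add_zero]
  refine ⟨v₁ + a + b, Om.add hbO u1 e2, _, u1.add hb e2, ?_, ?_, ?_⟩
  · simp only [LinearMap.add_apply, h.u1.self, h.fa1, h1]
    decide
  · simp only [LinearMap.add_apply, h.f12, h.fa2, h2]
    decide
  · have e3 : fb a = 0 := by rw [← h.ua.symm hb, h3]
    simp only [LinearMap.add_apply, h.one, h.ua.self, e3]
    decide

/-- Claim A of L6: two points `c ≠ c'` with `f(v₁) = 0`, `f(v₂) = f(a) = 1` are not perpendicular. -/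
theorem near {c c' : V} {fc fc' : Dual (ZMod 2) V} (hc : Uq ρ c fc)
    (hc' : Uq ρ c' fc') (c1 : fc v₁ = 0) (c2 : fc v₂ = 1) (ca : fc a = 1) (c1' : fc' v₁ = 0)
    (c2' : fc' v₂ = 1) (ca' : fc' a = 1) (hne : c ≠ c') : fc c' = 1 := by
  by_contra hcon
  have h0 := z2_ne_one hcon
  have u1 := h.u1.add h.ua h.one
  have e1 : f₁ c = 0 := by rw [h.u1.symm hc, c1]
  have e1' : f₁ c' = 0 := by rw [h.u1.symm hc', c1']
  have ea : fa c = 1 := by rw [h.ua.symm hc, ca]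
  have ea' : fa c' = 1 := by rw [h.ua.symm hc', ca']
  have m2 : (f₁ + fa) c = 1 := by rw [LinearMap.add_apply, e1, ea, zero_add]
  have u2 := u1.add hc m2
  have m3 : (f₁ + fa + fc) c' = 1 := by
    simp only [LinearMap.add_apply, e1', ea', h0]
    decide
  have u3 := u2.add hc' m3
  have m4 : (f₁ + fa + fc + fc') a = 1 := by
    simp only [LinearMap.add_apply, h.one, h.ua.self, ca, ca']
    decide
  have u4 := u3.add h.ua m4
  have o4 : v₁ + a + c + c' + a ∈ Om ρ v₁ := Om.add h.om u3 m4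
  have n0 := Om.ne_zero h.ne1 o4
  obtain ⟨g, hg⟩ := u4.ex
  have g2 : (f₁ + fa + fc + fc' + fa) v₂ = 0 := by
    simp only [LinearMap.add_apply, h.f12, h.fa2, c2, c2']
    decide
  have ga : (f₁ + fa + fc + fc' + fa) a = 1 := by
    simp only [LinearMap.add_apply, h.one, h.ua.self, ca, ca']
    decide
  have g1 : (f₁ + fa + fc + fc' + fa) v₁ = 0 := by
    simp only [LinearMap.add_apply, h.u1.self, h.fa1, c1, c1']
    decide
  have h3 := h.L3 g (by rw [hg, g2, zero_smul, add_zero]) a (Or.inr (Or.inl rfl))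
  rw [hg, ga, one_smul] at h3
  have hu : v₁ + a + c + c' + a = v₁ + (c + c') := by
    calc v₁ + a + c + c' + a = v₁ + (c + c') + (a + a) := by abel
      _ = v₁ + (c + c') := by rw [v_add_self, add_zero]
  rcases h3 with h3 | h3 | h3
  · -- `u₄ = v₁ + a`
    have h4 : v₁ + a + c + c' + a = v₁ + a := by
      calc v₁ + a + c + c' + a = (a + (v₁ + a + c + c' + a)) + a := by
            rw [add_comm a (v₁ + a + c + c' + a), add_add_self]
        _ = v₁ + a := by rw [h3]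
    rw [h4] at u4
    have h5 := u4.eq u1
    have h6 := LinearMap.congr_fun h5 v₁
    rw [g1] at h6
    simp only [LinearMap.add_apply, h.u1.self, h.fa1] at h6
    exact absurd h6 (by decide)
  · exact n0 (add_eq_left.1 h3)
  · rw [add_comm v₁ a] at h3
    have h4 := add_left_cancel h3
    apply hne
    apply v_eq_of_add
    have h5 : a + c + c' + a = 0 := by
      have h6 : v₁ + a + c + c' + a = v₁ + (a + c + c' + a) := by abel
      rw [add_comm a v₁, h6] at h4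
      exact add_eq_left.1 h4
    calc c + c' = a + c + c' + a + (a + a) := by rw [v_add_self, add_zero]; rw [show a + c + c' + a = c + c' + (a + a) by abel, v_add_self, add_zero]
      _ = 0 := by rw [h5, v_add_self, add_zero]

/-- L6 with the point `e`. -/
theorem six_e (hX : ∀ e ∈ Om ρ v₁, ∀ φ g, Uq ρ e φ → Ind ρ g e φ → φ v₁ = 0 → φ v₂ = 1 →
      ∃ X : Subgroup M, S ≤ X ∧ X ≤ S ⊔ Subgroup.zpowers g ∧ (∃ x ∈ X, ρ x v₂ ≠ v₂) ∧
        ∃ y z, ∀ x ∈ X, ρ x v₂ = v₂ ∨ ρ x v₂ = y ∨ ρ x v₂ = z)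
    {e : V} (heO : e ∈ Om ρ v₁) {fe : Dual (ZMod 2) V} (he : Uq ρ e fe) (h1 : fe v₁ = 0) (h2 : fe v₂ = 1)
    (h3 : fe a = 1) : False := by
  obtain ⟨g, hg⟩ := he.ex
  obtain ⟨X, hSX, hXg, ⟨x, hxX, hx⟩, y, z, hyz⟩ := hX e heO fe g he hg h1 h2
  have he0 := Om.ne_zero h.ne1 heO
  -- the points of the `S`-orbit
  have hOs : ∀ s ∈ S, Uq ρ (ρ s e) (fe ∘ₗ (ρ s⁻¹ : V ≃ₗ[ZMod 2] V).toLinearMap) := fun s _ => he.conj s
  have p1 : ∀ s ∈ S, (fe ∘ₗ (ρ s⁻¹ : V ≃ₗ[ZMod 2] V).toLinearMap) v₁ = 0 := fun s hs => by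
    show fe (ρ s⁻¹ v₁) = 0
    rw [h.s1 _ (S.inv_mem hs), h1]
  have p2 : ∀ s ∈ S, (fe ∘ₗ (ρ s⁻¹ : V ≃ₗ[ZMod 2] V).toLinearMap) v₂ = 1 := fun s hs => by
    show fe (ρ s⁻¹ v₂) = 1
    rw [h.s2 _ (S.inv_mem hs), h2]
  have p3 : ∀ s ∈ S, (fe ∘ₗ (ρ s⁻¹ : V ≃ₗ[ZMod 2] V).toLinearMap) a = 1 := fun s hs => by
    show fe (ρ s⁻¹ a) = 1
    rcases h.sa _ (S.inv_mem hs) with h4 | h4
    · rw [h4, h3]
    · rw [h4, map_add, h3, h1, add_zero]
  have hA : ∀ s ∈ S, e ≠ ρ s e → fe (ρ s e) = 1 := fun s hs hne =>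
    h.near he (hOs s hs) h1 h2 h3 (p1 s hs) (p2 s hs) (p3 s hs) hne
  -- the set `Y`
  let N : Subgroup M :=
    { carrier := {x | ∀ w, (w = v₂ ∨ ∃ s ∈ S, w = v₂ + ρ s e) ↔ (ρ x w = v₂ ∨ ∃ s ∈ S, ρ x w = v₂ + ρ s e)}
      one_mem' := fun w => by rw [rone]
      mul_mem' := fun {x x'} hx hx' w => by rw [rmul]; exact (hx' w).trans (hx _)
      inv_mem' := fun {x} hx w => by
        have := (hx (ρ x⁻¹ w)).symm
        rwa [rinv'] at this }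
  have hSN : S ≤ N := by
    have key : ∀ s ∈ S, ∀ w, (w = v₂ ∨ ∃ s ∈ S, w = v₂ + ρ s e) → (ρ s w = v₂ ∨ ∃ s' ∈ S, ρ s w = v₂ + ρ s' e) := by
      rintro s hs w (rfl | ⟨s', hs', rfl⟩)
      · exact Or.inl (h.s2 s hs)
      · exact Or.inr ⟨s * s', S.mul_mem hs hs', by rw [map_add, h.s2 s hs, rmul]⟩
    intro s hs w
    refine ⟨key s hs w, fun h4 => ?_⟩
    have h5 := key s⁻¹ (S.inv_mem hs) _ h4
    rwa [rinv] at h5
  have hgN : g ∈ N := by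
    have key : ∀ w, (w = v₂ ∨ ∃ s ∈ S, w = v₂ + ρ s e) → (ρ g w = v₂ ∨ ∃ s' ∈ S, ρ g w = v₂ + ρ s' e) := by
      rintro w (rfl | ⟨s', hs', rfl⟩)
      · exact Or.inr ⟨1, S.one_mem, by rw [hg, h2, one_smul, rone]⟩
      · by_cases hne : e = ρ s' e
        · left
          rw [← hne, hg, map_add, h2, he.self, add_zero, one_smul, add_add_self]
        · right
          refine ⟨s', hs', ?_⟩
          rw [hg, map_add, h2, hA s' hs' hne, show (1 : ZMod 2) + 1 = 0 by decide, zero_smul, add_zero]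
    intro w
    refine ⟨key w, fun h4 => ?_⟩
    have h5 := key _ h4
    have h6 : ρ g (ρ g w) = w := by
      rw [hg, hg w]
      simp only [map_add, map_smul, he.self, smul_zero, add_zero]
      rw [add_add_self]
    rwa [h6] at h5
  have hXN : X ≤ N := hXg.trans (sup_le hSN (by rwa [Subgroup.zpowers_le]))
  -- an element `v₂ + ρ s e` of the `X`-orbit of `v₂`
  obtain ⟨s, hs, hxs⟩ := (((hXN hxX) v₂).1 (Or.inl rfl)).resolve_left hx
  have horb : ∀ s' ∈ S, v₂ + ρ s' e = y ∨ v₂ + ρ s' e = z := by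
    intro s' hs'
    have h4 := hyz (s' * s⁻¹ * x) (X.mul_mem (hSX (S.mul_mem hs' (S.inv_mem hs))) hxX)
    have h5 : ρ (s' * s⁻¹ * x) v₂ = v₂ + ρ s' e := by
      rw [rmul, hxs, map_add, rmul, h.s2 _ (S.inv_mem hs), h.s2 _ hs', rmul, rinv]
    rw [h5] at h4
    refine h4.resolve_left fun h6 => ?_
    exact Om.ne_zero h.ne1 (Om.conj heO s') (add_eq_left.1 h6)
  -- `e` is not fixed by `S`
  obtain ⟨s0, hs0, hne⟩ : ∃ s0 ∈ S, ρ s0 e ≠ e := by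
    by_contra hcon
    push Not at hcon
    have h4 := h.L2 e heO hcon
    rw [h4] at he
    have h5 := he.eq h.u1
    rw [h5, h.f12] at h2
    exact absurd h2 (by decide)
  have htwo : ∀ s' ∈ S, ρ s' e = e ∨ ρ s' e = ρ s0 e := by
    intro s' hs'
    have h4 := horb 1 S.one_mem
    have h5 := horb s0 hs0
    have h6 := horb s' hs'
    rw [rone] at h4
    have k1 : ∀ {u w t : V}, v₂ + u = t → v₂ + w = t → u = w := fun e1 e2 => add_left_cancel (e1.trans e2.symm)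
    rcases h4 with h4 | h4 <;> rcases h5 with h5 | h5 <;> rcases h6 with h6 | h6
    · exact Or.inl (k1 h6 h4)
    · exact absurd (k1 h5 h4) hne
    · exact Or.inl (k1 h6 h4)
    · exact Or.inr (k1 h6 h5)
    · exact Or.inr (k1 h6 h5)
    · exact Or.inl (k1 h6 h4)
    · exact absurd (k1 h5 h4) hne
    · exact Or.inl (k1 h6 h4)
  have hfe := hA s0 hs0 (Ne.symm hne)
  have h4 : e + ρ s0 e ∈ Om ρ v₁ := Om.add (Om.conj heO s0) he hfe
  have h5 := h.L2 _ h4 fun s' hs' => by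
    rw [map_add]
    have h6 := htwo s' hs'
    have h7 := htwo (s' * s0) (S.mul_mem hs' hs0)
    rw [rmul] at h7
    have h8 : ρ s' e ≠ ρ s' (ρ s0 e) := fun h9 => hne ((ρ s').injective h9).symm
    rcases h6 with h6 | h6 <;> rcases h7 with h7 | h7
    · exact absurd (h6.trans h7.symm) h8
    · rw [h6, h7]
    · rw [h6, h7, add_comm]
    · exact absurd (h6.trans h7.symm) h8
  have h6 : fe (e + ρ s0 e) = 1 := by rw [map_add, he.self, hfe, zero_add]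
  rw [h5, h1] at h6
  exact absurd h6 (by decide)

/-- **L6.** -/
theorem six (hX : ∀ e ∈ Om ρ v₁, ∀ φ g, Uq ρ e φ → Ind ρ g e φ → φ v₁ = 0 → φ v₂ = 1 →
      ∃ X : Subgroup M, S ≤ X ∧ X ≤ S ⊔ Subgroup.zpowers g ∧ (∃ x ∈ X, ρ x v₂ ≠ v₂) ∧
        ∃ y z, ∀ x ∈ X, ρ x v₂ = v₂ ∨ ρ x v₂ = y ∨ ρ x v₂ = z)
    {r : M} (hr : ρ r v₁ = v₁) : ρ r a = a ∨ ρ r a = a + v₁ := by
  by_contra hcon
  have hb := h.ua.conj r
  have hbO : ρ r a ∈ Om ρ v₁ := Om.conj h.om r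
  set b := ρ r a with hbd
  set fb := fa ∘ₗ (ρ r⁻¹ : V ≃ₗ[ZMod 2] V).toLinearMap with hfb
  have h1 : fb v₁ = 1 := by
    have e1 : ρ r⁻¹ v₁ = v₁ := by
      conv_lhs => rw [← hr]
      rw [rinv]
    show fa (ρ r⁻¹ v₁) = 1
    rw [e1, h.fa1]
  have h2 : fb v₂ = 1 := by
    by_contra h3
    exact hcon (h.of_L3 (Om.ne_zero h.ne1 hbO) hb h1 (z2_ne_one h3))
  rcases z2 (fa b) with h3 | h3
  · obtain ⟨e, heO, fe, he, e1, e2, e3⟩ := h.e_of hbO hb h1 h2 h3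
    exact h.six_e hX heO he e1 e2 e3
  · have e1 : f₁ b = 1 := by rw [h.u1.symm hb, h1]
    have hb' := h.u1.add hb e1
    obtain ⟨e, heO, fe, he, e1, e2, e3⟩ := h.e_of (Om.add hbO h.u1 e1) hb'
      (by rw [LinearMap.add_apply, h.u1.self, h1, zero_add]) (by rw [LinearMap.add_apply, h.f12, h2, zero_add])
      (by rw [map_add, h.fa1, h3]; decide)
    exact h.six_e hX heO he e1 e2 e3

end Tf

end Cfsg.Agent.Omega.NOThreeL.RRed
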