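import Cfsg.Agent.Omega.NOThreeL.RRed.LFive
import Cfsg.Agent.Omega.NOThreeL.RRed.LinTv

/-!
# NO-3L, box R, the smallest shape: L4, L5, L6 of #21468 together

* `LFr.tf` : the frame of `LinTv` (helper501);
* `LFr.six` : whoever fixes `v₁` normalises the line `⟨v₁, a⟩`;
* `LFr.main` : every `R ∈ PP` fixes `v₁` or `v₂` and normalises the line.
-/

set_option autoImplicit false

namespace Cfsg.Agent.Omega.NOThreeL.RRed.LFr

open Module Cfsg.Agent.Omega.TV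

variable {H : Type*} [Group H] {V : Type*} [AddCommGroup V] [Module (ZMod 2) V]
  {ρ : H →* (V ≃ₗ[ZMod 2] V)} {S : Subgroup H} {Ω : Set V} {f : V → Dual (ZMod 2) V}
  {PP : Set (Subgroup H)} {v₁ v₂ a : V} {P₀ : Subgroup H}

theorem uq (h : LFr ρ S Ω f PP v₁ v₂ a P₀) {c : V} (hc : c ∈ Ω) : Uq ρ c (f c) := ⟨h.ne c hc, h.fn c hc, h.uni c hc⟩

variable (h : LFr ρ S Ω f PP v₁ v₂ a P₀)
include h

theorem om_le {c : V} (hc : c ∈ Om ρ v₁) : c ∈ Ω := by
  obtain ⟨g, rfl⟩ := hc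
  exact h.inv g _ h.m1

theorem tf : Tf ρ S v₁ v₂ a (f v₁) (f a) where
  ne1 := h.v1_ne
  u1 := h.uq h.m1
  ua := h.uq h.a_mem
  om := by
    obtain ⟨r, _, hr⟩ := h.ln0.tr
    exact ⟨r, hr⟩
  one := h.ta
  f12 := h.f12
  fa2 := h.fa2
  t := h.t
  s1 := fun s hs => h.s1 hs
  s2 := h.s2
  sa := h.ln0.us
  fix := h.fix
  L2 := fun c hc => h.l2 c (h.om_le hc)
  L3 := by
    -- `C(v₂)` permutes the line
    have hp : ∃ p ∈ P₀, ρ p v₁ = a := h.ln0.tr
    obtain ⟨p, hp, h1⟩ := hp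
    have hp2 : ρ p v₂ = v₂ := h.ln0.cR p hp
    obtain ⟨s, hs, h2⟩ := h.ln0.exists_mv
    intro g hg w hw
    have key : ∀ k : H, ρ k v₂ = v₂ → ρ k v₁ = w → (ρ g w = v₁ ∨ ρ g w = a ∨ ρ g w = v₁ + a) := by
      intro k hk hkw
      rw [← hkw, ← rmul]
      rcases h.l3 (g * k) (by rw [rmul, hk, hg]) with e | e | e
      · exact Or.inl e
      · exact Or.inr (Or.inl e)
      · exact Or.inr (Or.inr (by rw [e, add_comm]))
    rcases hw with e | e | e
    · exact key 1 (rone ρ _) (by rw [rone, e])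
    · exact key p hp2 (by rw [h1, e])
    · exact key (s * p) (by rw [rmul, hp2, h.s2 s hs]) (by rw [rmul, h1, h2, e, add_comm])

/-- **L6** -/
theorem six [Finite V] {r : H} (hr : ρ r v₁ = v₁) : ρ r a = a ∨ ρ r a = a + v₁ := by
  refine h.tf.six ?_ hr
  intro e he φ g hφ hg h1 h2
  have hg1 : ρ g v₁ = v₁ := by rw [hg, h1, zero_smul, add_zero]
  have hg2 : ρ g v₂ ≠ v₂ := by
    rw [hg, h2, one_smul]
    intro e'
    exact Om.ne_zero h.v1_ne he (by simpa using e')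
  let St : Subgroup H :=
    { carrier := {k | ρ k v₁ = v₁}
      one_mem' := rone ρ v₁
      mul_mem' := by
        intro k l hk hl
        change ρ (k * l) v₁ = v₁
        rw [rmul, show ρ l v₁ = v₁ from hl]; exact hk
      inv_mem' := by
        intro k hk
        change ρ k⁻¹ v₁ = v₁
        nth_rewrite 1 [← show ρ k v₁ = v₁ from hk]
        exact rinv ρ k v₁ }
  have hX1 : S ⊔ Subgroup.zpowers g ≤ St := sup_le (fun s hs => h.s1 hs) (by
    rw [Subgroup.zpowers_le]; exact hg1)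
  obtain ⟨R, hR, hRX, k, hk, hk2⟩ := h.gen _ (le_sup_left : S ≤ S ⊔ Subgroup.zpowers g) (fun k hk => hX1 hk)
    ⟨g, Subgroup.mem_sup_right (Subgroup.mem_zpowers g), hg2⟩
  obtain ⟨z, u, c, hl⟩ := h.par R hR
  refine ⟨R, hl.le, hRX, ⟨k, hk, hk2⟩, ?_⟩
  have hR1 : ρ k v₁ = v₁ := hX1 (hRX hk)
  have hc : c = v₁ := by
    have hck := hl.cR k hk
    rcases h.fix c (fun s hs => hl.cR s (hl.le hs)) with e | e | e | e
    · exact absurd e hl.c0
    · exact e
    · exact absurd (e ▸ hck) hk2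
    · rw [e, map_add, hR1] at hck
      exact absurd (add_left_cancel hck) hk2
  have hz : v₂ = z ∨ v₂ = z + v₁ := by
    rcases h.fix z hl.zS with e | e | e | e
    · exact absurd e hl.z0
    · exact absurd (e.trans hc.symm) hl.ne
    · exact Or.inl e.symm
    · right
      rw [e, add_comm v₁ v₂, add_add_self]
  rcases hz with e | e
  · refine ⟨u, u + z, fun x hx => ?_⟩
    rw [e]
    exact hl.orb x hx
  · refine ⟨u + v₁, u + z + v₁, fun x hx => ?_⟩
    have hx1 : ρ x v₁ = v₁ := hX1 (hRX hx)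
    rw [e, map_add, hx1]
    rcases hl.orb x hx with e1 | e1 | e1
    · left; rw [e1]
    · right; left; rw [e1]
    · right; right; rw [e1]

/-- **L4 - L6.** -/
theorem main [Finite V] {R : Subgroup H} (hR : R ∈ PP) :
    ((∀ r ∈ R, ρ r v₁ = v₁) ∨ ∀ r ∈ R, ρ r v₂ = v₂) ∧
      ∀ r ∈ R, (ρ r v₁ = v₁ ∨ ρ r v₁ = a ∨ ρ r v₁ = a + v₁) ∧ (ρ r a = v₁ ∨ ρ r a = a ∨ ρ r a = a + v₁) := by
  obtain ⟨z, u, c, hl⟩ := h.par R hR
  rcases z2 (f v₁ u) with h0 | h0
  · have h1 := h.l5 hl h0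
    exact ⟨Or.inl h1, fun r hr => ⟨Or.inl (h1 r hr), Or.inr (h.six (h1 r hr))⟩⟩
  · obtain ⟨e1, e2, e3⟩ := h.l4 hl h0
    subst e1
    subst e2
    refine ⟨Or.inr hl.cR, fun r hr => ?_⟩
    have h2 := hl.orb r hr
    have h3 := hl.pre r hr
    rcases e3 with e | e
    · subst e
      exact ⟨h2, h3⟩
    · have e4 : u + z = a := by rw [e, add_add_self]
      obtain ⟨q, hq, h5⟩ := hl.tr
      obtain ⟨s, hs, h6⟩ := hl.exists_mv
      have h7 := hl.orb (r * (s * q)) (mul_mem hr (mul_mem (hl.le hs) hq))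
      rw [rmul, rmul, h5, h6] at h7
      rw [e4, e] at h2 h7
      exact ⟨h2.imp_right Or.symm, h7.imp_right Or.symm⟩

end Cfsg.Agent.Omega.NOThreeL.RRed.LFr
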