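import Cfsg.Agent.Omega.NOThreeL.RRed.Base
import Cfsg.Agent.Omega.NOThreeL.RRed.LMain
import Cfsg.Agent.Omega.TV.Group

/-!
# NO-3L, box R, the smallest shape: the frame `LFr` from `Sd` (#21468, L2, L4 - L6)

* `exists_usys` : the orbit of a centre of a unique transvection;
* `Sd.main` : every `R ∈ P*(S)` centralises `v₁` or `v₂` and normalises the line `⟨v₁, a⟩`.
-/

set_option autoImplicit false
set_option linter.unusedSectionVars false

namespace Cfsg.Agent.Omega.NOThreeL.RRed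

open Module Cfsg.Agent.Omega.TV

section lin

variable {H : Type*} [Group H] {V : Type*} [AddCommGroup V] [Module (ZMod 2) V]
  {ρ : H →* (V ≃ₗ[ZMod 2] V)}

theorem exists_usys {v : V} (hv : v ≠ 0) {φ : Dual (ZMod 2) V} (h1 : Fn ρ v φ) (hne : φ ≠ 0)
    (hu : ∀ ψ, Fn ρ v ψ → ψ = 0 ∨ ψ = φ) : ∃ f : V → Dual (ZMod 2) V, USys ρ (Om ρ v) f ∧ f v = φ := by
  classical
  let f : V → Dual (ZMod 2) V := fun c =>
    if h : ∃ g, ρ g v = c then φ ∘ₗ (ρ h.choose⁻¹ : V ≃ₗ[ZMod 2] V).toLinearMap else 0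
  have hf : ∀ c, (h : ∃ g, ρ g v = c) → f c = φ ∘ₗ (ρ h.choose⁻¹ : V ≃ₗ[ZMod 2] V).toLinearMap := fun c h => dif_pos h
  have hfn : ∀ c ∈ Om ρ v, Fn ρ c (f c) := by
    intro c hc
    have h2 := h1.conj hc.choose
    rw [hf c hc]
    rwa [hc.choose_spec] at h2
  have hne' : ∀ c ∈ Om ρ v, f c ≠ 0 := by
    intro c hc h2
    apply hne
    rw [hf c hc] at h2
    ext x
    have h3 := LinearMap.congr_fun h2 (ρ hc.choose x)
    simpa [rinv] using h3
  have huni : ∀ c ∈ Om ρ v, ∀ ψ, Fn ρ c ψ → ψ = 0 ∨ ψ = f c := by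
    intro c hc ψ hψ
    have h2 := hψ.conj hc.choose⁻¹
    have h3 : ρ hc.choose⁻¹ c = v :=
      (congrArg (ρ hc.choose⁻¹) hc.choose_spec.symm).trans (rinv ρ _ _)
    rw [h3] at h2
    rcases hu _ h2 with h4 | h4
    · left
      ext x
      have h5 := LinearMap.congr_fun h4 (ρ hc.choose⁻¹ x)
      simpa [rinv'] using h5
    · right
      rw [hf c hc]
      ext x
      have h5 := LinearMap.congr_fun h4 (ρ hc.choose⁻¹ x)
      simpa [rinv'] using h5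
  have hvv : v ∈ Om ρ v := ⟨1, rone ρ v⟩
  refine ⟨f, ⟨?_, fun g c hc => Om.conj hc g, hfn, hne', huni⟩, ?_⟩
  · intro h0
    exact Om.ne_zero hv h0 rfl
  · exact ((huni v hvv φ h1).resolve_left hne).symm

/-- **L2**, linear part. -/
theorem USys.l2_aux {Ω : Set V} {f : V → Dual (ZMod 2) V} (h : USys ρ Ω f) {v₁ v₂ a : V} (m1 : v₁ ∈ Ω)
    (ma : a ∈ Ω) (m12 : v₁ + v₂ ∈ Ω) (ta : f v₁ a = 1) (fa2 : f a v₂ = 0) (h2 : v₂ ≠ 0) {s : H}
    (hs : ∀ x, ρ s x = x ∨ ρ s x = x + (v₁ + v₂)) (hne : ∃ x, ρ s x ≠ x)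
    (hsa : ρ s a = a ∨ ρ s a = a + v₁) : False := by
  have h0 : v₁ + v₂ ≠ 0 := h.c_ne m12
  obtain ⟨φ, hφ⟩ := exists_functional (ρ s) h0 hs
  have hφ0 : φ (v₁ + v₂) = 0 := by
    by_contra hcon
    have h3 := hφ (v₁ + v₂)
    rw [z2_ne_zero hcon, one_smul, v_add_self] at h3
    exact h0 ((ρ s).map_eq_zero_iff.1 h3)
  have hφ1 : φ = f (v₁ + v₂) := by
    refine (h.uni _ m12 φ ⟨hφ0, s, hφ⟩).resolve_left ?_
    rintro rfl
    obtain ⟨x, hx⟩ := hne
    apply hx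
    rw [hφ x]; simp
  have h4 : φ a = 1 := by
    rw [hφ1, h.symm m12 ma, map_add, fa2, add_zero, h.symm ma m1]
    exact ta
  have h5 := hφ a
  rw [h4, one_smul] at h5
  rcases hsa with e | e
  · rw [e] at h5
    exact h0 (by simpa using h5)
  · rw [e] at h5
    have h6 := add_left_cancel h5
    exact h2 (by simpa using h6)

end lin

open Subgroup Cfsg Cfsg.Agent.ZN Cfsg.Agent.Omega.MinPar Cfsg.Agent.Omega.Frame Cfsg.Agent.Omega.FrameNOFF
open Cfsg.Agent.Omega.Node.NO3L Cfsg.Agent.Omega.NOThreeL.Basic Cfsg.Agent.Omega.NOThreeL.RTree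
open Cfsg.Agent.Omega.NOThreeL.Merge (MZ)

universe u

variable {G : Type u} [Group G] [Finite G] {S : Sylow 2 G}

/-- The representation of `MZ S` on `V*`. -/
noncomputable def rep (B : RB S) : ↥(MZ (S : Subgroup G)) →*
    (EA (Wd (S : Subgroup G)) (wsq B) ≃ₗ[ZMod 2] EA (Wd (S : Subgroup G)) (wsq B)) :=
  EA.crep (wsq B) (MZ (S : Subgroup G)) nor

theorem val_rep (B : RB S) (g : MZ (S : Subgroup G)) (x : EA (Wd (S : Subgroup G)) (wsq B)) :
    (rep B g x).val = (g : G) * x.val * (g : G)⁻¹ := rfl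

theorem norm_of_conj_le {n : G} (h : ∀ s ∈ (S : Subgroup G), n⁻¹ * s * n ∈ (S : Subgroup G)) :
    n ∈ normalizer ((S : Subgroup G) : Set G) := by
  have h1 : n⁻¹ ∈ normalizer ((S : Subgroup G) : Set G) :=
    mem_normalizer_fintype fun s hs => by rw [inv_inv]; exact h s hs
  simpa using inv_mem h1

/-- Burnside. -/
theorem exists_three (h : Sm S) {v₁ v₂ m : G} (h1 : v₁ ∈ zc (S : Subgroup G)) (h2 : v₂ ∈ zc (S : Subgroup G))
    (h11 : v₁ ≠ 1) (h21 : v₂ ≠ 1) (hne : v₁ ≠ v₂) (hm : m ∈ MZ (S : Subgroup G))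
    (hz : m * v₁ * m⁻¹ ∈ zc (S : Subgroup G)) (hne' : m * v₁ * m⁻¹ ≠ v₁) :
    ∃ n ∈ MZ (S : Subgroup G), n ∈ normalizer ((S : Subgroup G) : Set G) ∧ n * v₁ * n⁻¹ = v₁ * v₂ := by
  obtain ⟨n, hn, e1, h3⟩ := VF.exists_conj_fix S (SM h.toRB) (z := v₁) (m := m) (mem_zc.1 h1).2.1 hm
  have hnS : n ∈ normalizer ((S : Subgroup G) : Set G) :=
    norm_of_conj_le fun s hs => h3 s hs ((mem_zc.1 hz).2.1 s hs)
  rcases (h.zc_iff h1 h2 h11 h21 hne _).1 hz with e | e | e | e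
  · exact absurd (conj_eq_one_iff.1 e) h11
  · exact absurd e hne'
  · rw [e] at e1
    have h4 := conj_zc hnS h2
    rcases (h.zc_iff h1 h2 h11 h21 hne _).1 h4 with e' | e' | e' | e'
    · exact absurd (conj_eq_one_iff.1 e') h21
    · exact absurd (not_swap hnS h1 e1 e') hne
    · exfalso
      rw [← e'] at e1
      exact hne (mul_left_cancel (mul_right_cancel e1))
    · refine ⟨n * n, mul_mem hn hn, mul_mem hnS hnS, ?_⟩
      calc n * n * v₁ * (n * n)⁻¹ = n * (n * v₁ * n⁻¹) * n⁻¹ := by group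
        _ = v₁ * v₂ := by rw [e1, e']
  · exact ⟨n, hn, hnS, e1.trans e⟩

/-- The line of `P ∈ P*(S)` in `V*`. -/
theorem Ln.lin (B : RB S) {P : Subgroup G} (hP : IsParS (S : Subgroup G) P) {z u c : G}
    (hl : Ln (S : Subgroup G) P z u c) (hz : z ∈ Wd (S : Subgroup G)) (hu : u ∈ Wd (S : Subgroup G))
    (hc : c ∈ Wd (S : Subgroup G)) :
    LnV (rep B) ((S : Subgroup G).subgroupOf (MZ (S : Subgroup G))) (P.subgroupOf (MZ (S : Subgroup G)))
      (EA.mk (wsq B) z hz) (EA.mk (wsq B) u hu) (EA.mk (wsq B) c hc) where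
  le := fun x hx => hP.le hx
  z0 := fun e => hl.z1 (EA.val_eq_one.2 e)
  c0 := fun e => hl.c1 (EA.val_eq_one.2 e)
  ne := fun e => hl.ne (congrArg EA.val e)
  zS := fun s hs => EA.ext (by
    change (s : G) * z * (s : G)⁻¹ = z
    rw [hl.zs (show (s : G) ∈ (S : Subgroup G) from hs)]; group)
  cR := fun r hr => EA.ext (hl.cP r hr)
  us := fun s hs => (hl.us s hs).imp (fun e => EA.ext e) (fun e => EA.ext e)
  mv := by
    obtain ⟨s, hs, h1⟩ := hl.mv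
    exact ⟨⟨s, SM B hs⟩, hs, fun e => h1 (congrArg EA.val e)⟩
  orb := fun r hr => (hl.orb r hr).imp (fun e => EA.ext e) (Or.imp (fun e => EA.ext e) (fun e => EA.ext e))
  tr := by
    obtain ⟨p, hp, h1⟩ := hl.tr
    exact ⟨⟨p, le_MZ hP hp⟩, hp, EA.ext h1⟩
  o2 := fun s hs e r hr => hl.conj_mem B.ctx.char2 hP hs (congrArg EA.val e) hr

namespace Sd

variable {P₀ : Subgroup G} {v₁ v₂ a t : G}

/-- **The frame `LFr`.** -/
theorem exists_fr (h : Sd S P₀ v₁ v₂ a t)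
    (hline : ∀ P, IsParS (S : Subgroup G) P → ∃ z u c, Ln (S : Subgroup G) P z u c)
    (hl3 : ∀ g ∈ MZ (S : Subgroup G), g * v₂ * g⁻¹ = v₂ →
      g * v₁ * g⁻¹ = v₁ ∨ g * v₁ * g⁻¹ = a ∨ g * v₁ * g⁻¹ = a * v₁)
    (h1W : v₁ ∈ Wd (S : Subgroup G)) (h2W : v₂ ∈ Wd (S : Subgroup G)) (haW : a ∈ Wd (S : Subgroup G)) :
    ∃ f, LFr (rep h.sm.toRB) ((S : Subgroup G).subgroupOf (MZ (S : Subgroup G)))
      (Om (rep h.sm.toRB) (EA.mk (wsq h.sm.toRB) v₁ h1W)) f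
      {R' | ∃ R, IsParS (S : Subgroup G) R ∧ R' = R.subgroupOf (MZ (S : Subgroup G))}
      (EA.mk (wsq h.sm.toRB) v₁ h1W) (EA.mk (wsq h.sm.toRB) v₂ h2W) (EA.mk (wsq h.sm.toRB) a haW)
      (P₀.subgroupOf (MZ (S : Subgroup G))) := by
  set B := h.sm.toRB with hB
  set e₁ := EA.mk (wsq B) v₁ h1W with he1
  set e₂ := EA.mk (wsq B) v₂ h2W with he2
  set ea := EA.mk (wsq B) a haW with hea
  set ρ := rep B with hρ
  have hSM := SM B
  have hln0 := h.ln.lin B h.par h1W haW h2W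
  have h10 : e₁ ≠ 0 := hln0.z0
  have htM : t ∈ MZ (S : Subgroup G) := hSM h.tS
  obtain ⟨φ, hφ⟩ := exists_functional (ρ ⟨t, htM⟩) h10 (fun x =>
    (h.tv x.val x.val_mem).imp (fun e => EA.ext e) (fun e => EA.ext e))
  have hφ1 : φ e₁ = 0 := by
    by_contra hcon
    have h3 := hφ e₁
    rw [z2_ne_zero hcon, one_smul, v_add_self] at h3
    exact h10 ((ρ ⟨t, htM⟩).map_eq_zero_iff.1 h3)
  have hfn : Fn ρ e₁ φ := ⟨hφ1, ⟨t, htM⟩, hφ⟩
  have hta : φ ea = 1 := by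
    by_contra hcon
    have h3 := hφ ea
    rw [z2_ne_one hcon, zero_smul, add_zero] at h3
    have h4 : t * a * t⁻¹ = a := congrArg EA.val h3
    rw [h.ta] at h4
    exact h.ln.z1 (mul_eq_left.1 h4)
  have hφ0 : φ ≠ 0 := by
    rintro rfl
    exact zero_ne_one hta
  have huni : ∀ ψ, Fn ρ e₁ ψ → ψ = 0 ∨ ψ = φ := by
    rintro ψ ⟨hψ1, g, hg⟩
    have h3 : Tv (zl (S : Subgroup G) (MZ (S : Subgroup G))) v₁ (g : G) := by
      intro w hw
      have h4 := hg (EA.mk (wsq B) w hw)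
      rcases z2 (ψ (EA.mk (wsq B) w hw)) with e | e
      · left
        rw [e, zero_smul, add_zero] at h4
        exact congrArg EA.val h4
      · right
        rw [e, one_smul] at h4
        exact congrArg EA.val h4
    rcases h.uni g g.2 h3 with h4 | h4
    · left
      ext x
      by_contra hcon
      have h5 := hg x
      rw [z2_ne_zero hcon, one_smul] at h5
      have h6 : ρ g x = x := EA.ext (by
        change (g : G) * x.val * (g : G)⁻¹ = x.val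
        have := mem_centralizer_iff.1 h4 x.val x.val_mem
        rw [← this]; group)
      rw [h6] at h5
      exact h10 (by simpa using h5)
    · right
      ext x
      have h5 := hg x
      have h6 := hφ x
      have h7 : ρ g x = ρ ⟨t, htM⟩ x := EA.ext (by
        change (g : G) * x.val * (g : G)⁻¹ = t * x.val * t⁻¹
        have := mem_centralizer_iff.1 h4 x.val x.val_mem
        calc (g : G) * x.val * (g : G)⁻¹ = g * (x.val * ((g : G)⁻¹ * t)) * t⁻¹ := by group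
          _ = t * x.val * t⁻¹ := by rw [this]; group)
      rw [h5, h6] at h7
      have h8 := add_left_cancel h7
      rcases z2 (ψ x) with e | e <;> rcases z2 (φ x) with e' | e'
      · rw [e, e']
      · rw [e, e', zero_smul, one_smul] at h8
        exact absurd h8.symm h10
      · rw [e, e', zero_smul, one_smul] at h8
        exact absurd h8 h10
      · rw [e, e']
  obtain ⟨f, U, hf1⟩ := exists_usys h10 hfn hφ0 huni
  have m1 : e₁ ∈ Om ρ e₁ := ⟨1, rone ρ e₁⟩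
  have hfa : f e₁ ea = 1 := by rw [hf1]; exact hta
  have hfx : ∀ x : EA (Wd (S : Subgroup G)) (wsq B), ρ ⟨t, htM⟩ x = x + f e₁ x • e₁ := by
    intro x; rw [hf1]; exact hφ x
  obtain ⟨q, hq, hqa⟩ := hln0.tr
  have hqa' : ρ q e₁ = ea := hqa
  have ma : ea ∈ Om ρ e₁ := ⟨q, hqa⟩
  have hs2 : ∀ s ∈ (S : Subgroup G).subgroupOf (MZ (S : Subgroup G)), ρ s e₂ = e₂ := fun s hs =>
    hln0.cR s (hln0.le hs)
  have hf12 : f e₁ e₂ = 0 := by
    by_contra hcon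
    have h3 := hfx e₂
    rw [hs2 ⟨t, htM⟩ h.tS, z2_ne_zero hcon, one_smul] at h3
    exact h10 (by simpa using h3)
  have hfa2 : f ea e₂ = 0 := by
    rw [← hqa', U.eqv' q m1 (hln0.cR q hq)]
    exact hf12
  have hz1 := h.ln.zS
  have hz2 := h.ln.cS
  have hzc : ∀ x : EA (Wd (S : Subgroup G)) (wsq B),
      (∀ s ∈ (S : Subgroup G).subgroupOf (MZ (S : Subgroup G)), ρ s x = x) → x.val ∈ zc (S : Subgroup G) := by
    intro x hx
    exact zc_of_fix B x.val_mem fun s hs => congrArg EA.val (hx ⟨s, hSM hs⟩ hs)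
  have hzi := h.sm.zc_iff hz1 hz2 h.ln.z1 h.ln.c1 h.ln.ne
  refine ⟨f, { U with
    m1 := m1
    fix := ?_
    s2 := hs2
    mem0 := ⟨P₀, h.par, rfl⟩
    ln0 := hln0
    par := ?_
    t := ⟨⟨t, htM⟩, h.tS, hfx⟩
    ta := hfa
    l2 := ?_
    l3 := ?_
    gen := ?_ }⟩
  · intro x hx
    rcases (hzi _).1 (hzc x hx) with e | e | e | e
    · exact Or.inl (EA.val_eq_one.1 e)
    · exact Or.inr (Or.inl (EA.ext e))
    · exact Or.inr (Or.inr (Or.inl (EA.ext e)))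
    · exact Or.inr (Or.inr (Or.inr (EA.ext e)))
  · rintro _ ⟨R, hR, rfl⟩
    obtain ⟨z, u, c, hl⟩ := hline R hR
    exact ⟨_, _, _, hl.lin B hR (zc_le_Wd _ hl.zS) (zl_le_Wd hR hl.uV) (zc_le_Wd _ hl.cS)⟩
  · rintro c ⟨m, rfl⟩ hc
    by_contra hne
    have h3 : (m : G) * v₁ * (m : G)⁻¹ ∈ zc (S : Subgroup G) := hzc _ hc
    obtain ⟨n, hn, hnS, h4⟩ := exists_three h.sm hz1 hz2 h.ln.z1 h.ln.c1 h.ln.ne m.2 h3
      fun e => hne (EA.ext e)
    have m12 : e₁ + e₂ ∈ Om ρ e₁ := ⟨⟨n, hn⟩, EA.ext h4⟩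
    have hsS : n * t * n⁻¹ ∈ (S : Subgroup G) := (mem_normalizer_iff.1 hnS t).1 h.tS
    have hsx : ∀ x : EA (Wd (S : Subgroup G)) (wsq B), ρ ⟨n * t * n⁻¹, hSM hsS⟩ x =
        ρ ⟨n, hn⟩ (ρ ⟨t, htM⟩ (ρ ⟨n, hn⟩⁻¹ x)) := by
      intro x
      rw [← rmul, ← rmul]
      rfl
    have hne12 : ρ ⟨n, hn⟩ e₁ = e₁ + e₂ := EA.ext h4
    refine U.l2_aux m1 ma m12 hfa hfa2 hln0.c0 (s := ⟨n * t * n⁻¹, hSM hsS⟩) (fun x => ?_)
      ⟨ρ ⟨n, hn⟩ ea, ?_⟩ (hln0.us _ hsS)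
    · rw [hsx, hfx, map_add, rinv']
      rcases z2 (f e₁ (ρ ⟨n, hn⟩⁻¹ x)) with e | e
      · left; rw [e, zero_smul, map_zero, add_zero]
      · right; rw [e, one_smul, hne12]
    · rw [hsx, rinv, hfx, hfa, one_smul, map_add, hne12]
      intro e
      exact U.c_ne m12 (by simpa using e)
  · intro g hg
    exact (hl3 g g.2 (congrArg EA.val hg)).imp (fun e => EA.ext e)
      (Or.imp (fun e => EA.ext e) (fun e => EA.ext e))
  · intro X hSX hX1 hX2
    obtain ⟨g, hg, hg2⟩ := hX2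
    obtain ⟨R, hR, hRX, r, hr, hr2⟩ := h.sm.gen hz1 hz2 h.ln.z1 h.ln.c1 h.ln.ne
      (X := X.map (MZ (S : Subgroup G)).subtype)
      (fun s hs => ⟨⟨s, hSM hs⟩, hSX hs, rfl⟩)
      (by rintro _ ⟨x, hx, rfl⟩; exact congrArg EA.val (hX1 x hx))
      ⟨g, ⟨g, hg, rfl⟩, fun e => hg2 (EA.ext e)⟩
    refine ⟨_, ⟨R, hR, rfl⟩, fun x hx => ?_, ⟨r, le_MZ hR hr⟩, hr, fun e => hr2 (congrArg EA.val e)⟩
    obtain ⟨y, hy, hyx⟩ := hRX hx
    have : y = x := Subtype.ext hyx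
    rwa [← this]

/-- **L4 - L6** in the group. -/
theorem main (h : Sd S P₀ v₁ v₂ a t)
    (hline : ∀ P, IsParS (S : Subgroup G) P → ∃ z u c, Ln (S : Subgroup G) P z u c)
    (hl3 : ∀ g ∈ MZ (S : Subgroup G), g * v₂ * g⁻¹ = v₂ →
      g * v₁ * g⁻¹ = v₁ ∨ g * v₁ * g⁻¹ = a ∨ g * v₁ * g⁻¹ = a * v₁)
    {R : Subgroup G} (hR : IsParS (S : Subgroup G) R) :
    (R ≤ centralizer ({v₁} : Set G) ∨ R ≤ centralizer ({v₂} : Set G)) ∧
      R ≤ normalizer (li v₁ a : Set G) := by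
  have h1W := zc_le_Wd _ h.ln.zS
  have h2W := zc_le_Wd _ h.ln.cS
  have haW := zl_le_Wd h.par h.ln.uV
  obtain ⟨f, F⟩ := h.exists_fr hline hl3 h1W h2W haW
  obtain ⟨h3, h4⟩ := F.main ⟨R, hR, rfl⟩
  refine ⟨?_, ?_⟩
  · rcases h3 with h3 | h3
    · left
      intro r hr
      have h5 : r * v₁ * r⁻¹ = v₁ := congrArg EA.val (h3 ⟨r, le_MZ hR hr⟩ hr)
      rw [mem_centralizer_singleton_iff]
      calc r * v₁ = (r * v₁ * r⁻¹) * r := by group
        _ = v₁ * r := by rw [h5]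
    · right
      intro r hr
      have h5 : r * v₂ * r⁻¹ = v₂ := congrArg EA.val (h3 ⟨r, le_MZ hR hr⟩ hr)
      rw [mem_centralizer_singleton_iff]
      calc r * v₂ = (r * v₂ * r⁻¹) * r := by group
        _ = v₂ * r := by rw [h5]
  · have key : ∀ r ∈ R, ∀ x ∈ li v₁ a, r * x * r⁻¹ ∈ li v₁ a := by
      intro r hr
      obtain ⟨h5, h6⟩ := h4 ⟨r, le_MZ hR hr⟩ hr
      have h7 : r * v₁ * r⁻¹ ∈ li v₁ a := by
        rw [h.ln.mem_li]
        rcases h5 with e | e | e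
        · exact Or.inr (Or.inl (congrArg EA.val e))
        · exact Or.inr (Or.inr (Or.inl (congrArg EA.val e)))
        · exact Or.inr (Or.inr (Or.inr (congrArg EA.val e)))
      have h8 : r * a * r⁻¹ ∈ li v₁ a := by
        rw [h.ln.mem_li]
        rcases h6 with e | e | e
        · exact Or.inr (Or.inl (congrArg EA.val e))
        · exact Or.inr (Or.inr (Or.inl (congrArg EA.val e)))
        · exact Or.inr (Or.inr (Or.inr (congrArg EA.val e)))
      intro x hx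
      rcases h.ln.mem_li.1 hx with rfl | rfl | rfl | rfl
      · simp
      · exact h7
      · exact h8
      · have e : r * (a * v₁) * r⁻¹ = (r * a * r⁻¹) * (r * v₁ * r⁻¹) := by group
        rw [e]; exact mul_mem h8 h7
    intro r hr
    rw [mem_normalizer_iff]
    intro x
    refine ⟨key r hr x, fun hx => ?_⟩
    have h1 := key r⁻¹ (inv_mem hr) _ hx
    have e : r⁻¹ * (r * x * r⁻¹) * r⁻¹⁻¹ = x := by group
    rwa [e] at h1

end Sd

end Cfsg.Agent.Omega.NOThreeL.RRed
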