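import Cfsg.Agent.Omega.NOThreeL.VF.One
import Cfsg.Agent.Omega.BTwo.Avg
import Cfsg.Agent.Omega.NoFF.Basic
import Cfsg.Agent.PLocal.OffenderStep

/-!
# NO-3L, box R: THE CLASS MODULE THEOREM (#24537, helper241)

`M` acts on the elementary abelian 2-group `V`, `S` is a 2-subgroup of `M` of odd index, `V = ⟨C_V(S)^M⟩`; `EE` is a
set of subgroups of `S` which act as elementary abelian 2-groups. `E_A = ⟨A^M⟩`, `W_A = [V, E_A]`, `C_A = C_V(E_A)`.

* `Bs S M V` : the base; `Bs.dec`, `Bs.split` : `V = [V, E] C_V(E)`, `C_V(S) = C_[V,E](S) C_V(ES)` for every `E ⊴ M`;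
  `Bs.le_cent` : a normal subgroup of `M` which acts as a 2-group centralises `V`;
* `Sys S M V EE` : the hypotheses: (D) `dich` : `A ∈ EE`, `U ≤ V` is `M`-invariant: `[U, A] = 1` or `V = U C_V(A)`;
  (mv) every `z ∈ C_V(S)#` is moved: some `A ∈ EE` moves `⟨z^M⟩`;
* `Sys.dich'` : `U ≤ C_A` or `W_A ≤ U`;
* `Sys.inf_bot`, `Sys.sup_eq` : `V = W_A × C_A`;  `Sys.genW`, `Sys.genC` : both are generated by the conjugates of
  their `S`-fixed points;  `Sys.fix_eq` : `C_V(S) = C_(W_A)(S) × C_(C_A)(S)`;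
* `Sys.pair` : `W_A = W_B`, or `W_A ≤ C_B` and `W_B ≤ C_A`;
* `Sys.irr` : `W_A` is irreducible;
* `Sys.le_of_WW`, `Sys.iSup_eq` : `V` is the product of the `W_A`;  `Sys.indep`, `Sys.CC_eq_Rest` : `C_A` is the
  product of the `W_B ≠ W_A`, it meets `W_A` trivially;
* `conj_WW`, `conj_CC` : conjugation by elements which normalise `M` and `V`.
-/

set_option autoImplicit false
set_option linter.unusedSectionVars false

namespace Cfsg.Agent.Omega.NOThreeL.RRed.CM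

open Subgroup
open Cfsg.Agent.Omega.FFThm (ElemM)
open scoped Pointwise commutatorElement

universe u

variable {G : Type u} [Group G]

/-! ### Closures, centralisers modulo `U` -/

theorem mem_norm_iff {g : G} {H : Subgroup G} : g ∈ normalizer (H : Set G) ↔ MulAut.conj g • H = H :=
  Cfsg.Agent.ZN.ChoiceBase.mem_normalizer_iff_cj

theorem le_cl (A M : Subgroup G) : A ≤ NoFF.Basic.V A M := by
  have := NoFF.Basic.Z_le_V (Z := A) (one_mem M)
  rwa [map_one, one_smul] at this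

theorem norm_cl (A M : Subgroup G) : M ≤ normalizer (NoFF.Basic.V A M : Set G) := by
  intro p hp
  rw [mem_norm_iff]
  have := NoFF.Basic.conj_V_mul (Z := A) (P := M) (g := 1) hp
  rw [one_mul, map_one, one_smul] at this
  exact this

theorem cl_le {A M W : Subgroup G} (hA : A ≤ W) (hM : M ≤ normalizer (W : Set G)) : NoFF.Basic.V A M ≤ W := by
  refine NoFF.Basic.V_le fun p hp => ?_
  rw [← mem_norm_iff.1 (hM hp)]
  exact Subgroup.pointwise_smul_le_pointwise_smul_iff.2 hA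

theorem cl_mono {A B : Subgroup G} (M : Subgroup G) (h : A ≤ B) : NoFF.Basic.V A M ≤ NoFF.Basic.V B M :=
  cl_le (h.trans (le_cl B M)) (norm_cl B M)

theorem cl_le_self {A M : Subgroup G} (hA : A ≤ M) : NoFF.Basic.V A M ≤ M := cl_le hA le_normalizer

theorem conj_comm (g : G) (V E : Subgroup G) : MulAut.conj g • (⁅V, E⁆ : Subgroup G) = ⁅MulAut.conj g • V, MulAut.conj g • E⁆ :=
  Subgroup.map_commutator V E (MulAut.conj g).toMonoidHom

theorem conj_inf (g : G) (H K : Subgroup G) : MulAut.conj g • (H ⊓ K) = MulAut.conj g • H ⊓ MulAut.conj g • K :=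
  Cfsg.Agent.ZN.ChoiceBase.cj_inf g H K

theorem conj_cent (g : G) (H : Subgroup G) : MulAut.conj g • centralizer (H : Set G) =
    centralizer ((MulAut.conj g • H : Subgroup G) : Set G) :=
  Cfsg.Agent.ZN.ChoiceBase.cj_centralizer g H

theorem norm_comm {M V E : Subgroup G} (hV : M ≤ normalizer (V : Set G)) (hE : M ≤ normalizer (E : Set G)) :
    M ≤ normalizer ((⁅V, E⁆ : Subgroup G) : Set G) := by
  intro g hg
  rw [mem_norm_iff, conj_comm, mem_norm_iff.1 (hV hg), mem_norm_iff.1 (hE hg)]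

theorem norm_cent {M E : Subgroup G} (hE : M ≤ normalizer (E : Set G)) :
    M ≤ normalizer (centralizer (E : Set G) : Set G) := by
  intro g hg
  rw [mem_norm_iff, conj_cent, mem_norm_iff.1 (hE hg)]

theorem norm_inf {M V E : Subgroup G} (hV : M ≤ normalizer (V : Set G)) (hE : M ≤ normalizer (E : Set G)) :
    M ≤ normalizer ((V ⊓ E : Subgroup G) : Set G) := by
  intro g hg
  rw [mem_norm_iff, conj_inf, mem_norm_iff.1 (hV hg), mem_norm_iff.1 (hE hg)]

theorem norm_sup {M V E : Subgroup G} (hV : M ≤ normalizer (V : Set G)) (hE : M ≤ normalizer (E : Set G)) :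
    M ≤ normalizer ((V ⊔ E : Subgroup G) : Set G) := by
  intro g hg
  rw [mem_norm_iff, Subgroup.smul_sup, mem_norm_iff.1 (hV hg), mem_norm_iff.1 (hE hg)]

theorem norm_iSup {ι : Sort*} {M : Subgroup G} {f : ι → Subgroup G}
    (h : ∀ i, M ≤ normalizer (f i : Set G)) : M ≤ normalizer ((⨆ i, f i : Subgroup G) : Set G) := by
  have key : ∀ g ∈ M, MulAut.conj g • (⨆ i, f i : Subgroup G) ≤ ⨆ i, f i := by
    intro g hg
    have h1 : MulAut.conj g • (⨆ i, f i : Subgroup G) = ⨆ i, MulAut.conj g • f i :=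
      Subgroup.map_iSup (MulAut.conj g).toMonoidHom f
    rw [h1]
    refine iSup_le fun i => ?_
    rw [mem_norm_iff.1 (h i hg)]
    exact le_iSup f i
  intro g hg
  rw [mem_norm_iff]
  refine le_antisymm (key g hg) ?_
  have h1 := key g⁻¹ (inv_mem hg)
  rw [map_inv, Subgroup.pointwise_smul_subset_iff, inv_inv] at h1
  exact h1

theorem cent_cl {U A M : Subgroup G} (h : A ≤ centralizer (U : Set G)) (hU : M ≤ normalizer (U : Set G)) :
    NoFF.Basic.V A M ≤ centralizer (U : Set G) := cl_le h (norm_cent hU)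

/-- the elements of `N(V)` which centralise `V / U` -/
def Kr (V U : Subgroup G) (hUV : U ≤ V) : Subgroup G where
  carrier := {g | g ∈ normalizer (V : Set G) ∧ ∀ v ∈ V, g * v * g⁻¹ * v⁻¹ ∈ U}
  mul_mem' := by
    rintro a b ⟨ha, ha'⟩ ⟨hb, hb'⟩
    refine ⟨mul_mem ha hb, fun v hv => ?_⟩
    have h1 := hb' v hv
    have h2 := ha' _ (hUV h1)
    have h3 := ha' v hv
    have e : a * b * v * (a * b)⁻¹ * v⁻¹ = (a * (b * v * b⁻¹ * v⁻¹) * a⁻¹ * (b * v * b⁻¹ * v⁻¹)⁻¹) *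
      (b * v * b⁻¹ * v⁻¹) * (a * v * a⁻¹ * v⁻¹) := by group
    rw [e]
    exact mul_mem (mul_mem h2 h1) h3
  one_mem' := ⟨one_mem _, fun v _ => by
    have e : (1 : G) * v * 1⁻¹ * v⁻¹ = 1 := by group
    rw [e]; exact one_mem _⟩
  inv_mem' := by
    rintro a ⟨ha, ha'⟩
    refine ⟨inv_mem ha, fun v hv => ?_⟩
    have hw : a⁻¹ * v * a ∈ V := (mem_normalizer_iff''.1 ha v).1 hv
    have h1 := inv_mem (ha' _ hw)
    have e : (a * (a⁻¹ * v * a) * a⁻¹ * (a⁻¹ * v * a)⁻¹)⁻¹ = a⁻¹ * v * a⁻¹⁻¹ * v⁻¹ := by group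
    rwa [e] at h1

theorem mem_Kr {V U : Subgroup G} {hUV : U ≤ V} {g : G} : g ∈ Kr V U hUV ↔
    g ∈ normalizer (V : Set G) ∧ ∀ v ∈ V, g * v * g⁻¹ * v⁻¹ ∈ U := Iff.rfl

theorem norm_Kr {M V U : Subgroup G} (hUV : U ≤ V) (hV : M ≤ normalizer (V : Set G))
    (hU : M ≤ normalizer (U : Set G)) : M ≤ normalizer (Kr V U hUV : Set G) := by
  have key : ∀ m ∈ M, ∀ g ∈ Kr V U hUV, m * g * m⁻¹ ∈ Kr V U hUV := by
    rintro m hm g ⟨hg, hg'⟩
    refine ⟨mul_mem (mul_mem (hV hm) hg) (inv_mem (hV hm)), fun v hv => ?_⟩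
    have hw : m⁻¹ * v * m ∈ V := (mem_normalizer_iff''.1 (hV hm) v).1 hv
    have h1 := (mem_normalizer_iff.1 (hU hm) _).1 (hg' _ hw)
    have e : m * (g * (m⁻¹ * v * m) * g⁻¹ * (m⁻¹ * v * m)⁻¹) * m⁻¹ =
      m * g * m⁻¹ * v * (m * g * m⁻¹)⁻¹ * v⁻¹ := by group
    rwa [e] at h1
  intro m hm
  rw [mem_normalizer_iff]
  refine fun g => ⟨key m hm g, fun h => ?_⟩
  have h1 := key m⁻¹ (inv_mem hm) _ h
  have e : m⁻¹ * (m * g * m⁻¹) * m⁻¹⁻¹ = g := by group
  rwa [e] at h1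

theorem comm_le_of {V U E : Subgroup G} (hUV : U ≤ V) (h : E ≤ Kr V U hUV) : ⁅V, E⁆ ≤ U := by
  rw [commutator_le]
  intro v hv g hg
  have h1 := inv_mem ((h hg).2 v hv)
  have e : (g * v * g⁻¹ * v⁻¹)⁻¹ = ⁅v, g⁆ := by rw [commutatorElement_def]; group
  rwa [e] at h1

theorem le_Kr {V U E : Subgroup G} (hUV : U ≤ V) (hE : E ≤ normalizer (V : Set G)) (h : ⁅V, E⁆ ≤ U) :
    E ≤ Kr V U hUV := by
  intro g hg
  refine ⟨hE hg, fun v hv => ?_⟩
  have h1 := inv_mem (h (commutator_mem_commutator hv hg))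
  have e : ⁅v, g⁆⁻¹ = g * v * g⁻¹ * v⁻¹ := by rw [commutatorElement_def]; group
  rwa [e] at h1

theorem comm_le_self {V E : Subgroup G} (hE : E ≤ normalizer (V : Set G)) : ⁅V, E⁆ ≤ V := by
  rw [commutator_le]
  intro v hv g hg
  have h1 := (mem_normalizer_iff.1 (hE hg) v⁻¹).1 (inv_mem hv)
  have e : ⁅v, g⁆ = v * (g * v⁻¹ * g⁻¹) := by rw [commutatorElement_def]; group
  rw [e]
  exact mul_mem hv h1

theorem comm_eq_bot {V E : Subgroup G} : ⁅V, E⁆ = ⊥ ↔ E ≤ centralizer (V : Set G) := by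
  rw [commutator_eq_bot_iff_le_centralizer, le_centralizer_iff]

/-- `A` centralises `V / U`, `[U, A] = 1` : `A` acts on `V` as an elementary abelian 2-group. -/
theorem elemM_of {V U A : Subgroup G} (hUV : U ≤ V) (hsq : ∀ v ∈ V, v ^ 2 = 1) (h1 : A ≤ Kr V U hUV)
    (h2 : A ≤ centralizer (U : Set G)) (hV : V ≤ centralizer (V : Set G)) : ElemM V A := by
  -- `a v a⁻¹ = u v`
  have key : ∀ a ∈ A, ∀ v ∈ V, ∃ w ∈ U, a * v * a⁻¹ = w * v := fun a ha v hv =>
    ⟨_, (h1 ha).2 v hv, by group⟩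
  have fx : ∀ a ∈ A, ∀ w ∈ U, a * w * a⁻¹ = w := fun a ha w hw => by
    rw [← mem_centralizer_iff.1 (h2 ha) w hw]; group
  have two : ∀ a ∈ A, ∀ b ∈ A, ∀ v ∈ V, ∀ w x, w ∈ U → x ∈ U → a * v * a⁻¹ = w * v → b * v * b⁻¹ = x * v →
      a * b * v * (a * b)⁻¹ = x * w * v := by
    intro a ha b hb v hv w x hw hx e f
    calc a * b * v * (a * b)⁻¹ = a * (b * v * b⁻¹) * a⁻¹ := by group
      _ = a * (x * v) * a⁻¹ := by rw [f]
      _ = (a * x * a⁻¹) * (a * v * a⁻¹) := by group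
      _ = x * (w * v) := by rw [fx a ha x hx, e]
      _ = x * w * v := by rw [mul_assoc]
  constructor
  · intro a ha
    rw [mem_centralizer_iff]
    intro v hv
    obtain ⟨w, hw, e⟩ := key a ha v hv
    have hw2 : w * w = 1 := by rw [← pow_two]; exact hsq w (hUV hw)
    have e1 : a ^ 2 * v * (a ^ 2)⁻¹ = v := by
      rw [pow_two, two a ha a ha v hv w w hw hw e e, hw2, one_mul]
    calc v * a ^ 2 = (a ^ 2 * v * (a ^ 2)⁻¹) * a ^ 2 := by rw [e1]
      _ = a ^ 2 * v := by group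
  · intro a ha b hb
    rw [mem_centralizer_iff]
    intro v hv
    have hv' : (b * a)⁻¹ * v * (b * a) ∈ V :=
      (mem_normalizer_iff''.1 (mul_mem (h1 hb).1 (h1 ha).1) v).1 hv
    set v' := (b * a)⁻¹ * v * (b * a) with hv'd
    obtain ⟨w, hw, e⟩ := key a ha v' hv'
    obtain ⟨x, hx, f⟩ := key b hb v' hv'
    have hwx : w * x = x * w := (mem_centralizer_iff.1 (hV (hUV hw)) x (hUV hx)).symm
    have g1 := two a ha b hb v' hv' w x hw hx e f
    have g2 := two b hb a ha v' hv' x w hx hw f e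
    have g3 : b * a * v' * (b * a)⁻¹ = v := by rw [hv'd]; group
    have g4 : a * b * v' * (a * b)⁻¹ = v := by rw [g1, ← hwx, ← g2, g3]
    have g5 : a * b * a⁻¹ * b⁻¹ * v * (a * b * a⁻¹ * b⁻¹)⁻¹ = v := by
      calc a * b * a⁻¹ * b⁻¹ * v * (a * b * a⁻¹ * b⁻¹)⁻¹ = a * b * v' * (a * b)⁻¹ := by rw [hv'd]; group
        _ = v := g4
    calc v * (a * b * a⁻¹ * b⁻¹) = (a * b * a⁻¹ * b⁻¹ * v * (a * b * a⁻¹ * b⁻¹)⁻¹) * (a * b * a⁻¹ * b⁻¹) := by
          rw [g5]
      _ = a * b * a⁻¹ * b⁻¹ * v := by group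

/-! ### The base -/

/-- the base -/
structure Bs (S M V : Subgroup G) : Prop where
  two : IsPGroup 2 S
  SM : S ≤ M
  odd : Odd (S.relIndex M)
  MV : M ≤ normalizer (V : Set G)
  comm : V ≤ centralizer (V : Set G)
  sq : ∀ v ∈ V, v ^ 2 = 1
  gen : V ≤ NoFF.Basic.V (V ⊓ centralizer (S : Set G)) M

section base

variable [Finite G] {S M V : Subgroup G}

theorem isPGroup_of_sq {U : Subgroup G} (h : ∀ v ∈ U, v ^ 2 = 1) : IsPGroup 2 U := by
  rintro ⟨v, hv⟩
  refine ⟨1, ?_⟩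
  apply Subtype.ext
  simpa using h v hv

/-- Sylow's theorem in `N` -/
theorem exists_conj_le {N T X : Subgroup G} (hT : IsPGroup 2 T) (hd : ¬ 2 ∣ T.relIndex N) (hX : IsPGroup 2 X)
    (hXN : X ≤ N) : ∃ c ∈ N, ∀ x ∈ X, c * x * c⁻¹ ∈ T := by
  have : Fact (Nat.Prime 2) := ⟨Nat.prime_two⟩
  have hX' : IsPGroup 2 (X.subgroupOf N) := hX.comap_subtype
  obtain ⟨S2, hS2⟩ := hX'.exists_le_sylow
  obtain ⟨c, hc⟩ := MulAction.exists_smul_eq N S2
    ((hT.comap_of_injective _ N.subtype_injective).toSylow hd)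
  refine ⟨c, c.2, fun x hx => ?_⟩
  have h1 : (⟨x, hXN hx⟩ : N) ∈ (S2 : Subgroup N) := hS2 (Subgroup.mem_subgroupOf.mpr hx)
  have h2 : c * ⟨x, hXN hx⟩ * c⁻¹ ∈ ((c • S2 : Sylow 2 N) : Subgroup N) := by
    rw [Sylow.coe_subgroup_smul]
    exact Subgroup.smul_mem_pointwise_smul _ (MulAut.conj c) _ h1
  rw [hc] at h2
  exact mem_subgroupOf.1 h2

/-- odd index in a subgroup -/
theorem odd_sub {N : Subgroup G} (hd : Odd (S.relIndex M)) (hSN : S ≤ N) (hNM : N ≤ M) : Odd (S.relIndex N) := by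
  have h1 : S.relIndex N * N.relIndex M = S.relIndex M := relIndex_mul_relIndex S N M hSN hNM
  rw [← h1] at hd
  exact (Nat.odd_mul.1 hd).1

namespace Bs

variable (h : Bs S M V)
include h

theorem exists_z {U : Subgroup G} (hU : U ≤ V) (hM : M ≤ normalizer (U : Set G)) (hne : U ≠ ⊥) :
    ∃ z ∈ U, z ∈ centralizer (S : Set G) ∧ z ≠ 1 := by
  have hf : Fact (Nat.Prime 2) := ⟨Nat.prime_two⟩
  have h1 := PLocal.OffenderStep.inf_centralizer_ne_bot U S (isPGroup_of_sq fun v hv => h.sq v (hU hv)) h.two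
    (h.SM.trans hM) hne
  obtain ⟨c, hc1⟩ := Subgroup.ne_bot_iff_exists_ne_one.1 h1
  exact ⟨c, c.2.1, c.2.2, fun h0 => hc1 (Subtype.ext h0)⟩

theorem le_of {U : Subgroup G} (hM : M ≤ normalizer (U : Set G)) (hZ : V ⊓ centralizer (S : Set G) ≤ U) : V ≤ U :=
  h.gen.trans (cl_le hZ hM)

/-- **(0)**, elementwise -/
theorem dec {E : Subgroup G} (hE : M ≤ normalizer (E : Set G)) (hEM : E ≤ M) {z : G} (hz : z ∈ V)
    (hzS : z ∈ centralizer (S : Set G)) :
    ∃ x ∈ ⁅V, E⁆, x ∈ centralizer (S : Set G) ∧ ∃ y ∈ V, y ∈ centralizer (E : Set G) ∧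
      y ∈ centralizer (S : Set G) ∧ z = x * y := by
  have hXM : E ⊔ S ≤ M := sup_le hEM h.SM
  have hodd : Odd (S.relIndex (E ⊔ S)) := odd_sub h.odd le_sup_right hXM
  have hWV : ⁅V, E⁆ ≤ V := comm_le_self (hEM.trans h.MV)
  have hn := norm_comm h.MV hE
  obtain ⟨y, hy, hfix⟩ := BTwo.Avg.avg (X := E ⊔ S) (P := S) (Y := ⁅V, E⁆) (D := ⊥) (c := z) le_sup_right hodd
    bot_le (fun x hx y hy => (mem_normalizer_iff.1 (hn (hXM hx)) y).1 hy)
    (fun x _ y hy => by rw [mem_bot] at hy ⊢; rw [hy]; group)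
    (fun x _ y hy => by rw [mem_bot] at hy ⊢; rw [hy]; group)
    (fun y hy => by rw [mem_bot, ← pow_two]; exact h.sq y (hWV hy))
    (by
      have hle : E ⊔ S ≤ Kr V ⁅V, E⁆ hWV ⊔ S := sup_le_sup_right (le_Kr hWV (hEM.trans h.MV) le_rfl) S
      intro x hx
      have hSE : S ≤ normalizer (E : Set G) := h.SM.trans hE
      have hx' : x ∈ ((E ⊔ S : Subgroup G) : Set G) := hx
      rw [coe_mul_of_right_le_normalizer_left _ _ hSE] at hx'
      obtain ⟨e, he, s, hs, rfl⟩ := hx'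
      have hs' : s * z * s⁻¹ = z := by
        rw [mem_centralizer_iff.1 hzS s hs]; group
      have h1 := (le_Kr hWV (hEM.trans h.MV) le_rfl he).2 z hz
      have e1 : z⁻¹ * (e * s) * z * (e * s)⁻¹ = z⁻¹ * (e * (s * z * s⁻¹) * e⁻¹ * z⁻¹) * z := by group
      rw [e1, hs']
      -- `z⁻¹ w z = w`
      have h2 : z⁻¹ * (e * z * e⁻¹ * z⁻¹) * z = e * z * e⁻¹ * z⁻¹ := by
        rw [mul_assoc, mem_centralizer_iff.1 (h.comm hz) _ (hWV h1)]; group
      rw [h2]; exact h1)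
    (fun x hx => by
      rw [mem_bot, mul_assoc z⁻¹, mem_centralizer_iff.1 hzS x hx]; group)
  have hfix' : ∀ x ∈ E ⊔ S, x * (z * y) = (z * y) * x := by
    intro x hx
    have h1 := hfix x hx
    rw [mem_bot] at h1
    calc x * (z * y) = (z * y) * ((z * y)⁻¹ * x * (z * y) * x⁻¹) * x := by group
      _ = (z * y) * x := by rw [h1, mul_one]
  have hyS : y ∈ centralizer (S : Set G) := by
    have h1 : z * y ∈ centralizer (S : Set G) := mem_centralizer_iff.2 fun s hs => hfix' s (mem_sup_right hs)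
    exact (Subgroup.mul_mem_cancel_left _ hzS).1 h1
  refine ⟨y⁻¹, inv_mem hy, inv_mem hyS, z * y, mul_mem hz (hWV hy),
    mem_centralizer_iff.2 fun e he => hfix' e (mem_sup_left he), mul_mem hzS hyS, ?_⟩
  have h1 : y⁻¹ * (z * y) = (z * y) * y⁻¹ :=
    mem_centralizer_iff.1 (h.comm (mul_mem hz (hWV hy))) _ (hWV (inv_mem hy))
  rw [h1]; group

/-- **(0)** -/
theorem split {E : Subgroup G} (hE : M ≤ normalizer (E : Set G)) (hEM : E ≤ M) :
    V = ⁅V, E⁆ ⊔ (V ⊓ centralizer (E : Set G)) := by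
  refine le_antisymm ?_ (sup_le (comm_le_self (hEM.trans h.MV)) inf_le_left)
  refine h.le_of (norm_sup (norm_comm h.MV hE) (norm_inf h.MV (norm_cent hE))) ?_
  rintro z ⟨hz, hzS⟩
  obtain ⟨x, hx, -, y, hy, hyE, -, rfl⟩ := h.dec hE hEM hz hzS
  exact mul_mem (mem_sup_left hx) (mem_sup_right ⟨hy, hyE⟩)

/-- A normal subgroup of `M` which acts on `V` as a 2-group centralises `V`. -/
theorem le_cent {N : Subgroup G} (hN : M ≤ normalizer (N : Set G)) (hNM : N ≤ M) {B : Subgroup G} (hB : B ≤ N)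
    (hB2 : IsPGroup 2 B) (hdec : ∀ a ∈ N, ∃ b ∈ B, b⁻¹ * a ∈ centralizer (V : Set G)) :
    N ≤ centralizer (V : Set G) := by
  have hXM : N ⊔ S ≤ M := sup_le hNM h.SM
  have hodd : Odd (S.relIndex (N ⊔ S)) := odd_sub h.odd le_sup_right hXM
  obtain ⟨c, hc, hcB⟩ := exists_conj_le h.two hodd.not_two_dvd_nat hB2 (hB.trans le_sup_left)
  -- `N` centralises `C_V(S)`
  have key : ∀ n ∈ N, ∀ z ∈ V, z ∈ centralizer (S : Set G) → n * z = z * n := by
    intro n hn z hz hzS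
    have hcM := hXM hc
    have hn' : c⁻¹ * n * c ∈ N := (mem_normalizer_iff''.1 (hN hcM) n).1 hn
    obtain ⟨b, hb, hbc⟩ := hdec _ hn'
    have h1 := hcB b hb
    have h2 : c * (b⁻¹ * (c⁻¹ * n * c)) * c⁻¹ ∈ centralizer (V : Set G) :=
      (mem_normalizer_iff.1 (norm_cent h.MV hcM) _).1 hbc
    have e : n = (c * b * c⁻¹) * (c * (b⁻¹ * (c⁻¹ * n * c)) * c⁻¹) := by group
    rw [e]
    set s := c * b * c⁻¹
    set k := c * (b⁻¹ * (c⁻¹ * n * c)) * c⁻¹
    calc s * k * z = s * (k * z) := by group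
      _ = s * (z * k) := by rw [mem_centralizer_iff.1 h2 z hz]
      _ = (s * z) * k := by group
      _ = (z * s) * k := by rw [mem_centralizer_iff.1 hzS s h1]
      _ = z * (s * k) := by group
  have h1 : V ≤ centralizer (N : Set G) := by
    refine h.le_of (norm_cent hN) ?_
    rintro z ⟨hz, hzS⟩
    exact mem_centralizer_iff.2 fun n hn => key n hn z hz hzS
  exact le_centralizer_iff.1 h1

/-- A normal subgroup of `M` which acts on `V` as an elementary abelian 2-group centralises `V`. -/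
theorem le_cent_of_elem {N : Subgroup G} (hN : M ≤ normalizer (N : Set G)) (hNM : N ≤ M) (he : ElemM V N) :
    N ≤ centralizer (V : Set G) := by
  obtain ⟨B, hB, hB2, hdec⟩ := VF.exists_two (hNM.trans h.MV) he
  exact h.le_cent hN hNM hB hB2 hdec

end Bs

end base

/-! ### The system -/

/-- `E_A = ⟨A^M⟩` -/
abbrev EA (M A : Subgroup G) : Subgroup G := NoFF.Basic.V A M

/-- `W_A = [V, E_A]` -/
abbrev WW (V M A : Subgroup G) : Subgroup G := ⁅V, EA M A⁆

/-- `C_A = C_V(E_A)` -/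
abbrev CC (V M A : Subgroup G) : Subgroup G := V ⊓ centralizer (EA M A : Set G)

/-- the hypotheses -/
structure Sys (S M V : Subgroup G) (EE : Set (Subgroup G)) : Prop extends Bs S M V where
  le : ∀ A ∈ EE, A ≤ S
  dich : ∀ A ∈ EE, ∀ U ≤ V, M ≤ normalizer (U : Set G) →
    U ≤ centralizer (A : Set G) ∨ V ≤ U ⊔ (V ⊓ centralizer (A : Set G))
  mv : ∀ z ∈ V, z ∈ centralizer (S : Set G) → z ≠ 1 →
    ∃ A ∈ EE, ¬ NoFF.Basic.V (zpowers z) M ≤ centralizer (A : Set G)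

/-! #### conjugation -/

theorem conj_EA {g : G} {M : Subgroup G} (hM : g ∈ normalizer (M : Set G)) (A : Subgroup G) :
    MulAut.conj g • EA M A = EA M (MulAut.conj g • A) := by
  have key : ∀ (g : G), g ∈ normalizer (M : Set G) → ∀ A : Subgroup G,
      MulAut.conj g • EA M A ≤ EA M (MulAut.conj g • A) := by
    intro g hM A
    rw [Subgroup.pointwise_smul_subset_iff]
    refine NoFF.Basic.V_le fun p hp => ?_
    rw [← Subgroup.pointwise_smul_subset_iff, NoFF.Basic.conj_conj]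
    have hgp : g * p * g⁻¹ ∈ M := (mem_normalizer_iff.1 hM p).1 hp
    have e : g * p = (g * p * g⁻¹) * g := by group
    rw [e, ← NoFF.Basic.conj_conj]
    exact NoFF.Basic.Z_le_V hgp
  refine le_antisymm (key g hM A) ?_
  have h1 := key g⁻¹ (inv_mem hM) (MulAut.conj g • A)
  rw [NoFF.Basic.conj_conj, inv_mul_cancel, map_one, one_smul, map_inv, Subgroup.pointwise_smul_subset_iff,
    inv_inv] at h1
  exact h1

theorem conj_WW {g : G} {M V : Subgroup G} (hM : g ∈ normalizer (M : Set G)) (hV : g ∈ normalizer (V : Set G))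
    (A : Subgroup G) : MulAut.conj g • WW V M A = WW V M (MulAut.conj g • A) := by
  rw [WW, conj_comm, mem_norm_iff.1 hV, conj_EA hM]

theorem conj_CC {g : G} {M V : Subgroup G} (hM : g ∈ normalizer (M : Set G)) (hV : g ∈ normalizer (V : Set G))
    (A : Subgroup G) : MulAut.conj g • CC V M A = CC V M (MulAut.conj g • A) := by
  rw [CC, conj_inf, mem_norm_iff.1 hV, conj_cent, conj_EA hM]

namespace Sys

variable [Finite G] {S M V : Subgroup G} {EE : Set (Subgroup G)} (h : Sys S M V EE) {A B : Subgroup G}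
include h

theorem AM (hA : A ∈ EE) : A ≤ M := (h.le A hA).trans h.SM

theorem EM (hA : A ∈ EE) : EA M A ≤ M := cl_le_self (h.AM hA)

theorem EV (hA : A ∈ EE) : EA M A ≤ normalizer (V : Set G) := (h.EM hA).trans h.MV

theorem WV (hA : A ∈ EE) : WW V M A ≤ V := comm_le_self (h.EV hA)

theorem nW (A : Subgroup G) : M ≤ normalizer (WW V M A : Set G) := norm_comm h.MV (norm_cl A M)

theorem nC (A : Subgroup G) : M ≤ normalizer (CC V M A : Set G) := norm_inf h.MV (norm_cent (norm_cl A M))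

/-- **(1)** -/
theorem dich' (hA : A ∈ EE) {U : Subgroup G} (hU : U ≤ V) (hn : M ≤ normalizer (U : Set G)) :
    U ≤ CC V M A ∨ WW V M A ≤ U := by
  rcases h.dich A hA U hU hn with h1 | h1
  · left
    exact le_inf hU (le_centralizer_iff.1 (cent_cl (le_centralizer_iff.1 h1) hn))
  · right
    refine comm_le_of hU (cl_le ?_ (norm_Kr hU h.MV hn))
    intro a ha
    refine ⟨h.MV (h.AM hA ha), fun v hv => ?_⟩
    have hn' : (V ⊓ centralizer (A : Set G) : Subgroup G) ≤ normalizer (U : Set G) :=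
      inf_le_left.trans (h.comm.trans ((centralizer_le hU).trans (centralizer_le_normalizer _)))
    have hv' : v ∈ ((U ⊔ (V ⊓ centralizer (A : Set G)) : Subgroup G) : Set G) := h1 hv
    rw [coe_mul_of_right_le_normalizer_left _ _ hn'] at hv'
    obtain ⟨w, hw, c, hc, rfl⟩ := hv'
    have h2 : a * w * a⁻¹ ∈ U := (mem_normalizer_iff.1 (hn (h.AM hA ha)) w).1 hw
    have h3 : a * c = c * a := mem_centralizer_iff.1 hc.2 a ha
    have e : a * (w * c) * a⁻¹ * (w * c)⁻¹ = (a * w * a⁻¹) * w⁻¹ := by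
      calc a * (w * c) * a⁻¹ * (w * c)⁻¹ = a * w * a⁻¹ * (a * c) * a⁻¹ * c⁻¹ * w⁻¹ := by group
        _ = (a * w * a⁻¹) * w⁻¹ := by rw [h3]; group
    rw [e]
    exact mul_mem h2 (inv_mem hw)

/-- `N_z = ⟨z^M⟩ ≤ U` for `z ∈ U` -/
theorem Nz_le {U : Subgroup G} (hn : M ≤ normalizer (U : Set G)) {z : G} (hz : z ∈ U) :
    NoFF.Basic.V (zpowers z) M ≤ U := cl_le (zpowers_le.2 hz) hn

/-- every nontrivial `M`-invariant `U ≤ V` contains some `W_B`, `B ∈ EE`, and `B` moves `U` -/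
theorem exists_WW {U : Subgroup G} (hU : U ≤ V) (hn : M ≤ normalizer (U : Set G)) (hne : U ≠ ⊥) :
    ∃ B ∈ EE, WW V M B ≤ U ∧ ¬ U ≤ CC V M B := by
  obtain ⟨z, hz, hzS, hz1⟩ := h.exists_z hU hn hne
  obtain ⟨B, hB, hBz⟩ := h.mv z (hU hz) hzS hz1
  have hNU : NoFF.Basic.V (zpowers z) M ≤ U := h.Nz_le hn hz
  have hc : ∀ X : Subgroup G, X ≤ CC V M B → X ≤ centralizer (B : Set G) := fun X hX =>
    hX.trans (inf_le_right.trans (centralizer_le (le_cl B M)))
  rcases h.dich' hB (hNU.trans hU) (norm_cl _ M) with h1 | h1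
  · exact absurd (hc _ h1) hBz
  · exact ⟨B, hB, h1.trans hNU, fun h2 => hBz (hNU.trans (hc _ h2))⟩

/-- **(2)** `W_A ∩ C_A = 1` -/
theorem inf_bot (hA : A ∈ EE) : WW V M A ⊓ CC V M A = ⊥ := by
  by_contra hne
  set U : Subgroup G := WW V M A ⊓ CC V M A with hU
  have hUV : U ≤ V := inf_le_left.trans (h.WV hA)
  have hUn : M ≤ normalizer (U : Set G) := norm_inf (h.nW A) (h.nC A)
  obtain ⟨B, hB, hBU, hBn⟩ := h.exists_WW hUV hUn hne
  have hEA := norm_cl A M
  have hEB := norm_cl B M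
  -- `N = E_A ∩ E_B` centralises `V / U` and `U`
  have hN : M ≤ normalizer ((EA M A ⊓ EA M B : Subgroup G) : Set G) := norm_inf hEA hEB
  have h1 : EA M A ⊓ EA M B ≤ Kr V U hUV := inf_le_right.trans (le_Kr hUV (h.EV hB) hBU)
  have h2 : EA M A ⊓ EA M B ≤ centralizer (U : Set G) := by
    refine inf_le_left.trans (le_centralizer_iff.1 ?_)
    exact inf_le_right.trans inf_le_right
  have h3 : EA M A ⊓ EA M B ≤ centralizer (V : Set G) :=
    h.le_cent_of_elem hN (inf_le_left.trans (h.EM hA)) (elemM_of hUV h.sq h1 h2 h.comm)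
  -- three subgroups
  have h4 : ⁅⁅EA M A, EA M B⁆, V⁆ = ⊥ := by
    rw [commutator_eq_bot_iff_le_centralizer]
    refine le_trans ?_ h3
    refine le_inf ?_ ?_
    · exact comm_le_self ((h.EM hB).trans hEA)
    · rw [commutator_comm]
      exact comm_le_self ((h.EM hA).trans hEB)
  have h5 : ⁅⁅EA M B, V⁆, EA M A⁆ = ⊥ := by
    rw [commutator_comm (EA M B) V, commutator_eq_bot_iff_le_centralizer]
    exact hBU.trans (inf_le_right.trans inf_le_right)
  have h6 : ⁅⁅V, EA M A⁆, EA M B⁆ = ⊥ := commutator_commutator_eq_bot_of_rotate h4 h5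
  rw [commutator_eq_bot_iff_le_centralizer] at h6
  exact hBn (le_inf hUV (inf_le_left.trans h6))

/-- **(3)** `V = W_A C_A` -/
theorem sup_eq (hA : A ∈ EE) : V = WW V M A ⊔ CC V M A := h.split (norm_cl A M) (h.EM hA)

theorem mem_dec (hA : A ∈ EE) {v : G} (hv : v ∈ V) : ∃ w ∈ WW V M A, ∃ c ∈ CC V M A, v = w * c := by
  have hn : CC V M A ≤ normalizer (WW V M A : Set G) :=
    inf_le_left.trans (h.comm.trans ((centralizer_le (h.WV hA)).trans (centralizer_le_normalizer _)))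
  rw [h.sup_eq hA] at hv
  have hv' : v ∈ ((WW V M A ⊔ CC V M A : Subgroup G) : Set G) := hv
  rw [coe_mul_of_right_le_normalizer_left _ _ hn] at hv'
  obtain ⟨w, hw, c, hc, e⟩ := hv'
  exact ⟨w, hw, c, hc, e.symm⟩

/-- `C_V(S) = C_(W_A)(S) C_(C_A)(S)` -/
theorem fix_dec (hA : A ∈ EE) {z : G} (hz : z ∈ V) (hzS : z ∈ centralizer (S : Set G)) :
    ∃ x ∈ WW V M A ⊓ centralizer (S : Set G), ∃ y ∈ CC V M A ⊓ centralizer (S : Set G), z = x * y := by
  obtain ⟨x, hx, hxS, y, hy, hyE, hyS, e⟩ := h.dec (norm_cl A M) (h.EM hA) hz hzS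
  exact ⟨x, ⟨hx, hxS⟩, y, ⟨⟨hy, hyE⟩, hyS⟩, e⟩

theorem fix_eq (hA : A ∈ EE) : V ⊓ centralizer (S : Set G) =
    (WW V M A ⊓ centralizer (S : Set G)) ⊔ (CC V M A ⊓ centralizer (S : Set G)) := by
  refine le_antisymm ?_ (sup_le (inf_le_inf_right _ (h.WV hA)) (inf_le_inf_right _ inf_le_left))
  rintro z ⟨hz, hzS⟩
  obtain ⟨x, hx, y, hy, rfl⟩ := h.fix_dec hA hz hzS
  exact mul_mem (mem_sup_left hx) (mem_sup_right hy)

theorem eq_of_dec {w w' c c' : G} (hA : A ∈ EE) (hw : w ∈ WW V M A) (hw' : w' ∈ WW V M A) (hc : c ∈ CC V M A)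
    (hc' : c' ∈ CC V M A) (e : w * c = w' * c') : w = w' ∧ c = c' := by
  have h1 : w'⁻¹ * w = c' * c⁻¹ := by
    calc w'⁻¹ * w = w'⁻¹ * (w * c) * c⁻¹ := by group
      _ = c' * c⁻¹ := by rw [e]; group
  have h2 : w'⁻¹ * w ∈ WW V M A ⊓ CC V M A := mem_inf.2 ⟨mul_mem (inv_mem hw') hw, by
    rw [h1]; exact mul_mem hc' (inv_mem hc)⟩
  rw [h.inf_bot hA, mem_bot] at h2
  rw [h2] at h1
  exact ⟨(inv_mul_eq_one.1 h2).symm, (mul_inv_eq_one.1 h1.symm).symm⟩

/-- **(3)** `W_A` and `C_A` are generated by the conjugates of their `S`-fixed points. -/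
theorem gens (hA : A ∈ EE) : WW V M A = NoFF.Basic.V (WW V M A ⊓ centralizer (S : Set G)) M ∧
    CC V M A = NoFF.Basic.V (CC V M A ⊓ centralizer (S : Set G)) M := by
  set W' := NoFF.Basic.V (WW V M A ⊓ centralizer (S : Set G)) M with hW'
  set C' := NoFF.Basic.V (CC V M A ⊓ centralizer (S : Set G)) M with hC'
  have h1 : W' ≤ WW V M A := cl_le inf_le_left (h.nW A)
  have h2 : C' ≤ CC V M A := cl_le inf_le_left (h.nC A)
  have h3 : V ≤ W' ⊔ C' := by
    refine h.le_of (norm_sup (norm_cl _ M) (norm_cl _ M)) ?_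
    rw [h.fix_eq hA]
    exact sup_le_sup (le_cl _ M) (le_cl _ M)
  have hn : C' ≤ normalizer (W' : Set G) :=
    (h2.trans inf_le_left).trans (h.comm.trans ((centralizer_le (h1.trans (h.WV hA))).trans
      (centralizer_le_normalizer _)))
  have key : ∀ v ∈ V, ∃ w ∈ W', ∃ c ∈ C', v = w * c := by
    intro v hv
    have hv' : v ∈ ((W' ⊔ C' : Subgroup G) : Set G) := h3 hv
    rw [coe_mul_of_right_le_normalizer_left _ _ hn] at hv'
    obtain ⟨w, hw, c, hc, e⟩ := hv'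
    exact ⟨w, hw, c, hc, e.symm⟩
  constructor
  · refine le_antisymm (fun x hx => ?_) h1
    obtain ⟨w, hw, c, hc, e⟩ := key x (h.WV hA hx)
    have h4 := h.eq_of_dec hA hx (h1 hw) (one_mem _) (h2 hc) (by rw [mul_one, e])
    rw [h4.1]; exact hw
  · refine le_antisymm (fun x hx => ?_) h2
    obtain ⟨w, hw, c, hc, e⟩ := key x hx.1
    have h4 := h.eq_of_dec hA (one_mem _) (h1 hw) hx (h2 hc) (by rw [one_mul, e])
    rw [h4.2]; exact hc

theorem genW (hA : A ∈ EE) : WW V M A = NoFF.Basic.V (WW V M A ⊓ centralizer (S : Set G)) M := (h.gens hA).1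

theorem genC (hA : A ∈ EE) : CC V M A = NoFF.Basic.V (CC V M A ⊓ centralizer (S : Set G)) M := (h.gens hA).2

/-- `W_A = 1` iff `A` centralises `V` -/
theorem WW_eq_bot : WW V M A = ⊥ ↔ A ≤ centralizer (V : Set G) := by
  rw [WW, comm_eq_bot]
  exact ⟨fun h1 => (le_cl A M).trans h1, fun h1 => cent_cl h1 h.MV⟩

/-- `W_A ≤ C_A` implies `W_A = 1` -/
theorem WW_eq_bot_of_le (hA : A ∈ EE) (h1 : WW V M A ≤ CC V M A) : WW V M A = ⊥ := by
  rw [← h.inf_bot hA]
  exact (inf_eq_left.2 h1).symm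

/-- `W_B ≤ C_A` iff `W_A ≤ C_B` -/
theorem le_symm (hA : A ∈ EE) (hB : B ∈ EE) (h1 : WW V M B ≤ CC V M A) : WW V M A ≤ CC V M B := by
  rcases h.dich' hB (h.WV hA) (h.nW A) with h2 | h2
  · exact h2
  · -- `W_B ≤ W_A ∩ C_A = 1`
    have h3 : WW V M B = ⊥ := by
      rw [← le_bot_iff, ← h.inf_bot hA]
      exact le_inf h2 h1
    have h4 : CC V M B = V := by
      apply le_antisymm inf_le_left
      have h5 := h.sup_eq hB
      rw [h3, bot_sup_eq] at h5
      exact h5.le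
    rw [h4]
    exact h.WV hA

/-- **(3)** for two members of `EE` -/
theorem pair (hA : A ∈ EE) (hB : B ∈ EE) :
    WW V M A = WW V M B ∨ (WW V M A ≤ CC V M B ∧ WW V M B ≤ CC V M A) := by
  rcases h.dich' hA (h.WV hB) (h.nW B) with h1 | h1
  · exact Or.inr ⟨h.le_symm hA hB h1, h1⟩
  · rcases h.dich' hB (h.WV hA) (h.nW A) with h2 | h2
    · exact Or.inr ⟨h2, h.le_symm hB hA h2⟩
    · exact Or.inl (le_antisymm h1 h2)

/-- `W_A ≠ W_B`: `W_B ≤ C_A` -/
theorem le_of_ne (hA : A ∈ EE) (hB : B ∈ EE) (hne : WW V M A ≠ WW V M B) : WW V M B ≤ CC V M A :=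
  ((h.pair hA hB).resolve_left hne).2

/-- `W_A = W_B`: `C_A = C_B` -/
theorem CC_eq (hA : A ∈ EE) (hB : B ∈ EE) (e : WW V M A = WW V M B) : CC V M A = CC V M B := by
  have key : ∀ A ∈ EE, ∀ B ∈ EE, WW V M A = WW V M B → CC V M A ≤ CC V M B := by
    intro A hA B hB e
    rcases h.dich' hB (U := CC V M A) inf_le_left (h.nC A) with h1 | h1
    · exact h1
    · have h2 : WW V M A = ⊥ := h.WW_eq_bot_of_le hA (by rw [e]; exact h1)
      have h3 : CC V M B = V := by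
        apply le_antisymm inf_le_left
        have h5 := h.sup_eq hB
        rw [← e, h2, bot_sup_eq] at h5
        exact h5.le
      rw [h3]
      exact inf_le_left
  exact le_antisymm (key A hA B hB e) (key B hB A hA e.symm)

/-- **(4)** `W_A` is irreducible. -/
theorem irr (hA : A ∈ EE) {U : Subgroup G} (hU : U ≤ WW V M A) (hn : M ≤ normalizer (U : Set G)) :
    U = ⊥ ∨ U = WW V M A := by
  by_cases hne : U = ⊥
  · exact Or.inl hne
  right
  obtain ⟨B, hB, hBU, hBn⟩ := h.exists_WW (hU.trans (h.WV hA)) hn hne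
  refine le_antisymm hU ?_
  rcases h.pair hA hB with h1 | h1
  · rw [h1]; exact hBU
  · exfalso
    apply hBn
    have h2 : WW V M B = ⊥ := by
      rw [← le_bot_iff, ← h.inf_bot hA]
      exact le_inf (hBU.trans hU) h1.2
    have h3 : CC V M B = V := by
      apply le_antisymm inf_le_left
      have h5 := h.sup_eq hB
      rw [h2, bot_sup_eq] at h5
      exact h5.le
    rw [h3]
    exact hU.trans (h.WV hA)

/-- **(5)** An `M`-invariant subgroup of `V` which contains all `W_A` is `V`. -/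
theorem le_of_WW {R : Subgroup G} (hRV : R ≤ V) (hRn : M ≤ normalizer (R : Set G))
    (hle : ∀ A ∈ EE, WW V M A ≤ R) : V ≤ R := by
  have hEn : M ≤ normalizer ((Kr V R hRV ⊓ M : Subgroup G) : Set G) := norm_inf (norm_Kr hRV h.MV hRn) le_normalizer
  have hVE : ⁅V, Kr V R hRV ⊓ M⁆ ≤ R := comm_le_of hRV inf_le_left
  have hEA : ∀ A ∈ EE, EA M A ≤ Kr V R hRV ⊓ M := fun A hA => le_inf (le_Kr hRV (h.EV hA) (hle A hA)) (h.EM hA)
  refine h.le_of hRn ?_
  intro z hz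
  obtain ⟨x, hx, -, y, hy, hyE, hyS, e⟩ := h.dec hEn inf_le_right (mem_inf.1 hz).1 (mem_inf.1 hz).2
  by_cases hy1 : y = 1
  · rw [e, hy1, mul_one]
    exact hVE hx
  exfalso
  obtain ⟨B, hB, hBy⟩ := h.mv y hy hyS hy1
  have h1 : B ≤ Kr V R hRV ⊓ M := (le_cl B M).trans (hEA B hB)
  exact hBy ((h.Nz_le (norm_cent hEn) hyE).trans (centralizer_le h1))

/-- **(5)** `V` is the product of the `W_A`. -/
theorem iSup_eq : V = ⨆ A ∈ EE, WW V M A := by
  refine le_antisymm (h.le_of_WW (iSup₂_le fun A hA => h.WV hA) ?_ fun A hA => ?_)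
    (iSup₂_le fun A hA => h.WV hA)
  · exact norm_iSup fun A => norm_iSup fun _ => h.nW A
  · exact le_iSup₂ (f := fun A (_ : A ∈ EE) => WW V M A) A hA

/-- the product of the `W_B ≠ W_A` -/
def Rest (V M : Subgroup G) (EE : Set (Subgroup G)) (A : Subgroup G) : Subgroup G :=
  ⨆ B ∈ {B ∈ EE | WW V M B ≠ WW V M A}, WW V M B

omit h in
theorem le_Rest {A B : Subgroup G} (hB : B ∈ EE) (hne : WW V M B ≠ WW V M A) : WW V M B ≤ Rest V M EE A :=
  le_iSup₂ (f := fun B (_ : B ∈ {B ∈ EE | WW V M B ≠ WW V M A}) => WW V M B) B ⟨hB, hne⟩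

omit h in
theorem Rest_le {A R : Subgroup G} (hR : ∀ B ∈ EE, WW V M B ≠ WW V M A → WW V M B ≤ R) : Rest V M EE A ≤ R :=
  iSup₂_le fun B hB => hR B hB.1 hB.2

theorem norm_Rest (A : Subgroup G) : M ≤ normalizer (Rest V M EE A : Set G) :=
  norm_iSup fun B => norm_iSup fun _ => h.nW B

/-- `C_A` is the product of the `W_B ≠ W_A`. -/
theorem CC_eq_Rest (hA : A ∈ EE) : CC V M A = Rest V M EE A := by
  have h1 : Rest V M EE A ≤ CC V M A := Rest_le fun B hB hne => h.le_of_ne hA hB (Ne.symm hne)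
  refine le_antisymm ?_ h1
  have h2 : V ≤ WW V M A ⊔ Rest V M EE A := by
    refine h.le_of_WW (sup_le (h.WV hA) (h1.trans inf_le_left)) (norm_sup (h.nW A) (h.norm_Rest A)) ?_
    intro B hB
    by_cases hB' : WW V M B = WW V M A
    · rw [hB']; exact le_sup_left
    · exact le_sup_of_le_right (le_Rest hB hB')
  intro x hx
  have hn : Rest V M EE A ≤ normalizer (WW V M A : Set G) :=
    (h1.trans inf_le_left).trans (h.comm.trans ((centralizer_le (h.WV hA)).trans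
      (centralizer_le_normalizer _)))
  have hv' : x ∈ ((WW V M A ⊔ Rest V M EE A : Subgroup G) : Set G) := h2 (mem_inf.1 hx).1
  rw [coe_mul_of_right_le_normalizer_left _ _ hn] at hv'
  obtain ⟨w, hw, c, hc, e⟩ := hv'
  have h4 := h.eq_of_dec hA (one_mem _) hw hx (h1 hc) (by rw [one_mul]; exact e.symm)
  rw [h4.2]; exact hc

/-- **(5)** The product is direct. -/
theorem indep (hA : A ∈ EE) : WW V M A ⊓ Rest V M EE A = ⊥ := by
  rw [← h.CC_eq_Rest hA]
  exact h.inf_bot hA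

end Sys

end Cfsg.Agent.Omega.NOThreeL.RRed.CM
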