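import Cfsg.Agent.Omega.NOThreeL.RRed.Two
import Cfsg.Agent.Omega.NOThreeL.RZ.Frame

/-!
# NO-3L, box R, the smallest shape: definitions ([R-red], #21468)

`W = zl S (MZ S)`, `M = MZ S = ⟨P*(S)⟩`.

* `Ln S P z u c` : `V_P = {1, z, u, u z} × {1, c}`, `P` centralises `c`, `S` normalises the line `{1, z, u, u z}`,
  `{z, u, u z} = z^P`;
* `Sm S` : the smallest shape;
* `Tv W c x` : `x` acts on `W` as a transvection with centre `c`, or trivially;
* `Sd S P₀ v₁ v₂ a t` : the line `⟨v₁, a⟩` of `P₀`, the transvection `t ∈ S`, unique in `M` up to `C_M(W)`.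
-/

set_option autoImplicit false
set_option linter.unusedSectionVars false

namespace Cfsg.Agent.Omega.NOThreeL.RRed

open Subgroup Cfsg Cfsg.Agent.ZN Cfsg.Agent.Omega.MinPar Cfsg.Agent.Omega.Frame Cfsg.Agent.Omega.FrameNOFF
open Cfsg.Agent.Omega.Node.NO3L Cfsg.Agent.Omega.NOThreeL.Basic Cfsg.Agent.Omega.NOThreeL.RTree
open Cfsg.Agent.Omega.NOThreeL.Merge (MZ)
open Cfsg.Agent.Omega.NOThreeL.ZCut (FZ YZ XZ VZ)
open Cfsg.Agent.Omega.NO3b.Bang (bang)
open Cfsg.Agent.Omega.FFThm (ElemM OffM NoOverM)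

universe u

variable {G : Type u} [Group G]

/-- The line `{1, z, u, u z}` of `P`, and the centralised involution `c`. -/
structure Ln (S P : Subgroup G) (z u c : G) : Prop where
  zS : z ∈ zc S
  cS : c ∈ zc S
  z1 : z ≠ 1
  c1 : c ≠ 1
  ne : z ≠ c
  uV : u ∈ zl S P
  uu : u * u = 1
  us : ∀ s ∈ S, s * u * s⁻¹ = u ∨ s * u * s⁻¹ = u * z
  mv : ∃ s ∈ S, s * u * s⁻¹ ≠ u
  cP : ∀ p ∈ P, p * c * p⁻¹ = c
  orb : ∀ p ∈ P, p * z * p⁻¹ = z ∨ p * z * p⁻¹ = u ∨ p * z * p⁻¹ = u * z
  tr : ∃ p ∈ P, p * z * p⁻¹ = u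
  all : ∀ x ∈ zl S P, ∃ y, (y = 1 ∨ y = z ∨ y = u ∨ y = u * z) ∧ (x = y ∨ x = y * c)

/-- **The smallest shape** (with `RR S = 1`, which follows from (RC'): `RZ.eq_bot_of_rc`). -/
structure Sm [Finite G] (S : Sylow 2 G) : Prop extends RB S where
  rr : RZ.RR (S : Subgroup G) = ⊥
  z4 : Nat.card (zc (S : Subgroup G)) = 4
  v8 : ∀ P, IsParS (S : Subgroup G) P → Nat.card (zl (S : Subgroup G) P) = 8

/-- `x` acts on `W` as a transvection with centre `c`, or trivially. -/
def Tv (W : Subgroup G) (c x : G) : Prop := ∀ w ∈ W, x * w * x⁻¹ = w ∨ x * w * x⁻¹ = w * c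

/-- **Side 1**: `P₀`, its line `⟨v₁, a⟩`, the transvection `t`. -/
structure Sd [Finite G] (S : Sylow 2 G) (P₀ : Subgroup G) (v₁ v₂ a t : G) : Prop where
  sm : Sm S
  par : IsParS (S : Subgroup G) P₀
  ln : Ln (S : Subgroup G) P₀ v₁ a v₂
  tS : t ∈ (S : Subgroup G)
  tv : Tv (zl (S : Subgroup G) (MZ (S : Subgroup G))) v₁ t
  ta : t * a * t⁻¹ = a * v₁
  no : NoOverM (zl (S : Subgroup G) (MZ (S : Subgroup G))) (MZ (S : Subgroup G))
  uni : ∀ x ∈ MZ (S : Subgroup G), Tv (zl (S : Subgroup G) (MZ (S : Subgroup G))) v₁ x →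
    x ∈ centralizer (zl (S : Subgroup G) (MZ (S : Subgroup G)) : Set G) ∨
      x⁻¹ * t ∈ centralizer (zl (S : Subgroup G) (MZ (S : Subgroup G)) : Set G)

/-- The line. -/
def li (z u : G) : Subgroup G := closure {z, u}

namespace Ln

variable {S P : Subgroup G} {z u c : G} (h : Ln S P z u c)
include h

theorem zz : z * z = 1 := by rw [← pow_two]; exact (Cfsg.Agent.MinSimple.VModule.mem_zc.1 h.zS).2.2

theorem cc : c * c = 1 := by rw [← pow_two]; exact (Cfsg.Agent.MinSimple.VModule.mem_zc.1 h.cS).2.2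

theorem zs {s : G} (hs : s ∈ S) : s * z = z * s := (Cfsg.Agent.MinSimple.VModule.mem_zc.1 h.zS).2.1 s hs

theorem cs {s : G} (hs : s ∈ S) : s * c = c * s := (Cfsg.Agent.MinSimple.VModule.mem_zc.1 h.cS).2.1 s hs

theorem z_S : z ∈ S := (Cfsg.Agent.MinSimple.VModule.mem_zc.1 h.zS).1

theorem c_S : c ∈ S := (Cfsg.Agent.MinSimple.VModule.mem_zc.1 h.cS).1

theorem uz : u * z = z * u := by
  rcases h.us z h.z_S with e | e
  · calc u * z = (z * u * z⁻¹) * z := by rw [e]
      _ = z * u := by group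
  · exfalso
    apply h.z1
    have e1 : z * u = u * (z * z) := by
      calc z * u = (z * u * z⁻¹) * z := by group
        _ = u * (z * z) := by rw [e]; group
    rw [h.zz, mul_one] at e1
    exact mul_eq_right.1 e1

theorem u1 : u ≠ 1 := by
  rintro rfl
  obtain ⟨s, _, hs⟩ := h.mv
  exact hs (by group)

theorem uz_ne : u ≠ z := by
  rintro rfl
  obtain ⟨s, hs, h1⟩ := h.mv
  exact h1 (by rw [h.zs hs]; group)

/-- `S` centralises no element of the line but `1`, `z`. -/
theorem exists_mv : ∃ s ∈ S, s * u * s⁻¹ = u * z := by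
  obtain ⟨s, hs, h1⟩ := h.mv
  exact ⟨s, hs, (h.us s hs).resolve_left h1⟩

/-- `P` is transitive on the line. -/
theorem tr_all (hSP : S ≤ P) {x : G} (hx : x = z ∨ x = u ∨ x = u * z) : ∃ p ∈ P, p * z * p⁻¹ = x := by
  obtain ⟨p, hp, h1⟩ := h.tr
  rcases hx with rfl | rfl | rfl
  · exact ⟨1, one_mem _, by group⟩
  · exact ⟨p, hp, h1⟩
  · obtain ⟨s, hs, h2⟩ := h.exists_mv
    refine ⟨s * p, mul_mem (hSP hs) hp, ?_⟩
    calc s * p * z * (s * p)⁻¹ = s * (p * z * p⁻¹) * s⁻¹ := by group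
      _ = u * z := by rw [h1, h2]

theorem mem_li {x : G} : x ∈ li z u ↔ x = 1 ∨ x = z ∨ x = u ∨ x = u * z := by
  constructor
  · intro hx
    unfold li at hx
    induction hx using Subgroup.closure_induction with
    | mem x hx =>
      rcases hx with rfl | hx
      · exact Or.inr (Or.inl rfl)
      · rw [Set.mem_singleton_iff] at hx
        exact Or.inr (Or.inr (Or.inl hx))
    | one => exact Or.inl rfl
    | mul x y _ _ hx hy =>
      have e0 := h.zz
      have e1 := h.uu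
      have e2 := h.uz
      have e3 : z * (u * z) = u := by rw [e2, ← mul_assoc, e0, one_mul]
      have e4 : u * (u * z) = z := by rw [← mul_assoc, e1, one_mul]
      have e5 : u * z * z = u := by rw [mul_assoc, e0, mul_one]
      have e6 : u * z * u = z := by rw [e2, mul_assoc, e1, mul_one]
      have e7 : u * z * (u * z) = 1 := by rw [← mul_assoc, e6, e0]
      rcases hx with rfl | rfl | rfl | rfl <;> rcases hy with rfl | rfl | rfl | rfl <;>
        simp [e0, e1, e3, e4, e5, e6, e7, ← e2]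
    | inv x _ hx =>
      have e0 : z⁻¹ = z := inv_eq_of_mul_eq_one_left h.zz
      have e1 : u⁻¹ = u := inv_eq_of_mul_eq_one_left h.uu
      rcases hx with rfl | rfl | rfl | rfl
      · simp
      · simp [e0]
      · simp [e1]
      · right; right; right
        rw [mul_inv_rev, e0, e1, h.uz]
  · rintro (rfl | rfl | rfl | rfl)
    · exact one_mem _
    · exact subset_closure (by simp)
    · exact subset_closure (by simp)
    · exact mul_mem (subset_closure (by simp)) (subset_closure (by simp))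

theorem z_mem : z ∈ li z u := h.mem_li.2 (Or.inr (Or.inl rfl))

theorem u_mem : u ∈ li z u := h.mem_li.2 (Or.inr (Or.inr (Or.inl rfl)))

theorem card_li : Nat.card (li z u) = 4 := by
  have e : ((li z u : Subgroup G) : Set G) = {1, z, u, u * z} := by
    ext x
    rw [SetLike.mem_coe, h.mem_li]
    rfl
  have h1 : Nat.card (li z u) = ((li z u : Subgroup G) : Set G).ncard := rfl
  have hne : u * z ≠ 1 := fun h2 => h.uz_ne (by
    have h3 : u * z = z * z := by rw [h2, h.zz]
    exact mul_right_cancel h3)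
  rw [h1, e, Set.ncard_insert_of_notMem (by simp [h.z1.symm, h.u1.symm, hne.symm]) (Set.toFinite _),
    Set.ncard_insert_of_notMem (by simp [h.uz_ne.symm, h.u1]) (Set.toFinite _),
    Set.ncard_pair (by simp [h.z1])]

theorem le_normalizer_li (hSP : S ≤ P) : P ≤ normalizer (li z u : Set G) := by
  have key : ∀ p ∈ P, ∀ x ∈ li z u, p * x * p⁻¹ ∈ li z u := by
    intro p hp x hx
    by_cases hx1 : x = 1
    · rw [hx1]; simp
    · obtain ⟨q, hq, rfl⟩ := h.tr_all hSP ((h.mem_li.1 hx).resolve_left hx1)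
      have e : p * (q * z * q⁻¹) * p⁻¹ = p * q * z * (p * q)⁻¹ := by group
      rw [e, h.mem_li]
      exact Or.inr (h.orb _ (mul_mem hp hq))
  intro p hp
  rw [mem_normalizer_iff]
  intro x
  refine ⟨key p hp x, fun hx => ?_⟩
  have h1 := key p⁻¹ (inv_mem hp) _ hx
  have e : p⁻¹ * (p * x * p⁻¹) * p⁻¹⁻¹ = x := by group
  rwa [e] at h1

theorem li_le (hz : zc S ≤ zl S P) : li z u ≤ zl S P := by
  unfold li
  rw [closure_le]
  rintro x (rfl | hx)
  · exact hz h.zS
  · rw [Set.mem_singleton_iff] at hx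
    rw [hx]; exact h.uV

theorem PC : P ≤ centralizer ({c} : Set G) := by
  intro p hp
  rw [mem_centralizer_singleton_iff]
  have := h.cP p hp
  calc p * c = (p * c * p⁻¹) * p := by group
    _ = c * p := by rw [this]

theorem mvz : ¬ P ≤ centralizer ({z} : Set G) := by
  intro h1
  obtain ⟨p, hp, h2⟩ := h.tr
  have h3 := mem_centralizer_singleton_iff.1 (h1 hp)
  apply h.uz_ne
  rw [← h2, h3]; group

end Ln

end Cfsg.Agent.Omega.NOThreeL.RRed
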