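import Cfsg.Agent.Omega.NOThreeL.RZ.Frame
import Cfsg.Agent.Omega.NOThreeL.RRed.Base
import Cfsg.Agent.Omega.NOThreeL.RRed.ClassMx

/-!
# NO-3L, box R: the definitions of `E₁`, `Z₁`, `R₁`, `B₁` (#25243)

`V* = ⟨Z^Y⟩`, `Y = YS S = MZ S = ⟨P*(S)⟩`. An ATOM is a minimal exact offender (`Mx V* A`, ClassD) in `S`.

* `J1 S` : generated by the atoms `A ≤ S` on `V*`;
* `E1 S = ⟨J1^Y⟩`;
* `E1S S` : `C_Z(E₁) = 1`; `E1Fr` : the same as a frame;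
* `Z1 S = C_Z(E₁)`, `R1 S = ⟨Z1^Y⟩`, `B1 S = [V*, E₁]`.
-/

set_option autoImplicit false
set_option linter.unusedSectionVars false

namespace Cfsg.Agent.Omega.NOThreeL.RRed.EOne

open Subgroup Cfsg Cfsg.Agent.Omega.MinPar Cfsg.Agent.Omega.Frame Cfsg.Agent.Omega.FrameNOFF
open Cfsg.Agent.ZN (o2 zc zl jj)
open Cfsg.Agent.ZN.ChoiceBase hiding mem_zc
open Cfsg.Agent.Omega.NOThreeL.Star (YS)
open Cfsg.Agent.Omega.NOThreeL.Merge (MZ)
open Cfsg.Agent.Omega.NOThreeL.RRed (Mx)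

universe u

variable {G : Type u} [Group G]

/-- generated by the atoms of `S` on `V*` -/
def J1 (S : Subgroup G) : Subgroup G := sSup {A | A ≤ S ∧ Mx (zl S (YS S)) A}

/-- `E₁ = ⟨J1^Y⟩` -/
def E1 (S : Subgroup G) : Subgroup G := NoFF.Basic.V (J1 S) (YS S)

/-- `C_Z(E₁) = 1` -/
def E1S (S : Subgroup G) : Prop := zc S ⊓ centralizer (E1 S : Set G) = ⊥

/-- `C_Z(E₁) = 1`, as a frame -/
abbrev E1Fr : ∀ (G : Type u) [Group G] [Finite G], Sylow 2 G → Prop := fun G _ _ S => E1S (S : Subgroup G)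

/-- `C_Z(E₁)` -/
def Z1 (S : Subgroup G) : Subgroup G := zc S ⊓ centralizer (E1 S : Set G)

/-- `⟨C_Z(E₁)^Y⟩` -/
def R1 (S : Subgroup G) : Subgroup G := NoFF.Basic.V (Z1 S) (YS S)

/-- `[V*, E₁]` -/
def B1 (S : Subgroup G) : Subgroup G := ⁅zl S (YS S), E1 S⁆

theorem e1s_iff (S : Subgroup G) : E1S S ↔ Z1 S = ⊥ := Iff.rfl

theorem Wd_eq (S : Subgroup G) : Wd S = zl S (YS S) := rfl

theorem mx_le_J1 {S A : Subgroup G} (hA : A ≤ S) (h : Mx (zl S (YS S)) A) : A ≤ J1 S :=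
  le_sSup (show A ∈ {A | A ≤ S ∧ Mx (zl S (YS S)) A} from ⟨hA, h⟩)

theorem J1_le (S : Subgroup G) : J1 S ≤ S := sSup_le fun _ h => h.1

theorem J1_le_E1 (S : Subgroup G) : J1 S ≤ E1 S := RZ.Z_le _ _

theorem mx_le_E1 {S A : Subgroup G} (hA : A ≤ S) (h : Mx (zl S (YS S)) A) : A ≤ E1 S :=
  (mx_le_J1 hA h).trans (J1_le_E1 S)

theorem YS_le_norm_E1 (S : Subgroup G) : YS S ≤ normalizer (E1 S : Set G) := RZ.le_norm_V _ _

theorem E1_le {S : Subgroup G} (hS : S ≤ YS S) : E1 S ≤ YS S :=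
  RZ.V_le_of ((J1_le S).trans hS) le_normalizer

/-- `E₁ ≤ D` if `D` is normalised by `Y` and contains the atoms -/
theorem E1_le_of {S D : Subgroup G} (hD : YS S ≤ normalizer (D : Set G))
    (h : ∀ A : Subgroup G, A ≤ S → Mx (zl S (YS S)) A → A ≤ D) : E1 S ≤ D :=
  RZ.V_le_of (sSup_le fun A hA => h A hA.1 hA.2) hD

theorem Z1_le (S : Subgroup G) : Z1 S ≤ zc S := inf_le_left

theorem Z1_le_R1 (S : Subgroup G) : Z1 S ≤ R1 S := RZ.Z_le _ _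

theorem YS_le_norm_R1 (S : Subgroup G) : YS S ≤ normalizer (R1 S : Set G) := RZ.le_norm_V _ _

end Cfsg.Agent.Omega.NOThreeL.RRed.EOne
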