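import Cfsg.Agent.Omega.NOThreeL.RRed.TvAtom
import Cfsg.Agent.Omega.NOThreeL.RRed.Blk.OneOf
import Cfsg.Agent.Omega.NO1.BestOff

/-!
# Box R: exact offenders are generated by transvections (helper930)

`TvFin.Full S L V N E R₀ Om phi`, `NoOverM V L`, the minimal exact offenders contain transvections.
* `exists_vec` : `t ∈ A` a transvection, `A` elementary abelian on `V`: some `v ∈ V` is moved by `t` and has at most two
  conjugates under `A`;
* **`gen_tv`** : an exact 2-group `A ≤ L` is generated by the elements which act on `V` as transvections (or trivially);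
* `le_cent`, `le_E` : it centralises `R₀` and lies in `(S ∩ ⟨E b⟩) C_A(V)`;
* **`best_le_cent`, `best_le_E`** : the same for best offenders of `S` on `V = zl S L` if no `P` is of type `q ≥ 4`.
-/

set_option autoImplicit false
set_option linter.unusedSectionVars false

namespace Cfsg.Agent.Omega.NOThreeL.RRed.TvExa

open Subgroup Cfsg Cfsg.Agent.ZN Cfsg.Agent.Omega.MinPar Cfsg.Agent.Omega.Frame
open Cfsg.Agent.Omega.FFThm (ElemM OffM NoOverM)
open Cfsg.Agent.Omega.NOThreeL.RRed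
open Cfsg.Agent.Omega.NOThreeL.RRed.TvFin (TvV Full)
open Cfsg.Agent.Omega.KL.TwoS (Rel Lett)
open Cfsg.Agent.Omega.NO1.BestOff (Best)
open scoped Pointwise

universe u

variable {G : Type u} [Group G]

theorem card_le_two [Finite G] {H K : Subgroup G} (hHK : H ≤ K)
    (h : ∀ x ∈ K, ∀ y ∈ K, x ∉ H → y ∉ H → x⁻¹ * y ∈ H) : Nat.card K ≤ 2 * Nat.card H := by
  classical
  by_cases hK : K ≤ H
  · rw [le_antisymm hHK hK]; omega
  · obtain ⟨a, ha, haH⟩ := Set.not_subset.1 hK
    have h1 : H.relIndex K = 2 := by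
      rw [relIndex, index_eq_two_iff]
      refine ⟨⟨a⁻¹, inv_mem ha⟩, fun b => ?_⟩
      rw [mem_subgroupOf, mem_subgroupOf]
      by_cases hb : (b : G) ∈ H
      · refine Or.inr ⟨hb, fun hc => haH ?_⟩
        have h3 : (b : G) * a⁻¹ ∈ H := hc
        have h4 := mul_mem (inv_mem h3) hb
        have e : ((b : G) * a⁻¹)⁻¹ * b = a := by group
        rwa [e] at h4
      · refine Or.inl ⟨?_, hb⟩
        have h3 := h _ (inv_mem b.2) _ (inv_mem ha) (fun hc => hb (by simpa using inv_mem hc))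
          (fun hc => haH (by simpa using inv_mem hc))
        have e : ((b : G)⁻¹)⁻¹ * a⁻¹ = (b : G) * a⁻¹ := by group
        rwa [e] at h3
    have h2 := card_mul_index (H.subgroupOf K)
    rw [← relIndex, h1, Nat.card_congr (subgroupOfEquivOfLe hHK).toEquiv] at h2
    omega

theorem two_mul_card [Finite G] {H K : Subgroup G} (h : H < K) : 2 * Nat.card H ≤ Nat.card K := by
  have h5 := card_mul_index (H.subgroupOf K)
  rw [Nat.card_congr (subgroupOfEquivOfLe h.le).toEquiv] at h5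
  have h6 : (H.subgroupOf K).index ≠ 1 := by
    rw [Ne, index_eq_one, subgroupOf_eq_top]
    exact fun h7 => absurd h7 (not_le_of_gt h)
  have h7 : (H.subgroupOf K).index ≠ 0 := index_ne_zero_of_finite
  have h8 : 2 ≤ (H.subgroupOf K).index := by omega
  calc 2 * Nat.card H = Nat.card H * 2 := mul_comm _ _
    _ ≤ _ := Nat.mul_le_mul_left _ h8
    _ = Nat.card K := h5

section full

variable [Finite G] {S L V A : Subgroup G} {I : Type u} {N E : I → Subgroup G} {R₀ : Subgroup G} {Om : I → Type u}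
    [∀ i, Fintype (Om i)] [∀ i, DecidableEq (Om i)] {phi : ∀ i, Finset (Om i) → G}
    (F : Full S L V N E R₀ Om phi)
include F

/-- **The vector.** -/
theorem exists_vec (hA : A ≤ L) (pg : IsPGroup 2 A) (hE : ElemM V A) {t c : G} (ht : t ∈ A) (hc : c ∈ V)
    (htv : TvV V c t) (hn : t ∉ centralizer (V : Set G)) :
    ∃ v ∈ V, t * v * t⁻¹ ≠ v ∧ ∀ g ∈ A, g * v * g⁻¹ = v ∨ g * v * g⁻¹ = t * v * t⁻¹ := by
  classical
  obtain ⟨i, hti, a, b, hab, rfl, hrt⟩ := F.tvs t (hA ht) c hc htv hn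
  set φ := phi i with hφ
  have Lt := F.lett i
  have h3 := F.three i
  -- a vector moved by `t`
  obtain ⟨v₀, hv₀, hv₀t⟩ : ∃ v ∈ V, t * v * t⁻¹ ≠ v := by
    by_contra hcon
    push Not at hcon
    refine hn (mem_centralizer_iff.2 fun v hv => ?_)
    calc v * t = (t * v * t⁻¹) * t := by rw [hcon v hv]
      _ = t * v := by group
  have hv₀c : t * v₀ * t⁻¹ = v₀ * φ {a, b} := (htv v₀ hv₀).resolve_left hv₀t
  have hcN : φ {a, b} ∈ N i := (Lt.mem _).2 ⟨{a, b}, by rw [Finset.card_pair hab]; exact even_two, rfl⟩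
  have hc1 : φ {a, b} ≠ 1 := by
    intro e
    rw [e, mul_one] at hv₀c
    exact hv₀t hv₀c
  have key : ∀ g ∈ A, g * φ {a, b} * g⁻¹ = φ {a, b} := by
    intro g hg
    have hgV : g ∈ normalizer (V : Set G) := F.LU (hA hg)
    have hz : g * t * g⁻¹ * t⁻¹ ∈ centralizer (V : Set G) := hE.comm g hg t ht
    set z := g * t * g⁻¹ * t⁻¹ with hzd
    have hw : g * v₀ * g⁻¹ ∈ V := (mem_normalizer_iff.1 hgV _).1 hv₀
    have htw : t * (g * v₀ * g⁻¹) * t⁻¹ ∈ V := (mem_normalizer_iff.1 (F.LU (hA ht)) _).1 hw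
    have h5 : z * (t * (g * v₀ * g⁻¹) * t⁻¹) * z⁻¹ = t * (g * v₀ * g⁻¹) * t⁻¹ := Blk.cent hz htw
    have h6 : z * (t * (g * v₀ * g⁻¹) * t⁻¹) * z⁻¹ = (g * v₀ * g⁻¹) * (g * φ {a, b} * g⁻¹) := by
      have e1 : z * (t * (g * v₀ * g⁻¹) * t⁻¹) * z⁻¹ = g * (t * v₀ * t⁻¹) * g⁻¹ := by
        rw [hzd]; group
      rw [e1, hv₀c]; group
    have h7 : t * (g * v₀ * g⁻¹) * t⁻¹ = (g * v₀ * g⁻¹) * (g * φ {a, b} * g⁻¹) := h5.symm.trans h6
    rcases htv _ hw with h8 | h8
    · exfalso
      rw [h8] at h7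
      have h9 : g * φ {a, b} * g⁻¹ = 1 := by
        have := h7.symm
        rwa [mul_eq_left] at this
      apply hc1
      have e : φ {a, b} = g⁻¹ * (g * φ {a, b} * g⁻¹) * g := by group
      rw [e, h9]; group
    · rw [h8] at h7
      exact (mul_left_cancel h7).symm
  have hfix : ∀ g ∈ A, MulAut.conj g • N i = N i := by
    intro g hg
    obtain ⟨j, hj, -⟩ := F.perm g (hA hg) i
    have h5 : g * φ {a, b} * g⁻¹ ∈ N j := (Blk.conj_smul hj).1 hcN
    rw [key g hg] at h5
    by_cases hij : i = j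
    · rw [hj, ← hij]
    · exfalso
      apply hc1
      have h6 : φ {a, b} ∈ N i ⊓ Blk.Co N R₀ i := ⟨hcN, F.toDec.N_le_Co (Ne.symm hij) h5⟩
      rw [show N i ⊓ Blk.Co N R₀ i = ⊥ from F.ind i, mem_bot] at h6
      exact h6
  choose f hf using fun g : A => F.rel_of_fix (hA g.2) (hfix g g.2)
  let f' : A →* Equiv.Perm (Om i) := MonoidHom.mk' f fun s t => Lt.unique h3 (hf (s * t)) ((hf s).mul (hf t))
  let _ : MulAction A (Om i) := MulAction.compHom (Om i) f'
  have : Fact (Nat.Prime 2) := ⟨Nat.prime_two⟩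
  have h1 : ¬ 2 ∣ Nat.card (Om i) := by
    rw [Nat.card_eq_fintype_card]
    exact Lt.odd.not_two_dvd_nat
  obtain ⟨w, hw⟩ := pg.nonempty_fixed_point_of_prime_not_dvd_card (Om i) h1
  have hw' : ∀ g : A, f g w = w := fun g => hw g
  have hft : f ⟨t, ht⟩ = Equiv.swap a b := Lt.unique h3 (hf ⟨t, ht⟩) hrt
  have hwa : w ≠ a := by
    rintro rfl
    have := hw' ⟨t, ht⟩
    rw [hft, Equiv.swap_apply_left] at this
    exact hab this.symm
  have hwb : w ≠ b := by
    rintro rfl
    have := hw' ⟨t, ht⟩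
    rw [hft, Equiv.swap_apply_right] at this
    exact hab this
  have hpa : ∀ g : A, f g a = a ∨ f g a = b := by
    intro g
    have h5 := Lt.pair (hf g) hab
    rw [key g g.2] at h5
    have hne : f g a ≠ f g b := fun e => hab ((f g).injective e)
    have h6 := Lt.phi_inj (by rw [Finset.card_pair hab]; exact even_two)
      (by rw [Finset.card_pair hne]; exact even_two) h5
    have h7 : f g a ∈ ({a, b} : Finset (Om i)) := by
      rw [h6]; exact Finset.mem_insert_self _ _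
    simpa using h7
  have hv : φ {a, w} ∈ V := by
    have h5 : φ {a, w} ∈ N i := (Lt.mem _).2 ⟨{a, w}, by rw [Finset.card_pair hwa.symm]; exact even_two, rfl⟩
    exact F.toDec.NU i h5
  have htvv : t * φ {a, w} * t⁻¹ = φ {b, w} := by
    rw [Lt.pair hrt hwa.symm, Equiv.swap_apply_left, Equiv.swap_apply_of_ne_of_ne hwa hwb]
  refine ⟨φ {a, w}, hv, ?_, fun g hg => ?_⟩
  · rw [htvv]
    intro e
    have h6 := Lt.phi_inj (by rw [Finset.card_pair hwb.symm]; exact even_two)
      (by rw [Finset.card_pair hwa.symm]; exact even_two) e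
    have h7 : b ∈ ({a, w} : Finset (Om i)) := by rw [← h6]; exact Finset.mem_insert_self _ _
    rw [Finset.mem_insert, Finset.mem_singleton] at h7
    exact h7.elim (fun h => hab h.symm) fun h => hwb h.symm
  · have h5 := Lt.pair (hf ⟨g, hg⟩) hwa.symm
    rw [hw' ⟨g, hg⟩] at h5
    rw [htvv]
    rcases hpa ⟨g, hg⟩ with h6 | h6
    · left; rw [h6] at h5; exact h5
    · right; rw [h6] at h5; exact h5

/-- **An exact group is generated by transvections.** -/
theorem gen_tv (no : NoOverM V L)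
    (hmx : ∀ X ≤ L, Mx V X → ∃ t ∈ X, ∃ c ∈ V, t ∉ centralizer (V : Set G) ∧ TvV V c t) :
    ∀ A ≤ L, IsPGroup 2 A → ElemM V A → Exa V A → A ≤ closure {t | t ∈ A ∧ ∃ c ∈ V, TvV V c t} := by
  suffices key : ∀ n : ℕ, ∀ A : Subgroup G, Nat.card A = n → A ≤ L → IsPGroup 2 A → ElemM V A → Exa V A →
      A ≤ closure {t | t ∈ A ∧ ∃ c ∈ V, TvV V c t} from fun A h1 h2 h3 h4 => key _ A rfl h1 h2 h3 h4
  intro n
  induction n using Nat.strong_induction_on with
  | _ n ih =>
    rintro A rfl hA pg hE hex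
    by_cases hne : A ≤ centralizer (V : Set G)
    · intro a ha
      refine subset_closure ⟨ha, 1, one_mem _, fun w hw => Or.inl ?_⟩
      exact Blk.cent (hne ha) hw
    obtain ⟨X, hXA, -, hX⟩ := exists_mx hE pg hne hex
    obtain ⟨t, htX, c, hc, htn, htv⟩ := hmx X (hXA.trans hA) hX
    have ht := hXA htX
    obtain ⟨v, hv, htv', hvA⟩ := exists_vec F hA pg hE ht hc htv htn
    have fx : ∀ {g : G}, g * v * g⁻¹ = v ↔ g ∈ centralizer ({v} : Set G) := by
      intro g
      rw [mem_centralizer_singleton_iff]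
      constructor
      · intro e
        calc g * v = (g * v * g⁻¹) * g := by group
          _ = v * g := by rw [e]
      · intro e; rw [e]; group
    set A' : Subgroup G := A ⊓ centralizer ({v} : Set G) with hA'
    have hle : A' ≤ A := inf_le_left
    have htA' : t ∉ A' := fun h => htv' (fx.2 h.2)
    have hlt : A' < A := lt_of_le_of_ne hle fun e => htA' (e ▸ ht)
    have hcV : A' ⊓ centralizer (V : Set G) = A ⊓ centralizer (V : Set G) := by
      rw [hA', inf_assoc, inf_eq_right.2 (centralizer_le (Set.singleton_subset_iff.2 hv))]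
    have hvA' : v ∈ V ⊓ centralizer (A' : Set G) := by
      refine mem_inf.2 ⟨hv, mem_centralizer_iff.2 fun g hg => ?_⟩
      exact mem_centralizer_singleton_iff.1 hg.2
    have hvA'' : v ∉ V ⊓ centralizer (A : Set G) := by
      intro h
      apply htv'
      have := mem_centralizer_iff.1 h.2 t ht
      rw [this]; group
    have h1 : 2 * Nat.card ↥(V ⊓ centralizer (A : Set G)) ≤ Nat.card ↥(V ⊓ centralizer (A' : Set G)) := by
      refine two_mul_card (lt_of_le_of_ne (inf_le_inf_left _ (centralizer_le hle)) fun e => ?_)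
      rw [← e] at hvA'
      exact hvA'' hvA'
    have h2 : Nat.card A ≤ 2 * Nat.card A' := by
      refine card_le_two hle fun x hx y hy hxn hyn => mem_inf.2 ⟨mul_mem (inv_mem hx) hy, ?_⟩
      have h3 : x * v * x⁻¹ = t * v * t⁻¹ := (hvA x hx).resolve_left fun e => hxn ⟨hx, fx.1 e⟩
      have h4 : y * v * y⁻¹ = t * v * t⁻¹ := (hvA y hy).resolve_left fun e => hyn ⟨hy, fx.1 e⟩
      refine fx.1 ?_
      have e : x⁻¹ * y * v * (x⁻¹ * y)⁻¹ = x⁻¹ * (y * v * y⁻¹) * x := by group
      rw [e, h4, ← h3]; group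
    have hE' : ElemM V A' := VF.elemM_mono hE hle
    have hex' : Exa V A' := by
      refine le_antisymm ?_ (no A' (hle.trans hA) hE')
      rw [hcV]
      have h3 : Nat.card V * Nat.card ↥(A ⊓ centralizer (V : Set G)) =
          Nat.card A * Nat.card ↥(V ⊓ centralizer (A : Set G)) := hex
      rw [h3]
      calc Nat.card A * Nat.card ↥(V ⊓ centralizer (A : Set G)) ≤
          (2 * Nat.card A') * Nat.card ↥(V ⊓ centralizer (A : Set G)) := Nat.mul_le_mul_right _ h2
        _ = Nat.card A' * (2 * Nat.card ↥(V ⊓ centralizer (A : Set G))) := by ring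
        _ ≤ _ := Nat.mul_le_mul_left _ h1
    have hcard : Nat.card A' < Nat.card A := by
      have := two_mul_card hlt
      have h0 : 0 < Nat.card A' := Nat.card_pos
      omega
    have h5 := ih _ hcard A' rfl (hle.trans hA) (pg.to_le hle) hE' hex'
    have h6 : A' ≤ closure {t | t ∈ A ∧ ∃ c ∈ V, TvV V c t} :=
      h5.trans (closure_mono fun x hx => ⟨hle hx.1, hx.2⟩)
    have h7 : t ∈ closure {t | t ∈ A ∧ ∃ c ∈ V, TvV V c t} := subset_closure ⟨ht, c, hc, htv⟩
    intro g hg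
    rcases hvA g hg with h8 | h8
    · exact h6 ⟨hg, fx.1 h8⟩
    · have h9 : t⁻¹ * g ∈ A' := by
        refine mem_inf.2 ⟨mul_mem (inv_mem ht) hg, fx.1 ?_⟩
        have e : t⁻¹ * g * v * (t⁻¹ * g)⁻¹ = t⁻¹ * (g * v * g⁻¹) * t := by group
        rw [e, h8]; group
      have h10 := mul_mem h7 (h6 h9)
      rwa [mul_inv_cancel_left] at h10

/-- an exact group centralises `R₀` -/
theorem le_cent (no : NoOverM V L)
    (hmx : ∀ X ≤ L, Mx V X → ∃ t ∈ X, ∃ c ∈ V, t ∉ centralizer (V : Set G) ∧ TvV V c t)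
    (hA : A ≤ L) (pg : IsPGroup 2 A) (hE : ElemM V A) (hex : Exa V A) : A ≤ centralizer (R₀ : Set G) := by
  refine (gen_tv F no hmx A hA pg hE hex).trans ((closure_le _).2 ?_)
  rintro t ⟨ht, c, hc, htv⟩
  refine mem_centralizer_iff.2 fun v hv => ?_
  have h1 := (F.fixR v (F.toDec.RU hv)).1 hv t (hA ht) c hc htv
  calc v * t = (t * v * t⁻¹) * t := by rw [h1]
    _ = t * v := by group

/-- an exact subgroup of `S` lies in `(S ∩ ⟨E b⟩) C(V)` -/
theorem le_E (no : NoOverM V L)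
    (hmx : ∀ X ≤ L, Mx V X → ∃ t ∈ X, ∃ c ∈ V, t ∉ centralizer (V : Set G) ∧ TvV V c t)
    (hS : A ≤ S) (hA : A ≤ L) (pg : IsPGroup 2 A) (hE : ElemM V A) (hex : Exa V A) :
    A ≤ (S ⊓ ⨆ b, E b) ⊔ (A ⊓ centralizer (V : Set G)) := by
  refine (gen_tv F no hmx A hA pg hE hex).trans ((closure_le _).2 ?_)
  rintro t ⟨ht, c, hc, htv⟩
  by_cases hn : t ∈ centralizer (V : Set G)
  · exact mem_sup_right ⟨ht, hn⟩
  · obtain ⟨i, hti, -⟩ := F.tvs t (hA ht) c hc htv hn
    exact mem_sup_left ⟨hS ht, le_iSup E i hti⟩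

end full

section main

variable [Finite G] {S : Sylow 2 G} {L A : Subgroup G} {I : Type u} {N E : I → Subgroup G} {R₀ : Subgroup G}
    {Om : I → Type u} [∀ i, Fintype (Om i)] [∀ i, DecidableEq (Om i)] {phi : ∀ i, Finset (Om i) → G}

theorem exa_of_best {V : Subgroup G} (no : NoOverM V L) (hA : A ≤ L) (hb : Best V A) : Exa V A := by
  refine le_antisymm ?_ (no A hA hb.toElemM)
  have h1 := hb.max (A ⊓ centralizer (V : Set G)) inf_le_left le_rfl
  have h2 : V ⊓ centralizer ((A ⊓ centralizer (V : Set G) : Subgroup G) : Set G) = V :=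
    inf_eq_left.2 (le_centralizer_iff.1 inf_le_right)
  rw [h2, mul_comm] at h1
  exact h1

/-- **Best offenders of `S` centralise `R₀`** if no `P` is of type `q ≥ 4`. -/
theorem best_le_cent (hc : IsCharacteristicTwoType G) (hL : IsLoc (S : Subgroup G) L)
    (hgen : L ≤ sSup {P | IsParS (S : Subgroup G) P ∧ P ≤ L}) (hF : ¬ ∃ P A, GOne S L P A ∧ Big4 S P)
    (F : Full (S : Subgroup G) L (zl (S : Subgroup G) L) N E R₀ Om phi) (no : NoOverM (zl (S : Subgroup G) L) L)
    (hS : A ≤ (S : Subgroup G)) (hb : Best (zl (S : Subgroup G) L) A) : A ≤ centralizer (R₀ : Set G) := by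
  have hA : A ≤ L := hS.trans hL.le
  refine le_cent F no (fun X hX h => ?_) hA (S.isPGroup'.to_le hS) hb.toElemM (exa_of_best no hA hb)
  obtain ⟨t, ht, c, hc', hn, htv, -⟩ := TvAtom.mx_tv hc hL hgen hF hX h
  exact ⟨t, ht, c, hc', hn, htv⟩

/-- **Best offenders of `S` lie in `(S ∩ ⟨E b⟩) C(V)`** if no `P` is of type `q ≥ 4`. -/
theorem best_le_E (hc : IsCharacteristicTwoType G) (hL : IsLoc (S : Subgroup G) L)
    (hgen : L ≤ sSup {P | IsParS (S : Subgroup G) P ∧ P ≤ L}) (hF : ¬ ∃ P A, GOne S L P A ∧ Big4 S P)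
    (F : Full (S : Subgroup G) L (zl (S : Subgroup G) L) N E R₀ Om phi) (no : NoOverM (zl (S : Subgroup G) L) L)
    (hS : A ≤ (S : Subgroup G)) (hb : Best (zl (S : Subgroup G) L) A) :
    A ≤ ((S : Subgroup G) ⊓ ⨆ b, E b) ⊔ (A ⊓ centralizer (zl (S : Subgroup G) L : Set G)) := by
  have hA : A ≤ L := hS.trans hL.le
  refine le_E F no (fun X hX h => ?_) hS hA (S.isPGroup'.to_le hS) hb.toElemM (exa_of_best no hA hb)
  obtain ⟨t, ht, c, hc', hn, htv, -⟩ := TvAtom.mx_tv hc hL hgen hF hX h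
  exact ⟨t, ht, c, hc', hn, htv⟩

end main

end Cfsg.Agent.Omega.NOThreeL.RRed.TvExa
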