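import Cfsg.Agent.Omega.NOThreeL.RRed.FourLf
import Cfsg.Agent.Omega.NOThreeL.RWide.PermNB
import Cfsg.Agent.Omega.EDel.Bx.JO
import Cfsg.Agent.Omega.NOThreeL.RRed.Blk.Dich

/-!
# NO-3L, box R, `FourOf`, the left case: `Lf` gives helper23's frame `AOF.AO` over `B = C_S(Z_J)`

`h : Lf S N E z O v`, `Ω₁Z(B) = Z_J` (449's `Lf.zcB`), `N_G(S)` permutes the blocks (625's `permN`), three blocks
(704's `three_blks`):

* `Lf.B_blk` : `B` normalises every block; `Lf.BW` : `[b, x] ∈ {1, z b}` for `x ∈ N b`;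
* `Lf.Q_norm` : `M* ≤ N(C_S(V*))`; `Lf.rho` : an element of `N(C_S(V*))` which centralises the `z c`, `c ≠ b`, and moves
  `z b` inside `N b`;
* `Lf.permB` : `N_G(B)` permutes the `z b`;
* **`Lf.toZJF`**, **`Lf.toAO`** (via helper285's `ZJF.toAO`).
-/

set_option autoImplicit false
set_option linter.unusedSectionVars false

namespace Cfsg.Agent.Omega.NOThreeL.RRed.FourLf

open Subgroup Cfsg Cfsg.Agent.ZN Cfsg.Agent.Omega.MinPar Cfsg.Agent.Omega.Frame Cfsg.Agent.Omega.FrameNOFF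
open Cfsg.Agent.Omega.NOThreeL.RTree
open Cfsg.Agent.Omega.NOThreeL.Merge (MZ le_MZ S_le_MZ)
open Cfsg.Agent.Omega.NOThreeL.RRed.Blk
open Cfsg.Agent.Omega.NOThreeL.RRed.FourLeft
open Cfsg.Agent.Omega.EK3 (Yc mem_Yc)
open Cfsg.Agent.ZN.ChoiceBase (cj)
open Cfsg.Agent.Omega.EDel.ZJFr (ZJF)
open scoped Pointwise

universe u

variable {G : Type u} [Group G]

theorem norm_inf {A B : Subgroup G} {g : G} (h1 : g ∈ normalizer (A : Set G)) (h2 : g ∈ normalizer (B : Set G)) :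
    g ∈ normalizer ((A ⊓ B : Subgroup G) : Set G) := by
  rw [mem_normalizer_iff]
  intro x
  rw [mem_inf, mem_inf, mem_normalizer_iff.1 h1 x, mem_normalizer_iff.1 h2 x]

/-- in a simple group of the frame centralisers of `x ≠ 1` are proper -/
theorem cent_ne_top [Finite G] (hG : Ctx G) {x : G} (hx : x ≠ 1) : centralizer ({x} : Set G) ≠ ⊤ := by
  intro h1
  have := hG.simple
  have h2 : x ∈ center G := by
    rw [mem_center_iff]
    intro g
    exact mem_centralizer_singleton_iff.1 (h1 ▸ mem_top g)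
  rcases IsSimpleGroup.eq_bot_or_eq_top_of_normal (center G) inferInstance with h3 | h3
  · rw [h3, mem_bot] at h2
    exact hx h2
  · exact hG.nonComm ⟨⟨fun a b => by
      have h4 : b ∈ center G := h3 ▸ mem_top b
      exact mem_center_iff.1 h4 a⟩⟩

namespace Lf

variable [Finite G] {S : Sylow 2 G} {I : Type u} [Finite I] {N E : I → Subgroup G} {z : I → G} {O : Fin 2 → Set I}
  {v : Fin 2 → G} (h : Lf S N E z O v)
include h

theorem zinj : Function.Injective z := by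
  intro b c hbc
  by_contra hne
  have h1 : z b ∈ N b ⊓ Co N ⊥ b := by
    refine ⟨h.tw.one.zN b, ?_⟩
    rw [hbc]
    exact h.tw.dec.N_le_Co (Ne.symm hne) (h.tw.one.zN c)
  rw [show N b ⊓ Co N ⊥ b = ⊥ from h.tw.dec.ind b, mem_bot] at h1
  exact h.tw.one.z1 b h1

/-- `B` normalises every block -/
theorem B_blk {x : G} (hx : x ∈ BB (S : Subgroup G) z) (b : I) : MulAut.conj x • N b = N b := by
  obtain ⟨c, h1, -⟩ := h.tw.dec.perm x (h.tw.dec.SL hx.1) b
  have h2 : z b ∈ N c := by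
    have h3 := (conj_smul h1).1 (h.tw.one.zN b)
    rwa [h.B_fix hx b] at h3
  have h4 : c = b := by
    by_contra hne
    have h3 : z b ∈ N b ⊓ Co N ⊥ b := ⟨h.tw.one.zN b, h.tw.dec.N_le_Co hne h2⟩
    rw [show N b ⊓ Co N ⊥ b = ⊥ from h.tw.dec.ind b, mem_bot] at h3
    exact h.tw.one.z1 b h3
  rw [h1, h4]

/-- **`[B, N b] ≤ ⟨z b⟩`** -/
theorem BW (b : I) {x : G} (hx : x ∈ BB (S : Subgroup G) z) {y : G} (hy : y ∈ N b) :
    x * y * x⁻¹ * y⁻¹ = 1 ∨ x * y * x⁻¹ * y⁻¹ = z b := by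
  have sq : ∀ y ∈ N b, y * y = 1 := fun y hy => h.usq y (h.tw.dec.NU b hy)
  by_cases h1 : y = 1
  · left; subst h1; group
  by_cases h2 : y = z b
  · left
    rw [h2, h.B_fix hx b, mul_inv_cancel]
  have h3 : x * y * x⁻¹ ∈ N b := (conj_smul (h.B_blk hx b)).1 hy
  rcases four_or (h.h4 b) sq (h.tw.one.zN b) (h.tw.one.z1 b) hy h1 h2 h3 with h4 | h4 | h4 | h4
  · exact absurd (conj_eq_one_iff.1 h4) h1
  · exfalso
    apply h2
    have h5 := h.B_fix hx b
    have h6 : x * y * x⁻¹ = x * z b * x⁻¹ := by rw [h4, h5]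
    exact mul_left_cancel (mul_right_cancel h6)
  · left; rw [h4, mul_inv_cancel]
  · right
    rw [h4, h.tw.dec.ucomm (h.tw.dec.NU b hy) (h.zU b), mul_inv_cancel_right]

/-- `M* ≤ N(C_S(V*))` -/
theorem Q_norm : MZ (S : Subgroup G) ≤
    normalizer (((S : Subgroup G) ⊓ centralizer (Wd (S : Subgroup G) : Set G) : Subgroup G) : Set G) := by
  refine sSup_le fun P hP => ?_
  have h1 : P ≤ normalizer ((centralizer (Wd (S : Subgroup G) : Set G) : Subgroup G) : Set G) :=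
    TC.LemZ.norm_cent ((le_MZ hP).trans h.tw.dec.LU)
  rcases Blk.dich hP.1.1 h1 with h2 | h2
  · exact h2
  · exfalso
    apply hP.2
    refine le_trans ?_ (centralizer_le_normalizer _)
    rw [← h2]
    exact sup_le (inf_le_right.trans (centralizer_le (h.zcZJ.trans h.ZJU))) (MinSimple.VModule.le_centralizer_zc _)

theorem rho (b : I) : ∃ ρ ∈ normalizer (((S : Subgroup G) ⊓ centralizer (Wd (S : Subgroup G) : Set G) : Subgroup G) :
      Set G), (∀ l, l ≠ b → ρ * z l = z l * ρ) ∧ ρ * z b * ρ⁻¹ ∈ N b ∧ ρ * z b * ρ⁻¹ ≠ z b := by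
  obtain ⟨e, he, hne⟩ := h.tw.one.mv b
  refine ⟨e, h.Q_norm (h.tw.dec.EL b he), fun l hl => ?_, conj_of (h.tw.dec.EN b he) (h.tw.one.zN b), hne⟩
  exact (mem_centralizer_iff.1 (h.tw.dec.EC b l (Ne.symm hl) he) _ (h.tw.one.zN l)).symm

theorem z_mem_BB (b : I) : z b ∈ BB (S : Subgroup G) z := h.U_le_B (h.zU b)

theorem mvB (b : I) : ¬ BB (S : Subgroup G) z ≤ centralizer (N b : Set G) := by
  obtain ⟨A, hA, h1, -⟩ := h.pure b
  exact fun h2 => h1 ((h.A_le_B hA).trans h2)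

/-- **`N_G(B)` permutes the `z b`.** -/
theorem permB [Nonempty I]
    (permN : ∀ n ∈ normalizer ((S : Subgroup G) : Set G), ∀ b, ∃ c, MulAut.conj n • N b = N c) :
    ∀ g ∈ normalizer (BB (S : Subgroup G) z : Set G), ∀ b, ∃ c, g * z b * g⁻¹ = z c := by
  refine RWide.PermNB.permNB_z S (N := N) (S.isPGroup'.to_le inf_le_left) ?_ ?_ h.perm ?_ ?_ h.h4 h.tw.one.zN
    (fun b => h.usq' _ (h.zU b)) h.tw.one.z1 ?_ h.mvB
  · obtain ⟨b⟩ := ‹Nonempty I›
    intro h1
    have h2 := h.z_mem_BB b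
    rw [h1, mem_bot] at h2
    exact h.tw.one.z1 b h2
  · intro s hs
    have h1 := h.D_norm' (MinSimple.VModule.le_centralizer_zc _ hs)
    exact norm_inf (Subgroup.le_normalizer hs) h1
  · intro g hg b
    obtain ⟨c, h1, -⟩ := h.tw.dec.perm g hg b
    exact ⟨c, h1⟩
  · intro n hn _ b
    exact permN n hn b
  · intro b
    refine mem_centralizer_iff.2 fun x hx => ?_
    have h1 := h.B_fix hx b
    rw [mul_inv_eq_iff_eq_mul] at h1
    exact h1

/-- the groups `Y_j` are `K`-groups -/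
theorem kg_Yc {ι : Type} {f : ι → I} {j : ι} (hj : ∃ l, l ≠ j) : IsKGroup (Yc (fun i => z (f i)) j) := by
  have := h.rb.ctx.simple
  obtain ⟨l, hl⟩ := hj
  refine h.rb.ctx.kproper _ fun h1 => cent_ne_top h.rb.ctx (h.tw.one.z1 (f l)) ?_
  rw [eq_top_iff, ← h1]
  intro x hx
  exact mem_centralizer_singleton_iff.2 (mem_Yc.1 hx l hl)

/-- **the frame of helper285's LEMMA ZJ+** -/
theorem toZJF (zcB : zc (BB (S : Subgroup G) z) = ZJ z)
    (permN : ∀ n ∈ normalizer ((S : Subgroup G) : Set G), ∀ b, ∃ c, MulAut.conj n • N b = N c)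
    {n : ℕ} (e : Fin n ≃ I) (ex : ∀ i : Fin n, ∃ l, l ≠ i) :
    ZJF (BB (S : Subgroup G) z) (ZJ z) ((S : Subgroup G) ⊓ centralizer (Wd (S : Subgroup G) : Set G))
      (fun i => N (e i)) (fun i => z (e i)) where
  c2 := h.rb.ctx.char2
  two := S.isPGroup'.to_le inf_le_left
  syl := h.sylB
  zcB := zcB
  zJ := fun i => subset_closure ⟨e i, rfl⟩
  gen := closure_mono (by
    rintro _ ⟨b, rfl⟩
    exact ⟨e.symm b, by simp⟩)
  ne := fun i => h.tw.one.z1 (e i)
  inj := h.zinj.comp e.injective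
  zW := fun i => h.tw.one.zN (e i)
  cardW := fun i => h.h4 (e i)
  sqW := fun i x hx => h.usq' x (h.tw.dec.NU (e i) hx)
  BW := fun i b hb x hx => h.BW (e i) hb hx
  perm := fun g hg i => by
    have : Nonempty I := ⟨e i⟩
    obtain ⟨c, hc⟩ := h.permB permN g hg (e i)
    exact ⟨e.symm c, by simpa using hc⟩
  ex := ex
  QB := le_inf inf_le_left (inf_le_right.trans (centralizer_le h.ZJU))
  BQ := fun x hx hc => by
    refine ⟨hx.1, ?_⟩
    have h1 : Wd (S : Subgroup G) ≤ centralizer ({x} : Set G) := by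
      have h2 := h.tw.dec.sup
      rw [sup_bot_eq] at h2
      rw [← h2]
      refine iSup_le fun b y hy => mem_centralizer_singleton_iff.2 ?_
      have h3 := hc (e.symm b)
      simp only [Equiv.apply_symm_apply] at h3
      exact mem_centralizer_iff.1 h3 y hy
    exact mem_centralizer_iff.2 fun y hy => mem_centralizer_singleton_iff.1 (h1 hy)
  QW := fun i => inf_le_right.trans (centralizer_le (h.tw.dec.NU (e i)))
  rho := fun i => by
    obtain ⟨ρ, h1, h2, h3, h4⟩ := h.rho (e i)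
    exact ⟨ρ, h1, fun l hl => h2 (e l) fun hh => hl (e.injective hh), h3, h4⟩
  ab := fun i => by
    obtain ⟨A, h1, h2, h3⟩ := h.pure (e i)
    exact ⟨A, h.mx_iff.2 h1, h2, fun l hl => h3 (e l) fun hh => hl (e.injective hh)⟩

/-- **helper23's frame `AOF.AO`.** -/
theorem toAO (zcB : zc (BB (S : Subgroup G) z) = ZJ z) (hML : ML.Final.MLK.{u, u})
    (permN : ∀ n ∈ normalizer ((S : Subgroup G) : Set G), ∀ b, ∃ c, MulAut.conj n • N b = N c)
    (three : ∀ i j : I, ∃ k, k ≠ i ∧ k ≠ j) :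
    ∃ (n : ℕ) (e : Fin n ≃ I),
      EDel.AOF.AO (BB (S : Subgroup G) z) (ZJ z) (fun i => N (e i)) (fun i => z (e i)) := by
  obtain ⟨e⟩ : Nonempty (Fin (Nat.card I) ≃ I) := ⟨(Finite.equivFin I).symm⟩
  have three' : ∀ i j : Fin (Nat.card I), ∃ k, k ≠ i ∧ k ≠ j := fun i j => by
    obtain ⟨k, h1, h2⟩ := three (e i) (e j)
    exact ⟨e.symm k, fun h3 => h1 (by rw [← h3]; simp), fun h3 => h2 (by rw [← h3]; simp)⟩
  have ex : ∀ i : Fin (Nat.card I), ∃ l, l ≠ i := fun i => by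
    obtain ⟨k, h1, -⟩ := three' i i
    exact ⟨k, h1⟩
  exact ⟨_, e, (h.toZJF zcB permN e ex).toAO hML (fun j => h.kg_Yc (ex j))
    (fun i => (h.tw.dec.NU (e i)).trans h.U_le_B) three'⟩

end Lf

end Cfsg.Agent.Omega.NOThreeL.RRed.FourLf
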