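import Cfsg.Agent.Omega.NOThreeL.RRed.FourPIn
import Cfsg.Agent.Omega.NOThreeL.RWide.PermAll

/-!
# Box R, `|Z| = 4`, two orbits of four-group blocks, left case: `C_G(Z)` permutes the points `z b`

THEOREM PERM+ (helper278: `RWide.PIn.permD`) for the instance `FourPIn.pin_of_two`.
-/

set_option autoImplicit false
set_option linter.unusedSectionVars false

namespace Cfsg.Agent.Omega.NOThreeL.RRed.FourPIn

open Subgroup Cfsg Cfsg.Agent.ZN Cfsg.Agent.ZN.ChoiceBase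
open Cfsg.Agent.Omega.MinPar Cfsg.Agent.Omega.Frame Cfsg.Agent.Omega.FrameNOFF
open Cfsg.Agent.Omega.Node.NO3L Cfsg.Agent.Omega.NOThreeL.Basic Cfsg.Agent.Omega.NOThreeL.RTree
open Cfsg.Agent.Omega.NOThreeL.Merge (MZ)
open Cfsg.Agent.Omega.NOThreeL.RRed.Blk
open Cfsg.Agent.Omega.NOThreeL.RWide (conj_mem_cj)
open scoped Pointwise

universe u

variable {G : Type u} [Group G] [Finite G] {ι : Type u} [Finite ι] {S : Sylow 2 G} {N E : ι → Subgroup G} {z : ι → G}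
  {O : Fin 2 → Set ι} {v : Fin 2 → G} {Om : ι → Type u} [∀ i, Fintype (Om i)] [∀ i, DecidableEq (Om i)]
  {phi : ∀ i, Finset (Om i) → G}

/-- **`C_G(Z)` permutes the points `z b`, `b ∈ O i`.** -/
theorem permD_two (B : RB S)
    (F : TvFin.Full (S : Subgroup G) (MZ (S : Subgroup G)) (Wd (S : Subgroup G)) N E ⊥ Om phi)
    (t : TwoO S (MZ (S : Subgroup G)) (Wd (S : Subgroup G)) N E ⊥ z O v) (h3 : ∀ b, Fintype.card (Om b) = 3)
    (permN : ∀ g ∈ normalizer ((S : Subgroup G) : Set G), ∀ b, ∃ c, MulAut.conj g • N b = N c) {i j : Fin 2}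
    (hij : i ≠ j) {P : Subgroup G} (hP : IsParS (S : Subgroup G) P) (hj : P ≤ centralizer ({v j} : Set G))
    (hi : ¬ P ≤ centralizer ({v i} : Set G))
    (mov : ∃ A ∈ AA (o2 (centralizer (zc (S : Subgroup G) : Set G))), ¬ A ≤ centralizer (VO N O i : Set G)) :
    ∀ x ∈ centralizer (zc (S : Subgroup G) : Set G), ∀ b ∈ O i, ∃ c ∈ O i, x * z b * x⁻¹ = z c := by
  intro x hx b hb
  obtain ⟨c, hc⟩ := (pin_of_two B F t h3 permN hij hP hj hi mov).permD x hx ⟨b, hb⟩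
  refine ⟨c, c.2, (mem_zp (wsq B _ (t.dec.NU c (t.one.zN c))) ?_).resolve_left
    fun e => t.one.z1 b (conj_eq_one_iff.1 e)⟩
  have h1 : x * z b * x⁻¹ ∈ cj x (zpowers (z b)) := conj_mem_cj (mem_zpowers _)
  rw [hc] at h1
  exact h1

end Cfsg.Agent.Omega.NOThreeL.RRed.FourPIn
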