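import Cfsg.Agent.Omega.NOThreeL.RRed.FourTree

/-!
# NO-3L, box R, `FourOf`: two blocks with three letters give `|V_P| = 8` for all `P ∈ P*(S)`

* `exists_y` : some `y ∈ S ∩ E c` moves `N c`, `c` in the `M`-orbit of `b`;
* `norm_of` : two blocks, `|C_V(S)| ≥ 4`: `M` normalises both;
* `card_eight` : `|⟨Z^P⟩| = 8`;
* **`not_two`** : excluded by `Four.n8`.
-/

set_option autoImplicit false
set_option linter.unusedSectionVars false

namespace Cfsg.Agent.Omega.NOThreeL.RRed.FourThree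

open Subgroup Cfsg Cfsg.Agent.ZN Cfsg.Agent.Omega.MinPar Cfsg.Agent.Omega.Frame Cfsg.Agent.Omega.FrameNOFF
open Cfsg.Agent.Omega.NOThreeL.Merge (MZ le_MZ S_le_MZ isLoc_MZ zl_MZ_comm zl_MZ_isPGroup)
open Cfsg.Agent.ZN.ChoiceSit (Syl exists_syl syl_conj syl_not_dvd)
open Cfsg.Agent.Omega.NOThreeL.RRed.TvFin (Full)
open Cfsg.Agent.Omega.NOThreeL.RRed.Blk (Dec Co IsC mem_sup_of conj_of conj_smul cent)
open Cfsg.Agent.Omega.NOThreeL.RRed.FourTree
open Cfsg.Agent.Omega.KL.TwoS (Rel Lett)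
open Cfsg.Agent.Omega.NoFF.Basic (mem_conj conj_le_iff conj_conj)
open Cfsg.Agent.Omega.NOThreeL.Pair (conj_eq_of_mem)
open Cfsg.Agent.MinSimple.VModule (oddGen oddGen_def)
open scoped Pointwise

universe u

variable {G : Type u} [Group G]

section abs

theorem norm_iff {W : Subgroup G} {g : G} : g ∈ normalizer (W : Set G) ↔ MulAut.conj g • W = W :=
  ⟨fun h => conj_eq_of_mem h, fun h => mem_normalizer_iff.2 fun _ => conj_smul h⟩

theorem swap_pow {Ω : Type*} [DecidableEq Ω] (a b : Ω) {m : ℕ} (hm : Odd m) :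
    Equiv.swap a b ^ m = Equiv.swap a b := by
  obtain ⟨l, rfl⟩ := hm
  rw [pow_succ, pow_mul, pow_two, Equiv.swap_mul_self, one_pow, one_mul]

theorem card_le_four {Ω : Type u} [Fintype Ω] [DecidableEq Ω] {V R : Subgroup G} {φ : Finset Ω → G} (L : Lett V R φ)
    (h3 : Fintype.card Ω = 3) : Nat.card V ≤ 4 := by
  have hev : ∀ a : Ω, Even (Finset.univ.erase a).card := fun a => by
    rw [Finset.card_erase_of_mem (Finset.mem_univ a), Finset.card_univ, h3]; exact even_two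
  let f : Option Ω → V := fun o => match o with
    | none => 1
    | some a => ⟨φ (Finset.univ.erase a), (L.mem _).2 ⟨_, hev a, rfl⟩⟩
  have hf : Function.Surjective f := by
    rintro ⟨v, hv⟩
    obtain ⟨s, hs, rfl⟩ := (L.mem v).1 hv
    have h4 : s.card ≤ 3 := by rw [← h3]; exact Finset.card_le_univ s
    have h5 : s.card = 0 ∨ s.card = 2 := by
      obtain ⟨k, hk⟩ := hs
      omega
    rcases h5 with h5 | h5
    · refine ⟨none, Subtype.ext ?_⟩
      change (1 : G) = φ s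
      rw [Finset.card_eq_zero.1 h5, L.phi_empty]
    · have h6 : sᶜ.card = 1 := by rw [Finset.card_compl, h3, h5]
      obtain ⟨a, ha⟩ := Finset.card_eq_one.1 h6
      refine ⟨some a, Subtype.ext ?_⟩
      change φ (Finset.univ.erase a) = φ s
      congr 1
      ext x
      have h7 : x ∈ sᶜ ↔ x = a := by rw [ha, Finset.mem_singleton]
      rw [Finset.mem_compl] at h7
      simp only [Finset.mem_erase, Finset.mem_univ, and_true]
      tauto
  have h6 := Nat.card_le_card_of_surjective f hf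
  rwa [Nat.card_eq_fintype_card (α := Option Ω), Fintype.card_option, h3] at h6

theorem card_cent_le [Finite G] {W : Subgroup G} (hW : Nat.card W ≤ 4) {y : G} (hy : y ∉ centralizer (W : Set G)) :
    Nat.card (W ⊓ centralizer ({y} : Set G) : Subgroup G) ≤ 2 := by
  obtain ⟨k, hk⟩ := card_dvd_of_le (inf_le_left : W ⊓ centralizer ({y} : Set G) ≤ W)
  have h1 : 0 < Nat.card W := Nat.card_pos
  have h2 : k ≠ 0 := by rintro rfl; omega
  have h3 : k ≠ 1 := by
    rintro rfl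
    rw [mul_one] at hk
    have h4 := eq_of_le_of_card_ge (inf_le_left : W ⊓ centralizer ({y} : Set G) ≤ W) hk.le
    apply hy
    rw [mem_centralizer_iff]
    intro w hw
    have h5 : w ∈ W ⊓ centralizer ({y} : Set G) := by rw [h4]; exact hw
    exact (mem_centralizer_singleton_iff.1 h5.2)
  have h4 : 2 ≤ k := by omega
  have h5 := Nat.mul_le_mul_left (Nat.card (W ⊓ centralizer ({y} : Set G) : Subgroup G)) h4
  omega

theorem card_sup_le [Finite G] {A B : Subgroup G} (h : A ≤ normalizer (B : Set G)) :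
    Nat.card (A ⊔ B : Subgroup G) ≤ Nat.card A * Nat.card B := by
  rw [← Nat.card_prod]
  refine Nat.card_le_card_of_surjective
    (fun p : A × B => (⟨p.1 * p.2, mul_mem (mem_sup_left p.1.2) (mem_sup_right p.2.2)⟩ : (A ⊔ B : Subgroup G))) ?_
  rintro ⟨x, hx⟩
  obtain ⟨a, ha, b, hb, rfl⟩ := mem_sup_of h hx
  exact ⟨(⟨a, ha⟩, ⟨b, hb⟩), rfl⟩

end abs

section full

variable [Finite G] {S : Sylow 2 G} {M V : Subgroup G} {I : Type u} {N E : I → Subgroup G} {Om : I → Type u}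
  [∀ i, Fintype (Om i)] [∀ i, DecidableEq (Om i)] {phi : ∀ i, Finset (Om i) → G}
  (F : Full (S : Subgroup G) M V N E ⊥ Om phi)

include F

theorem sylM : Syl (S : Subgroup G) M :=
  ⟨F.SL, S.isPGroup', fun _ _ hQ hSQ => S.is_maximal' hQ hSQ⟩

/-- some `y ∈ S ∩ E c` moves `N c`, `c` in the `M`-orbit of `b` -/
theorem exists_y (b : I) : ∃ g ∈ M, ∃ c, MulAut.conj g • N b = N c ∧
    ∃ y ∈ (S : Subgroup G) ⊓ E c, y ∉ centralizer (N c : Set G) := by
  have h3 := F.three b
  obtain ⟨a, a', ha⟩ : ∃ a a' : Om b, a ≠ a' := by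
    have : Nontrivial (Om b) := Fintype.one_lt_card_iff_nontrivial.1 (by omega)
    exact exists_pair_ne _
  obtain ⟨x, hxE, hx, -⟩ := F.swap b a a' ha
  obtain ⟨k, m, hm, hkm⟩ := Nat.exists_eq_two_pow_mul_odd (n := orderOf x) (orderOf_pos x).ne'
  have hxm : Rel (phi b) (x ^ m) (Equiv.swap a a') := by
    have h1 := hx.pow m
    rwa [swap_pow a a' hm] at h1
  have h2 : IsPGroup 2 (zpowers (x ^ m)) := by
    have h1 : (x ^ m) ^ 2 ^ k = 1 := by
      rw [← pow_mul, mul_comm, ← hkm, pow_orderOf_eq_one]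
    obtain ⟨n, -, hn⟩ := (Nat.dvd_prime_pow Nat.prime_two).1 (orderOf_dvd_of_pow_eq_one h1)
    exact IsPGroup.of_card (n := n) (by rw [Nat.card_zpowers, hn])
  have hxM : x ^ m ∈ M := F.EL b (pow_mem hxE m)
  obtain ⟨S', hS', hxS'⟩ := exists_syl h2 (zpowers_le.2 hxM)
  obtain ⟨g, hg, hgS⟩ := syl_conj hS' (sylM F)
  obtain ⟨c, hc1, hc2⟩ := F.perm g hg b
  refine ⟨g, hg, c, hc1, g * x ^ m * g⁻¹, ⟨?_, (conj_smul hc2).1 (pow_mem hxE m)⟩, fun hcon => ?_⟩
  · rw [← hgS]
    exact ⟨x ^ m, hxS' (mem_zpowers _), rfl⟩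
  · -- `x ^ m` centralises `N b`
    have h4 : Rel (phi b) (x ^ m) (1 : Equiv.Perm (Om b)) := by
      intro s hs
      have h5 : phi b s ∈ N b := ((F.lett b).mem _).2 ⟨s, hs, rfl⟩
      have h6 := cent hcon ((conj_smul hc1).1 h5)
      have e : (1 : Equiv.Perm (Om b)).toEmbedding = Function.Embedding.refl (Om b) := by
        ext y
        simp
      rw [e, Finset.map_refl]
      have h7 : g * (x ^ m * phi b s * (x ^ m)⁻¹) * g⁻¹ = g * phi b s * g⁻¹ := by
        rw [← h6]; group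
      exact mul_left_cancel (mul_right_cancel h7)
    have h5 := (F.lett b).unique h3 hxm h4
    exact ha (Equiv.swap_eq_one_iff.1 h5)

variable {i j : I} (hij : i ≠ j) (hI : ∀ b, b = i ∨ b = j)

include hij hI

theorem perm_two {g : G} (hg : g ∈ M) : (MulAut.conj g • N i = N i ∧ MulAut.conj g • N j = N j) ∨
    (MulAut.conj g • N i = N j ∧ MulAut.conj g • N j = N i) := by
  obtain ⟨c, hc, -⟩ := F.perm g hg i
  obtain ⟨d, hd, -⟩ := F.perm g hg j
  have hcd : c ≠ d := by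
    rintro rfl
    apply hij
    apply F.toDec.Ninj
    exact smul_left_cancel _ (hc.trans hd.symm)
  rcases hI c with rfl | rfl
  · rcases hI d with rfl | rfl
    · exact absurd rfl hcd
    · exact Or.inl ⟨hc, hd⟩
  · rcases hI d with rfl | rfl
    · exact Or.inr ⟨hc, hd⟩
    · exact absurd rfl hcd

theorem sq_norm {g : G} (hg : g ∈ M) : g ^ 2 ∈ normalizer (N i : Set G) ∧ g ^ 2 ∈ normalizer (N j : Set G) := by
  rw [norm_iff, norm_iff, pow_two, ← conj_conj, ← conj_conj]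
  rcases perm_two F hij hI hg with ⟨h1, h2⟩ | ⟨h1, h2⟩
  · rw [h1, h1, h2, h2]
    exact ⟨rfl, rfl⟩
  · rw [h1, h2, h1]
    exact ⟨rfl, rfl⟩

/-- `S` normalises both blocks ⟹ `M` normalises both -/
theorem norm_of (hS : (S : Subgroup G) ≤ normalizer (N i : Set G)) (b : I) : M ≤ normalizer (N b : Set G) := by
  have hj : (S : Subgroup G) ≤ normalizer (N j : Set G) := by
    intro s hs
    rcases perm_two F hij hI (F.SL hs) with ⟨-, h2⟩ | ⟨h1, -⟩
    · exact norm_iff.2 h2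
    · exfalso
      apply hij
      apply F.toDec.Ninj
      rw [← h1]
      exact (norm_iff.1 (hS hs)).symm
  have key : ∀ b, (S : Subgroup G) ≤ normalizer (N b : Set G) → (∀ g ∈ M, g ^ 2 ∈ normalizer (N b : Set G)) →
      M ≤ normalizer (N b : Set G) := by
    intro b hSb hsq
    rw [← KL.Star.Core.oddGen_sup F.SL (syl_not_dvd (sylM F))]
    refine sup_le ?_ hSb
    rw [oddGen_def, closure_le]
    rintro g ⟨hgM, hgo⟩
    obtain ⟨l, hl⟩ := hgo
    have h1 : g = (g ^ 2) ^ (l + 1) := by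
      rw [← pow_mul]
      have e : 2 * (l + 1) = (2 * l + 1) + 1 := by ring
      rw [e, pow_succ, ← hl, pow_orderOf_eq_one, one_mul]
    rw [h1]
    exact pow_mem (hsq g hgM) _
  rcases hI b with rfl | rfl
  · exact key _ hS fun g hg => (sq_norm F hij hI hg).1
  · exact key _ hj fun g hg => (sq_norm F hij hI hg).2

theorem Co_i : Co N ⊥ i = N j := by
  unfold Co
  rw [sup_bot_eq]
  refine le_antisymm (iSup_le fun d => ?_) (le_iSup (fun d : {d // d ≠ i} => N d) ⟨j, hij.symm⟩)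
  rcases hI d with h | h
  · exact absurd h d.2
  · rw [h]

omit hI in
/-- the components of an element centralised by `g` are centralised by `g` -/
theorem comp_fix {b : I} {g z n : G} (hg : g ∈ M) (hgb : g ∈ normalizer (N b : Set G)) (hz : g * z * g⁻¹ = z)
    (hn : IsC N ⊥ b z n) : g * n * g⁻¹ = n := by
  have h1 := F.toDec.comp_conj hg (norm_iff.1 hgb) hn
  rw [hz] at h1
  exact F.toDec.uniq h1 hn

/-- an element with trivial components is trivial -/
theorem eq_one_of {z : G} (h1 : IsC N ⊥ i z 1) (h2 : IsC N ⊥ j z 1) : z = 1 := by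
  have h3 : z ∈ Co N ⊥ i := by have := h1.2; rwa [inv_one, one_mul] at this
  rw [Co_i F hij hI] at h3
  exact F.toDec.uniq (F.toDec.comp_self h3) h2

/-- a swap in `S` : `|C_V(S)| ≤ 2` -/
theorem card_le_two (h3 : ∀ b, Fintype.card (Om b) = 3) {s : G} (hs : s ∈ (S : Subgroup G))
    (hsN : ¬ s ∈ normalizer (N i : Set G)) {Z : Subgroup G} (hZ : Z ≤ V) (hZS : Z ≤ centralizer ((S : Subgroup G) : Set G)) :
    Nat.card Z ≤ 2 := by
  obtain ⟨h1, h2⟩ : MulAut.conj s • N i = N j ∧ MulAut.conj s • N j = N i := by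
    rcases perm_two F hij hI (F.SL hs) with h | h
    · exact absurd (norm_iff.2 h.1) hsN
    · exact h
  obtain ⟨g, -, c, -, y, ⟨hyS, hyE⟩, hy⟩ := exists_y F i
  have hc2 := card_cent_le (card_le_four (F.lett c) (h3 c)) hy
  refine le_trans ?_ hc2
  have hZs : ∀ z ∈ Z, ∀ t ∈ (S : Subgroup G), t * z * t⁻¹ = z := fun z hz t ht => by
    rw [mem_centralizer_iff.1 (hZS hz) t ht, mul_inv_cancel_right]
  have hdis : ∀ z ∈ Z, z ∈ Co N ⊥ c → z = 1 := by
    intro z hz hzc
    have hzs := hZs z hz s hs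
    rcases hI c with rfl | rfl
    · have h5 := F.toDec.comp_one hzc
      have h6 := F.toDec.comp_conj (F.SL hs) h1 h5
      rw [hzs, mul_one, mul_inv_cancel] at h6
      exact eq_one_of F hij hI h5 h6
    · have h5 := F.toDec.comp_one hzc
      have h6 := F.toDec.comp_conj (F.SL hs) h2 h5
      rw [hzs, mul_one, mul_inv_cancel] at h6
      exact eq_one_of F hij hI h6 h5
  have hex : ∀ z : Z, ∃ n : (N c ⊓ centralizer ({y} : Set G) : Subgroup G), IsC N ⊥ c (z : G) n := by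
    rintro ⟨z, hz⟩
    obtain ⟨n, hn⟩ := F.toDec.ex_comp c (hZ hz)
    have h5 := comp_fix F hij (F.SL hyS) (F.EN c hyE) (hZs z hz y hyS) hn
    exact ⟨⟨n, hn.1, mem_centralizer_singleton_iff.2 (mul_inv_eq_iff_eq_mul.1 h5).symm⟩, hn⟩
  choose f hf using hex
  refine Nat.card_le_card_of_injective f fun z z' e => ?_
  have h5 := hf z
  have h6 := hf z'
  rw [← e] at h6
  have h7 : (z : G)⁻¹ * z' ∈ Co N ⊥ c := by
    have e2 : (z : G)⁻¹ * z' = ((f z : G)⁻¹ * z)⁻¹ * ((f z : G)⁻¹ * z') := by group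
    rw [e2]
    exact mul_mem (inv_mem h5.2) h6.2
  have h8 := hdis _ (Z.mul_mem (Z.inv_mem z.2) z'.2) h7
  exact Subtype.ext (inv_mul_eq_one.1 h8)

/-- `M` normalises both blocks : `|V_P| ≤ 8` -/
theorem card_le_eight (h3 : ∀ b, Fintype.card (Om b) = 3) (hM : ∀ b, M ≤ normalizer (N b : Set G)) {P : Subgroup G}
    (hSP : (S : Subgroup G) ≤ P) (hPM : P ≤ M) (hZ : zc (S : Subgroup G) ≤ V)
    (hne : zc (S : Subgroup G) ⊓ centralizer (P : Set G) ≠ ⊥) : Nat.card (zl (S : Subgroup G) P) ≤ 8 := by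
  obtain ⟨z, hz, hz1⟩ : ∃ z ∈ zc (S : Subgroup G) ⊓ centralizer (P : Set G), z ≠ 1 := by
    by_contra hcon
    push Not at hcon
    exact hne (eq_bot_iff.2 fun x hx => mem_bot.2 (hcon x hx))
  have hzP : ∀ p ∈ P, p * z * p⁻¹ = z := fun p hp => by
    rw [mem_centralizer_iff.1 hz.2 p hp, mul_inv_cancel_right]
  -- a component `≠ 1`
  obtain ⟨b, n, hn, hn1⟩ : ∃ b, ∃ n, IsC N ⊥ b z n ∧ n ≠ 1 := by
    by_contra hcon
    push Not at hcon
    obtain ⟨n, hn⟩ := F.toDec.ex_comp i (hZ hz.1)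
    obtain ⟨m, hm⟩ := F.toDec.ex_comp j (hZ hz.1)
    rw [hcon i n hn] at hn
    rw [hcon j m hm] at hm
    exact hz1 (eq_one_of F hij hI hn hm)
  have hnP : ∀ p ∈ P, p * n * p⁻¹ = n := fun p hp => comp_fix F hij (hPM hp) (hM b (hPM hp)) (hzP p hp) hn
  obtain ⟨g, hg, c, hc, y, ⟨hyS, hyE⟩, hy⟩ := exists_y F b
  have hcb : c = b := F.toDec.Ninj (by rw [← hc]; exact norm_iff.1 (hM b hg))
  subst hcb
  set C : Subgroup G := N c ⊓ centralizer ({y} : Set G) with hC
  have hC2 : Nat.card C ≤ 2 := card_cent_le (card_le_four (F.lett c) (h3 c)) hy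
  have hnC : n ∈ C := ⟨hn.1, mem_centralizer_singleton_iff.2 (mul_inv_eq_iff_eq_mul.1 (hnP y (hSP hyS))).symm⟩
  -- `C = {1, n}`
  have hCz : C ≤ zpowers n := by
    have h5 : zpowers n ≤ C := zpowers_le.2 hnC
    have h6 : 2 ≤ Nat.card (zpowers n) := by
      have h7 : Nat.card (zpowers n) ≠ 1 := fun h => hn1 (by
        rw [Subgroup.card_eq_one] at h
        exact zpowers_eq_bot.1 h)
      have h8 : 0 < Nat.card (zpowers n) := Nat.card_pos
      omega
    exact (eq_of_le_of_card_ge h5 (hC2.trans h6)).ge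
  have hCP : P ≤ centralizer (C : Set G) := by
    have h5 : zpowers n ≤ centralizer (P : Set G) := by
      rw [zpowers_le, mem_centralizer_iff]
      exact fun p hp => mul_inv_eq_iff_eq_mul.1 (hnP p hp)
    exact NoFF.Basic.comm_symm (hCz.trans h5)
  -- `P` normalises `C Co`
  have hCo : ∀ p ∈ P, ∀ x ∈ Co N ⊥ c, p * x * p⁻¹ ∈ Co N ⊥ c := by
    intro p hp x hx
    obtain ⟨d, hd, -, h5⟩ := F.toDec.perm' (hPM hp) c
    have hdc : d = c := F.toDec.Ninj (by rw [← hd]; exact norm_iff.1 (hM c (hPM hp)))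
    subst hdc
    exact h5 x hx
  have hCoU := F.toDec.CoU c
  have hCU : C ≤ V := inf_le_left.trans (F.toDec.NU c)
  have hCn : C ≤ normalizer (Co N ⊥ c : Set G) := F.toDec.nor hCU hCoU
  have hPn : P ≤ normalizer ((C ⊔ Co N ⊥ c : Subgroup G) : Set G) := by
    refine TC.LemZ.le_norm_of fun p hp x hx => ?_
    obtain ⟨a, ha, w, hw, rfl⟩ := mem_sup_of hCn hx
    have e : p * (a * w) * p⁻¹ = (p * a * p⁻¹) * (p * w * p⁻¹) := by group
    rw [e, cent (hCP hp) ha]
    exact mul_mem (mem_sup_left ha) (mem_sup_right (hCo p hp w hw))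
  have hZC : zc (S : Subgroup G) ≤ C ⊔ Co N ⊥ c := by
    intro x hx
    obtain ⟨m, hm⟩ := F.toDec.ex_comp c (hZ hx)
    have h5 : y * x * y⁻¹ = x := by
      rw [(MinSimple.VModule.mem_zc.1 hx).2.1 y hyS, mul_inv_cancel_right]
    have h6 := comp_fix F hij (F.SL hyS) (F.EN c hyE) h5 hm
    have e : x = m * (m⁻¹ * x) := by group
    rw [e]
    exact mul_mem (mem_sup_left ⟨hm.1, mem_centralizer_singleton_iff.2 (mul_inv_eq_iff_eq_mul.1 h6).symm⟩)
      (mem_sup_right hm.2)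
  have h5 : zl (S : Subgroup G) P ≤ C ⊔ Co N ⊥ c := MinSimple.VModule.zl_le hZC hPn
  have h6 : Nat.card (Co N ⊥ c) ≤ 4 := by
    rcases hI c with rfl | rfl
    · rw [Co_i F hij hI]
      exact card_le_four (F.lett j) (h3 j)
    · rw [Co_i F hij.symm fun b => (hI b).symm]
      exact card_le_four (F.lett i) (h3 i)
  calc Nat.card (zl (S : Subgroup G) P) ≤ Nat.card (C ⊔ Co N ⊥ c : Subgroup G) := card_le_of_le h5
    _ ≤ Nat.card C * Nat.card (Co N ⊥ c) := card_sup_le hCn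
    _ ≤ 2 * 4 := Nat.mul_le_mul hC2 h6
    _ = 8 := rfl

end full

/-- **Two blocks with three letters do not occur in `FourOf`.** -/
theorem not_two [Finite G] {S : Sylow 2 G} {I : Type u} [Fintype I] {N E : I → Subgroup G} {Om : I → Type u}
    [∀ i, Fintype (Om i)] [∀ i, DecidableEq (Om i)] {phi : ∀ i, Finset (Om i) → G} (h : Four S)
    (hB : Bks S N E ⊥ Om phi) : ¬ (Fintype.card I = 2 ∧ ∀ b, Fintype.card (Om b) = 3) := by
  classical
  rintro ⟨h2, h3⟩
  have F := hB.toFull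
  obtain ⟨i, j, hij, hu⟩ := Finset.card_eq_two.1 ((Finset.card_univ (α := I)).trans h2)
  have hI : ∀ b, b = i ∨ b = j := fun b => by
    have h4 := Finset.mem_univ b
    rw [hu, Finset.mem_insert, Finset.mem_singleton] at h4
    exact h4
  obtain ⟨P, hP, hP8⟩ := h.n8
  have hZ : zc (S : Subgroup G) ≤ Wd (S : Subgroup G) := MinSimple.VModule.zc_le_zl _ _
  have hSN : (S : Subgroup G) ≤ normalizer (N i : Set G) := by
    by_contra hcon
    obtain ⟨s, hs, hsN⟩ := SetLike.not_le_iff_exists.1 hcon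
    have h5 := card_le_two F hij hI h3 hs hsN hZ (MinSimple.VModule.zc_le_centralizer _)
    have h6 := h.z4
    omega
  have hM := norm_of F hij hI hSN
  have hne : zc (S : Subgroup G) ⊓ centralizer (P : Set G) ≠ ⊥ := by
    intro h0
    have h5 := h.thin P hP
    rw [h0, card_bot, h.z4] at h5
    omega
  have h8 := card_le_eight F hij hI h3 hM hP.le (le_MZ hP) hZ hne
  obtain ⟨k, hk⟩ := card_dvd_of_le (MinSimple.VModule.zc_le_zl (S : Subgroup G) P)
  rw [h.z4] at hk
  have h1 : k ≠ 1 := by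
    rintro rfl
    apply hP.not_zc
    have h5 := eq_of_le_of_card_ge (MinSimple.VModule.zc_le_zl (S : Subgroup G) P) (by rw [hk, h.z4])
    rw [h5]
    exact MinSimple.VModule.le_normalizer_zl _ _
  have h0 : 0 < Nat.card (zl (S : Subgroup G) P) := Nat.card_pos
  omega

end Cfsg.Agent.Omega.NOThreeL.RRed.FourThree
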