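import Cfsg.Agent.Omega.NOThreeL.RRed.TvFin
import Cfsg.Agent.Omega.NOThreeL.RRed.Blk.Dich
import Cfsg.Agent.Omega.KL.TwoS.Sn

/-!
# Box R, the left case: an offender inside a normalised 2-group does not move `S_n`-blocks, `n ≥ 5` (helper559)

`Full S M V N E R₀ Om phi` (TvFin), `e ∈ V` with the component `phi b (Ω_b - {p})` in the block `b`, `O ≤ M` a 2-group
which centralises `e` and is normalised by `C_{E b}(e)`.

* `conj_N` : `O` normalises `N b` and `E b`;
* `lett_sup` : `E b ⊔ O` acts on `N b` as `Sym(Ω_b)`;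
* **`card_eq_three`** : if an offender `A ≤ O` on `V` moves `N b`, then `|Ω_b| = 3`.
-/

set_option autoImplicit false
set_option linter.unusedSectionVars false

namespace Cfsg.Agent.Omega.NOThreeL.RRed.LeftLett

open Subgroup Cfsg Cfsg.Agent.Omega.NOThreeL.RRed.TvFin
open Cfsg.Agent.Omega.FFThm (ElemM OffM NoOverM)
open Cfsg.Agent.Omega.NOThreeL.RRed.Blk (Dec Co IsC)
open Cfsg.Agent.Omega.KL.TwoS (Rel Lett)
open scoped Pointwise

universe u

theorem exists_notMem {Ω : Type*} [Fintype Ω] [DecidableEq Ω] {s : Finset Ω} (h : s.card < Fintype.card Ω) :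
    ∃ x, x ∉ s := by
  by_contra hcon
  push Not at hcon
  have h1 : (Finset.univ : Finset Ω) ⊆ s := fun x _ => hcon x
  have h2 := Finset.card_le_card h1
  rw [Finset.card_univ] at h2
  omega

variable {G : Type u} [Group G]

theorem norm_of_conj [Finite G] {W : Subgroup G} {g : G} (h : MulAut.conj g • W = W) :
    g ∈ normalizer (W : Set G) := by
  rw [mem_normalizer_iff]
  exact fun x => Blk.conj_smul h

variable {S M V : Subgroup G} {I : Type u} {N E : I → Subgroup G} {R₀ : Subgroup G} {Om : I → Type u}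
  [∀ i, Fintype (Om i)] [∀ i, DecidableEq (Om i)] {phi : ∀ i, Finset (Om i) → G}

/-- The data of one block. -/
structure At (M V : Subgroup G) (N E : I → Subgroup G) (R₀ : Subgroup G) (phi : ∀ i, Finset (Om i) → G) (b : I)
    (p : Om b) (e : G) (O : Subgroup G) : Prop where
  comp : IsC N R₀ b e (phi b (Finset.univ.erase p))
  two : IsPGroup 2 O
  OM : O ≤ M
  Oe : O ≤ centralizer ({e} : Set G)
  nO : ∀ g ∈ E b, g ∈ centralizer ({e} : Set G) → g ∈ normalizer (O : Set G)

section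

variable (F : Full S M V N E R₀ Om phi) {b : I} {p : Om b} {e : G} {O : Subgroup G}
  (D : At M V N E R₀ phi b p e O)
include F D

/-- `g ∈ E b` which fixes the component fixes `e` -/
theorem cent_e {g : G} (hg : g ∈ E b)
    (hz : g ∈ centralizer ({phi b (Finset.univ.erase p)} : Set G)) : g ∈ centralizer ({e} : Set G) := by
  have hco : Co N R₀ b ≤ centralizer (E b : Set G) := by
    refine sup_le (iSup_le fun c => ?_) ?_
    · have h1 := F.EC b c.1 (Ne.symm c.2)
      exact fun x hx => mem_centralizer_iff.2 fun y hy => (mem_centralizer_iff.1 (h1 hy) x hx).symm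
    · have h1 := F.ER b
      exact fun x hx => mem_centralizer_iff.2 fun y hy => (mem_centralizer_iff.1 (h1 hy) x hx).symm
  have h1 := D.comp.2
  have h2 := mem_centralizer_iff.1 (hco h1) g hg
  rw [mem_centralizer_singleton_iff] at hz ⊢
  have e1 : e = phi b (Finset.univ.erase p) * ((phi b (Finset.univ.erase p))⁻¹ * e) := by group
  rw [e1, ← mul_assoc, hz, mul_assoc, h2, ← mul_assoc]

theorem nor_e {g : G} (hg : g ∈ E b)
    (hz : g ∈ centralizer ({phi b (Finset.univ.erase p)} : Set G)) : g ∈ normalizer (O : Set G) :=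
  D.nO g hg (cent_e F D hg hz)

/-- an element of `M` which normalises `N b` and fixes `e` fixes the component -/
theorem cent_comp {x : G} (hx : x ∈ M) (hN : MulAut.conj x • N b = N b) (he : x ∈ centralizer ({e} : Set G)) :
    x ∈ centralizer ({phi b (Finset.univ.erase p)} : Set G) := by
  have h1 := F.comp_conj hx hN D.comp
  rw [mem_centralizer_singleton_iff] at he ⊢
  have h2 : x * e * x⁻¹ = e := by rw [he, mul_inv_cancel_right]
  rw [h2] at h1
  have h3 := F.uniq h1 D.comp
  rwa [mul_inv_eq_iff_eq_mul] at h3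

/-- **`O` normalises the block** -/
theorem conj_N (h5 : 4 ≤ Fintype.card (Om b)) {x : G} (hx : x ∈ O) :
    MulAut.conj x • N b = N b ∧ MulAut.conj x • E b = E b := by
  obtain ⟨c, h1, h2⟩ := F.perm x (D.OM hx) b
  by_cases hc : c = b
  · rw [hc] at h1 h2
    exact ⟨h1, h2⟩
  exfalso
  have L := F.lett b
  obtain ⟨u, hu⟩ := exists_notMem (s := {p}) (by rw [Finset.card_singleton]; omega)
  obtain ⟨v, hv⟩ := exists_notMem (s := {p, u}) (by
    have := Finset.card_le_two (a := p) (b := u)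
    omega)
  obtain ⟨w, hw⟩ := exists_notMem (s := {p, u, v}) (by
    have := Finset.card_le_three (a := p) (b := u) (c := v)
    omega)
  simp only [Finset.mem_insert, Finset.mem_singleton, not_or] at hu hv hw
  set τ : Equiv.Perm (Om b) := Equiv.swap u v * Equiv.swap u w with hτ
  have h3 : τ.IsThreeCycle := Equiv.Perm.isThreeCycle_swap_mul_swap_same (Ne.symm hv.2) (Ne.symm hw.2.1)
    (Ne.symm hw.2.2)
  have hτp : τ p = p := by
    rw [hτ, Equiv.Perm.mul_apply, Equiv.swap_apply_of_ne_of_ne (Ne.symm hu) (Ne.symm hw.1),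
      Equiv.swap_apply_of_ne_of_ne (Ne.symm hu) (Ne.symm hv.1)]
  obtain ⟨k, hk, hkr⟩ := L.all τ
  have hkz : k ∈ centralizer ({phi b (Finset.univ.erase p)} : Set G) := by
    rw [mem_centralizer_singleton_iff]
    have h4 := (L.fix_iff hkr p).2 hτp
    rwa [mul_inv_eq_iff_eq_mul] at h4
  have hkn := nor_e F D hk hkz
  have hm : x * k⁻¹ * x⁻¹ * k ∈ O := by
    have e1 : x * k⁻¹ * x⁻¹ * k = x * (k⁻¹ * x⁻¹ * k⁻¹⁻¹) := by group
    rw [e1]
    exact mul_mem hx ((mem_normalizer_iff.1 (inv_mem hkn) x⁻¹).1 (inv_mem hx))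
  have hy : x * k⁻¹ * x⁻¹ ∈ E c := (Blk.conj_smul h2).1 (inv_mem hk)
  have hyc := F.EC c b hc hy
  have hrel : Rel (phi b) (x * k⁻¹ * x⁻¹ * k) τ := by
    intro s hs
    have h4 := hkr s hs
    have e1 : x * k⁻¹ * x⁻¹ * k * phi b s * (x * k⁻¹ * x⁻¹ * k)⁻¹ =
        x * k⁻¹ * x⁻¹ * (k * phi b s * k⁻¹) * (x * k⁻¹ * x⁻¹)⁻¹ := by group
    rw [e1, h4]
    exact Blk.cent hyc ((L.mem _).2 ⟨_, by rwa [Finset.card_map], rfl⟩)
  obtain ⟨n, hn2⟩ := D.two ⟨_, hm⟩
  have h6 : (x * k⁻¹ * x⁻¹ * k) ^ 2 ^ n = 1 := by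
    have := congrArg Subtype.val hn2
    simpa using this
  have h7 := hrel.pow (2 ^ n)
  rw [h6] at h7
  have h8 := L.unique (by omega) h7 Rel.one
  have h9 := orderOf_dvd_of_pow_eq_one h8
  rw [h3.orderOf] at h9
  have h10 := Nat.Prime.dvd_of_dvd_pow Nat.prime_three h9
  omega

/-- `E b ⊔ O` acts on `N b` as `Sym(Ω_b)` -/
theorem lett_sup [Finite G] (h5 : 4 ≤ Fintype.card (Om b)) : Lett (N b) (E b ⊔ O) (phi b) := by
  have L := F.lett b
  refine ⟨L.odd, L.mul, L.inj, L.mem, fun g hg => ?_, fun σ => ?_⟩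
  · have h1 : E b ⊔ O ≤ normalizer (N b : Set G) :=
      sup_le (F.EN b) fun x hx => norm_of_conj (conj_N F D h5 hx).1
    have h2 : E b ⊔ O ≤ M := sup_le (F.EL b) D.OM
    exact F.rel_of_fix (h2 hg) (Blk.smul_of_mem (h1 hg))
  · obtain ⟨g, hg, h⟩ := L.all σ
    exact ⟨g, (le_sup_left : E b ≤ E b ⊔ O) hg, h⟩

theorem hn_sup [Finite G] (h5 : 4 ≤ Fintype.card (Om b)) :
    ∀ g ∈ E b ⊔ O, g ∈ centralizer ({phi b (Finset.univ.erase p)} : Set G) → g ∈ normalizer (O : Set G) := by
  intro g hg hz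
  have h1 : O ≤ normalizer (E b : Set G) := fun _ hx => norm_of_conj (conj_N F D h5 hx).2
  rw [sup_comm] at hg
  obtain ⟨o, ho, y, hy, rfl⟩ := Blk.mem_sup_of h1 hg
  have hoz := cent_comp F D (D.OM ho) (conj_N F D h5 ho).1 (D.Oe ho)
  have hyz : y ∈ centralizer ({phi b (Finset.univ.erase p)} : Set G) := by
    have h2 := mul_mem (inv_mem hoz) hz
    rwa [inv_mul_cancel_left] at h2
  exact mul_mem (le_normalizer ho) (nor_e F D hy hyz)

/-- **an offender `A ≤ O` of `N b` centralises `N b`** -/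
theorem cent_N [Finite G] (h5 : 4 ≤ Fintype.card (Om b)) {A : Subgroup G} (hA : A ≤ O)
    (hle : (centralizer (A : Set G)).relIndex (N b) ≤ (centralizer (N b : Set G)).relIndex A) :
    A ≤ centralizer (N b : Set G) :=
  (lett_sup F D h5).cent (O := O) (p := p) h5 D.two le_sup_right
    (fun x hx => cent_comp F D (D.OM hx) (conj_N F D h5 hx).1 (D.Oe hx)) (hn_sup F D h5) hA hle

end

/-- **The cut** : `A` an offender on `V`, no over-offender: `|N : C_N(A)| ≤ |A : C_A(N)|` for all `N ≤ V`. -/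
theorem cut [Finite G] {V M N A : Subgroup G} (hV : V ≤ centralizer (V : Set G)) (no : NoOverM V M) (hN : N ≤ V)
    (hAM : A ≤ M) (el : ElemM V A)
    (off : Nat.card V * Nat.card ↥(A ⊓ centralizer (V : Set G)) ≤
      Nat.card A * Nat.card ↥(V ⊓ centralizer (A : Set G))) :
    (centralizer (A : Set G)).relIndex N ≤ (centralizer (N : Set G)).relIndex A := by
  set B : Subgroup G := A ⊓ centralizer (N : Set G) with hB
  have hBA : B ≤ A := inf_le_left
  have hel : ElemM V B := ⟨fun a ha => el.sq a (hBA ha), fun a ha b hb => el.comm a (hBA ha) b (hBA hb)⟩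
  have h1 := no B (hBA.trans hAM) hel
  have h2 : B ⊓ centralizer (V : Set G) = A ⊓ centralizer (V : Set G) :=
    le_antisymm (inf_le_inf_right _ hBA) (le_inf (le_inf inf_le_left (inf_le_right.trans (centralizer_le hN)))
      inf_le_right)
  rw [h2] at h1
  -- `N C_V(A) ≤ C_V(B)`
  have hCA : V ⊓ centralizer (A : Set G) ≤ V ⊓ centralizer (B : Set G) :=
    inf_le_inf_left _ (centralizer_le hBA)
  have hNB : N ≤ V ⊓ centralizer (B : Set G) :=
    le_inf hN fun x hx => mem_centralizer_iff.2 fun y hy => (mem_centralizer_iff.1 (mem_inf.1 hy).2 x hx).symm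
  have hAV : V ⊓ centralizer (A : Set G) ≤ V := inf_le_left
  have h3 := NoFF.ThmJFam.card_sup_inf (A := N) (B := V ⊓ centralizer (A : Set G))
    (NoFF.Basic.comm_mono hV hN hAV)
  have h4 : Nat.card ↥(N ⊔ V ⊓ centralizer (A : Set G)) ≤ Nat.card ↥(V ⊓ centralizer (B : Set G)) :=
    Subgroup.card_le_of_le (sup_le hNB hCA)
  have h5 : N ⊓ (V ⊓ centralizer (A : Set G)) = N ⊓ centralizer (A : Set G) := by
    rw [← inf_assoc, inf_eq_left.2 hN]
  rw [h5] at h3
  have h6 : Nat.card N = Nat.card ↥(N ⊓ centralizer (A : Set G)) * (centralizer (A : Set G)).relIndex N :=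
    TC.LemZ.card_eq N _
  have h7 : Nat.card A = Nat.card B * (centralizer (N : Set G)).relIndex A := TC.LemZ.card_eq A _
  have p1 : 0 < Nat.card ↥(N ⊓ centralizer (A : Set G)) := Nat.card_pos
  have p2 : 0 < Nat.card B := Nat.card_pos
  have p3 : 0 < Nat.card ↥(V ⊓ centralizer (A : Set G)) := Nat.card_pos
  rw [h6] at h3
  have h8 := h1.trans off
  rw [h7] at h8
  have h9 : Nat.card ↥(V ⊓ centralizer (B : Set G)) ≤
      (centralizer (N : Set G)).relIndex A * Nat.card ↥(V ⊓ centralizer (A : Set G)) := by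
    refine Nat.le_of_mul_le_mul_left ?_ p2
    rw [← mul_assoc]
    exact h8
  have h10 : (centralizer (A : Set G)).relIndex N * Nat.card ↥(V ⊓ centralizer (A : Set G)) =
      Nat.card ↥(N ⊔ V ⊓ centralizer (A : Set G)) := by
    refine Nat.eq_of_mul_eq_mul_right p1 ?_
    rw [h3]
    ring
  refine Nat.le_of_mul_le_mul_right ?_ p3
  rw [h10]
  exact h4.trans h9

/-- **an offender `A ≤ O` on `V` which moves the block `b`: `|Ω_b| = 3`** -/
theorem card_eq_three [Finite G] (F : Full S M V N E R₀ Om phi) {b : I} {p : Om b} {e : G} {O : Subgroup G}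
    (D : At M V N E R₀ phi b p e O) (no : NoOverM V M) {A : Subgroup G} (hA : A ≤ O) (el : ElemM V A)
    (off : Nat.card V * Nat.card ↥(A ⊓ centralizer (V : Set G)) ≤
      Nat.card A * Nat.card ↥(V ⊓ centralizer (A : Set G)))
    (mv : ¬ A ≤ centralizer (N b : Set G)) : Fintype.card (Om b) = 3 := by
  by_contra hne
  have h3 := F.three b
  exact mv (cent_N F D (by omega) hA (cut F.ab no (F.NU b) (hA.trans D.OM) el off))

/-- the same for `A` elementary abelian of maximal order in `O*`, `V ≤ O*` (Thompson) -/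
theorem card_eq_three_mx [Finite G] (F : Full S M V N E R₀ Om phi) {b : I} {p : Om b} {e : G} {O : Subgroup G}
    (D : At M V N E R₀ phi b p e O) {A : Subgroup G} (hA : KL.TwoS.Mx O A) (hVO : N b ≤ O)
    (sq : ∀ v ∈ V, v ^ 2 = 1) (mv : ¬ A ≤ centralizer (N b : Set G)) : Fintype.card (Om b) = 3 := by
  by_contra hne
  have h3 := F.three b
  exact mv (cent_N F D (by omega) hA.le (hA.thom hVO fun v hv => sq v (F.NU b hv)))

end Cfsg.Agent.Omega.NOThreeL.RRed.LeftLett
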