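import Cfsg.Agent.Omega.NOThreeL.RRed.FourNoK2
import Cfsg.Agent.Omega.NOThreeL.RRed.FourThree
import Cfsg.Agent.Omega.NOThreeL.RRed.LeftLett
import Cfsg.Agent.Omega.NOThreeL.RRed.TvExa

/-!
# NO-3L, box R, `FourOf`: the plug of the socket `FourTwo` (`R₀ = 1`, not (J))

* `FourLeft K B` : the left case: two orbits of natural blocks (three letters), at least three blocks, no (K2), `J(O)`
  moves every block, `O = O₂(C_G(Z))`;
* `bestE_of` : best offenders on `V*` lie in `⨆ E b` (930's `TvExa`);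
* **`fourTwo_of`** : `FourLeft` and `LevMv` (some level moves `V*`: 319 / 492) imply `FourTwo`.
-/

set_option autoImplicit false
set_option linter.unusedSectionVars false

namespace Cfsg.Agent.Omega.NOThreeL.RRed.FourTwoP

open Subgroup Cfsg Cfsg.Agent.ZN Cfsg.Agent.Omega.MinPar Cfsg.Agent.Omega.Frame Cfsg.Agent.Omega.FrameNOFF
open Cfsg.Agent.Omega.Node.NO3L Cfsg.Agent.Omega.NOThreeL.Basic Cfsg.Agent.Omega.NOThreeL.RTree
open Cfsg.Agent.Omega.NOThreeL.Merge (MZ le_MZ S_le_MZ)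
open Cfsg.Agent.Omega.NOThreeL.RRed.FourTree
open Cfsg.Agent.Omega.NOThreeL.RTreeF Cfsg.Agent.Omega.NOThreeL.RRed.GlueSig
open Cfsg.Agent.Omega.NOThreeL.RRed.FourTwoO
open Cfsg.Agent.Omega.NOThreeL.RRed.FourNoK2
open Cfsg.Agent.Omega.NOThreeL.RRed.Blk
open scoped Pointwise

universe u

section abs

variable {G : Type u} [Group G] [Finite G] {S : Sylow 2 G} {I : Type u} [Finite I] {N E : I → Subgroup G}
  {Om : I → Type u} [∀ i, Fintype (Om i)] [∀ i, DecidableEq (Om i)] {phi : ∀ i, Finset (Om i) → G} {z : I → G}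
  {O : Fin 2 → Set I} {v : Fin 2 → G}

theorem o2_le_S (S : Sylow 2 G) : o2 (centralizer (zc (S : Subgroup G) : Set G)) ≤ (S : Subgroup G) := by
  refine MinSimple.VModule.o2_le_of_sylow S.isPGroup' (MinSimple.Basic.not_dvd_relIndex S ?_)
  exact MinSimple.VModule.le_centralizer_zc _

/-- the blocks of an orbit are all moved -/
theorem mv_orb (t : TwoO S (MZ (S : Subgroup G)) (Wd (S : Subgroup G)) N E ⊥ z O v) {i : Fin 2}
    (h : ∃ A, KL.TwoS.Mx (o2 (centralizer (zc (S : Subgroup G) : Set G))) A ∧ ¬ A ≤ centralizer (VO N O i : Set G))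
    {b : I} (hb : b ∈ O i) :
    ∃ A, KL.TwoS.Mx (o2 (centralizer (zc (S : Subgroup G) : Set G))) A ∧ ¬ A ≤ centralizer (N b : Set G) := by
  obtain ⟨A, hA, hne⟩ := h
  obtain ⟨c, hc, hcA⟩ : ∃ c ∈ O i, ¬ A ≤ centralizer (N c : Set G) := by
    by_contra hcon
    push Not at hcon
    apply hne
    rw [le_centralizer_iff]
    refine iSup₂_le fun c hc => ?_
    rw [← le_centralizer_iff]
    exact hcon c hc
  obtain ⟨s, hs, e⟩ := (t.orb i).tr c hc b hb
  have hsC : s ∈ centralizer (zc (S : Subgroup G) : Set G) := MinSimple.VModule.le_centralizer_zc _ hs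
  have hsO : s ∈ normalizer (o2 (centralizer (zc (S : Subgroup G) : Set G)) : Set G) :=
    MinSimple.VModule.le_normalizer_o2 _ hsC
  have hO := smul_of_mem hsO
  have hcard : Nat.card (MulAut.conj s • A : Subgroup G) = Nat.card A :=
    Nat.card_congr (Subgroup.equivSMul (MulAut.conj s) A).toEquiv.symm
  refine ⟨MulAut.conj s • A, ⟨?_, ?_, ?_⟩, fun h1 => hcA ?_⟩
  · rw [← hO]
    exact Subgroup.pointwise_smul_le_pointwise_smul_iff.2 hA.le
  · rintro _ ⟨a, ha, rfl⟩
    change (s * a * s⁻¹) ^ 2 = 1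
    have e1 : (s * a * s⁻¹) ^ 2 = s * a ^ 2 * s⁻¹ := by rw [pow_two, pow_two]; group
    rw [e1, hA.sq a ha]; group
  · intro B hB hB2
    rw [hcard]
    exact hA.max B hB hB2
  · intro a ha
    refine mem_centralizer_iff.2 fun y hy => ?_
    have h2 : s * a * s⁻¹ ∈ MulAut.conj s • A := ⟨a, ha, rfl⟩
    have h3 : s * y * s⁻¹ ∈ N b := (conj_smul e).1 hy
    have h4 := mem_centralizer_iff.1 (h1 h2) _ h3
    calc y * a = s⁻¹ * ((s * y * s⁻¹) * (s * a * s⁻¹)) * s := by group
      _ = a * y := by rw [h4]; group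

/-- **all blocks have three letters** -/
theorem three_of (h : Four S) (hB : Bks S N E ⊥ Om phi)
    (t : TwoO S (MZ (S : Subgroup G)) (Wd (S : Subgroup G)) N E ⊥ z O v)
    (hVO : ∀ i, VO N O i ≤ o2 (centralizer (zc (S : Subgroup G) : Set G)))
    (hmv : ∀ i, ∃ A, KL.TwoS.Mx (o2 (centralizer (zc (S : Subgroup G) : Set G))) A ∧ ¬ A ≤ centralizer (VO N O i : Set G))
    (b : I) : Fintype.card (Om b) = 3 := by
  have key : ∀ i j : Fin 2, i ≠ j → b ∈ O i → Fintype.card (Om b) = 3 := by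
    intro i j hij hb
    obtain ⟨A, hA, hne⟩ := mv_orb t (hmv i) hb
    have hT2 : IsPGroup 2 ((S : Subgroup G) ⊓ E b : Subgroup G) := S.isPGroup'.to_le inf_le_left
    obtain ⟨p, hp, -⟩ := exists_ctr (hB.lett b) (hB.three b) inf_le_right hT2 (z := z b) (t.one.fix b)
    have hZ : ∀ g, g ∈ centralizer ({v i} : Set G) → g ∈ centralizer ({v j} : Set G) →
        g ∈ centralizer (zc (S : Subgroup G) : Set G) := by
      intro g h1 h2
      have h1' := mem_centralizer_singleton_iff.1 h1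
      have h2' := mem_centralizer_singleton_iff.1 h2
      refine mem_centralizer_iff.2 fun x hx => ?_
      have e0 : v 0 * g = g * v 0 ∧ v 1 * g = g * v 1 := by
        rcases fin_ne hij with ⟨rfl, rfl⟩ | ⟨rfl, rfl⟩
        · exact ⟨h1'.symm, h2'.symm⟩
        · exact ⟨h2'.symm, h1'.symm⟩
      rcases (t.zS h.toRB x).1 hx with rfl | rfl | rfl | rfl
      · simp
      · exact e0.1
      · exact e0.2
      · calc v 0 * v 1 * g = v 0 * (v 1 * g) := by group
          _ = (v 0 * g) * v 1 := by rw [e0.2]; group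
          _ = g * (v 0 * v 1) := by rw [e0.1]; group
    have D : LeftLett.At (MZ (S : Subgroup G)) (Wd (S : Subgroup G)) N E ⊥ phi b p (v i)
        (o2 (centralizer (zc (S : Subgroup G) : Set G))) := by
      refine { comp := ?_, two := MinSimple.VModule.o2_isPGroup _, OM := ?_, Oe := ?_, nO := ?_ }
      · rw [← hp]; exact t.comp i hb
      · exact (o2_le_S S).trans (S_le_MZ h.toRB.ctx h.toRB.full)
      · exact (o2_le_S S).trans (TwoO.le_cent_iff.2 (t.vS i))
      · intro g hg hgv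
        refine MinSimple.VModule.le_normalizer_o2 _ (hZ g hgv ?_)
        exact (centralizer_le (Set.singleton_subset_iff.2 (t.vV j))) (t.E_cent (t.notMem hij hb) hg)
    refine LeftLett.card_eq_three_mx hB.toFull D hA ?_ (fun x hx => ?_) hne
    · exact (le_iSup₂_of_le b hb le_rfl).trans (hVO i)
    · rw [pow_two]; exact wsq h.toRB x hx
  rcases t.cov b with hb | hb
  · exact key 0 1 (by decide) hb
  · exact key 1 0 (by decide) hb

/-- `V i ≤ O₂(C_G(Z))` -/
theorem VO_le (B : RB S) (T : TwoV (S : Subgroup G) (VO N O) v) (i : Fin 2) :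
    VO N O i ≤ o2 (centralizer (zc (S : Subgroup G) : Set G)) := by
  have h1 : VO N O i ≤ o2 (centralizer ({v i} : Set G)) := (T.fr B).VQ i
  have h2 : o2 (centralizer ({v i} : Set G)) ≤ (S : Subgroup G) :=
    MinSimple.VModule.o2_le_of_sylow S.isPGroup' (MinSimple.Basic.not_dvd_relIndex S (T.le_C i))
  refine h1.trans (MinSimple.VModule.le_o2 (h2.trans (MinSimple.VModule.le_centralizer_zc _))
    (MinSimple.VModule.o2_isPGroup _) ?_)
  exact (T.CZ_le i).trans (MinSimple.VModule.le_normalizer_o2 _)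

/-- best offenders on `V*` lie in `⨆ E b` -/
theorem bestE_of (h : Four S) (hF : ¬ Fld S) (hB : Bks S N E ⊥ Om phi) : BestE (S : Subgroup G) E := by
  intro A hA hb
  obtain ⟨P, A₀, hg⟩ := exists_gOne_rr h.toRB h.rr
  refine (TvExa.best_le_E h.toRB.ctx.char2 (Merge.isLoc_MZ h.toRB.ctx h.toRB.full h.toRB.data.noff) (gen_MZ S) hF
    hB.toFull hg.no hA hb).trans (sup_le inf_le_right ?_)
  exact (inf_le_inf_right _ hA).trans (cS_le hB)

/-- **LEMMA HJ**, `¬ Fld` -/
theorem noK2' (h : Four S) (hF : ¬ Fld S) (hB : Bks S N E ⊥ Om phi) (hlev : LevMv (S : Subgroup G))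
    (hj : ¬ HypJ (S : Subgroup G) N) :
    ∀ R, IsParS (S : Subgroup G) R → ¬ R ≤ normalizer (((S : Subgroup G) ⊓ ⨆ b, E b : Subgroup G) : Set G) :=
  noK2 h hB hlev (bestE_of h hF hB) hj

/-- at least three blocks -/
theorem three_blks [Fintype I] [DecidableEq I] (h : Four S) (hB : Bks S N E ⊥ Om phi)
    (t : TwoO S (MZ (S : Subgroup G)) (Wd (S : Subgroup G)) N E ⊥ z O v)
    (h3 : ∀ b, Fintype.card (Om b) = 3) : ∀ i j : I, ∃ k, k ≠ i ∧ k ≠ j := by
  have h1 : Fintype.card I ≠ 2 := fun h2 => FourThree.not_two h hB ⟨h2, h3⟩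
  obtain ⟨b, hb⟩ := (t.orb 0).ne
  obtain ⟨c, hc⟩ := (t.orb 1).ne
  have hbc : b ≠ c := fun e => t.dis b hb (e ▸ hc)
  have h2 : 2 ≤ Fintype.card I := by
    rw [← Finset.card_pair hbc]
    exact Finset.card_le_univ _
  intro i j
  by_contra hcon
  push Not at hcon
  have h4 : (Finset.univ : Finset I) ⊆ {i, j} := by
    intro k _
    by_cases hk : k = i
    · simp [hk]
    · simp [hcon k hk]
  have h5 := Finset.card_le_card h4
  rw [Finset.card_univ] at h5
  have h6 : ({i, j} : Finset I).card ≤ 2 := Finset.card_le_two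
  omega

end abs

section plug

variable (K : Cls.{u}) (B : Fr.{u})

/-- **The left case.** -/
def FourLeft : Prop :=
  ∀ (G : Type u) [Group G] [Finite G], K G → ∀ (S : Sylow 2 G), B G S → Four S → ¬ Fld S →
    ∀ (I : Type u) [Fintype I] [DecidableEq I] (N E : I → Subgroup G) (Om : I → Type u)
      [∀ i, Fintype (Om i)] [∀ i, DecidableEq (Om i)] (phi : ∀ i, Finset (Om i) → G), Bks S N E ⊥ Om phi →
      (∀ R, IsParS (S : Subgroup G) R → ¬ R ≤ normalizer (((S : Subgroup G) ⊓ ⨆ b, E b : Subgroup G) : Set G)) →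
      ∀ (z : I → G) (O : Fin 2 → Set I) (v : Fin 2 → G),
        TwoO S (MZ (S : Subgroup G)) (Wd (S : Subgroup G)) N E ⊥ z O v →
        (∀ b, Fintype.card (Om b) = 3) → (∀ i j : I, ∃ k, k ≠ i ∧ k ≠ j) →
        (∀ b, ∃ A, KL.TwoS.Mx (o2 (centralizer (zc (S : Subgroup G) : Set G))) A ∧ ¬ A ≤ centralizer (N b : Set G)) →
        IsKnownSimple' G

variable {K B}

/-- **`FourTwo` from its leaves.** -/
theorem fourTwo_of (hML : ML.Final.MLK.{u, u}) (hE : ML.Ex.Two.Ext.{u, u})
    (hlev : ∀ (G : Type u) [Group G] [Finite G] (S : Sylow 2 G), B G S → Four S → LevMv (S : Subgroup G))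
    (hL : FourLeft K B) : FourTwo K B := by
  intro G _ _ hK S hBS h hF I _ _ N E Om _ _ phi hB hj
  have hno := noK2' h hF hB (hlev G S hBS h) hj
  rcases cases_bks h hB with ⟨-, z, O, v, t⟩ | ⟨h1, -⟩ | ⟨-, htr⟩
  · have T := twoV h.toRB t hno
    have hr := T.rest h.toRB hML hE
    have hmv : ∀ i, ∃ A, KL.TwoS.Mx (o2 (centralizer (zc (S : Subgroup G) : Set G))) A ∧
        ¬ A ≤ centralizer (VO N O i : Set G) := fun i => (hr i).2.2
    have h3 := three_of h hB t (VO_le h.toRB T) hmv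
    refine hL G hK S hBS h hF I N E Om phi hB hno z O v t h3 (three_blks h hB t h3) fun b => ?_
    rcases t.cov b with hb | hb
    · exact mv_orb t (hmv 0) hb
    · exact mv_orb t (hmv 1) hb
  · exact absurd rfl h1
  · exact absurd (hypJ_trans hB (hlev G S hBS h) htr) hj

end plug

end Cfsg.Agent.Omega.NOThreeL.RRed.FourTwoP
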