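import Cfsg.Agent.Omega.NOThreeL.RRed.FourLf
import Cfsg.Agent.Omega.NOThreeL.RRed.FourTwoP
import Cfsg.Agent.Omega.NOThreeL.RRed.FourPermN
import Cfsg.Agent.Omega.NOThreeL.RRed.FourPermD

/-!
# NO-3L, box R, `FourOf`, the left case: the frame `Lf` holds

* `mx_AA` : `Mx O A` is membership in `AA O`;
* `best_mx` : members of `𝒜(O)` are best offenders on `V*`;
* `gen_mx` : and generated by the elements which act on `V*` as transvections or trivially (930's `TvExa.gen_tv`);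
* `perm_z` : `C_G(Z)` permutes the `z b` (THEOREM PERM+ for both orbits);
* **`lf_of`** : the hypotheses of `FourTwoP.FourLeft` imply `FourLf.Lf`.
-/

set_option autoImplicit false
set_option linter.unusedSectionVars false

namespace Cfsg.Agent.Omega.NOThreeL.RRed.FourLfOf

open Subgroup Cfsg Cfsg.Agent.ZN Cfsg.Agent.Omega.MinPar Cfsg.Agent.Omega.Frame Cfsg.Agent.Omega.FrameNOFF
open Cfsg.Agent.Omega.Node.NO3L Cfsg.Agent.Omega.NOThreeL.Basic Cfsg.Agent.Omega.NOThreeL.RTree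
open Cfsg.Agent.Omega.NOThreeL.Merge (MZ le_MZ S_le_MZ)
open Cfsg.Agent.Omega.NO1.BestOff (Best)
open Cfsg.Agent.Omega.FFThm (ElemM OffM NoOverM)
open Cfsg.Agent.Omega.NOThreeL.RRed.TvFin (TvV Full)
open Cfsg.Agent.Omega.NOThreeL.RRed.FourTree
open Cfsg.Agent.Omega.NOThreeL.RRed.FourTwoO
open Cfsg.Agent.Omega.NOThreeL.RRed.FourTwoP
open Cfsg.Agent.Omega.NOThreeL.RRed.Blk
open Cfsg.Agent.ZN.ChoiceBase (AA)
open scoped Pointwise

universe u

variable {G : Type u} [Group G]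

theorem mx_AA [Finite G] {O A : Subgroup G} (h : KL.TwoS.Mx O A) : A ∈ AA O := by
  refine ⟨⟨⟨⟨fun a b => Subtype.ext ?_⟩⟩, h.sq⟩, h.le, fun B hB hBO => h.max B hBO hB.2⟩
  exact mem_centralizer_iff.1 (h.comm b.2) a a.2

variable [Finite G] {S : Sylow 2 G} {I : Type u} [Finite I] {N E : I → Subgroup G} {Om : I → Type u}
  [∀ i, Fintype (Om i)] [∀ i, DecidableEq (Om i)] {phi : ∀ i, Finset (Om i) → G} {z : I → G} {O : Fin 2 → Set I}
  {v : Fin 2 → G}

theorem Wd_le (T : TwoV (S : Subgroup G) (VO N O) v) (B : RB S)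
    (t : TwoO S (MZ (S : Subgroup G)) (Wd (S : Subgroup G)) N E ⊥ z O v) :
    Wd (S : Subgroup G) ≤ o2 (centralizer (zc (S : Subgroup G) : Set G)) := by
  have h1 := t.dec.sup
  rw [sup_bot_eq] at h1
  rw [← h1]
  refine iSup_le fun b => ?_
  rcases t.cov b with hb | hb
  · exact (le_iSup₂_of_le (f := fun b (_ : b ∈ O 0) => N b) b hb le_rfl).trans (VO_le B T 0)
  · exact (le_iSup₂_of_le (f := fun b (_ : b ∈ O 1) => N b) b hb le_rfl).trans (VO_le B T 1)

theorem best_mx (B : RB S) (hW : Wd (S : Subgroup G) ≤ o2 (centralizer (zc (S : Subgroup G) : Set G)))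
    {A : Subgroup G} (hA : KL.TwoS.Mx (o2 (centralizer (zc (S : Subgroup G) : Set G))) A) :
    Best (Wd (S : Subgroup G)) A := FourNoK2.best_of_AA (FourNoK2.elem_Wd B) hW (mx_AA hA)

/-- generated by transvections -/
theorem gen_best (h : Four S) (hF : ¬ Fld S) (hB : Bks S N E ⊥ Om phi) {A : Subgroup G} (hS : A ≤ (S : Subgroup G))
    (hb : Best (Wd (S : Subgroup G)) A) :
    A ≤ closure {t | t ∈ A ∧ ∃ c ∈ Wd (S : Subgroup G), TvV (Wd (S : Subgroup G)) c t} := by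
  obtain ⟨P, A₀, hg⟩ := exists_gOne_rr h.toRB h.rr
  have hA : A ≤ MZ (S : Subgroup G) := hS.trans (S_le_MZ h.toRB.ctx h.toRB.full)
  have hL := Merge.isLoc_MZ h.toRB.ctx h.toRB.full h.toRB.data.noff
  refine TvExa.gen_tv hB.toFull hg.no (fun X hX hm => ?_) A hA (S.isPGroup'.to_le hS) hb.toElemM
    (TvExa.exa_of_best hg.no hA hb)
  obtain ⟨t, ht, c, hc', hn, htv, -⟩ := TvAtom.mx_tv h.toRB.ctx.char2 hL (gen_MZ S) hF hX hm
  exact ⟨t, ht, c, hc', hn, htv⟩

/-- **`C_G(Z)` permutes the points `z b`.** -/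
theorem perm_z (B : RB S) (F : Full (S : Subgroup G) (MZ (S : Subgroup G)) (Wd (S : Subgroup G)) N E ⊥ Om phi)
    (hno : ∀ R, IsParS (S : Subgroup G) R → ¬ R ≤ normalizer (((S : Subgroup G) ⊓ ⨆ b, E b : Subgroup G) : Set G))
    (t : TwoO S (MZ (S : Subgroup G)) (Wd (S : Subgroup G)) N E ⊥ z O v) (h3 : ∀ b, Fintype.card (Om b) = 3)
    (hmv : ∀ b, ∃ A, KL.TwoS.Mx (o2 (centralizer (zc (S : Subgroup G) : Set G))) A ∧
      ¬ A ≤ centralizer (N b : Set G)) :
    ∀ d ∈ centralizer (zc (S : Subgroup G) : Set G), ∀ b, ∃ c, d * z b * d⁻¹ = z c := by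
  have key : ∀ i j : Fin 2, i ≠ j → ∀ d ∈ centralizer (zc (S : Subgroup G) : Set G), ∀ b ∈ O i,
      ∃ c, d * z b * d⁻¹ = z c := by
    intro i j hij d hd b hb
    obtain ⟨P, hP, hj, hi⟩ := FourTwoO.ex B t hno hij
    obtain ⟨A, hA, hA'⟩ := hmv b
    obtain ⟨c, -, hc⟩ := FourPIn.permD_two B F t h3 (FourPermN.permN F) hij hP hj hi
      ⟨A, mx_AA hA, fun h => hA' (h.trans (centralizer_le
        (le_iSup₂_of_le (f := fun b (_ : b ∈ O i) => N b) b hb le_rfl)))⟩ d hd b hb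
    exact ⟨c, hc⟩
  intro d hd b
  rcases t.cov b with hb | hb
  · exact key 0 1 (by decide) d hd b hb
  · exact key 1 0 (by decide) d hd b hb

/-- **The frame `Lf`.** -/
theorem lf_of (h : Four S) (hF : ¬ Fld S) (hB : Bks S N E ⊥ Om phi)
    (hno : ∀ R, IsParS (S : Subgroup G) R → ¬ R ≤ normalizer (((S : Subgroup G) ⊓ ⨆ b, E b : Subgroup G) : Set G))
    (t : TwoO S (MZ (S : Subgroup G)) (Wd (S : Subgroup G)) N E ⊥ z O v) (h3 : ∀ b, Fintype.card (Om b) = 3)
    (hmv : ∀ b, ∃ A, KL.TwoS.Mx (o2 (centralizer (zc (S : Subgroup G) : Set G))) A ∧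
      ¬ A ≤ centralizer (N b : Set G)) : FourLf.Lf S N E z O v := by
  have T := twoV h.toRB t hno
  have hW := Wd_le T h.toRB t
  exact
    { rb := h.toRB
      tw := t
      inn := FourTwoO.inn hB.toFull
      T := T
      ex := fun i j hij => FourTwoO.ex h.toRB t hno hij
      h4 := fun b => FourLeft.card_N (hB.lett b) (h3 b)
      no := FourNoK2.noOver h.toRB h.rr
      AE := fun A hA => bestE_of h hF hB A (hA.le.trans (o2_le_S S)) (best_mx h.toRB hW hA)
      tv := fun b => by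
        obtain ⟨A, hA, hne⟩ := hmv b
        have hAS := hA.le.trans (o2_le_S S)
        obtain ⟨x, hx, hxE, hxb, -⟩ := FourLeft.exists_tv hB.toFull (hAS.trans (S_le_MZ h.toRB.ctx h.toRB.full))
          (gen_best h hF hB hAS (best_mx h.toRB hW hA)) hne
        exact ⟨A, hA, x, hx, hxE, hxb⟩
      perm := perm_z h.toRB hB.toFull hno t h3 hmv }

end Cfsg.Agent.Omega.NOThreeL.RRed.FourLfOf
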