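import Cfsg.Agent.Omega.NOThreeL.RRed.FourLf
import Cfsg.Agent.Omega.EK3.BaseE

/-!
# NO-3L, box R, `FourOf`, the left case: the inputs `kg` and `nl` of THEOREM U (`EDel.AOF.AO.false_of`)

* `Lf.z_inj` : the `z b` are different;
* **`Lf.kg`** : `C_G(z_l : l ∈ T)` is a `K`-group;
* **`Lf.nl`** : no (K2) in `P*(S)`: no 2-subgroup `≠ 1` is normalised by all `Y_b = C_G(z_c : c ≠ b)`.
-/

set_option autoImplicit false
set_option linter.unusedSectionVars false

namespace Cfsg.Agent.Omega.NOThreeL.RRed.FourLf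

open Subgroup Cfsg Cfsg.Agent.ZN Cfsg.Agent.Omega.MinPar Cfsg.Agent.Omega.Frame Cfsg.Agent.Omega.FrameNOFF
open Cfsg.Agent.Omega.Node.NO3L Cfsg.Agent.Omega.NOThreeL.Basic Cfsg.Agent.Omega.NOThreeL.RTree
open Cfsg.Agent.Omega.NOThreeL.Merge (MZ le_MZ S_le_MZ)
open Cfsg.Agent.Omega.NOThreeL.RRed.Blk
open Cfsg.Agent.Omega.EK3 (CT mem_CT Yc mem_Yc)
open Cfsg.Agent.Omega.TC.LemZ (norm_cent norm_inf)
open scoped Pointwise

universe u

variable {G : Type u} [Group G]

namespace Lf

variable [Finite G] {S : Sylow 2 G} {I : Type u} [Finite I] {N E : I → Subgroup G} {z : I → G} {O : Fin 2 → Set I}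
  {v : Fin 2 → G} (h : Lf S N E z O v)
include h

theorem z_inj : Function.Injective z := by
  intro b c e
  by_contra hbc
  have h1 := h.tw.dec.comp_ne hbc (h.tw.one.zN b)
  rw [e] at h1
  have h2 := h.tw.dec.uniq h1 (h.tw.dec.comp_self (h.tw.one.zN c))
  exact h.tw.one.z1 c h2.symm

/-- `C_G(z b)` is a `K`-group -/
theorem kg_of {X : Subgroup G} {b : I} (hX : X ≤ centralizer ({z b} : Set G)) : IsKGroup X := by
  refine h.rb.ctx.kproper _ fun e => ?_
  obtain ⟨y, hy, hyz⟩ := h.tw.one.mv b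
  apply hyz
  have h1 : y ∈ X := by rw [e]; exact mem_top y
  rw [mem_centralizer_singleton_iff.1 (hX h1)]
  group

/-- **`C_T` is a `K`-group** -/
theorem kg {ι : Type} (e : ι → I) {T : Set ι} (hT : T.Nonempty) : IsKGroup (CT (fun i => z (e i)) T) := by
  obtain ⟨l, hl⟩ := hT
  refine h.kg_of (b := e l) fun x hx => ?_
  exact mem_centralizer_singleton_iff.2 (mem_CT.1 hx l hl)

/-- **`⟨Y_b⟩` is nonlocal** -/
theorem nl {ι : Type} (e : ι ≃ I)
    (hno : ∀ R, IsParS (S : Subgroup G) R → ¬ R ≤ normalizer (((S : Subgroup G) ⊓ ⨆ b, E b : Subgroup G) : Set G)) :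
    ∀ R : Subgroup G, R ≠ ⊥ → IsPGroup 2 R → ¬ ∀ j, Yc (fun i => z (e i)) j ≤ normalizer (R : Set G) := by
  intro R hR1 hR2 hRn
  have hinj := h.z_inj
  set X : Subgroup G := ⨆ j, Yc (fun i => z (e i)) j with hX
  have hXR : X ≤ normalizer (R : Set G) := iSup_le hRn
  have hEX : ∀ b, E b ≤ X := fun b => by
    refine le_trans (fun x hx => ?_) (le_iSup (fun j => Yc (fun i => z (e i)) j) (e.symm b))
    rw [mem_Yc]
    intro l hl
    have hne : b ≠ e l := fun e1 => hl (by rw [e1, Equiv.symm_apply_apply])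
    exact (mem_centralizer_iff.1 (h.tw.dec.EC b (e l) hne hx) _ (h.tw.one.zN (e l))).symm
  obtain ⟨b₀, -⟩ := (h.tw.orb 0).ne
  have hCX : centralizer (ZJ z : Set G) ≤ X := by
    refine le_trans (fun x hx => ?_) (le_iSup (fun j => Yc (fun i => z (e i)) j) (e.symm b₀))
    rw [mem_Yc]
    exact fun l _ => (mem_centralizer_iff.1 hx _ (subset_closure ⟨e l, rfl⟩)).symm
  have hBX : BB (S : Subgroup G) z ≤ X := inf_le_right.trans hCX
  have hB2 : IsPGroup 2 (BB (S : Subgroup G) z) := S.isPGroup'.to_le inf_le_left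
  -- `C_R(B) ≠ 1`
  have hRX : R ⊓ X ≠ ⊥ := by
    have hBR : BB (S : Subgroup G) z ≤ normalizer (R : Set G) := hBX.trans hXR
    have hP : IsPGroup 2 (BB (S : Subgroup G) z ⊔ R : Subgroup G) :=
      IsPGroup.to_sup_of_normal_right' hB2 hR2 hBR
    have hPR : BB (S : Subgroup G) z ⊔ R ≤ normalizer (R : Set G) := sup_le hBR le_normalizer
    obtain ⟨w, hw, hw1, hwc⟩ := exists_fix_of hP le_sup_right hPR hR1
    intro e1
    apply hw1
    have hwX : w ∈ X := by
      refine hCX (mem_centralizer_iff.2 fun y hy => ?_)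
      have hyB : y ∈ BB (S : Subgroup G) z := h.U_le_B (h.ZJU hy)
      exact mul_inv_eq_iff_eq_mul.1 (hwc y (mem_sup_left hyB))
    have h1 : w ∈ R ⊓ X := ⟨hw, hwX⟩
    rwa [e1, mem_bot] at h1
  have hO2 : R ⊓ X ≤ o2 X := by
    refine MinSimple.VModule.le_o2 inf_le_right (hR2.to_le inf_le_left) ?_
    exact norm_inf hXR le_normalizer
  -- `C_G(Z)` and `MZ S` normalise `X`
  have hD : CZ (S : Subgroup G) ≤ normalizer (X : Set G) := by
    have key : ∀ d ∈ centralizer (zc (S : Subgroup G) : Set G), ∀ x ∈ X, d * x * d⁻¹ ∈ X := by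
      intro d hd
      have h1 : X ≤ X.comap (MulAut.conj d).toMonoidHom := by
        conv_lhs => rw [hX]
        refine iSup_le fun j x hx => ?_
        rw [mem_comap]
        change d * x * d⁻¹ ∈ X
        rw [mem_Yc] at hx
        obtain ⟨c, hc⟩ := h.perm d hd (e j)
        refine (le_iSup (fun j => Yc (fun i => z (e i)) j) (e.symm c)) ?_
        rw [mem_Yc]
        intro l hl
        obtain ⟨m, hm⟩ := h.perm d⁻¹ (inv_mem hd) (e l)
        rw [inv_inv] at hm
        have hml : d * z m * d⁻¹ = z (e l) := by rw [← hm]; group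
        have hmj : m ≠ e j := by
          intro e1
          rw [e1, hc] at hml
          apply hl
          rw [hinj hml, Equiv.symm_apply_apply]
        have h2 := hx (e.symm m) (fun e1 => hmj (by rw [← e1, Equiv.apply_symm_apply]))
        rw [Equiv.apply_symm_apply] at h2
        change d * x * d⁻¹ * z (e l) = z (e l) * (d * x * d⁻¹)
        rw [← hml]
        calc d * x * d⁻¹ * (d * z m * d⁻¹) = d * (x * z m) * d⁻¹ := by group
          _ = d * z m * d⁻¹ * (d * x * d⁻¹) := by rw [h2]; group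
      exact fun x hx => h1 hx
    exact le_norm_of key
  have hM : MZ (S : Subgroup G) ≤ normalizer (X : Set G) := by
    refine sSup_le fun P hP => ?_
    have h1 := FourTwoO.k1_of h.tw hP (hno P hP)
    rw [← h1]
    refine sup_le ((inf_le_right.trans (iSup_le hEX)).trans le_normalizer) ?_
    have h2 : (S : Subgroup G) ≤ CZ (S : Subgroup G) := MinSimple.VModule.le_centralizer_zc _
    exact h2.trans hD
  have h3 := Merge.nonLoc_MZ h.rb.ctx h.rb.full (o2 X) (MinSimple.VModule.o2_isPGroup X)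
    (hM.trans (ZN.normalizer_le_normalizer_o2 X)) (hD.trans (ZN.normalizer_le_normalizer_o2 X))
  apply hRX
  rw [eq_bot_iff, ← h3]
  exact hO2

end Lf

end Cfsg.Agent.Omega.NOThreeL.RRed.FourLf
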