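import Mathlib

/-!
# Box R, the left case: a fixed point on a coset of a product of four-groups (for helper449's `RRed/FourAO`)

`V = ⨆ N b` elementary abelian, `|N b| = 4`, `K` normalises all `N b` and is generated by elements of odd order, `K` acts on
`n V` and `K ⊓ C(V)` centralises `n`.

* `cube_mem` : `g ^ 3 ∈ C(N b)` for `g ∈ K`;
* **`exists_fix`** : `K` centralises some `n w`, `w ∈ V`.
-/

set_option autoImplicit false
set_option linter.unusedSectionVars false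

namespace Cfsg.Agent.Omega.NOThreeL.RRed.FourFix

open Subgroup Equiv.Perm

universe u

theorem perm_four : ∀ σ : Equiv.Perm (Fin 4), σ 0 = 0 → Equiv.Perm.sign σ = 1 → σ ^ 3 = 1 := by decide

theorem cube_of {A : Type*} [Fintype A] [DecidableEq A] (h4 : Nat.card A = 4) (a : A) (σ : Equiv.Perm A)
    (ha : σ a = a) (hs : sign σ = 1) : σ ^ 3 = 1 := by
  let e₀ : A ≃ Fin 4 := Finite.equivFinOfCardEq h4
  let e : A ≃ Fin 4 := e₀.trans (Equiv.swap (e₀ a) 0)
  have he : e a = 0 := Equiv.swap_apply_left _ _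
  have h1 : ((e.symm.trans σ).trans e) ^ 3 = 1 := by
    refine perm_four _ ?_ ?_
    · change e (σ (e.symm 0)) = 0
      rw [← he, Equiv.symm_apply_apply, ha]
    · rw [sign_symm_trans_trans, hs]
  have h2 : ∀ k : ℕ, ∀ x : A, (((e.symm.trans σ).trans e) ^ k) (e x) = e ((σ ^ k) x) := by
    intro k
    induction k with
    | zero => intro x; rfl
    | succ k ih =>
      intro x
      rw [pow_succ', pow_succ', Equiv.Perm.mul_apply, Equiv.Perm.mul_apply, ih]
      change e (σ (e.symm (e ((σ ^ k) x)))) = _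
      rw [Equiv.symm_apply_apply]
  ext x
  have h3 := h2 3 x
  rw [h1] at h3
  exact (e.injective h3).symm

variable {G : Type u} [Group G]

/-- `g ^ 3` centralises a four-group -/
theorem cube_mem [Finite G] {N K : Subgroup G} (h4 : Nat.card N = 4) (KN : K ≤ normalizer (N : Set G))
    (hodd : K ≤ closure {g | g ∈ K ∧ Odd (orderOf g)}) {g : G} (hg : g ∈ K) : g ^ 3 ∈ centralizer (N : Set G) := by
  classical
  have : Fintype N := Fintype.ofFinite N
  let f : normalizer (N : Set G) →* Equiv.Perm N := (MulAut.toPerm N).comp N.normalizerMonoidHom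
  have hf : ∀ (x : normalizer (N : Set G)) (y : N), ((f x y : N) : G) = x * y * (x : G)⁻¹ := fun x y => rfl
  let s : normalizer (N : Set G) →* ℤˣ := sign.comp f
  have h1 : K ≤ s.ker.map (normalizer (N : Set G)).subtype := by
    refine hodd.trans ((closure_le _).2 ?_)
    rintro x ⟨hx, k, hk⟩
    refine ⟨⟨x, KN hx⟩, ?_, rfl⟩
    rw [SetLike.mem_coe, MonoidHom.mem_ker]
    have h2 : (⟨x, KN hx⟩ : normalizer (N : Set G)) ^ (2 * k + 1) = 1 := by
      apply Subtype.ext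
      change x ^ (2 * k + 1) = 1
      rw [← hk, pow_orderOf_eq_one]
    have h3 := congrArg s h2
    rw [map_pow, map_one, pow_succ, pow_mul, Int.units_sq, one_pow, one_mul] at h3
    exact h3
  obtain ⟨x, hx, rfl⟩ := h1 hg
  rw [SetLike.mem_coe, MonoidHom.mem_ker] at hx
  have h2 : f x ^ 3 = 1 := by
    refine cube_of h4 1 _ ?_ hx
    apply Subtype.ext
    rw [hf]
    simp
  refine mem_centralizer_iff.2 fun y hy => ?_
  have h3 : f (x ^ 3) ⟨y, hy⟩ = ⟨y, hy⟩ := by rw [map_pow, h2]; rfl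
  have h4 := congrArg Subtype.val h3
  rw [hf] at h4
  change y * (x : G) ^ 3 = (x : G) ^ 3 * y
  have h5 : ((x ^ 3 : normalizer (N : Set G)) : G) = (x : G) ^ 3 := rfl
  rw [h5] at h4
  calc y * (x : G) ^ 3 = ((x : G) ^ 3 * y * ((x : G) ^ 3)⁻¹) * (x : G) ^ 3 := by rw [h4]
    _ = (x : G) ^ 3 * y := by group

/-- **A fixed point on `n V`.** -/
theorem exists_fix [Finite G] {V K : Subgroup G} {n : G} {ι : Type*} (N : ι → Subgroup G) (hV : V = ⨆ b, N b)
    (_Vc : V ≤ centralizer (V : Set G)) (sq : ∀ x ∈ V, x * x = 1) (h4 : ∀ b, Nat.card (N b) = 4)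
    (KN : ∀ b, K ≤ normalizer (N b : Set G)) (hodd : K ≤ closure {g | g ∈ K ∧ Odd (orderOf g)})
    (hn : ∀ g ∈ K, g * n * g⁻¹ * n⁻¹ ∈ V) (hc : ∀ g ∈ K, g ∈ centralizer (V : Set G) → g * n = n * g)
    (hnV : ∀ x ∈ V, n * x = x * n) : ∃ w ∈ V, ∀ g ∈ K, g * (n * w) = (n * w) * g := by
  classical
  have hcube : ∀ g ∈ K, g ^ 3 ∈ centralizer (V : Set G) := by
    intro g hg
    have h1 : zpowers (g ^ 3) ≤ centralizer (V : Set G) := by
      rw [le_centralizer_iff, hV]
      refine iSup_le fun b => ?_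
      rw [← le_centralizer_iff, zpowers_le]
      exact cube_mem (h4 b) (KN b) hodd hg
    exact h1 (mem_zpowers _)
  have KV : ∀ g ∈ K, ∀ x ∈ V, g * x * g⁻¹ ∈ V := by
    intro g hg
    have h1 : V ≤ V.comap (MulAut.conj g).toMonoidHom := by
      conv_lhs => rw [hV]
      refine iSup_le fun b x hx => ?_
      have h2 : g * x * g⁻¹ ∈ N b := (mem_normalizer_iff.1 (KN b hg) x).1 hx
      have h3 : g * x * g⁻¹ ∈ V := by rw [hV]; exact (le_iSup N b) h2
      exact h3
    exact fun x hx => h1 hx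
  -- the coset
  let α : Type u := {x : G // n⁻¹ * x ∈ V}
  have hact : ∀ g ∈ K, ∀ x : G, n⁻¹ * x ∈ V → n⁻¹ * (g * x * g⁻¹) ∈ V := by
    intro g hg x hx
    have h1 := hn g hg
    have h2 := KV g hg _ hx
    have e1 : g * x * g⁻¹ = (g * n * g⁻¹ * n⁻¹) * (n * (g * (n⁻¹ * x) * g⁻¹)) := by group
    have e2 : n⁻¹ * (g * x * g⁻¹) = (g * n * g⁻¹ * n⁻¹) * (g * (n⁻¹ * x) * g⁻¹) := by
      rw [e1, ← mul_assoc, ← mul_assoc]
      have h3 : n⁻¹ * (g * n * g⁻¹ * n⁻¹) * n = g * n * g⁻¹ * n⁻¹ := by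
        have h4 := hnV _ h1
        calc n⁻¹ * (g * n * g⁻¹ * n⁻¹) * n = n⁻¹ * ((g * n * g⁻¹ * n⁻¹) * n) := by group
          _ = n⁻¹ * (n * (g * n * g⁻¹ * n⁻¹)) := by rw [h4]
          _ = g * n * g⁻¹ * n⁻¹ := by group
      rw [h3]
    rw [e2]
    exact mul_mem h1 h2
  let _ : MulAction K α :=
    { smul := fun g x => ⟨(g : G) * x.1 * (g : G)⁻¹, hact g g.2 x.1 x.2⟩
      one_smul := fun x => Subtype.ext (by change (1 : G) * x.1 * (1 : G)⁻¹ = x.1; group)
      mul_smul := fun g h x => Subtype.ext (by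
        change ((g : G) * h) * x.1 * ((g : G) * h)⁻¹ = (g : G) * ((h : G) * x.1 * (h : G)⁻¹) * (g : G)⁻¹
        group) }
  have hsm : ∀ (g : K) (x : α), ((g • x : α) : G) = (g : G) * x.1 * (g : G)⁻¹ := fun g x => rfl
  have hp : IsPGroup 3 (MulAction.toPermHom K α).range := by
    rintro ⟨_, g, rfl⟩
    refine ⟨1, ?_⟩
    apply Subtype.ext
    rw [pow_one]
    change (MulAction.toPermHom K α g) ^ 3 = 1
    rw [← map_pow]
    ext x
    change (((g ^ 3 : K) • x : α) : G) = x.1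
    rw [hsm]
    have h1 : ((g ^ 3 : K) : G) = (g : G) ^ 3 := rfl
    rw [h1]
    have h2 := hcube g g.2
    have h3 : (g : G) ^ 3 * n = n * (g : G) ^ 3 := hc _ (pow_mem g.2 3) h2
    have h5 := mem_centralizer_iff.1 h2 _ x.2
    have h6 : (g : G) ^ 3 * x.1 = x.1 * (g : G) ^ 3 := by
      calc (g : G) ^ 3 * x.1 = ((g : G) ^ 3 * n) * (n⁻¹ * x.1) := by group
        _ = n * ((g : G) ^ 3 * (n⁻¹ * x.1)) := by rw [h3]; group
        _ = n * ((n⁻¹ * x.1) * (g : G) ^ 3) := by rw [h5]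
        _ = x.1 * (g : G) ^ 3 := by group
    rw [h6]; group
  have hV2 : IsPGroup 2 V := by
    intro x
    refine ⟨1, Subtype.ext ?_⟩
    rw [pow_one]
    change (x : G) ^ 2 = 1
    rw [pow_two]
    exact sq x x.2
  have hcard : Nat.card α = Nat.card V :=
    Nat.card_congr
      { toFun := fun x => ⟨n⁻¹ * x.1, x.2⟩
        invFun := fun y => ⟨n * y.1, by rw [inv_mul_cancel_left]; exact y.2⟩
        left_inv := fun x => Subtype.ext (by change n * (n⁻¹ * x.1) = x.1; group)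
        right_inv := fun y => Subtype.ext (by change n⁻¹ * (n * y.1) = y.1; group) }
  have : Fact (Nat.Prime 2) := ⟨Nat.prime_two⟩
  have : Fact (Nat.Prime 3) := ⟨Nat.prime_three⟩
  have h3 : ¬ 3 ∣ Nat.card α := by
    rw [hcard]
    obtain ⟨k, hk⟩ := hV2.exists_card_eq
    rw [hk]
    intro h
    have := (Nat.prime_three).dvd_of_dvd_pow h
    omega
  obtain ⟨x, hx⟩ := hp.nonempty_fixed_point_of_prime_not_dvd_card α h3
  refine ⟨n⁻¹ * x.1, x.2, fun g hg => ?_⟩
  have h1 := hx ⟨MulAction.toPermHom K α ⟨g, hg⟩, ⟨⟨g, hg⟩, rfl⟩⟩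
  have h2 := congrArg Subtype.val h1
  have h4 : g * x.1 * g⁻¹ = x.1 := h2
  rw [mul_inv_cancel_left]
  calc g * x.1 = (g * x.1 * g⁻¹) * g := by group
    _ = x.1 * g := by rw [h4]

end Cfsg.Agent.Omega.NOThreeL.RRed.FourFix
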