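import Cfsg.Agent.Omega.NOThreeL.RRed.FourLf
import Cfsg.Agent.Omega.NOThreeL.RRed.FourFix
import Cfsg.Agent.Omega.NOne.LemmaT

/-!
# NO-3L, box R, `FourOf`, the left case: `Ω₁(Z(B)) = Z_J`

`n ∈ Ω₁(Z(B))`, `R ∈ P*(S)` fixes `v j` and moves `v i`, `i = j + 1`, `B_i = C_B(V_i)`, `E = LJ(O₂(C_G(v j))) ∩ C(B_i)`,
`K = O²(R)`:

* `norm_Bi`, `norm_Es` : `R` normalises `B_i`, `E`; `mem_Es`, `V_le_Es` : `n ∈ E`, `V_i ≤ E`;
* `comm_Es` : `[E, K] ≤ V_i`; `comm_n` : `C_K(V_i)` centralises `n`;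
* `fix_n` : some `n w`, `w ∈ V_i`, is centralised by `K`;
* **`zcB`** : `Ω₁(Z(B)) = Z_J`.
-/

set_option autoImplicit false
set_option linter.unusedSectionVars false

namespace Cfsg.Agent.Omega.NOThreeL.RRed.FourLf

open Subgroup Cfsg Cfsg.Agent.ZN Cfsg.Agent.Omega.MinPar Cfsg.Agent.Omega.Frame Cfsg.Agent.Omega.FrameNOFF
open Cfsg.Agent.Omega.Node.NO3L Cfsg.Agent.Omega.NOThreeL.Basic Cfsg.Agent.Omega.NOThreeL.RTree
open Cfsg.Agent.Omega.NOThreeL.Merge (MZ le_MZ S_le_MZ)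
open Cfsg.Agent.Omega.KL.TwoS (NN sq_sup)
open Cfsg.Agent.Omega.OM.KTwo (CC QQ)
open Cfsg.Agent.Omega.NOThreeL.RRed.Blk
open Cfsg.Agent.Omega.NOThreeL.RRed.FourLeft
open Cfsg.Agent.Omega.NoFF.Basic (comm_symm comm_mono)
open Cfsg.Agent.Omega.NoFF.ThmJFam (card_sup_inf)
open Cfsg.Agent.MinSimple.VModule (oddGen oddGen_le mem_oddGen le_normalizer_oddGen)
open Cfsg.Agent.MinSimple.MinParabolic (IsMinPar)
open Cfsg.Agent.ZN.ChoiceSit (Syl o2_le_syl)
open Cfsg.Agent.Omega.TC.LemZ (norm_cent norm_inf)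
open scoped Pointwise

universe u

variable {G : Type u} [Group G]

/-- `B_i` -/
def Bi (S : Subgroup G) {I : Type u} (N : I → Subgroup G) (z : I → G) (O : Fin 2 → Set I) (j : Fin 2) : Subgroup G :=
  BB S z ⊓ centralizer (VO N O (j + 1) : Set G)

/-- `E` -/
def Es (S : Subgroup G) {I : Type u} (N : I → Subgroup G) (z : I → G) (O : Fin 2 → Set I) (v : Fin 2 → G) (j : Fin 2) :
    Subgroup G := LJ (QQ v j) ⊓ centralizer (Bi S N z O j : Set G)

namespace Lf

variable [Finite G] {S : Sylow 2 G} {I : Type u} [Finite I] {N E : I → Subgroup G} {z : I → G} {O : Fin 2 → Set I}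
  {v : Fin 2 → G} (h : Lf S N E z O v)
include h

theorem ne_j (j : Fin 2) : j + 1 ≠ j := (OM.KTwo.ne_add_one j).symm

theorem sup_V (j : Fin 2) : Wd (S : Subgroup G) ≤ VO N O j ⊔ VO N O (j + 1) := by
  have h1 := h.tw.dec.sup
  rw [sup_bot_eq] at h1
  rw [← h1]
  refine iSup_le fun b => ?_
  rcases h.tw.mem_or (h.ne_j j).symm b with hb | hb
  · exact (h.NV hb).trans le_sup_left
  · exact (h.NV hb).trans le_sup_right

theorem ZJ_two : IsPGroup 2 (ZJ z) := S.isPGroup'.to_le (h.ZJU.trans h.WS')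

theorem ZJ_ne : ZJ z ≠ ⊥ := fun e => h.tw.v1 0 (by have := h.v_mem 0; rw [e, mem_bot] at this; exact this)

/-- `Ω₁(Z(B)) ≤ O` -/
theorem zcB_OO {n : G} (hn : n ∈ zc (BB (S : Subgroup G) z)) : n ∈ OO (S : Subgroup G) := by
  obtain ⟨h1, h2, h3⟩ := MinSimple.VModule.mem_zc.1 hn
  refine h.OJ_le (NOne.LemmaT.char2_centralizer h.rb.ctx.char2 h.ZJ_two h.ZJ_ne ⟨h1.2, ?_⟩)
  exact mem_centralizer_iff.2 fun x hx => h2 x (o2_le_syl h.sylB hx)

theorem zcB_LJ {n : G} (hn : n ∈ zc (BB (S : Subgroup G) z)) : n ∈ LJ (OO (S : Subgroup G)) := by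
  obtain ⟨h1, h2, h3⟩ := MinSimple.VModule.mem_zc.1 hn
  exact mem_LJ (h.zcB_OO hn) h3 fun A hA a ha => h2 a (h.A_le_B hA ha)

/-- `𝒜(Q_j) ⊆ 𝒜(O)` -/
theorem mx_Q (hML : ML.Final.MLK.{u, u}) (j : Fin 2) {A : Subgroup G} (hA : KL.TwoS.Mx (QQ v j) A) :
    KL.TwoS.Mx (OO (S : Subgroup G)) A := by
  obtain ⟨A₀, hA₀⟩ := KL.TwoS.Mx.exists_mx (OO (S : Subgroup G))
  obtain ⟨-, h1, h2⟩ := h.fr.mx hML (i := j) (h.T.kgroup h.rb j) hA₀
  exact h1.of_card (hA.le.trans (h.fr.Q_le_O j)) hA.sq (hA.max _ h2 h1.sq)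

theorem LJ_Q (hML : ML.Final.MLK.{u, u}) (j : Fin 2) : LJ (OO (S : Subgroup G)) ≤ LJ (QQ v j) := by
  intro x hx
  rw [LJ, mem_sInf]
  exact fun A hA => LJ_le_mem (h.mx_Q hML j hA) hx

theorem V_le_LJ (j : Fin 2) : VO N O (j + 1) ≤ LJ (QQ v j) := by
  intro x hx
  have h1 := h.fr.V_le_N j hx
  refine mem_LJ (h.fr.N_le_Q j h1) (h.fr.N_sq j x h1) fun A hA a ha => ?_
  exact (mem_centralizer_iff.1 (h.fr.Q_le_cent_N j (hA.le ha)) x h1).symm

section R

variable {j : Fin 2} {R : Subgroup G} (hR : IsParS (S : Subgroup G) R) (hj : R ≤ centralizer ({v j} : Set G))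
  (hi : ¬ R ≤ centralizer ({v (j + 1)} : Set G))
include hR hj hi

theorem odd_V {g : G} (hg : g ∈ R) (ho : Odd (orderOf g)) : g ∈ centralizer (VO N O j : Set G) :=
  h.T.odd (j + 1) j (h.ne_j j) R hR hj hi g hg ho

theorem K_cent : oddGen R ≤ centralizer (VO N O j : Set G) := by
  rw [MinSimple.VModule.oddGen_def, closure_le]
  rintro g ⟨hg, ho⟩
  exact h.odd_V hR hj hi hg ho

theorem S_le_Cv (j : Fin 2) : (S : Subgroup G) ≤ centralizer ({v j} : Set G) := h.fr.T_le_C j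

/-- `R` normalises `S ∩ C(X)` for `v i ∈ X` -/
theorem norm_SC {X : Subgroup G} (hX : R ≤ normalizer (X : Set G)) (hv : v (j + 1) ∈ X) :
    R ≤ normalizer (((S : Subgroup G) ⊓ centralizer (X : Set G) : Subgroup G) : Set G) := by
  refine (dich hR.toIsMinPar (norm_cent hX)).resolve_right fun h1 => hi ?_
  rw [← h1]
  exact sup_le (inf_le_right.trans (centralizer_le (Set.singleton_subset_iff.2 hv))) (h.S_le_Cv hR hj hi (j + 1))

theorem norm_Bi : R ≤ normalizer (Bi (S : Subgroup G) N z O j : Set G) := by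
  have hV := h.T.nrm R hR (j + 1)
  have h1 := h.norm_SC hR hj hi hV (h.tw.vV (j + 1))
  have h2 : oddGen R ⊔ (S : Subgroup G) = R := by
    refine NO3b.EZero.oddGen_sup_syl ?_
    exact FFThm.syl_of_sylow S hR.le
  rw [← h2]
  refine sup_le ?_ ?_
  · rw [MinSimple.VModule.oddGen_def, closure_le]
    rintro g ⟨hg, ho⟩
    have key : ∀ g ∈ R, g ∈ centralizer (VO N O j : Set G) → ∀ x ∈ Bi (S : Subgroup G) N z O j, g * x * g⁻¹ ∈ Bi (S : Subgroup G) N z O j := by
      intro g hg hgV x hx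
      have h3 : g * x * g⁻¹ ∈ (S : Subgroup G) ⊓ centralizer (VO N O (j + 1) : Set G) :=
        conj_of (h1 hg) ⟨hx.1.1, hx.2⟩
      refine ⟨h.mem_BB h3.1 fun b => ?_, h3.2⟩
      rcases h.tw.mem_or (h.ne_j j).symm b with hb | hb
      · have h4 : z b ∈ VO N O j := (h.NV hb) (h.tw.one.zN b)
        have h5 := cent hgV h4
        have h6 := cent (inv_mem hgV) h4
        rw [inv_inv] at h6
        have h7 := h.B_fix hx.1 b
        calc g * x * g⁻¹ * z b * (g * x * g⁻¹)⁻¹ = g * (x * (g⁻¹ * z b * g) * x⁻¹) * g⁻¹ := by group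
          _ = z b := by rw [h6, h7, h5]
      · exact cent h3.2 ((h.NV hb) (h.tw.one.zN b))
    have hgV := h.odd_V hR hj hi hg ho
    change g ∈ normalizer (Bi (S : Subgroup G) N z O j : Set G)
    rw [mem_normalizer_iff]
    refine fun x => ⟨key g hg hgV x, fun hx => ?_⟩
    have h3 := key g⁻¹ (inv_mem hg) (inv_mem hgV) _ hx
    have e : g⁻¹ * (g * x * g⁻¹) * g⁻¹⁻¹ = x := by group
    rwa [e] at h3
  · have hS : (S : Subgroup G) ≤ centralizer (zc (S : Subgroup G) : Set G) := MinSimple.VModule.le_centralizer_zc _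
    exact norm_inf (norm_inf le_normalizer (hS.trans h.D_norm')) (norm_cent (h.tw.S_V (j + 1)))

theorem norm_Es : R ≤ normalizer (Es (S : Subgroup G) N z O v j : Set G) := by
  refine norm_inf ?_ (norm_cent (h.norm_Bi hR hj hi))
  have h1 : R ≤ normalizer (QQ v j : Set G) := hj.trans (MinSimple.VModule.le_normalizer_o2 _)
  exact h1.trans (LJ_norm _)

end R

theorem mem_Es (hML : ML.Final.MLK.{u, u}) {n : G} (hn : n ∈ zc (BB (S : Subgroup G) z)) (j : Fin 2) : n ∈ Es (S : Subgroup G) N z O v j := by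
  refine ⟨h.LJ_Q hML j (h.zcB_LJ hn), mem_centralizer_iff.2 fun x hx => ?_⟩
  exact (MinSimple.VModule.mem_zc.1 hn).2.1 x hx.1

theorem V_le_Es (j : Fin 2) : VO N O (j + 1) ≤ Es (S : Subgroup G) N z O v j :=
  le_inf (h.V_le_LJ j) (comm_symm inf_le_right)

theorem Es_OO (j : Fin 2) : Es (S : Subgroup G) N z O v j ≤ OO (S : Subgroup G) :=
  (inf_le_left.trans (LJ_le _)).trans (h.fr.Q_le_O j)

/-- **`E = V_i C_E(A)`** for a pure `A` -/
theorem Es_sup {j : Fin 2} {b : I} (hb : b ∈ O (j + 1)) {A : Subgroup G} (hA : KL.TwoS.Mx (OO (S : Subgroup G)) A)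
    (hAb : ¬ A ≤ centralizer (N b : Set G)) (hAc : ∀ c, c ≠ b → A ≤ centralizer (N c : Set G)) :
    Es (S : Subgroup G) N z O v j ≤ VO N O (j + 1) ⊔ (Es (S : Subgroup G) N z O v j ⊓ centralizer (A : Set G)) := by
  set W := Es (S : Subgroup G) N z O v j with hW
  set V := VO N O (j + 1) with hV
  obtain ⟨t, ht, htb⟩ := SetLike.not_le_iff_exists.1 hAb
  set Ab : Subgroup G := A ⊓ centralizer (N b : Set G) with hAbd
  have hAN : ∀ a ∈ A, a ∈ normalizer (N b : Set G) := fun a ha => h.tw.dec.E0N b (h.AE A hA ha)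
  have hsqN : ∀ x ∈ N b, x * x = 1 := fun x hx => h.usq x (h.tw.dec.NU b hx)
  have hor : ∀ a ∈ A, a ∈ centralizer (N b : Set G) ∨ t⁻¹ * a ∈ centralizer (N b : Set G) := fun a ha =>
    act_or h.tw.one hsqN (h.h4 b) (hAN t ht) (hAN a ha) (h.A_fix hA ht b) (h.A_fix hA ha b) htb
  -- `|A| ≤ 2 |A_b|`
  have c1 : Nat.card A ≤ 2 * Nat.card Ab := by
    let f : Bool × Ab → A := fun p => if p.1 then ⟨p.2, p.2.2.1⟩ else ⟨t * p.2, A.mul_mem ht p.2.2.1⟩
    have hf : Function.Surjective f := by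
      rintro ⟨a, ha⟩
      rcases hor a ha with h1 | h1
      · exact ⟨(true, ⟨a, ha, h1⟩), rfl⟩
      · refine ⟨(false, ⟨t⁻¹ * a, A.mul_mem (A.inv_mem ht) ha, h1⟩), Subtype.ext ?_⟩
        change t * (t⁻¹ * a) = a
        group
    have h2 := Nat.card_le_card_of_surjective f hf
    rw [Nat.card_prod, Nat.card_eq_fintype_card (α := Bool), Fintype.card_bool] at h2
    exact h2
  have hAbV : Ab ≤ centralizer (V : Set G) := by
    rw [le_centralizer_iff]
    refine iSup₂_le fun c hc => ?_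
    rw [← le_centralizer_iff]
    by_cases hcb : c = b
    · rw [hcb]; exact inf_le_right
    · exact inf_le_left.trans (hAc c hcb)
  have hAbB : Ab ≤ Bi (S : Subgroup G) N z O j := le_inf (inf_le_left.trans (h.A_le_B hA)) hAbV
  have hAbW : Ab ≤ centralizer (W : Set G) := comm_symm (inf_le_right.trans (centralizer_le hAbB))
  have c2 := hA.max (Ab ⊔ W) (sup_le (inf_le_left.trans hA.le) (h.Es_OO j))
    (sq_sup (fun a ha => hA.sq a ha.1) (fun x hx => LJ_sq x hx.1) hAbW)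
  have c3 := card_sup_inf (A := Ab) (B := W) hAbW
  set C : Subgroup G := W ⊓ centralizer (A : Set G) with hC
  have c4 : Nat.card (Ab ⊓ W : Subgroup G) ≤ Nat.card C :=
    Subgroup.card_le_of_le (le_inf inf_le_right ((inf_le_left.trans inf_le_left).trans hA.comm))
  have pA : 0 < Nat.card Ab := Nat.card_pos
  have c5 : Nat.card W ≤ 2 * Nat.card C := by
    apply Nat.le_of_mul_le_mul_left _ pA
    calc Nat.card Ab * Nat.card W = Nat.card (Ab ⊔ W : Subgroup G) * Nat.card (Ab ⊓ W : Subgroup G) := c3.symm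
      _ ≤ (2 * Nat.card Ab) * Nat.card C := Nat.mul_le_mul (c2.trans c1) c4
      _ = Nat.card Ab * (2 * Nat.card C) := by ring
  -- `V ≰ C`
  have hVW : V ≤ W := h.V_le_Es j
  have hle : V ⊔ C ≤ W := sup_le hVW inf_le_left
  have hlt : C < V ⊔ C := by
    refine lt_of_le_of_ne le_sup_right fun e => hAb ?_
    have h1 : N b ≤ C := by
      rw [e]
      exact (h.NV hb).trans le_sup_left
    exact comm_symm (h1.trans inf_le_right)
  have c6 : 2 * Nat.card C ≤ Nat.card (V ⊔ C : Subgroup G) := by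
    obtain ⟨k, hk⟩ := card_dvd_of_le hlt.le
    have hk0 : k ≠ 0 := by
      rintro rfl
      have : 0 < Nat.card (V ⊔ C : Subgroup G) := Nat.card_pos
      omega
    have hk1 : k ≠ 1 := by
      rintro rfl
      exact hlt.ne (Subgroup.eq_of_le_of_card_ge hlt.le (by rw [hk, mul_one]))
    have hk2 : 2 ≤ k := by omega
    rw [hk, mul_comm]
    exact Nat.mul_le_mul_left _ hk2
  exact (Subgroup.eq_of_le_of_card_ge hle (c5.trans c6)).ge

section R

variable {j : Fin 2} {R : Subgroup G} (hR : IsParS (S : Subgroup G) R) (hj : R ≤ centralizer ({v j} : Set G))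
  (hi : ¬ R ≤ centralizer ({v (j + 1)} : Set G))
include hR hj hi

/-- `O₂(R)` centralises `V_i` -/
theorem o2_cent : o2 R ≤ centralizer (VO N O (j + 1) : Set G) := by
  have h1 : o2 R ≤ (S : Subgroup G) := o2_le_syl (FFThm.syl_of_sylow S hR.le)
  have hV := h.T.nrm R hR (j + 1)
  have h2 := h.T.irr (j + 1) j (h.ne_j j) R hR hj hi (VO N O (j + 1) ⊓ centralizer (o2 R : Set G)) inf_le_left
    (norm_inf hV (norm_cent (MinSimple.VModule.le_normalizer_o2 R))) (fun e => h.tw.v1 (j + 1) (by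
      have h3 : v (j + 1) ∈ VO N O (j + 1) ⊓ centralizer (o2 R : Set G) := by
        refine ⟨h.tw.vV (j + 1), mem_centralizer_iff.2 fun x hx => ?_⟩
        exact mem_centralizer_singleton_iff.1 (h.fr.T_le_C (j + 1) (h1 hx))
      rw [e, mem_bot] at h3
      exact h3))
  exact comm_symm (h2.trans inf_le_right)

/-- **`[E, O²(R)] ≤ V_i`** -/
theorem comm_Es : ∀ g ∈ oddGen R, ∀ x ∈ Es (S : Subgroup G) N z O v j, g * x * g⁻¹ * x⁻¹ ∈ VO N O (j + 1) := by
  obtain ⟨b, hb⟩ := (h.tw.orb (j + 1)).ne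
  obtain ⟨A, hA, hAb, hAc⟩ := h.pure b
  have hAS : A ≤ (S : Subgroup G) := h.OS.trans' hA.le
  have hAR : ¬ A ≤ o2 R := fun h1 =>
    hAb (h1.trans ((h.o2_cent hR hj hi).trans (centralizer_le (h.NV hb))))
  have hK := Split.oddGen_le_ncl hR.toIsMinPar hAS hAR
  have hE := h.norm_Es hR hj hi
  have hV := h.T.nrm R hR (j + 1)
  have hsup := h.Es_sup hb hA hAb hAc
  have hVc : VO N O (j + 1) ≤ normalizer ((Es (S : Subgroup G) N z O v j ⊓ centralizer (A : Set G) : Subgroup G) : Set G) := by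
    have h1 : Es (S : Subgroup G) N z O v j ≤ centralizer (Es (S : Subgroup G) N z O v j : Set G) := KL.TwoS.comm_of_sq fun x hx => LJ_sq x hx.1
    exact (h.V_le_Es j).trans (h1.trans ((centralizer_le inf_le_left).trans (centralizer_le_normalizer _)))
  have hAE : ∀ a ∈ A, ∀ x ∈ Es (S : Subgroup G) N z O v j, a * x * a⁻¹ * x⁻¹ ∈ VO N O (j + 1) := by
    intro a ha x hx
    obtain ⟨w, hw, c, hc, rfl⟩ := mem_sup_of hVc (hsup hx)
    have h1 : a * c = c * a := mem_centralizer_iff.1 (mem_inf.1 hc).2 a ha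
    have e : a * (w * c) * a⁻¹ * (w * c)⁻¹ = (a * w * a⁻¹) * w⁻¹ := by
      calc a * (w * c) * a⁻¹ * (w * c)⁻¹ = a * w * (c * a⁻¹ * c⁻¹) * w⁻¹ := by group
        _ = a * w * a⁻¹ * w⁻¹ := by
            have h2 : c * a⁻¹ * c⁻¹ = a⁻¹ := by
              have h3 : c * a⁻¹ = a⁻¹ * c := by
                calc c * a⁻¹ = a⁻¹ * (a * c) * a⁻¹ := by group
                  _ = a⁻¹ * c := by rw [h1]; group
              rw [h3]; group
            rw [h2]
    rw [e]
    exact mul_mem (conj_of (h.tw.S_V (j + 1) (hAS ha)) hw) (inv_mem hw)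
  have hnR : Split.ncl R A ≤ R := Split.ncl_le (hAS.trans hR.le)
  have key : ∀ g ∈ Split.ncl R A, g ∈ R ∧ ∀ x ∈ Es (S : Subgroup G) N z O v j, g * x * g⁻¹ * x⁻¹ ∈ VO N O (j + 1) := by
    intro g hg
    unfold Split.ncl at hg
    induction hg using closure_induction with
    | mem y hy =>
      obtain ⟨p, hp, a, ha, rfl⟩ := hy
      refine ⟨R.mul_mem (R.mul_mem hp (hR.le (hAS ha))) (R.inv_mem hp), fun x hx => ?_⟩
      have h1 : p⁻¹ * x * p ∈ Es (S : Subgroup G) N z O v j := by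
        have := conj_of (hE (R.inv_mem hp)) hx
        rwa [inv_inv] at this
      have h2 := conj_of (hV hp) (hAE a ha _ h1)
      have e : p * a * p⁻¹ * x * (p * a * p⁻¹)⁻¹ * x⁻¹ =
          p * (a * (p⁻¹ * x * p) * a⁻¹ * (p⁻¹ * x * p)⁻¹) * p⁻¹ := by group
      rw [e]
      exact h2
    | one => exact ⟨one_mem _, fun x _ => by
        rw [one_mul, inv_one, mul_one, mul_inv_cancel]; exact one_mem _⟩
    | mul x y _ _ hx hy =>
      refine ⟨R.mul_mem hx.1 hy.1, fun w hw => ?_⟩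
      have h1 : y * w * y⁻¹ ∈ Es (S : Subgroup G) N z O v j := conj_of (hE hy.1) hw
      have e : x * y * w * (x * y)⁻¹ * w⁻¹ = (x * (y * w * y⁻¹) * x⁻¹ * (y * w * y⁻¹)⁻¹) * (y * w * y⁻¹ * w⁻¹) := by
        group
      rw [e]
      exact mul_mem (hx.2 _ h1) (hy.2 w hw)
    | inv x _ hx =>
      refine ⟨R.inv_mem hx.1, fun w hw => ?_⟩
      have h1 : x⁻¹ * w * x⁻¹⁻¹ ∈ Es (S : Subgroup G) N z O v j := conj_of (hE (R.inv_mem hx.1)) hw
      have h2 := hx.2 _ h1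
      have e : x⁻¹ * w * x⁻¹⁻¹ * w⁻¹ = (x * (x⁻¹ * w * x⁻¹⁻¹) * x⁻¹ * (x⁻¹ * w * x⁻¹⁻¹)⁻¹)⁻¹ := by group
      rw [e]
      exact inv_mem h2
  exact fun g hg x hx => (key g (hK hg)).2 x hx

/-- `g ∈ O²(R)` which centralises `V_i` centralises `V*` -/
theorem K_U {g : G} (hg : g ∈ oddGen R) (hgV : g ∈ centralizer (VO N O (j + 1) : Set G)) :
    g ∈ centralizer (Wd (S : Subgroup G) : Set G) := by
  have h1 : Wd (S : Subgroup G) ≤ centralizer ({g} : Set G) := by
    refine (h.sup_V j).trans (sup_le (fun x hx => ?_) (fun x hx => ?_))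
    · exact mem_centralizer_singleton_iff.2 (mem_centralizer_iff.1 (h.K_cent hR hj hi hg) x hx)
    · exact mem_centralizer_singleton_iff.2 (mem_centralizer_iff.1 hgV x hx)
  exact mem_centralizer_iff.2 fun x hx => mem_centralizer_singleton_iff.1 (h1 hx)

/-- a 2-subgroup of `R` which centralises `V*` lies in `B` -/
theorem two_le {T : Subgroup G} (hT : IsPGroup 2 T) (hTR : T ≤ R)
    (hTU : T ≤ centralizer (Wd (S : Subgroup G) : Set G)) : T ≤ BB (S : Subgroup G) z := by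
  have hRU : R ≤ normalizer (Wd (S : Subgroup G) : Set G) := (le_MZ hR).trans h.tw.dec.LU
  have hvU : v (j + 1) ∈ Wd (S : Subgroup G) := h.tw.VU _ (h.tw.vV _)
  have h1 := h.norm_SC hR hj hi hRU hvU
  have hC : R ≤ normalizer ((R ⊓ centralizer (Wd (S : Subgroup G) : Set G) : Subgroup G) : Set G) :=
    norm_inf le_normalizer (norm_cent hRU)
  have h2 : Syl ((S : Subgroup G) ⊓ (R ⊓ centralizer (Wd (S : Subgroup G) : Set G)))
      (R ⊓ centralizer (Wd (S : Subgroup G) : Set G)) := syl_inf_of (FFThm.syl_of_sylow S hR.le) inf_le_left hC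
  have e : (S : Subgroup G) ⊓ (R ⊓ centralizer (Wd (S : Subgroup G) : Set G)) =
      (S : Subgroup G) ⊓ centralizer (Wd (S : Subgroup G) : Set G) := by
    rw [← inf_assoc, inf_eq_left.2 hR.le]
  rw [e] at h2
  have h3 : IsPGroup 2 (((S : Subgroup G) ⊓ centralizer (Wd (S : Subgroup G) : Set G)) ⊔ T : Subgroup G) :=
    IsPGroup.to_sup_of_normal_left' (S.isPGroup'.to_le inf_le_left) hT (hTR.trans h1)
  have h4 := h2.2.2 _ (sup_le h2.1 (le_inf hTR hTU)) h3 le_sup_left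
  have h5 : T ≤ (S : Subgroup G) ⊓ centralizer (Wd (S : Subgroup G) : Set G) := by
    rw [← h4]; exact le_sup_right
  exact h5.trans (inf_le_inf_left _ (centralizer_le h.ZJU))

/-- **`C_K(V_i)` centralises `n`** -/
theorem comm_n (hML : ML.Final.MLK.{u, u}) {n : G} (hn : n ∈ zc (BB (S : Subgroup G) z)) :
    ∀ g ∈ oddGen R, g ∈ centralizer (VO N O (j + 1) : Set G) → g * n = n * g := by
  intro g hg hgV
  have hgU := h.K_U hR hj hi hg hgV
  have hgR : g ∈ R := oddGen_le R hg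
  set w := g * n * g⁻¹ * n⁻¹ with hw
  have hwV : w ∈ VO N O (j + 1) := h.comm_Es hR hj hi g hg n (h.mem_Es hML hn j)
  have hw2 : w * w = 1 := h.usq w (h.tw.VU _ hwV)
  have hgw : g * w * g⁻¹ = w := cent hgV hwV
  have hgn : g * n * g⁻¹ = w * n := by rw [hw]; group
  -- `g²` centralises `n`
  have h2 : g * g * n = n * (g * g) := by
    have e : g * g * n * (g * g)⁻¹ = n := by
      calc g * g * n * (g * g)⁻¹ = g * (g * n * g⁻¹) * g⁻¹ := by group
        _ = g * (w * n) * g⁻¹ := by rw [hgn]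
        _ = (g * w * g⁻¹) * (g * n * g⁻¹) := by group
        _ = w * (w * n) := by rw [hgw, hgn]
        _ = n := by rw [← mul_assoc, hw2, one_mul]
    exact mul_inv_eq_iff_eq_mul.1 e
  -- the 2-part
  obtain ⟨a, r, hr, ho⟩ := Nat.exists_eq_two_pow_mul_odd (orderOf_pos g).ne'
  have hT : IsPGroup 2 (zpowers (g ^ r)) := by
    intro x
    refine ⟨a, ?_⟩
    obtain ⟨x, hx⟩ := x
    obtain ⟨i, rfl⟩ := mem_zpowers_iff.1 hx
    apply Subtype.ext
    change ((g ^ r) ^ i) ^ 2 ^ a = 1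
    have h3 : (g ^ r) ^ 2 ^ a = 1 := by
      rw [← pow_mul, mul_comm r, ← ho, pow_orderOf_eq_one]
    rw [← zpow_natCast, ← zpow_mul, mul_comm i, zpow_mul, zpow_natCast, h3, one_zpow]
  have h3 := h.two_le hR hj hi hT (by rw [zpowers_le]; exact pow_mem hgR r) (by rw [zpowers_le]; exact pow_mem hgU r)
  have h4 : g ^ r * n = n * g ^ r := (MinSimple.VModule.mem_zc.1 hn).2.1 _ (h3 (mem_zpowers _))
  -- odd
  obtain ⟨m, rfl⟩ := hr
  have h5 : Commute n (g * g) := h2.symm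
  have h6 : Commute n ((g * g) ^ m) := h5.pow_right m
  have h7 : Commute n (g ^ (2 * m + 1)) := h4.symm
  have e : g = (((g * g) ^ m)⁻¹) * g ^ (2 * m + 1) := by
    have e1 : (g * g) ^ m = g ^ (2 * m) := by rw [← pow_two, ← pow_mul]
    rw [e1, pow_succ]; group
  have h8 : Commute n g := by
    rw [e]
    exact (h6.inv_right).mul_right h7
  exact h8.eq.symm

/-- **some `n w` is centralised by `O²(R)`** -/
theorem fix_n (hML : ML.Final.MLK.{u, u}) {n : G} (hn : n ∈ zc (BB (S : Subgroup G) z)) :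
    ∃ w ∈ VO N O (j + 1), ∀ g ∈ oddGen R, g * (n * w) = (n * w) * g := by
  have hVU : VO N O (j + 1) ≤ Wd (S : Subgroup G) := h.tw.VU _
  have hRi : ∃ r ∈ R, r * v (j + 1) * r⁻¹ ≠ v (j + 1) := by
    by_contra hcon; push Not at hcon; exact hi (TwoO.le_cent_iff.2 hcon)
  have hodd : ∀ g ∈ R, Odd (orderOf g) → g ∈ ⨆ b, E b := by
    intro g hg ho
    have hij := h.ne_j j
    have hRL := le_MZ hR
    have hm := h.tw.main hij hRL hR.toIsMinPar (TwoO.le_cent_iff.1 hj) hRi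
    have hnE : R ≤ normalizer ((R ⊓ EO (MZ (S : Subgroup G) ⊓ centralizer (Wd (S : Subgroup G) : Set G)) E R :
        Subgroup G) : Set G) := norm_inf le_normalizer (h.tw.dec.norm_EO hRL)
    have h1 := IId.Cv.mem_of_odd hnE hR.le hm.2.ge S.isPGroup' hg ho
    have h2 := h.tw.EO_le hij hRL hR.toIsMinPar (TwoO.le_cent_iff.1 hj) hRi h1.2
    exact (iSup₂_le fun b _ => le_iSup E b : (⨆ b ∈ O (j + 1), E b) ≤ ⨆ b, E b) h2
  refine FourFix.exists_fix (V := VO N O (j + 1)) (K := oddGen R) (fun b : {b // b ∈ O (j + 1)} => N b) ?_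
    (comm_mono h.tw.dec.ab hVU hVU) (fun x hx => h.usq x (hVU hx)) (fun b => h.h4 b) (fun b => ?_) ?_ ?_
    (h.comm_n hR hj hi hML hn) ?_
  · rw [VO, iSup_subtype']
  · rw [MinSimple.VModule.oddGen_def, closure_le]
    rintro g ⟨hg, ho⟩
    exact h.tw.dec.E0N b (hodd g hg ho)
  · conv_lhs => rw [MinSimple.VModule.oddGen_def]
    exact closure_mono fun g hg => ⟨mem_oddGen hg.1 hg.2, hg.2⟩
  · exact fun g hg => h.comm_Es hR hj hi g hg n (h.mem_Es hML hn j)
  · intro x hx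
    exact ((MinSimple.VModule.mem_zc.1 hn).2.1 x (h.U_le_B (hVU hx))).symm

end R

/-- **`Ω₁(Z(B)) = Z_J`** -/
theorem zcB (hML : ML.Final.MLK.{u, u}) : zc (BB (S : Subgroup G) z) = ZJ z := by
  apply le_antisymm
  · intro n hn
    obtain ⟨hnB, hnc, hn2⟩ := MinSimple.VModule.mem_zc.1 hn
    obtain ⟨R₀, hR₀, hj₀, hi₀⟩ := h.ex 1 0 (by decide)
    obtain ⟨R₁, hR₁, hj₁, hi₁⟩ := h.ex 0 1 (by decide)
    obtain ⟨w₁, hw₁, hK₀⟩ := h.fix_n (j := 0) hR₀ hj₀ hi₀ hML hn
    obtain ⟨w₀, hw₀, hK₁⟩ := h.fix_n (j := 1) hR₁ hj₁ hi₁ hML hn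
    have hw₁' : w₁ ∈ VO N O 1 := hw₁
    have hw₀' : w₀ ∈ VO N O 0 := hw₀
    have hU₁ := h.tw.VU 1 hw₁'
    have hU₀ := h.tw.VU 0 hw₀'
    have hww : w₁ * w₀ = w₀ * w₁ := h.tw.dec.ucomm hU₁ hU₀
    set Q : Subgroup G := (S : Subgroup G) ⊓ centralizer (Wd (S : Subgroup G) : Set G) with hQ
    have hQB : Q ≤ BB (S : Subgroup G) z := inf_le_inf_left _ (centralizer_le h.ZJU)
    have hnQ : n ∈ zc Q := MinSimple.VModule.mem_zc.2 ⟨⟨hnB.1, mem_centralizer_iff.2 fun x hx => hnc x (h.U_le_B hx)⟩,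
      fun x hx => hnc x (hQB hx), hn2⟩
    have hUQ : ∀ x ∈ Wd (S : Subgroup G), x ∈ zc Q := fun x hx => MinSimple.VModule.mem_zc.2
      ⟨⟨h.WS' hx, h.tw.dec.ab hx⟩, fun y hy => (mem_centralizer_iff.1 hy.2 x hx).symm, h.usq' x hx⟩
    set n' := n * (w₀ * w₁) with hn'
    have hn'Q : n' ∈ zc Q := mul_mem hnQ (hUQ _ (mul_mem hU₀ hU₁))
    have hc₀ : n' ∈ centralizer (oddGen R₀ : Set G) := by
      refine mem_centralizer_iff.2 fun g hg => ?_
      have h1 : g * w₀ = w₀ * g := (mem_centralizer_iff.1 (h.K_cent (j := 0) hR₀ hj₀ hi₀ hg) w₀ hw₀').symm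
      have h2 : g * (n * w₁) = (n * w₁) * g := hK₀ g hg
      have e : n' = (n * w₁) * w₀ := by rw [hn', ← hww]; group
      calc g * n' = g * (n * w₁) * w₀ := by rw [e]; group
        _ = (n * w₁) * (g * w₀) := by rw [h2]; group
        _ = n' * g := by rw [h1, e]; group
    have hc₁ : n' ∈ centralizer (oddGen R₁ : Set G) := by
      refine mem_centralizer_iff.2 fun g hg => ?_
      have h1 : g * w₁ = w₁ * g := (mem_centralizer_iff.1 (h.K_cent (j := 1) hR₁ hj₁ hi₁ hg) w₁ hw₁').symm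
      have h2 : g * (n * w₀) = (n * w₀) * g := hK₁ g hg
      calc g * n' = g * (n * w₀) * w₁ := by rw [hn']; group
        _ = (n * w₀) * (g * w₁) := by rw [h2]; group
        _ = n' * g := by rw [h1, hn']; group
    -- `n' = 1`
    have hn1 : n' = 1 := by
      by_contra hne
      set F : Subgroup G := zc Q ⊓ (centralizer (oddGen R₀ : Set G) ⊓ centralizer (oddGen R₁ : Set G)) with hF
      have hFS : F ≤ (S : Subgroup G) := (inf_le_left.trans (MinSimple.VModule.zc_le _)).trans inf_le_left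
      have hSQ : (S : Subgroup G) ≤ normalizer (Q : Set G) :=
        norm_inf le_normalizer (norm_cent (h.tw.dec.SL.trans h.tw.dec.LU))
      have hSF : (S : Subgroup G) ≤ normalizer (F : Set G) :=
        norm_inf (hSQ.trans (MinSimple.VModule.normalizer_le_normalizer_zc _))
          (norm_inf (norm_cent (hR₀.le.trans (le_normalizer_oddGen _)))
            (norm_cent (hR₁.le.trans (le_normalizer_oddGen _))))
      have hF1 : F ≠ ⊥ := fun e => hne (by
        have h1 : n' ∈ F := ⟨hn'Q, hc₀, hc₁⟩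
        rwa [e, mem_bot] at h1)
      obtain ⟨f, hf, hf1, hfS⟩ := exists_fix_of S.isPGroup' hFS hSF hF1
      have hfz : f ∈ zc (S : Subgroup G) := MinSimple.VModule.mem_zc.2
        ⟨hFS hf, fun s hs => mul_inv_eq_iff_eq_mul.1 (hfS s hs), (MinSimple.VModule.mem_zc.1 hf.1).2.2⟩
      have hmv : ∀ {R : Subgroup G} {x : G}, IsParS (S : Subgroup G) R → x ∈ zc (S : Subgroup G) →
          ¬ R ≤ centralizer ({x} : Set G) → ¬ ∀ g ∈ oddGen R, g * x = x * g := by
        intro R x hR hx hn h1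
        have h2 : oddGen R ⊔ (S : Subgroup G) = R := NO3b.EZero.oddGen_sup_syl (FFThm.syl_of_sylow S hR.le)
        apply hn
        rw [← h2]
        exact sup_le (fun g hg => mem_centralizer_singleton_iff.2 (h1 g hg)) fun s hs =>
          mem_centralizer_singleton_iff.2 ((MinSimple.VModule.mem_zc.1 hx).2.1 s hs)
      have hf₀ : ∀ g ∈ oddGen R₀, g * f = f * g := fun g hg => mem_centralizer_iff.1 hf.2.1 g hg
      have hf₁ : ∀ g ∈ oddGen R₁, g * f = f * g := fun g hg => mem_centralizer_iff.1 hf.2.2 g hg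
      rcases (h.tw.zS h.rb f).1 hfz with e | e | e | e
      · exact hf1 e
      · rw [e] at hf₁
        exact hmv hR₁ (h.T.v_zc 0) hi₁ hf₁
      · rw [e] at hf₀
        exact hmv hR₀ (h.T.v_zc 1) hi₀ hf₀
      · rw [e] at hf₀
        refine hmv hR₀ (h.T.v_zc 1) hi₀ fun g hg => ?_
        have h1 := hf₀ g hg
        have h2 : g * v 0 = v 0 * g := mem_centralizer_singleton_iff.1 (hj₀ (oddGen_le R₀ hg))
        have h3 : v 0 * (g * v 1) = v 0 * (v 1 * g) := by
          calc v 0 * (g * v 1) = (v 0 * g) * v 1 := by group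
            _ = g * (v 0 * v 1) := by rw [← h2]; group
            _ = v 0 * (v 1 * g) := by rw [h1]; group
        exact mul_left_cancel h3
    have hnU : n ∈ Wd (S : Subgroup G) := by
      have e : n = (w₀ * w₁)⁻¹ := by
        rw [hn'] at hn1
        exact eq_inv_of_mul_eq_one_left hn1
      rw [e]
      exact inv_mem (mul_mem hU₀ hU₁)
    refine mem_ZJ h.tw.dec h.tw.one hnU fun b => ?_
    obtain ⟨m, hm⟩ := h.tw.dec.ex_comp b hnU
    refine ⟨m, hm, h.tw.one.fix b m hm.1 fun s hs => ?_⟩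
    have hsB : s ∈ BB (S : Subgroup G) z := h.mem_BB hs.1 fun c =>
      z_fix h.tw.dec h.inn h.tw.one hs.1 ((le_iSup E b) hs.2) c
    have h1 := h.tw.dec.comp_conj (h.tw.dec.SL hs.1) (smul_of_mem (h.tw.dec.EN b hs.2)) hm
    have h2 : s * n * s⁻¹ = n := mul_inv_eq_iff_eq_mul.2 (hnc s hsB)
    rw [h2] at h1
    exact h.tw.dec.uniq h1 hm
  · intro x hx
    exact MinSimple.VModule.mem_zc.2 ⟨h.U_le_B (h.ZJU hx), fun b hb => (mem_centralizer_iff.1 hb.2 x hx).symm,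
      h.usq' x (h.ZJU hx)⟩

end Lf

end Cfsg.Agent.Omega.NOThreeL.RRed.FourLf
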