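import Cfsg.Agent.Omega.NOThreeL.RRed.FourAO
import Cfsg.Agent.Omega.NOThreeL.RRed.FourZcB
import Cfsg.Agent.Omega.NOThreeL.RRed.FourNl
import Cfsg.Agent.Omega.NOThreeL.RRed.FourLfOf
import Cfsg.Agent.Omega.EDel.Bx.AOEnd

/-!
# NO-3L, box R, `FourOf`: the left case is void

* **`fourLeft`** : `FourTwoP.FourLeft K B` for all `K`, `B` (`lf_of` ⇒ `Lf.toAO` ⇒ THEOREM U over `AO`, `AO.end_of`);
* **`fourTwo`** : `FourTwo K B` from `LevMv`.
-/

set_option autoImplicit false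

namespace Cfsg.Agent.Omega.NOThreeL.RRed.FourEnd

open Subgroup Cfsg Cfsg.Agent.ZN Cfsg.Agent.Omega.Frame Cfsg.Agent.Omega.FrameNOFF
open Cfsg.Agent.Omega.Node.NO3L Cfsg.Agent.Omega.NOThreeL.Basic Cfsg.Agent.Omega.NOThreeL.RTree
open Cfsg.Agent.Omega.NOThreeL.RRed.FourTree Cfsg.Agent.Omega.NOThreeL.RRed.FourTwoP
open Cfsg.Agent.Omega.NOThreeL.RTreeF Cfsg.Agent.Omega.NOThreeL.RRed.GlueSig

universe u

/-- **The left case is void.** -/
theorem fourLeft (K : Cls.{u}) (B : Fr.{u}) (hML : ML.Final.MLK.{u, u}) (hE : ML.Ex.Two.Ext.{u, u}) :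
    FourLeft K B := by
  intro G _ _ _ S _ h hF I _ _ N E Om _ _ phi hB hno z O v t h3 three hmv
  exfalso
  have L := FourLfOf.lf_of h hF hB hno t h3 hmv
  obtain ⟨n, e, A⟩ := L.toAO (L.zcB hML) hML (FourPermN.permN hB.toFull) three
  obtain ⟨b, -⟩ := (t.orb 0).ne
  have : Nonempty (Fin n) := ⟨e.symm b⟩
  exact A.end_of hML hE (fun T hT => L.kg (fun i => e i) hT) (L.nl e hno)

/-- **`FourTwo` from `LevMv`.** -/
theorem fourTwo (K : Cls.{u}) (B : Fr.{u}) (hML : ML.Final.MLK.{u, u}) (hE : ML.Ex.Two.Ext.{u, u})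
    (hlev : ∀ (G : Type u) [Group G] [Finite G] (S : Sylow 2 G), B G S → Four S → FourNoK2.LevMv (S : Subgroup G)) :
    FourTwo K B := fourTwo_of hML hE hlev (fourLeft K B hML hE)

end Cfsg.Agent.Omega.NOThreeL.RRed.FourEnd
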