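import Cfsg.Agent.Omega.NOThreeL.RRed.FourTwoO

/-!
# NO-3L, box R, `FourOf`, the left case: `𝒜(O₂(C_G(Z)))` and the blocks

`F : Full S M U N E R₀ Om phi`, `One S M U N E z`; `O ≤ S`, `U ≤ O`, every `A ∈ 𝒜(O)` is generated by elements which act
on `U` as transvections (930's `gen_tv`):

* `le_E0`, `z_fix`, `z_perm` : `A ≤ ⨆ b, E b`, `A` centralises all `z b`; `S` permutes the `z b`;
* `exists_tv` : `A` moves `N b`: some `t ∈ A` is a transposition on `N b`;
* `card_lett` : `|Om b| = 3` if some such `A ≤ O` moves `N b` and `E b ⊓ C(z b)` normalises `O`; `card_N`;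
* **`exists_pure`** : some `A' ∈ 𝒜(O)` moves `N b` and centralises `N c`, `c ≠ b`.
-/

set_option autoImplicit false
set_option linter.unusedSectionVars false

namespace Cfsg.Agent.Omega.NOThreeL.RRed.FourLeft

open Subgroup Cfsg Cfsg.Agent.ZN
open Cfsg.Agent.Omega.FFThm (ElemM OffM NoOverM)
open Cfsg.Agent.Omega.KL.TwoS (Rel Lett relIndex_le_of_sup relIndex_card comm_of_sq)
open Cfsg.Agent.Omega.NOThreeL.RRed.TvFin (Full TvV)
open Cfsg.Agent.Omega.NOThreeL.RRed.Blk
open Cfsg.Agent.Omega.NoFF.Basic (comm_symm comm_mono)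
open Cfsg.Agent.Omega.NoFF.ThmJFam (card_sup_inf)
open scoped Pointwise

universe u

variable {G : Type u} [Group G]

/-- `|V| = 4` for three letters -/
theorem card_N [Finite G] {Ω : Type u} [Fintype Ω] [DecidableEq Ω] {V R : Subgroup G} {φ : Finset Ω → G}
    (L : Lett V R φ) (h3 : Fintype.card Ω = 3) : Nat.card V = 4 := by
  have hsurj : ∀ x ∈ V, x = 1 ∨ ∃ a, x = φ (Finset.univ.erase a) := by
    intro x hx
    obtain ⟨s, hs, rfl⟩ := (L.mem x).1 hx
    have h4 : s.card ≤ 3 := by rw [← h3]; exact Finset.card_le_univ s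
    have h5 : s.card = 0 ∨ s.card = 2 := by
      obtain ⟨k, hk⟩ := hs
      omega
    rcases h5 with h5 | h5
    · left
      rw [Finset.card_eq_zero.1 h5, L.phi_empty]
    · have h6 : sᶜ.card = 1 := by rw [Finset.card_compl, h3, h5]
      obtain ⟨a, ha⟩ := Finset.card_eq_one.1 h6
      refine Or.inr ⟨a, ?_⟩
      congr 1
      ext x
      have h7 : x ∈ sᶜ ↔ x = a := by rw [ha, Finset.mem_singleton]
      rw [Finset.mem_compl] at h7
      simp only [Finset.mem_erase, Finset.mem_univ, and_true]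
      tauto
  let f : Option Ω → V := fun o => match o with
    | none => 1
    | some a => ⟨φ (Finset.univ.erase a), (L.mem _).2 ⟨_, L.even_erase a, rfl⟩⟩
  have hf : Function.Bijective f := by
    constructor
    · intro o o' h
      have h' : (f o : G) = f o' := congrArg Subtype.val h
      cases o with
      | none =>
        cases o' with
        | none => rfl
        | some a => exact absurd (show φ (Finset.univ.erase a) = 1 from h'.symm) (erase_ne_one L (by omega) a)
      | some a =>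
        cases o' with
        | none => exact absurd (show φ (Finset.univ.erase a) = 1 from h') (erase_ne_one L (by omega) a)
        | some b =>
          have h1 := L.phi_inj (L.even_erase a) (L.even_erase b) h'
          have h2 : a = b := by
            by_contra hab
            have h3 : a ∈ Finset.univ.erase b := Finset.mem_erase.2 ⟨hab, Finset.mem_univ a⟩
            rw [← h1] at h3
            exact (Finset.mem_erase.1 h3).1 rfl
          rw [h2]
    · rintro ⟨v, hv⟩
      rcases hsurj v hv with h | ⟨a, h⟩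
      · exact ⟨none, Subtype.ext h.symm⟩
      · exact ⟨some a, Subtype.ext h.symm⟩
  rw [← Nat.card_congr (Equiv.ofBijective f hf), Nat.card_eq_fintype_card, Fintype.card_option, h3]

/-- a four-group: two elements outside `{1, z}` differ by `z` at most -/
theorem four_or [Finite G] {V : Subgroup G} (h4 : Nat.card V = 4) (sq : ∀ x ∈ V, x * x = 1) {z w y : G} (hz : z ∈ V)
    (hz1 : z ≠ 1) (hw : w ∈ V) (hw1 : w ≠ 1) (hwz : w ≠ z) (hy : y ∈ V) :
    y = 1 ∨ y = z ∨ y = w ∨ y = w * z := by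
  have hfin : Finite V := inferInstance
  have _ := Fintype.ofFinite V
  classical
  by_contra hcon
  push Not at hcon
  obtain ⟨h1, h2, h3, h5⟩ := hcon
  have hwz' : w * z ∈ V := mul_mem hw hz
  let s : Finset V := {1, ⟨z, hz⟩, ⟨w, hw⟩, ⟨w * z, hwz'⟩, ⟨y, hy⟩}
  have e1 : (1 : V) ≠ ⟨z, hz⟩ := fun e => hz1 (congrArg Subtype.val e).symm
  have e2 : (1 : V) ≠ ⟨w, hw⟩ := fun e => hw1 (congrArg Subtype.val e).symm
  have e3 : (1 : V) ≠ ⟨w * z, hwz'⟩ := fun e => by
    have e' : w * z = 1 := (congrArg Subtype.val e).symm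
    apply hwz
    calc w = w * z * z⁻¹ := by group
      _ = z⁻¹ := by rw [e', one_mul]
      _ = z := inv_eq_of_mul_eq_one_right (sq z hz)
  have e4 : (1 : V) ≠ ⟨y, hy⟩ := fun e => h1 (congrArg Subtype.val e).symm
  have e5 : (⟨z, hz⟩ : V) ≠ ⟨w, hw⟩ := fun e => hwz (congrArg Subtype.val e).symm
  have e6 : (⟨z, hz⟩ : V) ≠ ⟨w * z, hwz'⟩ := fun e => by
    have e' : z = w * z := congrArg Subtype.val e
    exact hw1 (right_eq_mul.1 e')
  have e7 : (⟨z, hz⟩ : V) ≠ ⟨y, hy⟩ := fun e => h2 (congrArg Subtype.val e).symm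
  have e8 : (⟨w, hw⟩ : V) ≠ ⟨w * z, hwz'⟩ := fun e => by
    have e' : w = w * z := congrArg Subtype.val e
    exact hz1 (left_eq_mul.1 e')
  have e9 : (⟨w, hw⟩ : V) ≠ ⟨y, hy⟩ := fun e => h3 (congrArg Subtype.val e).symm
  have e10 : (⟨w * z, hwz'⟩ : V) ≠ ⟨y, hy⟩ := fun e => h5 (congrArg Subtype.val e).symm
  have hc : s.card = 5 := by
    simp only [s]
    rw [Finset.card_insert_of_notMem, Finset.card_insert_of_notMem, Finset.card_insert_of_notMem,
      Finset.card_insert_of_notMem, Finset.card_singleton]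
    · simpa using e10
    · simp only [Finset.mem_insert, Finset.mem_singleton, not_or]
      exact ⟨e8, e9⟩
    · simp only [Finset.mem_insert, Finset.mem_singleton, not_or]
      exact ⟨e5, e6, e7⟩
    · simp only [Finset.mem_insert, Finset.mem_singleton, not_or]
      exact ⟨e1, e2, e3, e4⟩
  have h6 := Finset.card_le_univ s
  rw [hc, ← Nat.card_eq_fintype_card, h4] at h6
  omega

section full

variable [Finite G] {S : Sylow 2 G} {M U : Subgroup G} {I : Type u} {N E : I → Subgroup G} {R₀ : Subgroup G}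
  {Om : I → Type u} [∀ i, Fintype (Om i)] [∀ i, DecidableEq (Om i)] {phi : ∀ i, Finset (Om i) → G} {z : I → G}

theorem mem_E0 (F : Full (S : Subgroup G) M U N E R₀ Om phi) (hI : Nonempty I) {t c : G} (ht : t ∈ M) (hc : c ∈ U)
    (h : TvV U c t) : t ∈ ⨆ b, E b := by
  by_cases hne : t ∈ centralizer (U : Set G)
  · obtain ⟨b⟩ := hI
    exact (le_iSup E b) (F.CE b ⟨ht, hne⟩)
  · obtain ⟨i, hi, -⟩ := F.tvs t ht c hc h hne
    exact (le_iSup E i) hi

theorem le_E0 (F : Full (S : Subgroup G) M U N E R₀ Om phi) (hI : Nonempty I) {A : Subgroup G} (hA : A ≤ M)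
    (hg : A ≤ closure {t | t ∈ A ∧ ∃ c ∈ U, TvV U c t}) : A ≤ ⨆ b, E b := by
  refine hg.trans ((closure_le _).2 ?_)
  rintro t ⟨ht, c, hc, h⟩
  exact mem_E0 F hI (hA ht) hc h

theorem z_fix' (D : Dec (S : Subgroup G) M U N E R₀) (hin : Inn M N E) (o : One (S : Subgroup G) M U N E z) {s : G}
    (hs : s ∈ (S : Subgroup G)) {b : I} (hb : MulAut.conj s • N b = N b) : s * z b * s⁻¹ = z b := by
  obtain ⟨t, ht, h⟩ := D.act_S hin hs hb
  rw [h _ (o.zN b)]
  exact o.zS b t ht

theorem z_fix (D : Dec (S : Subgroup G) M U N E R₀) (hin : Inn M N E) (o : One (S : Subgroup G) M U N E z) {s : G}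
    (hs : s ∈ (S : Subgroup G)) (hs0 : s ∈ ⨆ b, E b) (b : I) : s * z b * s⁻¹ = z b :=
  z_fix' D hin o hs (D.E0_smul hs0 b)

/-- `S` permutes the `z b` -/
theorem z_perm (D : Dec (S : Subgroup G) M U N E R₀) (o : One (S : Subgroup G) M U N E z) {s : G}
    (hs : s ∈ (S : Subgroup G)) {b c : I} (hb : MulAut.conj s • N b = N c) : s * z b * s⁻¹ = z c := by
  have h1 : s * z b * s⁻¹ ∈ N c := (conj_smul hb).1 (o.zN b)
  refine (o.fix c _ h1 fun u hu => ?_).resolve_left fun e => o.z1 b (conj_eq_one_iff.1 e)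
  have hE := D.E_of_N (D.SL hs) hb
  have h2 : s⁻¹ * u * s ∈ E b := by
    have h3 : s * (s⁻¹ * u * s) * s⁻¹ ∈ E c := by
      have e : s * (s⁻¹ * u * s) * s⁻¹ = u := by group
      rw [e]; exact hu.2
    exact (conj_smul hE).2 h3
  have h4 : s⁻¹ * u * s ∈ (S : Subgroup G) ⊓ E b :=
    ⟨(S : Subgroup G).mul_mem ((S : Subgroup G).mul_mem ((S : Subgroup G).inv_mem hs) hu.1) hs, h2⟩
  have h5 := o.zS b _ h4
  calc u * (s * z b * s⁻¹) * u⁻¹ = s * ((s⁻¹ * u * s) * z b * (s⁻¹ * u * s)⁻¹) * s⁻¹ := by group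
    _ = s * z b * s⁻¹ := by rw [h5]

/-- `A` moves `N b`: some `t ∈ A` is a transvection which moves `N b` -/
theorem exists_tv (F : Full (S : Subgroup G) M U N E R₀ Om phi) {A : Subgroup G} (hA : A ≤ M)
    (hg : A ≤ closure {t | t ∈ A ∧ ∃ c ∈ U, TvV U c t}) {b : I} (hb : ¬ A ≤ centralizer (N b : Set G)) :
    ∃ t ∈ A, t ∈ E b ∧ t ∉ centralizer (N b : Set G) ∧ ∃ p q : Om b, p ≠ q ∧ Rel (phi b) t (Equiv.swap p q) := by
  obtain ⟨t, ⟨ht, c, hc, htv⟩, htb⟩ : ∃ t ∈ {t | t ∈ A ∧ ∃ c ∈ U, TvV U c t}, t ∉ centralizer (N b : Set G) := by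
    by_contra hcon
    push Not at hcon
    exact hb (hg.trans ((closure_le _).2 hcon))
  have hne : t ∉ centralizer (U : Set G) := fun h => htb (centralizer_le (F.NU b) h)
  obtain ⟨i, hi, p, q, hpq, -, hrel⟩ := F.tvs t (hA ht) c hc htv hne
  by_cases hib : i = b
  · subst hib
    exact ⟨t, ht, hi, htb, p, q, hpq, hrel⟩
  · exact absurd (F.EC i b hib hi) htb

/-- **three letters** -/
theorem card_lett (F : Full (S : Subgroup G) M U N E R₀ Om phi) (o : One (S : Subgroup G) M U N E z) {O : Subgroup G}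
    (OS : O ≤ (S : Subgroup G)) {b : I} (hn : ∀ g ∈ E b, g * z b = z b * g → g ∈ normalizer (O : Set G)) {t : G}
    (ht : t ∈ O) (htE : t ∈ E b) {p q : Om b} (hpq : p ≠ q) (hrel : Rel (phi b) t (Equiv.swap p q)) :
    Fintype.card (Om b) = 3 := by
  classical
  by_contra h3
  have h4 : 4 ≤ Fintype.card (Om b) := by
    have := F.three b
    omega
  have hT2 : IsPGroup 2 ((S : Subgroup G) ⊓ E b : Subgroup G) := S.isPGroup'.to_le inf_le_left
  obtain ⟨r, hr, -⟩ := exists_ctr (F.lett b) (F.three b) inf_le_right hT2 (z := z b) (o.fix b)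
  obtain ⟨c, hc⟩ : ∃ c, c ∉ ({p, q, r} : Finset (Om b)) := by
    by_contra hcon
    push Not at hcon
    have h5 : Fintype.card (Om b) ≤ ({p, q, r} : Finset (Om b)).card := by
      rw [← Finset.card_univ]
      exact Finset.card_le_card fun x _ => hcon x
    have h6 := (Finset.card_le_three (a := p) (b := q) (c := r))
    omega
  simp only [Finset.mem_insert, Finset.mem_singleton, not_or] at hc
  have hO' : IsPGroup 2 (O ⊓ centralizer ({z b} : Set G) : Subgroup G) :=
    S.isPGroup'.to_le (inf_le_left.trans OS)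
  have htz : t * z b = z b * t := by
    have h5 := o.zS b t ⟨OS ht, htE⟩
    exact mul_inv_eq_iff_eq_mul.1 h5
  have h7 := (F.lett b).semi (O := O ⊓ centralizer ({z b} : Set G)) (p := r) (F.three b) hO'
    (by rw [← hr]; exact inf_le_right)
    (by
      intro g hg hgz
      rw [← hr] at hgz
      have h8 := hn g hg (mem_centralizer_singleton_iff.1 hgz)
      have h9 : g ∈ normalizer ((centralizer ({z b} : Set G) : Subgroup G) : Set G) := le_normalizer hgz
      rw [mem_normalizer_iff] at h8 h9 ⊢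
      intro x
      exact ⟨fun hx => ⟨(h8 x).1 hx.1, (h9 x).1 hx.2⟩, fun hx => ⟨(h8 x).2 hx.1, (h9 x).2 hx.2⟩⟩)
    (g := t) ⟨ht, mem_centralizer_singleton_iff.2 htz⟩ hrel (c := c) hc.2.2
    (Equiv.swap_apply_of_ne_of_ne hc.1 hc.2.1)
  exact hpq (Equiv.swap_eq_one_iff.1 h7)

/-- `E b` centralises `∏_{c ≠ b} N c` -/
theorem E_cent_Co (D : Dec (S : Subgroup G) M U N E R₀) (b : I) : E b ≤ centralizer (Co N R₀ b : Set G) := by
  rw [le_centralizer_iff]
  refine sup_le (iSup_le fun c => ?_) ?_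
  · rw [← le_centralizer_iff]; exact D.EC b c (Ne.symm c.2)
  · rw [← le_centralizer_iff]; exact D.ER b

/-- `|N b| = 4`: `A` acts on `N b` as a group of order at most 2 -/
theorem act_or (o : One (S : Subgroup G) M U N E z) {b : I} (sqN : ∀ x ∈ N b, x * x = 1) (h4 : Nat.card (N b) = 4)
    {t a : G} (hnt : t ∈ normalizer (N b : Set G)) (hna : a ∈ normalizer (N b : Set G)) (htz : t * z b * t⁻¹ = z b)
    (haz : a * z b * a⁻¹ = z b) (htb : t ∉ centralizer (N b : Set G)) :
    a ∈ centralizer (N b : Set G) ∨ t⁻¹ * a ∈ centralizer (N b : Set G) := by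
  obtain ⟨w, hw, hwt⟩ : ∃ w ∈ N b, t * w * t⁻¹ ≠ w := by
    by_contra hcon
    push Not at hcon
    exact htb (mem_centralizer_iff.2 fun w hw => (mul_inv_eq_iff_eq_mul.1 (hcon w hw)).symm)
  have hw1 : w ≠ 1 := by
    rintro rfl
    exact hwt (by group)
  have hwz : w ≠ z b := by
    rintro rfl
    exact hwt htz
  have hor := fun {y : G} (hy : y ∈ N b) => four_or h4 sqN (o.zN b) (o.z1 b) hw hw1 hwz hy
  -- the image of `w`
  have him : ∀ g ∈ normalizer (N b : Set G), g * z b * g⁻¹ = z b → g * w * g⁻¹ = w ∨ g * w * g⁻¹ = w * z b := by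
    intro g hg hgz
    rcases hor (conj_of hg hw) with h | h | h | h
    · exact absurd (conj_eq_one_iff.1 h) hw1
    · rw [← hgz] at h
      exact absurd (mul_left_cancel (mul_right_cancel h)) hwz
    · exact Or.inl h
    · exact Or.inr h
  have hcent : ∀ g, g * z b * g⁻¹ = z b → g * w * g⁻¹ = w → g ∈ centralizer (N b : Set G) := by
    intro g hgz hgw
    refine mem_centralizer_iff.2 fun y hy => ?_
    have h1 : g * y * g⁻¹ = y := by
      rcases hor hy with rfl | rfl | rfl | rfl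
      · group
      · exact hgz
      · exact hgw
      · calc g * (w * z b) * g⁻¹ = (g * w * g⁻¹) * (g * z b * g⁻¹) := by group
          _ = w * z b := by rw [hgz, hgw]
    exact (mul_inv_eq_iff_eq_mul.1 h1).symm
  have ht' := (him t hnt htz).resolve_left hwt
  rcases him a hna haz with h | h
  · exact Or.inl (hcent a haz h)
  · right
    have hti : t⁻¹ * z b * t = z b := by
      calc t⁻¹ * z b * t = t⁻¹ * (t * z b * t⁻¹) * t := by rw [htz]
        _ = z b := by group
    have htw : t⁻¹ * (w * z b) * t = w := by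
      rw [← ht']; group
    refine hcent _ ?_ ?_
    · calc t⁻¹ * a * z b * (t⁻¹ * a)⁻¹ = t⁻¹ * (a * z b * a⁻¹) * t := by group
        _ = z b := by rw [haz, hti]
    · calc t⁻¹ * a * w * (t⁻¹ * a)⁻¹ = t⁻¹ * (a * w * a⁻¹) * t := by group
        _ = w := by rw [h, htw]

/-- **a pure member of `𝒜(O)`** -/
theorem exists_pure (D : Dec (S : Subgroup G) M U N E R₀) (hin : Inn M N E) (o : One (S : Subgroup G) M U N E z)
    {O A : Subgroup G} (OS : O ≤ (S : Subgroup G)) (UO : U ≤ O)
    (sq : ∀ x ∈ U, x ^ 2 = 1) (no : NoOverM U (S : Subgroup G)) (hA : KL.TwoS.Mx O A) (hA0 : A ≤ ⨆ b, E b) {b : I}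
    (h4 : Nat.card (N b) = 4) {t : G} (ht : t ∈ A) (htE : t ∈ E b) (htb : t ∉ centralizer (N b : Set G)) :
    ∃ A', KL.TwoS.Mx O A' ∧ ¬ A' ≤ centralizer (N b : Set G) ∧ (∀ c, c ≠ b → A' ≤ centralizer (N c : Set G)) ∧
      A' ≤ A ⊔ U := by
  have hAS : A ≤ (S : Subgroup G) := hA.le.trans OS
  set X : Subgroup G := Co N R₀ b with hX
  have XU : X ≤ U := D.CoU b
  have NX : N b ⊓ X = ⊥ := D.ind b
  have NXU : N b ⊔ X = U := D.sup_Co b
  have htX : t ∈ centralizer (X : Set G) := E_cent_Co D b htE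
  have hAc : A ≤ centralizer (A : Set G) := hA.comm
  set Ab : Subgroup G := A ⊓ centralizer (N b : Set G) with hAb
  have sqN : ∀ x ∈ N b, x * x = 1 := fun x hx => by rw [← pow_two]; exact sq x (D.NU b hx)
  -- `A = A_b C_A(X)`
  have hsup : A ≤ Ab ⊔ (A ⊓ centralizer (X : Set G)) := by
    intro a ha
    rcases act_or o sqN h4 (D.EN b htE) (D.E0N b (hA0 ha)) (z_fix D hin o (hAS ht) (hA0 ht) b)
      (z_fix D hin o (hAS ha) (hA0 ha) b) htb with h | h
    · exact mem_sup_left ⟨ha, h⟩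
    · have e : a = t * (t⁻¹ * a) := by group
      rw [e]
      exact mul_mem (mem_sup_right ⟨ht, htX⟩) (mem_sup_left ⟨A.mul_mem (A.inv_mem ht) ha, h⟩)
  have i1 : (centralizer (X : Set G)).relIndex A ≤ (centralizer (X : Set G)).relIndex Ab :=
    relIndex_le_of_sup inf_le_left hAc hsup
  -- (NO) for `A_b`
  have hE : ElemM U Ab :=
    ⟨fun a ha => by rw [hA.sq a ha.1]; exact one_mem _, fun a ha c hc => by
      have h1 := mem_centralizer_iff.1 (hAc ha.1) c hc.1
      have e : a * c * a⁻¹ * c⁻¹ = 1 := by rw [← h1]; group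
      rw [e]; exact one_mem _⟩
  have n1 := no Ab (inf_le_left.trans hAS) hE
  have hNc : N b ≤ centralizer (Ab : Set G) := le_centralizer_iff.1 inf_le_right
  have c1 := card_sup_inf (A := N b) (B := X ⊓ centralizer (Ab : Set G))
    (comm_mono D.ab (D.NU b) (inf_le_left.trans XU))
  have c2 : N b ⊓ (X ⊓ centralizer (Ab : Set G)) = ⊥ := by
    rw [← inf_assoc, NX, bot_inf_eq]
  rw [c2, card_bot, mul_one] at c1
  have c3 := card_sup_inf (A := N b) (B := X) (comm_mono D.ab (D.NU b) XU)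
  rw [NX, card_bot, mul_one, NXU] at c3
  have c4 : Nat.card (N b ⊔ (X ⊓ centralizer (Ab : Set G)) : Subgroup G) ≤
      Nat.card (U ⊓ centralizer (Ab : Set G) : Subgroup G) :=
    Subgroup.card_le_of_le (sup_le (le_inf (D.NU b) hNc) (inf_le_inf_right _ XU))
  have c5 : Nat.card (Ab ⊓ centralizer (U : Set G) : Subgroup G) ≤
      Nat.card (Ab ⊓ centralizer (X : Set G) : Subgroup G) :=
    Subgroup.card_le_of_le (inf_le_inf_left _ (centralizer_le XU))
  have r1 := relIndex_card (A := Ab) (C := centralizer (X : Set G))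
  have r2 := relIndex_card (A := X) (C := centralizer (Ab : Set G))
  have i2 : (centralizer (X : Set G)).relIndex Ab ≤ (centralizer (Ab : Set G)).relIndex X := by
    set p := Nat.card (N b)
    set xc := Nat.card (X ⊓ centralizer (Ab : Set G) : Subgroup G)
    set ac := Nat.card (Ab ⊓ centralizer (X : Set G) : Subgroup G)
    set r := (centralizer (X : Set G)).relIndex Ab
    set r' := (centralizer (Ab : Set G)).relIndex X
    have pp : 0 < p := Nat.card_pos
    have px : 0 < xc := Nat.card_pos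
    have pa : 0 < ac := Nat.card_pos
    have k : (p * xc * ac) * r ≤ (p * xc * ac) * r' := by
      calc (p * xc * ac) * r = (ac * r) * (p * xc) := by ring
        _ = Nat.card Ab * Nat.card (N b ⊔ (X ⊓ centralizer (Ab : Set G)) : Subgroup G) := by rw [← r1, c1]
        _ ≤ Nat.card Ab * Nat.card (U ⊓ centralizer (Ab : Set G) : Subgroup G) := Nat.mul_le_mul_left _ c4
        _ ≤ Nat.card U * Nat.card (Ab ⊓ centralizer (U : Set G) : Subgroup G) := n1
        _ ≤ Nat.card U * ac := Nat.mul_le_mul_left _ c5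
        _ = (p * xc * ac) * r' := by rw [c3, r2]; ring
    exact Nat.le_of_mul_le_mul_left k (Nat.mul_pos (Nat.mul_pos pp px) pa)
  have i3 : (centralizer (Ab : Set G)).relIndex X ≤ (centralizer (A : Set G)).relIndex X :=
    relIndex_le_of_le_left (centralizer_le (show (Ab : Set G) ⊆ A from fun x hx => hx.1))
      Subgroup.index_ne_zero_of_finite
  have hXsq : ∀ x ∈ X, x ^ 2 = 1 := fun x hx => sq x (XU hx)
  refine ⟨A ⊓ centralizer (X : Set G) ⊔ X, hA.sup (XU.trans UO) hXsq ((i1.trans i2).trans i3), fun h => ?_,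
    fun c hc => ?_, sup_le (inf_le_left.trans le_sup_left) (XU.trans le_sup_right)⟩
  · exact htb (h (mem_sup_left ⟨ht, htX⟩))
  · have h1 : N c ≤ X := D.N_le_Co hc
    exact sup_le (inf_le_right.trans (centralizer_le h1)) (comm_mono D.ab XU (D.NU c))

end full

end Cfsg.Agent.Omega.NOThreeL.RRed.FourLeft
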