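import Cfsg.Agent.Omega.NOThreeL.RRed.FourTwoO
import Cfsg.Agent.Omega.NOThreeL.RLev.Chain
import Cfsg.Agent.Omega.SQ1.Bau

/-!
# NO-3L, box R, `FourOf`: LEMMA HJ (helper33 #24413): a level which moves `V*` moves all blocks or there is no (K2)

`Dec S M V N E ⊥`; `J` a level (`Lev S J`), `J ≤ ⨆ E b`, `J ≰ C(V)`:

* `mv_trans` : `S` transitive on the blocks: `J` moves every block;
* `mv_k2` : two orbits (`TwoO`) and some (K2) in `P*(S)`: `J` moves every block;
* `best_of_AA`, `best_sub` : members of `A(S)`, and best offenders on `X ≥ V*`, are best offenders on `V*`;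
* `hypJ_trans`, **`noK2`** : for 813's `HypJ`.
-/

set_option autoImplicit false
set_option linter.unusedSectionVars false

namespace Cfsg.Agent.Omega.NOThreeL.RRed.FourNoK2

open Subgroup Cfsg Cfsg.Agent.ZN Cfsg.Agent.Omega.MinPar Cfsg.Agent.Omega.Frame Cfsg.Agent.Omega.FrameNOFF
open Cfsg.Agent.Omega.Node.NO3L Cfsg.Agent.Omega.NOThreeL.Basic Cfsg.Agent.Omega.NOThreeL.RTree
open Cfsg.Agent.Omega.NOThreeL.Merge (MZ le_MZ S_le_MZ)
open Cfsg.Agent.Omega.NO3S.Level (Lev)
open Cfsg.Agent.Omega.NO1.BestOff (Best)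
open Cfsg.Agent.Omega.FFThm (ElemM OffM NoOverM)
open Cfsg.Agent.Omega.NOThreeL.RRed.TvFin (Full)
open Cfsg.Agent.Omega.NOThreeL.RRed.FourTree
open Cfsg.Agent.Omega.NOThreeL.RRed.FourTwoO
open Cfsg.Agent.Omega.NOThreeL.RRed.Blk
open Cfsg.Agent.PLocal.ElemAbSup
open Cfsg.Agent.PLocal.ThompsonJ
open Cfsg.Agent.ZN.ChoiceBase (AA)
open Cfsg.Agent.Omega.SQ1.Bau (mem_AA_of_comm elem_comm elem_sq card_sup_comm)
open scoped Pointwise

universe u v

variable {G : Type u} [Group G]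

section mv

variable {ι : Type v} {J : Subgroup G} {N : ι → Subgroup G}

theorem cent_conj {g : G} (hg : g ∈ normalizer (J : Set G)) {b c : ι} (e : MulAut.conj g • N b = N c)
    (h : J ≤ centralizer (N b : Set G)) : J ≤ centralizer (N c : Set G) := by
  intro x hx
  refine mem_centralizer_iff.2 fun y hy => ?_
  have h1 : g⁻¹ * x * g ∈ J := by
    have := conj_of (inv_mem hg) hx
    simpa using this
  have h2 : g⁻¹ * y * g ∈ N b := by
    rw [conj_smul e]
    have e1 : g * (g⁻¹ * y * g) * g⁻¹ = y := by group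
    rw [e1]; exact hy
  have h3 := mem_centralizer_iff.1 (h h1) _ h2
  calc y * x = g * ((g⁻¹ * y * g) * (g⁻¹ * x * g)) * g⁻¹ := by group
    _ = x * y := by rw [h3]; group

variable [Finite ι] [Finite G] {S : Sylow 2 G} {M V : Subgroup G} {E : ι → Subgroup G}

theorem exists_mv_blk (D : Dec (S : Subgroup G) M V N E ⊥) (hJ : ¬ J ≤ centralizer (V : Set G)) :
    ∃ b, ¬ J ≤ centralizer (N b : Set G) := by
  by_contra hcon
  push Not at hcon
  apply hJ
  rw [← D.sup, sup_bot_eq, le_centralizer_iff]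
  refine iSup_le fun b => ?_
  rw [← le_centralizer_iff]
  exact hcon b

/-- `S` transitive on the blocks -/
theorem mv_trans (D : Dec (S : Subgroup G) M V N E ⊥) (hJS : (S : Subgroup G) ≤ normalizer (J : Set G))
    (hJ : ¬ J ≤ centralizer (V : Set G)) (htr : ∀ b c, ∃ s ∈ (S : Subgroup G), MulAut.conj s • N b = N c) (b : ι) :
    ¬ J ≤ centralizer (N b : Set G) := by
  obtain ⟨c, hc⟩ := exists_mv_blk D hJ
  intro h
  obtain ⟨s, hs, e⟩ := htr b c
  exact hc (cent_conj (hJS hs) e h)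

variable {z : ι → G} {O : Fin 2 → Set ι} {v : Fin 2 → G}

/-- a (K2) which leaves `O i` invariant fixes `v i` -/
theorem fix_of_inv (t : TwoO S M V N E ⊥ z O v) {i : Fin 2} {r : G} (hr : r ∈ M)
    (hn : r ∈ normalizer (((S : Subgroup G) ⊓ ⨆ b, E b : Subgroup G) : Set G))
    (hi : ∀ b c, MulAut.conj r • N b = N c → (b ∈ O i ↔ c ∈ O i)) : r * v i * r⁻¹ = v i := by
  have hVN := t.VN i
  have h0 : r * v i * r⁻¹ ∈ ⨆ b, N b := by
    have h1 : MulAut.conj r • (⨆ b, N b) ≤ ⨆ b, N b := by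
      rw [show MulAut.conj r • (⨆ b, N b) = ⨆ b, MulAut.conj r • N b from Subgroup.map_iSup _ _]
      refine iSup_le fun b => ?_
      obtain ⟨c, hc, _⟩ := t.dec.perm r hr b
      rw [hc]; exact le_iSup N c
    exact h1 ((conj_smul rfl).1 (hVN (t.vV i)))
  refine t.dec.ext h0 (hVN (t.vV i)) fun c => ?_
  obtain ⟨b, hb, _⟩ := t.dec.ex_pre hr c
  by_cases hc : c ∈ O i
  · have hbi : b ∈ O i := (hi b c hb).2 hc
    have h1 := t.dec.comp_conj hr hb (t.comp i hbi)
    rw [t.dec.k2 t.one hr hn hb] at h1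
    exact ⟨_, h1, t.comp i hc⟩
  · have hbi : b ∉ O i := fun h => hc ((hi b c hb).1 h)
    have h1 := t.dec.comp_conj hr hb (t.comp' i hbi)
    rw [mul_one, mul_inv_cancel] at h1
    exact ⟨_, h1, t.comp' i hc⟩

/-- two orbits, `R` is (K2), normalises `J` and moves `v 0` or `v 1` -/
theorem mv_two (t : TwoO S M V N E ⊥ z O v) (hJS : (S : Subgroup G) ≤ normalizer (J : Set G))
    (hJ : ¬ J ≤ centralizer (V : Set G)) {R : Subgroup G} (hRM : R ≤ M)
    (hRJ : R ≤ normalizer (J : Set G)) (hn : R ≤ normalizer (((S : Subgroup G) ⊓ ⨆ b, E b : Subgroup G) : Set G))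
    (hR : ¬ ∀ r ∈ R, ∀ i, r * v i * r⁻¹ = v i) (b : ι) : ¬ J ≤ centralizer (N b : Set G) := by
  intro hb
  apply hR
  have f2 : ∀ k : Fin 2, k = 0 ∨ k = 1 := by decide
  -- an orbit is moved or not
  have horb : ∀ i, ∀ b ∈ O i, ∀ c ∈ O i, J ≤ centralizer (N b : Set G) → J ≤ centralizer (N c : Set G) := by
    intro i b hb c hc h
    obtain ⟨s, hs, e⟩ := (t.orb i).tr b hb c hc
    exact cent_conj (hJS hs) e h
  obtain ⟨d, hd⟩ := exists_mv_blk t.dec hJ
  -- `O i` is the set of the blocks which are moved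
  have key : ∃ i j : Fin 2, i ≠ j ∧ (∀ c, c ∈ O i ↔ ¬ J ≤ centralizer (N c : Set G)) := by
    have h1 : ∀ i j : Fin 2, i ≠ j → d ∈ O i → ∃ i j : Fin 2, i ≠ j ∧
        (∀ c, c ∈ O i ↔ ¬ J ≤ centralizer (N c : Set G)) := by
      intro i j hij hdi
      refine ⟨i, j, hij, fun c => ⟨fun hc h => hd (horb i c hc d hdi h), fun hc => ?_⟩⟩
      by_contra hci
      have hcj : c ∈ O j := (t.mem_or hij c).resolve_left hci
      have hbj : b ∈ O j := (t.mem_or hij b).resolve_left fun hbi => hd (horb i b hbi d hdi hb)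
      exact hc (horb j b hbj c hcj hb)
    rcases t.cov d with h | h
    · exact h1 0 1 (by decide) h
    · exact h1 1 0 (by decide) h
  obtain ⟨i, j, hij, hO⟩ := key
  have hinv : ∀ r ∈ R, ∀ b c, MulAut.conj r • N b = N c → (b ∈ O i ↔ c ∈ O i) := by
    intro r hr b c e
    rw [hO, hO, not_iff_not]
    refine ⟨cent_conj (hRJ hr) e, fun h => ?_⟩
    exact cent_conj (inv_mem (hRJ hr)) (t.dec.inv_smul_N e) h
  have hinvj : ∀ r ∈ R, ∀ b c, MulAut.conj r • N b = N c → (b ∈ O j ↔ c ∈ O j) := by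
    intro r hr b c e
    have h1 : ∀ b, b ∈ O j ↔ b ∉ O i := fun b =>
      ⟨fun h1 h2 => t.notMem hij h2 h1, fun h1 => (t.mem_or hij b).resolve_left h1⟩
    rw [h1, h1, not_iff_not]
    exact hinv r hr b c e
  intro r hr k
  rcases fin_ne hij with ⟨rfl, rfl⟩ | ⟨rfl, rfl⟩
  · rcases f2 k with rfl | rfl
    · exact fix_of_inv t (hRM hr) (hn hr) (hinv r hr)
    · exact fix_of_inv t (hRM hr) (hn hr) (hinvj r hr)
  · rcases f2 k with rfl | rfl
    · exact fix_of_inv t (hRM hr) (hn hr) (hinvj r hr)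
    · exact fix_of_inv t (hRM hr) (hn hr) (hinv r hr)

end mv

section best

variable [Finite G] {S V X A : Subgroup G}

/-- `A ∈ A(S)` is a best offender on every elementary abelian `V ≤ S` -/
theorem best_of_AA (hV : IsElementaryAbelian 2 V) (hVS : V ≤ S) (hA : A ∈ AA S) : Best V A where
  sq := fun a ha => by rw [elem_sq hA.1 a ha]; exact one_mem _
  comm := fun a ha b hb => by
    have h := elem_comm hA.1 a ha b hb
    have e : a * b * a⁻¹ * b⁻¹ = 1 := by rw [h]; group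
    rw [e]; exact one_mem _
  max := fun Y hY _ => by
    have hc : ∀ a ∈ Y, ∀ b ∈ V ⊓ centralizer (Y : Set G), a * b = b * a := fun a ha b hb =>
      mem_centralizer_iff.1 (mem_inf.1 hb).2 a ha
    have h1 : IsElementaryAbelian 2 (Y ⊔ (V ⊓ centralizer (Y : Set G)) : Subgroup G) :=
      isElementaryAbelian_sup (isElementaryAbelian_mono hA.1 hY) (isElementaryAbelian_mono hV inf_le_left)
        fun b hb => mem_centralizer_iff.2 fun a ha => hc a ha b hb
    have h2 := hA.2.2 _ h1 (sup_le (hY.trans hA.2.1) (inf_le_left.trans hVS))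
    have h3 := card_sup_comm hc
    have h4 : Nat.card ↥(Y ⊓ (V ⊓ centralizer (Y : Set G)) : Subgroup G) ≤ Nat.card ↥(V ⊓ centralizer (A : Set G)) := by
      refine Subgroup.card_le_of_le ?_
      rintro x ⟨hx1, hx2⟩
      exact ⟨hx2.1, mem_centralizer_iff.2 fun a ha => elem_comm hA.1 a ha x (hY hx1)⟩
    rw [← h3]
    exact Nat.mul_le_mul h2 h4

/-- a best offender on `X ≥ V` is a best offender on `V`, if there are no over-offenders on `V` -/
theorem best_sub (hb : Best X A) (hVX : V ≤ X) (hno : NoOverM V S) (hA : A ≤ S)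
    (hne : ¬ A ≤ centralizer (V : Set G)) : Best V A where
  toElemM := (hb.offM hVX hne).toElemM
  max := fun Y hY _ => by
    have h1 := hb.offM hVX hne
    have h2 := hno Y (hY.trans hA) ⟨fun a ha => h1.sq a (hY ha), fun a ha b hb => h1.comm a (hY ha) b (hY hb)⟩
    have h3 : Nat.card ↥(Y ⊓ centralizer (V : Set G) : Subgroup G) ≤ Nat.card ↥(A ⊓ centralizer (V : Set G) : Subgroup G) :=
      Subgroup.card_le_of_le (inf_le_inf_right _ hY)
    exact h2.trans ((Nat.mul_le_mul_left _ h3).trans h1.le)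

end best

section main

variable [Finite G] {S : Sylow 2 G} {I : Type u} [Finite I] {N E : I → Subgroup G} {Om : I → Type u}
  [∀ i, Fintype (Om i)] [∀ i, DecidableEq (Om i)] {phi : ∀ i, Finset (Om i) → G}

/-- Some level moves `V*`. -/
def LevMv (S : Subgroup G) : Prop :=
  (¬ jj S ≤ centralizer (Wd S : Set G)) ∨ ∃ K X, LevX S K X ∧ ¬ nxtX S X ≤ centralizer (Wd S : Set G)

/-- Best offenders of `S` on `V*` lie in `⨆ E b`. -/
def BestE (S : Subgroup G) (E : I → Subgroup G) : Prop :=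
  ∀ A : Subgroup G, A ≤ S → Best (Wd S) A → A ≤ ⨆ b, E b

theorem cS_le (hB : Bks S N E ⊥ Om phi) :
    (S : Subgroup G) ⊓ centralizer (Wd (S : Subgroup G) : Set G) ≤ ⨆ b, E b := by
  obtain ⟨b⟩ := hB.nonempty
  exact (inf_le_inf_right _ hB.SL).trans ((hB.CE b).trans (le_iSup E b))

theorem noOver (B : RB S) (hr : RZ.RR (S : Subgroup G) = ⊥) : NoOverM (Wd (S : Subgroup G)) (S : Subgroup G) := by
  obtain ⟨P, A, hg⟩ := exists_gOne_rr B hr
  intro A hA hE
  exact hg.no A (hA.trans (S_le_MZ B.ctx B.full)) hE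

theorem elem_Wd (B : RB S) : IsElementaryAbelian 2 (Wd (S : Subgroup G)) :=
  isElementaryAbelian_iff.2 ⟨wcomm B, fun x hx => by rw [pow_two]; exact wsq B x hx⟩

theorem jj_le_E (B : RB S) (hbest : BestE (S : Subgroup G) E) : jj (S : Subgroup G) ≤ ⨆ b, E b := by
  rw [ChoiceBase.jj_eq]
  exact sSup_le fun A hA => hbest A hA.2.1 (best_of_AA (elem_Wd B) (WS B) hA)

theorem nxtX_le_E (B : RB S) (hr : RZ.RR (S : Subgroup G) = ⊥) (hB : Bks S N E ⊥ Om phi) (hbest : BestE (S : Subgroup G) E) {X : Subgroup G}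
    (hX : Wd (S : Subgroup G) ≤ X) : nxtX (S : Subgroup G) X ≤ ⨆ b, E b := by
  refine sup_le ((inf_le_inf_left _ (centralizer_le hX)).trans (cS_le hB)) (sSup_le ?_)
  rintro A ⟨hA, hb⟩
  by_cases hne : A ≤ centralizer (Wd (S : Subgroup G) : Set G)
  · exact (le_inf hA hne).trans (cS_le hB)
  · exact hbest A hA (best_sub hb hX (noOver B hr) hA hne)

theorem levX_next {K X : Subgroup G} (h : LevX (S : Subgroup G) K X) : Lev (S : Subgroup G) (nxtX (S : Subgroup G) X) :=
  RLev.nextX h.toLev h.Xle h.Xn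

/-- **`S` transitive on the blocks: (J).** -/
theorem hypJ_trans (hB : Bks S N E ⊥ Om phi) (hlev : LevMv (S : Subgroup G))
    (htr : ∀ b c, ∃ s ∈ (S : Subgroup G), MulAut.conj s • N b = N c) : HypJ (S : Subgroup G) N := by
  rcases hlev with h | ⟨K, X, h1, h2⟩
  · exact Or.inl fun b => mv_trans hB.toDec (Lev.zero _).S_norm h htr b
  · exact Or.inr ⟨K, X, h1, fun b => mv_trans hB.toDec (levX_next h1).S_norm h2 htr b⟩

/-- a level in `⨆ E b` is normalised by the (K2) in `P*(S)` -/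
theorem norm_k2 {J R : Subgroup G} (hJ : Lev (S : Subgroup G) J) (hJE : J ≤ ⨆ b, E b)
    (hR : IsParS (S : Subgroup G) R)
    (hn : R ≤ normalizer (((S : Subgroup G) ⊓ ⨆ b, E b : Subgroup G) : Set G)) : R ≤ normalizer (J : Set G) := by
  refine hJ.le_norm_of_o2 ((le_inf hJ.le hJE).trans ?_) (hR.isLoc.o2_le S)
  exact MinSimple.VModule.le_o2 (inf_le_left.trans hR.le) (S.isPGroup'.to_le inf_le_left) hn

/-- **LEMMA HJ: no (K2) if (J) fails.** -/
theorem noK2 (h : Four S) (hB : Bks S N E ⊥ Om phi) (hlev : LevMv (S : Subgroup G))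
    (hbest : BestE (S : Subgroup G) E) (hj : ¬ HypJ (S : Subgroup G) N) :
    ∀ R, IsParS (S : Subgroup G) R → ¬ R ≤ normalizer (((S : Subgroup G) ⊓ ⨆ b, E b : Subgroup G) : Set G) := by
  intro R hR hn
  rcases cases_bks h hB with ⟨-, z, O, v, t⟩ | ⟨h1, -⟩ | ⟨-, htr⟩
  · apply hj
    have hmv : ¬ ∀ r ∈ R, ∀ i, r * v i * r⁻¹ = v i := by
      intro hfix
      apply hR.not_zc
      have hc : ∀ i, R ≤ centralizer ({v i} : Set G) := fun i => TwoO.le_cent_iff.2 fun r hr => hfix r hr i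
      refine le_trans ?_ (centralizer_le_normalizer _)
      intro r hr
      refine mem_centralizer_iff.2 fun x hx => ?_
      have h0 := mem_centralizer_singleton_iff.1 (hc 0 hr)
      have h1 := mem_centralizer_singleton_iff.1 (hc 1 hr)
      rcases (t.zS h.toRB x).1 hx with rfl | rfl | rfl | rfl
      · simp
      · exact h0.symm
      · exact h1.symm
      · calc v 0 * v 1 * r = v 0 * (v 1 * r) := by group
          _ = (v 0 * r) * v 1 := by rw [← h1]; group
          _ = r * (v 0 * v 1) := by rw [← h0]; group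
    rcases hlev with h1 | ⟨K, X, h1, h2⟩
    · have hJ := Lev.zero (S : Subgroup G)
      exact Or.inl fun b => mv_two t hJ.S_norm h1 (le_MZ hR) (norm_k2 hJ (jj_le_E h.toRB hbest) hR hn) hn hmv b
    · have hJ := levX_next h1
      exact Or.inr ⟨K, X, h1, fun b => mv_two t hJ.S_norm h2 (le_MZ hR)
        (norm_k2 hJ (nxtX_le_E h.toRB h.rr hB hbest h1.VX) hR hn) hn hmv b⟩
  · exact h1 rfl
  · exact hj (hypJ_trans hB hlev htr)

end main

end Cfsg.Agent.Omega.NOThreeL.RRed.FourNoK2
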