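import Cfsg.Agent.Omega.NOThreeL.RRed.WideTree

/-!
# NO-3L, box R: `FourOf` and `WideAll` from ONE theorem over `Wide S`

`Wide S` (RRed/WideTree) covers the hypotheses of `WideAll` (some `|Z : C_Z(P)| ≥ 4`) and those of `FourOf` (`|Z| = 4`,
some `|V_P| ≠ 8`).

* `All K B` : everything over `Wide S`;
* **`four_of : All K B → FourOf K B`**, **`wide_of : All K B → WideAll K B`**;
* `fourFld_of` : the socket `FourTree.FourFld`.
-/

set_option autoImplicit false
set_option linter.unusedSectionVars false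

namespace Cfsg.Agent.Omega.NOThreeL.RRed.WideTree

open Subgroup Cfsg Cfsg.Agent.ZN Cfsg.Agent.Omega.MinPar Cfsg.Agent.Omega.Frame Cfsg.Agent.Omega.FrameNOFF
open Cfsg.Agent.Omega.Node.NO3L Cfsg.Agent.Omega.NOThreeL.Basic Cfsg.Agent.Omega.NOThreeL.RTree
open Cfsg.Agent.Omega.NOThreeL.RTreeF
open Cfsg.Agent.Omega.NOThreeL.RRed.GlueSig

universe u

variable {K : Cls.{u}} {B : Fr.{u}}

/-- **`FourOf` from the theorem over `Wide S`.** -/
theorem four_of (hb : ∀ (G : Type u) [Group G] [Finite G] (S : Sylow 2 G), B G S → RB S)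
    (all : ∀ (G : Type u) [Group G] [Finite G], K G → ∀ (S : Sylow 2 G), B G S → Wide S → IsKnownSimple' G) :
    FourOf K B :=
  fun G _ _ hK S hB hr _ hz hn _ => all G hK S hB { toRB := hb G S hB, rr := hr, wd := Or.inr ⟨hz, hn⟩ }

/-- **`WideAll` from the theorem over `Wide S`.** -/
theorem wide_of (hb : ∀ (G : Type u) [Group G] [Finite G] (S : Sylow 2 G), B G S → RB S)
    (all : ∀ (G : Type u) [Group G] [Finite G], K G → ∀ (S : Sylow 2 G), B G S → Wide S → IsKnownSimple' G) :
    WideAll K B :=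
  fun G _ _ hK S hB hr hwd => all G hK S hB { toRB := hb G S hB, rr := hr, wd := Or.inl hwd }

/-- the four sockets of `FourTree` -/
theorem fourFld_of
    (all : ∀ (G : Type u) [Group G] [Finite G], K G → ∀ (S : Sylow 2 G), B G S → Wide S → IsKnownSimple' G) :
    FourTree.FourFld K B :=
  fun G _ _ hK S hB h4 _ => all G hK S hB { toRB := h4.toRB, rr := h4.rr, wd := Or.inr ⟨h4.z4, h4.n8⟩ }

end Cfsg.Agent.Omega.NOThreeL.RRed.WideTree
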