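import Cfsg.Agent.Omega.NOThreeL.RRed.FourTree
import Cfsg.Agent.Omega.NOThreeL.RRed.Blk.OneOf

/-!
# NO-3L, box R, the socket `FourOf`: the rank count (L2)

* `exists_ctr_of_card` : `n = 2 ^ m + 1` letters: a Sylow 2-subgroup fixes one letter and is transitive on the others;
* `card_le_two` : `R₀ = 1`, `S` transitive on the blocks, `n = 2 ^ m + 1`: `|C_V(S)| ≤ 2`;
* **`three_le`** : `R₀ = 1`, `|C_V(S)| = 4`, not two blocks of three letters: there are at least three pairs of letters;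
* `hypJ_of_tran` : `S` transitive on the blocks and one block is moved at some level: `HypJ`.
-/

set_option autoImplicit false
set_option linter.unusedSectionVars false

namespace Cfsg.Agent.Omega.NOThreeL.RRed.FourRank

open Subgroup Cfsg Cfsg.Agent.ZN Cfsg.Agent.Omega.MinPar
open Cfsg.Agent.Omega.KL.TwoS (Rel Lett even_symmDiff)
open Cfsg.Agent.Omega.NOThreeL.Merge (MZ le_MZ S_le_MZ)
open Cfsg.Agent.Omega.NOThreeL.RRed.Blk
open Cfsg.Agent.Omega.NOThreeL.RRed.FourTree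
open Cfsg.Agent.Omega.NO1.BestOff (Best)
open scoped Pointwise

universe u w

section perm

variable {Ω : Type w} [Fintype Ω] [DecidableEq Ω]

/-- a permutation of order `2 ^ m` which fixes `p` only and is transitive on the other `2 ^ m` letters -/
theorem exists_cyc {m : ℕ} (hm : 1 ≤ m) (hc : Fintype.card Ω = 2 ^ m + 1) (p : Ω) :
    ∃ σ : Equiv.Perm Ω, σ ^ 2 ^ m = 1 ∧ (∀ a, σ a = a ↔ a = p) ∧ ∀ a b, a ≠ p → b ≠ p → ∃ k : ℕ, (σ ^ k) a = b := by
  have h2 : 1 < 2 ^ m := Nat.one_lt_two_pow (by omega)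
  have hne : NeZero (2 ^ m) := ⟨by omega⟩
  have hcard : Fintype.card {x : Ω // x ≠ p} = Fintype.card (ZMod (2 ^ m)) := by
    rw [Fintype.card_subtype_compl, Fintype.card_subtype_eq, hc, ZMod.card]
    omega
  let e : {x : Ω // x ≠ p} ≃ ZMod (2 ^ m) := Fintype.equivOfCardEq hcard
  let f : Equiv.Perm {x : Ω // x ≠ p} := e.trans ((Equiv.addRight (1 : ZMod (2 ^ m))).trans e.symm)
  have hf1 : ∀ x, f x = e.symm (e x + 1) := fun x => rfl
  have hf : ∀ (k : ℕ) (x), (f ^ k) x = e.symm (e x + (k : ZMod (2 ^ m))) := by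
    intro k
    induction k with
    | zero => intro x; simp
    | succ k ih =>
      intro x
      rw [pow_succ', Equiv.Perm.mul_apply, ih, hf1, Equiv.apply_symm_apply]
      congr 1
      push_cast
      ring
  have h0 : Fact (1 < 2 ^ m) := ⟨h2⟩
  have key : ∀ (k : ℕ) (a) (ha : a ≠ p), ((Equiv.Perm.ofSubtype f) ^ k) a = ((f ^ k) ⟨a, ha⟩ : Ω) := by
    intro k a ha
    rw [← map_pow, Equiv.Perm.ofSubtype_apply_of_mem (f ^ k) ha]
  have keyp : ∀ (k : ℕ), ((Equiv.Perm.ofSubtype f) ^ k) p = p := by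
    intro k
    rw [← map_pow, Equiv.Perm.ofSubtype_apply_of_not_mem (f ^ k) (by simp)]
  refine ⟨Equiv.Perm.ofSubtype f, ?_, ?_, ?_⟩
  · ext a
    rw [Equiv.Perm.one_apply]
    by_cases ha : a = p
    · rw [ha, keyp]
    · rw [key _ a ha, hf, ZMod.natCast_self, add_zero, Equiv.symm_apply_apply]
  · intro a
    constructor
    · intro h
      by_contra ha
      have h1 := key 1 a ha
      rw [pow_one, pow_one, h, hf1] at h1
      have h3 : (⟨a, ha⟩ : {x : Ω // x ≠ p}) = e.symm (e ⟨a, ha⟩ + 1) := Subtype.ext h1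
      have h4 := congrArg e h3
      rw [Equiv.apply_symm_apply, left_eq_add] at h4
      exact one_ne_zero h4
    · rintro rfl
      have := keyp 1
      rwa [pow_one] at this
  · intro a b ha hb
    refine ⟨(e ⟨b, hb⟩ - e ⟨a, ha⟩).val, ?_⟩
    rw [key _ a ha, hf, ZMod.natCast_zmod_val, add_sub_cancel, Equiv.symm_apply_apply]

end perm

section letters

variable {G : Type u} [Group G] {Ω : Type w} [Fintype Ω] [DecidableEq Ω] {V R T : Subgroup G} {φ : Finset Ω → G}

/-- a permutation of order `2 ^ m` is induced by a 2-element -/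
theorem exists_two_of [Finite G] {r : G} {σ : Equiv.Perm Ω} {m : ℕ} (hr : Rel φ r σ) (hσ : σ ^ 2 ^ m = 1) :
    ∃ r' ∈ zpowers r, IsPGroup 2 (zpowers r') ∧ Rel φ r' σ := by
  obtain ⟨k, n, hn, hrn⟩ := Nat.exists_eq_two_pow_mul_odd (orderOf_pos r).ne'
  have hcop : Nat.Coprime n (2 ^ m) := Nat.Coprime.pow_right m (Nat.coprime_two_right.2 hn)
  obtain ⟨j, hj⟩ : ∃ j : ℕ, σ ^ (n * j) = σ := by
    rcases Nat.eq_zero_or_pos m with rfl | hm
    · rw [pow_zero, pow_one] at hσ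
      exact ⟨0, by rw [hσ, one_pow]⟩
    · obtain ⟨j, -, hj⟩ := Nat.exists_mul_mod_eq_one_of_coprime hcop (Nat.one_lt_two_pow (by omega))
      refine ⟨j, ?_⟩
      rw [← Nat.div_add_mod (n * j) (2 ^ m), hj, pow_add, pow_mul, hσ, one_pow, one_mul, pow_one]
  refine ⟨(r ^ n) ^ j, pow_mem (pow_mem (mem_zpowers r) n) j, ?_, ?_⟩
  · intro x
    refine ⟨k, ?_⟩
    obtain ⟨x, hx⟩ := x
    obtain ⟨i, rfl⟩ := mem_zpowers_iff.1 hx
    apply Subtype.ext
    show (((r ^ n) ^ j) ^ i) ^ 2 ^ k = 1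
    have h1 : ((r ^ n) ^ j) ^ 2 ^ k = 1 := by
      rw [← pow_mul, ← pow_mul, show n * (j * 2 ^ k) = (2 ^ k * n) * j by ring, ← hrn, pow_mul, pow_orderOf_eq_one,
        one_pow]
    rw [← zpow_natCast, ← zpow_mul, mul_comm i, zpow_mul, zpow_natCast, h1, one_zpow]
  · have h1 := (hr.pow n).pow j
    rwa [← pow_mul σ, hj] at h1

variable (L : Lett V R φ) (h3 : 3 ≤ Fintype.card Ω)

include L h3

/-- `n = 2 ^ m + 1`: `T` fixes a letter and is transitive on the others -/
theorem exists_ctr_of_card [Finite G] {m : ℕ} (hm : 1 ≤ m) (hc : Fintype.card Ω = 2 ^ m + 1) (hTR : T ≤ R)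
    (hT : IsPGroup 2 T) (hsyl : ∀ Q : Subgroup G, Q ≤ R → IsPGroup 2 Q → ∃ e ∈ R, ∀ q ∈ Q, e * q * e⁻¹ ∈ T) :
    ∃ p, Ctr T φ p := by
  obtain ⟨p, hp⟩ := exists_fix L h3 hTR hT
  obtain ⟨p0⟩ : Nonempty Ω := Fintype.card_pos_iff.1 (by omega)
  obtain ⟨σ, h1, h2, h4⟩ := exists_cyc hm hc p0
  obtain ⟨r, hr, hrel⟩ := L.all σ
  obtain ⟨r', hr', hp2, hrel'⟩ := exists_two_of hrel h1
  have hle : zpowers r' ≤ R := by
    rw [zpowers_le]
    exact (zpowers_le.2 hr) hr'
  obtain ⟨e, he, h5⟩ := hsyl _ hle hp2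
  obtain ⟨τ, hτ⟩ := L.act e he
  have ht : e * r' * e⁻¹ ∈ T := h5 r' (mem_zpowers r')
  have hrt : Rel φ (e * r' * e⁻¹) (τ * σ * τ⁻¹) := (hτ.mul hrel').mul hτ.inv
  have h6 : (τ * σ * τ⁻¹) p = p := hp _ ht _ hrt
  have h7 : τ⁻¹ p = p0 := by
    rw [← h2]
    have h8 : τ (σ (τ⁻¹ p)) = p := h6
    rw [Equiv.Perm.eq_inv_iff_eq]
    exact h8
  refine ⟨p, hp, fun a b ha hb => ?_⟩
  have hne : ∀ c, c ≠ p → τ⁻¹ c ≠ p0 := by
    intro c hc' h
    exact hc' ((τ⁻¹).injective (h.trans h7.symm))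
  obtain ⟨k, hk⟩ := h4 (τ⁻¹ a) (τ⁻¹ b) (hne a ha) (hne b hb)
  refine ⟨(e * r' * e⁻¹) ^ k, pow_mem ht k, (τ * σ * τ⁻¹) ^ k, hrt.pow k, ?_⟩
  rw [conj_pow, Equiv.Perm.mul_apply, Equiv.Perm.mul_apply, hk]
  exact τ.apply_symm_apply b

omit h3 in
/-- then `C_V(T) ≤ {1, z}` -/
theorem fix_of_ctr {p : Ω} (hc : Ctr T φ p) {x : G} (hx : x ∈ V) (hf : ∀ t ∈ T, t * x * t⁻¹ = x) :
    x = 1 ∨ x = φ (Finset.univ.erase p) := by
  obtain ⟨s, hs, rfl⟩ := (L.mem x).1 hx
  have hmap : ∀ t ∈ T, ∀ σ : Equiv.Perm Ω, Rel φ t σ → s.map σ.toEmbedding = s := by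
    intro t ht σ hσ
    apply L.phi_inj (by rwa [Finset.card_map]) hs
    rw [← hσ s hs, hf t ht]
  by_cases h : ∃ a ∈ s, a ≠ p
  · right
    obtain ⟨a, ha, hap⟩ := h
    have h1 : ∀ b, b ≠ p → b ∈ s := by
      intro b hb
      obtain ⟨t, ht, σ, hσ, rfl⟩ := hc.tran a b hap hb
      rw [← hmap t ht σ hσ]
      exact Finset.mem_map_of_mem _ ha
    congr 1
    ext b
    rw [Finset.mem_erase]
    refine ⟨fun hb => ⟨?_, Finset.mem_univ b⟩, fun hb => h1 b hb.1⟩
    rintro rfl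
    have h2 : s = Finset.univ := by
      rw [Finset.eq_univ_iff_forall]
      intro c
      by_cases hcb : c = b
      · rw [hcb]; exact hb
      · exact h1 c hcb
    rw [h2, Finset.card_univ] at hs
    exact (Nat.not_even_iff_odd.2 L.odd) hs
  · left
    push Not at h
    have h1 : s.card ≤ 1 := Finset.card_le_one.2 fun a ha b hb => (h a ha).trans (h b hb).symm
    have h2 : s.card = 0 := by
      obtain ⟨k, hk⟩ := hs
      omega
    rw [Finset.card_eq_zero.1 h2, L.phi_empty]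

end letters

section full

variable {G : Type u} [Group G] [Finite G] {S : Sylow 2 G} {M V : Subgroup G} {I : Type u} {N E : I → Subgroup G}
  {R₀ : Subgroup G} {Om : I → Type u} [∀ i, Fintype (Om i)] [∀ i, DecidableEq (Om i)] {phi : ∀ i, Finset (Om i) → G}

/-- a block with `2 ^ m + 1` letters has at most one vector `≠ 1` fixed by `S ∩ E b` -/
theorem exists_z (F : TvFin.Full (S : Subgroup G) M V N E R₀ Om phi) {b : I} {m : ℕ} (hm : 1 ≤ m)
    (hc : Fintype.card (Om b) = 2 ^ m + 1) :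
    ∃ z : G, ∀ x ∈ N b, (∀ s ∈ (S : Subgroup G) ⊓ E b, s * x * s⁻¹ = x) → x = 1 ∨ x = z := by
  have hD := F.toDec
  obtain ⟨p, hp⟩ := exists_ctr_of_card (F.lett b) (F.three b) hm hc (T := (S : Subgroup G) ⊓ E b) inf_le_right
    (S.isPGroup'.to_le inf_le_left) fun Q hQ h2 =>
      exists_conj_sub S hD.SL (iSup_le hD.EL) hD.iSup_normal (le_iSup E b) (hD.E_normal b) hQ h2
  exact ⟨_, fun x hx hf => fix_of_ctr (F.lett b) hp hx hf⟩

variable [Finite I]

/-- `S` transitive on the blocks, `2 ^ m + 1` letters: `|C_V(S)| ≤ 2` -/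
theorem card_le_two (F : TvFin.Full (S : Subgroup G) M V N E ⊥ Om phi) {b : I} {m : ℕ} (hm : 1 ≤ m)
    (hc : Fintype.card (Om b) = 2 ^ m + 1)
    (ht : ∀ c, ∃ s ∈ (S : Subgroup G), MulAut.conj s • N c = N b) :
    Nat.card (V ⊓ centralizer ((S : Subgroup G) : Set G) : Subgroup G) ≤ 2 := by
  classical
  have hD := F.toDec
  obtain ⟨z, hz⟩ := exists_z F hm hc
  have hV : V = ⨆ c, N c := by rw [← hD.sup, sup_bot_eq]
  have hfix : ∀ x ∈ V ⊓ centralizer ((S : Subgroup G) : Set G), ∀ s ∈ (S : Subgroup G), s * x * s⁻¹ = x := by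
    intro x hx s hs
    rw [mem_centralizer_iff.1 hx.2 s hs, mul_inv_cancel_right]
  -- the component
  choose f hf using fun x : (V ⊓ centralizer ((S : Subgroup G) : Set G) : Subgroup G) => hD.ex_comp b x.2.1
  have hfS : ∀ x, ∀ s ∈ (S : Subgroup G), MulAut.conj s • N b = N b → s * f x * s⁻¹ = f x := by
    intro x s hs hsb
    have h1 := hD.comp_conj (hD.SL hs) hsb (hf x)
    rw [hfix _ x.2 s hs] at h1
    exact hD.uniq h1 (hf x)
  have hf2 : ∀ x, f x = 1 ∨ f x = z := fun x => hz _ (hf x).1 fun s hs => hfS x s hs.1 (smul_of_mem (hD.EN b hs.2))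
  have hinj : Function.Injective f := by
    intro x y hxy
    apply Subtype.ext
    have hxV := x.2.1
    have hyV := y.2.1
    apply hD.ext (by rw [← hV]; exact hxV) (by rw [← hV]; exact hyV)
    intro c
    obtain ⟨n, hn⟩ := hD.ex_comp c hxV
    obtain ⟨n', hn'⟩ := hD.ex_comp c hyV
    obtain ⟨s, hs, hsc⟩ := ht c
    have h1 := hD.comp_conj (hD.SL hs) hsc hn
    have h2 := hD.comp_conj (hD.SL hs) hsc hn'
    rw [hfix _ x.2 s hs] at h1
    rw [hfix _ y.2 s hs] at h2
    have h3 := hD.uniq h1 (hf x)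
    have h4 := hD.uniq h2 (hf y)
    have h5 : n = n' := by
      have h6 : s * n * s⁻¹ = s * n' * s⁻¹ := by rw [h3, h4, hxy]
      exact mul_left_cancel (mul_right_cancel h6)
    exact ⟨n, hn, by rw [h5]; exact hn'⟩
  have h6 : Function.Injective fun x => decide (f x = 1) := by
    intro x y hxy
    apply hinj
    have h7 : (f x = 1) ↔ (f y = 1) := by simpa using hxy
    rcases hf2 x with h | h
    · rw [h, h7.1 h]
    · rcases hf2 y with h' | h'
      · rw [h', h7.2 h']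
      · rw [h, h']
  calc Nat.card (V ⊓ centralizer ((S : Subgroup G) : Set G) : Subgroup G) ≤ Nat.card Bool :=
        Nat.card_le_card_of_injective _ h6
    _ = 2 := by simp

end full

section count

variable {G : Type u} [Group G] [Finite G] {S : Sylow 2 G} {M V : Subgroup G} {I : Type u} [Fintype I]
  {N E : I → Subgroup G} {Om : I → Type u} [∀ i, Fintype (Om i)] [∀ i, DecidableEq (Om i)]
  {phi : ∀ i, Finset (Om i) → G}

/-- **The rank count.** `|C_V(S)| = 4`, not two blocks of three letters: at least three pairs of letters. -/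
theorem three_le (F : TvFin.Full (S : Subgroup G) M V N E ⊥ Om phi)
    (h4 : 4 ≤ Nat.card (V ⊓ centralizer ((S : Subgroup G) : Set G) : Subgroup G))
    (h2 : ¬ (Fintype.card I = 2 ∧ ∀ b, Fintype.card (Om b) = 3)) :
    3 ≤ ∑ b, (Fintype.card (Om b) - 1) / 2 := by
  classical
  by_contra hlt
  push Not at hlt
  have hD := F.toDec
  have h1 : ∀ b, 1 ≤ (Fintype.card (Om b) - 1) / 2 := by
    intro b
    have := F.three b
    omega
  have h3 : Fintype.card I ≤ ∑ b, (Fintype.card (Om b) - 1) / 2 := by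
    calc Fintype.card I = ∑ _b : I, 1 := by simp
      _ ≤ _ := Finset.sum_le_sum fun b _ => h1 b
  have hle : ∀ b, (Fintype.card (Om b) - 1) / 2 ≤ ∑ b, (Fintype.card (Om b) - 1) / 2 := fun b =>
    Finset.single_le_sum (f := fun b => (Fintype.card (Om b) - 1) / 2) (fun _ _ => Nat.zero_le _) (Finset.mem_univ b)
  have hcI : Fintype.card I = 0 ∨ Fintype.card I = 1 ∨ Fintype.card I = 2 := by omega
  rcases hcI with hI | hI | hI
  · have hE : IsEmpty I := Fintype.card_eq_zero_iff.1 hI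
    have hV : V = ⊥ := by rw [← hD.sup, sup_bot_eq, iSup_of_empty]
    rw [hV, bot_inf_eq, card_bot] at h4
    omega
  · obtain ⟨b, hb⟩ := Fintype.card_eq_one_iff.1 hI
    have h5 := hle b
    have h6 := F.three b
    have h7 := (F.lett b).odd
    obtain ⟨k, hk⟩ := h7
    have h8 : Fintype.card (Om b) = 2 ^ 1 + 1 ∨ Fintype.card (Om b) = 2 ^ 2 + 1 := by
      norm_num
      omega
    have ht : ∀ c, ∃ s ∈ (S : Subgroup G), MulAut.conj s • N c = N b := by
      intro c
      refine ⟨1, one_mem _, ?_⟩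
      rw [hb c, map_one, one_smul]
    rcases h8 with h8 | h8
    · have := card_le_two F le_rfl h8 ht
      omega
    · have := card_le_two F (by norm_num : 1 ≤ 2) h8 ht
      omega
  · apply h2
    refine ⟨hI, fun b => ?_⟩
    have h5 := F.three b
    have h6 : ∑ c ∈ Finset.univ.erase b, (Fintype.card (Om c) - 1) / 2 + (Fintype.card (Om b) - 1) / 2 =
        ∑ c, (Fintype.card (Om c) - 1) / 2 := Finset.sum_erase_add _ _ (Finset.mem_univ b)
    have h7 : 1 ≤ ∑ c ∈ Finset.univ.erase b, (Fintype.card (Om c) - 1) / 2 := by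
      have h8 : (Finset.univ.erase b).card = 1 := by
        rw [Finset.card_erase_of_mem (Finset.mem_univ b), Finset.card_univ, hI]
      calc 1 = ∑ _c ∈ Finset.univ.erase b, 1 := by simp [h8]
        _ ≤ _ := Finset.sum_le_sum fun c _ => h1 c
    obtain ⟨k, hk⟩ := (F.lett b).odd
    omega

end count

section tree

variable {G : Type u} [Group G] [Finite G] {S : Sylow 2 G} {I : Type u} {N E : I → Subgroup G}
  {Om : I → Type u} [∀ i, Fintype (Om i)] [∀ i, DecidableEq (Om i)] {phi : ∀ i, Finset (Om i) → G}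

/-- `|Z| = 4`: at least three pairs of letters, or two blocks of three letters. -/
theorem three_le_four [Fintype I] (h : Four S) (hB : Bks S N E ⊥ Om phi)
    (h2 : ¬ (Fintype.card I = 2 ∧ ∀ b, Fintype.card (Om b) = 3)) :
    3 ≤ ∑ b, (Fintype.card (Om b) - 1) / 2 := by
  refine three_le hB.toFull ?_ h2
  rw [← h.z4]
  refine Subgroup.card_le_of_le (le_inf (MinSimple.VModule.zc_le_zl _ _) ?_)
  exact fun z hz => mem_centralizer_iff.2 fun s hs => (MinSimple.VModule.mem_zc.1 hz).2.1 s hs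

/-- a subgroup which is normal in `S` moves all blocks of an `S`-orbit or none -/
theorem moves_of_tran (ht : ∀ b c, ∃ s ∈ (S : Subgroup G), MulAut.conj s • N b = N c) {J : Subgroup G}
    (hJ : (S : Subgroup G) ≤ normalizer (J : Set G)) {b : I} (hb : ¬ J ≤ centralizer (N b : Set G)) (c : I) :
    ¬ J ≤ centralizer (N c : Set G) := by
  intro hc
  apply hb
  obtain ⟨s, hs, hsb⟩ := ht b c
  intro j hj
  rw [mem_centralizer_iff]
  intro x hx
  have h1 : s * x * s⁻¹ ∈ N c := (conj_smul hsb).1 hx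
  have h2 : s * j * s⁻¹ ∈ J := (mem_normalizer_iff.1 (hJ hs) j).1 hj
  have h3 := mem_centralizer_iff.1 (hc h2) _ h1
  have h4 : s * (x * j) * s⁻¹ = s * (j * x) * s⁻¹ := by
    calc s * (x * j) * s⁻¹ = (s * x * s⁻¹) * (s * j * s⁻¹) := by group
      _ = (s * j * s⁻¹) * (s * x * s⁻¹) := h3
      _ = _ := by group
  exact mul_left_cancel (mul_right_cancel h4)

end tree

end Cfsg.Agent.Omega.NOThreeL.RRed.FourRank
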