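import Cfsg.Agent.Omega.NOThreeL.RRed.FourTree
import Cfsg.Agent.Omega.NOThreeL.RRed.AtomTv
import Cfsg.Agent.Omega.NOThreeL.RRed.ClassMod
import Cfsg.Agent.Omega.NOThreeL.RRed.EOneDef

/-!
# NO-3L, box R: the socket `FourRest` (`R₀ ≠ 1`) of `FourTree`

`EA1 S` = the group generated by the `MZ S`-conjugates of the minimal exact offenders of `S` on `V* = Wd S`.

* `atom_cent` : without `P` of type `q ≥ 4` the minimal exact offenders in `MZ S` centralise `R₀`;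
* `rest_ne` : if `R₀ ≠ 1`, then `Z ∩ C(EA1 S) ≠ 1`;
* **`fourRest_of`** : `FourRest K B`, if `B G S` implies `Z ∩ C(EA1 S) = 1`;
* **`fourRest_of_e1s`** : the same with `EOne.E1S S`.
-/

set_option autoImplicit false
set_option linter.unusedSectionVars false

namespace Cfsg.Agent.Omega.NOThreeL.RRed.FourTree

open Subgroup Cfsg Cfsg.Agent.ZN Cfsg.Agent.Omega.MinPar Cfsg.Agent.Omega.Frame Cfsg.Agent.Omega.FrameNOFF
open Cfsg.Agent.Omega.Node.NO3L Cfsg.Agent.Omega.NOThreeL.Basic Cfsg.Agent.Omega.NOThreeL.RTree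
open Cfsg.Agent.Omega.NOThreeL.RTreeF Cfsg.Agent.Omega.NOThreeL.RRed.CM
open Cfsg.Agent.Omega.NOThreeL.Merge (MZ le_MZ S_le_MZ isLoc_MZ zl_MZ_comm zl_MZ_isPGroup)

universe u

variable {G : Type u} [Group G]

/-- `⟨minimal exact offenders of S on V*⟩^Y` -/
def EA1 (S : Subgroup G) : Subgroup G := NoFF.Basic.V (sSup {A | A ≤ S ∧ Mx (Wd S) A}) (MZ S)

variable [Finite G] {S : Sylow 2 G} {I : Type u} {N E : I → Subgroup G} {R₀ : Subgroup G} {Om : I → Type u}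
  [∀ i, Fintype (Om i)] [∀ i, DecidableEq (Om i)] {phi : ∀ i, Finset (Om i) → G}

theorem atom_cent (h : RB S) (hF : ¬ Fld S) (hB : Bks S N E R₀ Om phi) {A : Subgroup G}
    (hA : A ≤ MZ (S : Subgroup G)) (hm : Mx (Wd (S : Subgroup G)) A) : A ≤ centralizer (R₀ : Set G) :=
  AtomTv.mx_cent h.ctx.char2 (isLoc_MZ h.ctx h.full h.data.noff) (gen_MZ S) hF hB.toFull hA hm

/-- `EA1 S` centralises `R₀`. -/
theorem EA1_cent (h : RB S) (hF : ¬ Fld S) (hB : Bks S N E R₀ Om phi) :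
    EA1 (S : Subgroup G) ≤ centralizer (R₀ : Set G) := by
  refine cent_cl (sSup_le ?_) hB.toFull.toDec.Rnor
  rintro A ⟨hA, hm⟩
  exact atom_cent h hF hB (hA.trans (S_le_MZ h.ctx h.full)) hm

theorem exists_z (h : RB S) (hB : Bks S N E R₀ Om phi) (hR : R₀ ≠ ⊥) :
    ∃ z ∈ R₀, z ∈ zc (S : Subgroup G) ∧ z ≠ 1 := by
  have hf : Fact (Nat.Prime 2) := ⟨Nat.prime_two⟩
  have hRV := hB.toFull.toDec.RU
  have hRS : R₀ ≤ (S : Subgroup G) := hRV.trans (le_of_le_normalizer S (zl_MZ_isPGroup h.ctx h.data.noff)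
    ((S_le_MZ h.ctx h.full).trans (MinSimple.VModule.le_normalizer_zl _ _)))
  have hsq : ∀ v ∈ R₀, v ^ 2 = 1 := fun v hv => zl_MZ_sq h.ctx.char2 h.data.noff v (hRV hv)
  have h1 := PLocal.OffenderStep.inf_centralizer_ne_bot R₀ (S : Subgroup G) (isPGroup_of_sq hsq) S.isPGroup'
    ((S_le_MZ h.ctx h.full).trans hB.toFull.toDec.Rnor) hR
  obtain ⟨c, hc1⟩ := Subgroup.ne_bot_iff_exists_ne_one.1 h1
  refine ⟨c, c.2.1, MinSimple.VModule.mem_zc.2 ⟨hRS c.2.1, fun s hs => ?_, hsq c c.2.1⟩,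
    fun h0 => hc1 (Subtype.ext h0)⟩
  exact mem_centralizer_iff.1 c.2.2 s hs

/-- **`R₀ ≠ 1`: `Z ∩ C(EA1 S) ≠ 1`.** -/
theorem rest_ne (h : RB S) (hF : ¬ Fld S) (hB : Bks S N E R₀ Om phi) (hR : R₀ ≠ ⊥) :
    zc (S : Subgroup G) ⊓ centralizer (EA1 (S : Subgroup G) : Set G) ≠ ⊥ := by
  obtain ⟨z, hz, hzc, hz1⟩ := exists_z h hB hR
  intro h0
  have h1 : z ∈ zc (S : Subgroup G) ⊓ centralizer (EA1 (S : Subgroup G) : Set G) :=
    ⟨hzc, (le_centralizer_iff.1 (EA1_cent h hF hB)) hz⟩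
  rw [h0, mem_bot] at h1
  exact hz1 h1

/-- **`FourRest`.** -/
theorem fourRest_of {K : Cls.{u}} {B : GlueSig.Fr.{u}}
    (he : ∀ (G : Type u) [Group G] [Finite G] (S : Sylow 2 G), B G S →
      zc (S : Subgroup G) ⊓ centralizer (EA1 (S : Subgroup G) : Set G) = ⊥) : FourRest K B :=
  fun _G _ _ _ S hBS h hF _ _ _ _ _ _ _ _ _ _ hB hR =>
    absurd (he _ S hBS) (rest_ne h.toRB hF hB hR)

/-- `EA1 S = E1 S` -/
theorem EA1_eq (S : Subgroup G) : EA1 S = EOne.E1 S := rfl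

/-- `Bks` with `C_Z(E₁) = 1`: `R₀ = 1`. -/
theorem rest_bot (h : RB S) (hF : ¬ Fld S) (he : EOne.E1S (S : Subgroup G)) (hB : Bks S N E R₀ Om phi) : R₀ = ⊥ := by
  by_contra hR
  exact rest_ne h hF hB hR he

/-- **`FourRest` from `E1S`.** -/
theorem fourRest_of_e1s {K : Cls.{u}} {B : GlueSig.Fr.{u}}
    (he : ∀ (G : Type u) [Group G] [Finite G] (S : Sylow 2 G), B G S → EOne.E1S (S : Subgroup G)) : FourRest K B :=
  fourRest_of he

end Cfsg.Agent.Omega.NOThreeL.RRed.FourTree
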