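import Cfsg.Agent.Omega.NOThreeL.RRed.InstS
import Cfsg.Agent.Omega.KL.TwoS.Sn
import Cfsg.Agent.Omega.NO3S.EMany.LowExt

/-!
# NO-3L, box R, `|Z| = 4`, two orbits of blocks, no K2

* `TwoV.false_of_sysE` : `TwoS.Fr` gives a `SysE`: contradiction by EXT;
* **`TwoV.false_of_lett`** : one of the two modules `V i` is the even-set module of `S_n`, `n ≥ 5` (`KL.TwoS.Lett`):
  contradiction;
* `TwoV.out_or` : otherwise (820's alternative) EXT kills the first alternative of `TwoS.Fr.ex`: `¬ Fail`, `V i ≰ N_i` and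
  `J(O)` moves `V i`, for both `i`.
-/

set_option autoImplicit false
set_option linter.unusedSectionVars false

namespace Cfsg.Agent.Omega.NOThreeL.RRed

open Subgroup Cfsg Cfsg.Agent.ZN Cfsg.Agent.Omega.MinPar Cfsg.Agent.Omega.Frame Cfsg.Agent.Omega.FrameNOFF
open Cfsg.Agent.Omega.Node.NO3L Cfsg.Agent.Omega.NOThreeL.Basic Cfsg.Agent.Omega.NOThreeL.RTree
open Cfsg.Agent.Omega.KL.TwoS (Lett Mx NN Fail)

universe u

variable {G : Type u} [Group G] [Finite G] {S : Sylow 2 G} {V : Fin 2 → Subgroup G} {v : Fin 2 → G}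
  (T : TwoV (S : Subgroup G) V v)

include T

/-- **one of the two modules is `S_n`, `n ≥ 5`** -/
theorem TwoV.false_of_lett (B : RB S) (hML : ML.Final.MLK.{u, u}) (hE : ML.Ex.Two.Ext.{u, u}) {i : Fin 2}
    {R : Subgroup G} {Ω : Type*} [Fintype Ω] [DecidableEq Ω] {φ : Finset Ω → G} (L : Lett (V i) R φ)
    (h4 : 4 ≤ Fintype.card Ω) (hSR : (S : Subgroup G) ≤ R) (hRC : R ≤ centralizer ({v (i + 1)} : Set G)) {p : Ω}
    (hp : v i = φ (Finset.univ.erase p)) : False := by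
  obtain ⟨H, _, _, N, _, _, _, T', A', x', y', h⟩ := (T.fr B).sysE_of_lett hML (T.kgroup B) L h4 hSR hRC hp
  exact hE H N T' A' x' y' h.sysT

/-- **the rest**: no side fails, `V i ≰ N_i`, `J(O)` moves `V i` -/
theorem TwoV.rest (B : RB S) (hML : ML.Final.MLK.{u, u}) (hE : ML.Ex.Two.Ext.{u, u}) :
    ∀ i, ¬ Fail (S : Subgroup G) V v i ∧ ¬ V i ≤ NN v i ∧
      ∃ A, Mx (o2 (centralizer (zc (S : Subgroup G) : Set G))) A ∧ ¬ A ≤ centralizer (V i : Set G) := by
  rcases (T.fr B).ex hML (T.kgroup B) with ⟨i, X, A, O⟩ | h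
  · exfalso
    obtain ⟨H, _, _, N, _, _, _, T', A', x', y', h⟩ := (T.fr B).exists_sysE hML (T.kgroup B i) O
    exact hE H N T' A' x' y' h.sysT
  · exact h

end Cfsg.Agent.Omega.NOThreeL.RRed
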