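import Cfsg.Agent.Omega.NOThreeL.RRed.FourTree
import Cfsg.Agent.Omega.NOThreeL.RRed.FourTwo
import Cfsg.Agent.Omega.NOThreeL.RRed.Blk.Orbit
import Cfsg.Agent.Omega.NOThreeL.RRed.Blk.Inst

/-!
# NO-3L, box R, `FourOf`: two orbits of blocks (piece (T2) of `FourTree`)

* `Full.inn`, `Full.letts` : the hypotheses of `Blk.Dec.cases` from 930's `TvFin.Full`;
* `cases_full`, **`cases_bks`** : `|Z| = 4` : the three cases;
* `TwoO.k1_fix` : a minimal parabolic `R ≤ L` with `R = (R ⊓ ⨆ E b) S` fixes `v 0` or `v 1`; `TwoO.k1_norm`;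
* **`TwoO.twoV`** : no K2 : `TwoV S (VO N O) v`; `TwoO.ex`, `TwoO.nl`;
* `TwoO.lett_one` : the letters of an orbit consisting of one block, for `TwoV.false_of_lett`;
* `TwoO.false_of_big` : an orbit consisting of one block with at least 5 letters: contradiction.
-/

set_option autoImplicit false
set_option linter.unusedSectionVars false

namespace Cfsg.Agent.Omega.NOThreeL.RRed.FourTwoO

open Subgroup Cfsg Cfsg.Agent.ZN Cfsg.Agent.Omega.MinPar Cfsg.Agent.Omega.Frame Cfsg.Agent.Omega.FrameNOFF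
open Cfsg.Agent.Omega.Node.NO3L Cfsg.Agent.Omega.NOThreeL.Basic Cfsg.Agent.Omega.NOThreeL.RTree
open Cfsg.Agent.Omega.NOThreeL.Merge (MZ le_MZ S_le_MZ)
open Cfsg.Agent.MinSimple.MinParabolic (IsMinPar)
open Cfsg.Agent.Omega.KL.TwoS (Rel Lett)
open Cfsg.Agent.Omega.NOThreeL.RRed.TvFin (Full)
open Cfsg.Agent.Omega.NOThreeL.RRed.FourTree
open Cfsg.Agent.Omega.NOThreeL.RRed.Blk
open scoped Pointwise

universe u v

variable {G : Type u} [Group G]

section full

variable {S M V : Subgroup G} {I : Type u} {N E : I → Subgroup G} {R₀ : Subgroup G} {Om : I → Type u}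
  [∀ i, Fintype (Om i)] [∀ i, DecidableEq (Om i)] {phi : ∀ i, Finset (Om i) → G}

theorem inn (F : Full S M V N E R₀ Om phi) : Inn M N E := fun _ _ hg hN => F.inner hg hN

theorem letts (F : Full S M V N E R₀ Om phi) : Letts.{u, u, u} N E := fun b =>
  ⟨Om b, inferInstance, inferInstance, phi b, F.three b, F.lett b⟩

end full

section fin

variable [Finite G] {S : Sylow 2 G}

/-- `Z = C_{V*}(S)` -/
theorem zc_eq (B : RB S) : Wd (S : Subgroup G) ⊓ centralizer ((S : Subgroup G) : Set G) = zc (S : Subgroup G) := by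
  refine le_antisymm (fun x hx => zc_of_fix B hx.1 fun s hs => ?_) fun x hx => mem_inf.2 ⟨zc_le_Wd _ hx, ?_⟩
  · have := mem_centralizer_iff.1 hx.2 s hs
    rw [this]; group
  · exact mem_centralizer_iff.2 fun s hs => ((mem_zc.1 hx).2.1 s hs)

variable {I : Type u} [Finite I] {N E : I → Subgroup G} {R₀ : Subgroup G} {Om : I → Type u}
  [∀ i, Fintype (Om i)] [∀ i, DecidableEq (Om i)] {phi : ∀ i, Finset (Om i) → G}

/-- **The three cases.** -/
theorem cases_bks (h : Four S) (hB : Bks S N E R₀ Om phi) :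
    (R₀ = ⊥ ∧ ∃ z O v, TwoO S (MZ (S : Subgroup G)) (Wd (S : Subgroup G)) N E R₀ z O v) ∨
    (R₀ ≠ ⊥ ∧ (∀ b c, ∃ s ∈ (S : Subgroup G), MulAut.conj s • N b = N c) ∧
      ∃ z, One (S : Subgroup G) (MZ (S : Subgroup G)) (Wd (S : Subgroup G)) N E z) ∨
    (R₀ = ⊥ ∧ ∀ b c, ∃ s ∈ (S : Subgroup G), MulAut.conj s • N b = N c) := by
  obtain ⟨b₀⟩ := hB.nonempty
  refine hB.toDec.cases (inn hB.toFull) (letts hB.toFull) (WS h.toRB) (wsq h.toRB) ?_ b₀
  rw [zc_eq h.toRB]
  exact h.z4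

end fin

section two

variable {ι : Type v} [Finite ι] [Finite G] {S : Sylow 2 G} {L U : Subgroup G} {N E : ι → Subgroup G}
  {R₀ : Subgroup G} {z : ι → G} {O : Fin 2 → Set ι} {v : Fin 2 → G} (t : TwoO S L U N E R₀ z O v)
include t

/-- `X = ⨆ b ∈ O i, E b` -/
theorem norm_X (i : Fin 2) {R : Subgroup G} (hk : (R ⊓ ⨆ b, E b) ⊔ (S : Subgroup G) = R) :
    R ≤ normalizer ((⨆ b ∈ O i, E b : Subgroup G) : Set G) := by
  rw [← hk]
  refine sup_le ?_ ?_
  · refine inf_le_right.trans (le_norm_of fun e he x hx => ?_)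
    have h1 : MulAut.conj e • (⨆ b ∈ O i, E b) ≤ ⨆ b ∈ O i, E b := by
      rw [show MulAut.conj e • (⨆ b ∈ O i, E b) = ⨆ b, MulAut.conj e • (⨆ _ : b ∈ O i, E b) from
        Subgroup.map_iSup _ _]
      refine iSup_le fun c => ?_
      rw [show MulAut.conj e • (⨆ _ : c ∈ O i, E c) = ⨆ _ : c ∈ O i, MulAut.conj e • E c from
        Subgroup.map_iSup _ _]
      refine iSup_le fun hc => ?_
      rw [smul_of_mem (t.dec.E_normal c he)]
      exact le_iSup₂_of_le c hc le_rfl
    exact h1 ((conj_smul rfl).1 hx)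
  · refine le_norm_of fun s hs x hx => ?_
    have h1 : MulAut.conj s • (⨆ b ∈ O i, E b) ≤ ⨆ b ∈ O i, E b := by
      rw [show MulAut.conj s • (⨆ b ∈ O i, E b) = ⨆ b, MulAut.conj s • (⨆ _ : b ∈ O i, E b) from
        Subgroup.map_iSup _ _]
      refine iSup_le fun c => ?_
      rw [show MulAut.conj s • (⨆ _ : c ∈ O i, E c) = ⨆ _ : c ∈ O i, MulAut.conj s • E c from
        Subgroup.map_iSup _ _]
      refine iSup_le fun hc => ?_
      obtain ⟨d, hd, hd2⟩ := t.dec.perm s (t.dec.SL hs) c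
      rw [hd2]
      exact le_iSup₂_of_le d ((t.orb i).inv s hs c hc d hd) le_rfl
    exact h1 ((conj_smul rfl).1 hx)

/-- a (K1) minimal parabolic moving `v i` is `(R ⊓ X) S`, `X = ⨆ b ∈ O i, E b`. -/
theorem k1_eq (i : Fin 2) {R : Subgroup G} (hRL : R ≤ L) (hR : IsMinPar (S : Subgroup G) R)
    (hk : (R ⊓ ⨆ b, E b) ⊔ (S : Subgroup G) = R) (hi : ∃ r ∈ R, r * v i * r⁻¹ ≠ v i) :
    (R ⊓ ⨆ b ∈ O i, E b) ⊔ (S : Subgroup G) = R := by
  refine (dich hR (norm_X t i hk)).resolve_left fun h1 => ?_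
  -- some `e ∈ R ⊓ E₀` moves `v i`
  obtain ⟨e, he, hev⟩ : ∃ e ∈ R ⊓ ⨆ b, E b, e * v i * e⁻¹ ≠ v i := by
    by_contra hcon
    push Not at hcon
    obtain ⟨r, hr, hri⟩ := hi
    have h1 : R ≤ centralizer ({v i} : Set G) := by
      rw [← hk]
      refine sup_le (fun e he => ?_) fun s hs => ?_
      · rw [mem_centralizer_singleton_iff]
        have := hcon e he
        calc e * v i = (e * v i * e⁻¹) * e := by group
          _ = v i * e := by rw [this]
      · rw [mem_centralizer_singleton_iff]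
        have := t.vS i s hs
        calc s * v i = (s * v i * s⁻¹) * s := by group
          _ = v i * s := by rw [this]
    apply hri
    rw [mem_centralizer_singleton_iff.1 (h1 hr)]
    group
  obtain ⟨b, hbi, hbz⟩ : ∃ b ∈ O i, e * z b * e⁻¹ ≠ z b := by
    by_contra hcon
    push Not at hcon
    apply hev
    have hVN := t.VN i
    have h0 : e * v i * e⁻¹ ∈ ⨆ b, N b := by
      have h1 : MulAut.conj e • (⨆ b, N b) ≤ ⨆ b, N b := by
        rw [show MulAut.conj e • (⨆ b, N b) = ⨆ b, MulAut.conj e • N b from Subgroup.map_iSup _ _]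
        refine iSup_le fun b => ?_
        rw [t.dec.E0_smul he.2 b]; exact le_iSup N b
      exact h1 ((conj_smul rfl).1 (hVN (t.vV i)))
    refine t.dec.ext h0 (hVN (t.vV i)) fun c => ?_
    by_cases hc : c ∈ O i
    · have h1 := t.dec.comp_E0 he.2 (t.comp i hc)
      rw [hcon c hc] at h1
      exact ⟨_, h1, t.comp i hc⟩
    · have h1 := t.dec.comp_E0 he.2 (t.comp' i hc)
      rw [mul_one, mul_inv_cancel] at h1
      exact ⟨_, h1, t.comp' i hc⟩
  have hb0 := t.dec.k1 t.one hR.le ⟨e, he, hbz⟩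
  have hb : E b ≤ R ⊔ (L ⊓ centralizer (U : Set G)) := hb0.trans (sup_le_sup_right inf_le_left _)
  have hbE : E b ≤ ⨆ c ∈ O i, E c := le_iSup₂_of_le b hbi le_rfl
  have hCn : R ≤ normalizer ((L ⊓ centralizer (U : Set G) : Subgroup G) : Set G) := hRL.trans t.dec.C_normal
  have key : ∀ e ∈ E b, ∀ x ∈ ((S : Subgroup G) ⊓ E b) ⊔ (L ⊓ centralizer (U : Set G)),
      e * x * e⁻¹ ∈ ((S : Subgroup G) ⊓ E b) ⊔ (L ⊓ centralizer (U : Set G)) := by
    intro e he x hx
    obtain ⟨r, hr, c, hc, rfl⟩ := mem_sup_of hCn (hb he)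
    have hcx : c * x * c⁻¹ ∈ ((S : Subgroup G) ⊓ E b) ⊔ (L ⊓ centralizer (U : Set G)) :=
      mul_mem (mul_mem (mem_sup_right hc) hx) (inv_mem (mem_sup_right hc))
    have hrE : r ∈ E b := by
      have e1 : r = (r * c) * c⁻¹ := by group
      rw [e1]; exact mul_mem he (inv_mem (t.dec.CE b hc))
    have e2 : r * c * x * (r * c)⁻¹ = r * (c * x * c⁻¹) * r⁻¹ := by group
    rw [e2]
    have hn : r ∈ normalizer ((((S : Subgroup G) ⊓ E b) ⊔ (L ⊓ centralizer (U : Set G)) : Subgroup G) : Set G) := by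
      have h3 : (zpowers r) ≤ normalizer ((((S : Subgroup G) ⊓ E b) ⊔ (L ⊓ centralizer (U : Set G)) :
          Subgroup G) : Set G) := by
        refine le_norm_of fun a ha y hy => ?_
        have haR : a ∈ R := (zpowers_le.2 hr) ha
        have haE : a ∈ E b := (zpowers_le.2 hrE) ha
        have hSn : (S : Subgroup G) ⊓ E b ≤ normalizer ((L ⊓ centralizer (U : Set G) : Subgroup G) : Set G) :=
          inf_le_left.trans (hR.le.trans hCn)
        obtain ⟨s, hs, d, hd, rfl⟩ := mem_sup_of hSn hy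
        have e3 : a * (s * d) * a⁻¹ = (a * s * a⁻¹) * (a * d * a⁻¹) := by group
        rw [e3]
        refine mul_mem (mem_sup_left ?_) (mem_sup_right (conj_of (hCn haR) hd))
        refine mem_inf.2 ⟨?_, mul_mem (mul_mem haE hs.2) (inv_mem haE)⟩
        exact (conj_of (h1 haR) (mem_inf.2 ⟨hs.1, hbE hs.2⟩)).1
      exact h3 (mem_zpowers r)
    exact conj_of hn hcx
  have h4 := t.one.gen b _ (sup_le inf_le_right (t.dec.CE b)) le_sup_left le_sup_right (le_norm_of key)
  obtain ⟨e, he, hez⟩ := t.one.mv b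
  have hSn : (S : Subgroup G) ⊓ E b ≤ normalizer ((L ⊓ centralizer (U : Set G) : Subgroup G) : Set G) :=
    inf_le_left.trans (hR.le.trans hCn)
  obtain ⟨s, hs, c, hc, rfl⟩ := mem_sup_of hSn (h4 he)
  apply hez
  have e5 : s * c * z b * (s * c)⁻¹ = s * (c * z b * c⁻¹) * s⁻¹ := by group
  rw [e5, cent hc.2 (t.dec.NU b (t.one.zN b))]
  exact t.one.zS b s hs

/-- **a (K1) minimal parabolic fixes `v 0` or `v 1`** -/
theorem k1_fix {i j : Fin 2} (hij : i ≠ j) {R : Subgroup G} (hRL : R ≤ L) (hR : IsMinPar (S : Subgroup G) R)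
    (hk : (R ⊓ ⨆ b, E b) ⊔ (S : Subgroup G) = R) (hi : ¬ R ≤ centralizer ({v i} : Set G)) :
    R ≤ centralizer ({v j} : Set G) := by
  have h1 : ∃ r ∈ R, r * v i * r⁻¹ ≠ v i := by
    by_contra hcon; push Not at hcon; exact hi (TwoO.le_cent_iff.2 hcon)
  rw [← k1_eq t i hRL hR hk h1]
  have h2 : (⨆ b ∈ O i, E b) ≤ centralizer ({v j} : Set G) := iSup₂_le fun b hb =>
    (t.E_cent (t.notMem hij hb)).trans (centralizer_le (Set.singleton_subset_iff.2 (t.vV j)))
  exact sup_le (inf_le_right.trans h2) (TwoO.le_cent_iff.2 (t.vS j))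

/-- a (K1) minimal parabolic normalises `V 0`, `V 1` -/
theorem k1_norm {R : Subgroup G} (hk : (R ⊓ ⨆ b, E b) ⊔ (S : Subgroup G) = R) (i : Fin 2) :
    R ≤ normalizer (VO N O i : Set G) := by
  rw [← hk]
  exact sup_le (inf_le_right.trans (iSup_le fun b => t.E_V b i)) (t.S_V i)

end two

section plug

variable {ι : Type v} [Finite ι] [Finite G] {S : Sylow 2 G} {N E : ι → Subgroup G} {z : ι → G} {O : Fin 2 → Set ι}
  {v : Fin 2 → G}

theorem fin_ne {i j : Fin 2} (hij : i ≠ j) : (i = 0 ∧ j = 1) ∨ (i = 1 ∧ j = 0) := by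
  have h2 : ∀ a b : Fin 2, a ≠ b → (a = 0 ∧ b = 1) ∨ (a = 1 ∧ b = 0) := by decide
  exact h2 i j hij

variable (B : RB S) (t : TwoO S (MZ (S : Subgroup G)) (Wd (S : Subgroup G)) N E ⊥ z O v)
  (hno : ∀ R, IsParS (S : Subgroup G) R → ¬ R ≤ normalizer (((S : Subgroup G) ⊓ ⨆ b, E b : Subgroup G) : Set G))

include t

theorem k1_of {R : Subgroup G} (hR : IsParS (S : Subgroup G) R)
    (hn : ¬ R ≤ normalizer (((S : Subgroup G) ⊓ ⨆ b, E b : Subgroup G) : Set G)) :
    (R ⊓ ⨆ b, E b) ⊔ (S : Subgroup G) = R :=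
  (dich hR.toIsMinPar ((le_MZ hR).trans t.dec.iSup_normal)).resolve_left hn

include B

theorem v_zc (i : Fin 2) : v i ∈ zc (S : Subgroup G) := zc_of_fix B (t.VU i (t.vV i)) (t.vS i)

/-- some `R ∈ P*(S)` moves `v i` -/
theorem exists_mv (i : Fin 2) : ∃ R, IsParS (S : Subgroup G) R ∧ ¬ R ≤ centralizer ({v i} : Set G) := by
  by_contra hcon
  push Not at hcon
  have hU : IsPGroup 2 (zpowers (v i)) := by
    refine S.isPGroup'.to_le ?_
    rw [zpowers_le]; exact zc_le _ (v_zc B t i)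
  have hn : ∀ {H : Subgroup G}, H ≤ centralizer ({v i} : Set G) → H ≤ normalizer ((zpowers (v i) : Subgroup G) : Set G) := by
    intro H hH
    refine hH.trans (le_trans ?_ (centralizer_le_normalizer _))
    intro g hg
    refine mem_centralizer_iff.2 fun x hx => ?_
    obtain ⟨k, rfl⟩ := mem_zpowers_iff.1 hx
    have e : Commute (v i) g := (mem_centralizer_singleton_iff.1 hg).symm
    exact (e.zpow_left k).eq
  have h1 := Merge.nonLoc_MZ B.ctx B.full (zpowers (v i)) hU (hn (sSup_le fun R hR => hcon R hR))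
    (hn (centralizer_le (Set.singleton_subset_iff.2 (v_zc B t i))))
  exact t.v1 i (zpowers_eq_bot.1 h1)

include hno

theorem cen {R : Subgroup G} (hR : IsParS (S : Subgroup G) R) :
    R ≤ centralizer ({v 0} : Set G) ∨ R ≤ centralizer ({v 1} : Set G) := by
  by_cases h0 : R ≤ centralizer ({v 0} : Set G)
  · exact Or.inl h0
  · exact Or.inr (k1_fix t (by decide) (le_MZ hR) hR.toIsMinPar (k1_of t hR (hno R hR)) h0)

theorem ex {i j : Fin 2} (hij : i ≠ j) : ∃ R, IsParS (S : Subgroup G) R ∧ R ≤ centralizer ({v j} : Set G) ∧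
    ¬ R ≤ centralizer ({v i} : Set G) := by
  obtain ⟨R, hR, h1⟩ := exists_mv B t i
  refine ⟨R, hR, ?_, h1⟩
  rcases fin_ne hij with ⟨rfl, rfl⟩ | ⟨rfl, rfl⟩
  · exact (cen B t hno hR).resolve_left h1
  · exact (cen B t hno hR).resolve_right h1

/-- `⟨C_G(v 0), C_G(v 1)⟩` is nonlocal -/
theorem nl : NonLoc (centralizer ({v 0} : Set G)) (centralizer ({v 1} : Set G)) := by
  intro U hU h0 h1
  refine Merge.nonLoc_MZ B.ctx B.full U hU (sSup_le fun R hR => ?_)
    ((centralizer_le (Set.singleton_subset_iff.2 (v_zc B t 0))).trans h0)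
  rcases cen B t hno hR with h | h
  · exact h.trans h0
  · exact h.trans h1

/-- **Two orbits of rank one blocks, no (K2) in `P*(S)`: the frame `KL.TwoS.Fr`.** -/
theorem fr : KL.TwoS.Fr (S : Subgroup G) (VO N O) v := t.fr B (fun _ _ hij => ex B t hno hij) (nl B t hno)

/-- **909's `TwoV`** -/
theorem twoV : TwoV (S : Subgroup G) (VO N O) v := by
  have c2 := t.core2 B (fun _ _ hij => ex B t hno hij) (nl B t hno)
  exact
    { mem := t.vV
      ne := t.v1
      zS := t.zS B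
      VP := fun i => by
        rcases Fin.exists_fin_two.1 ⟨i, rfl⟩ with h | h
        · exact c2.V_le_zl (j := 1) (by rw [h]; decide)
        · exact c2.V_le_zl (j := 0) (by rw [h]; decide)
      cen := fun R hR => cen B t hno hR
      nrm := fun R hR i => k1_norm t (k1_of t hR (hno R hR)) i
      odd := c2.odd
      irr := c2.irr
      same := c2.same }

end plug

section one

variable {I : Type u} [Finite I] [Finite G] {S : Sylow 2 G} {M V : Subgroup G} {N E : I → Subgroup G}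
  {R₀ : Subgroup G} {Om : I → Type u} [∀ i, Fintype (Om i)] [∀ i, DecidableEq (Om i)]
  {phi : ∀ i, Finset (Om i) → G} {z : I → G} {O : Fin 2 → Set I} {v : Fin 2 → G}

/-- **The letters of an orbit consisting of one block.** -/
theorem lett_one (F : Full (S : Subgroup G) M V N E R₀ Om phi) (t : TwoO S M V N E R₀ z O v) {i : Fin 2} {b : I}
    (hb : b ∈ O i) (h1 : ∀ c ∈ O i, c = b) :
    Lett (VO N O i) (E b ⊔ (S : Subgroup G)) (phi b) ∧ (∀ j, i ≠ j → E b ⊔ (S : Subgroup G) ≤ centralizer ({v j} : Set G)) ∧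
      ∃ p, v i = phi b (Finset.univ.erase p) := by
  have hV : VO N O i = N b := le_antisymm (iSup₂_le fun c hc => by rw [h1 c hc]) (le_iSup₂_of_le b hb le_rfl)
  have hL := F.lett b
  have hSN : (S : Subgroup G) ≤ normalizer (N b : Set G) := by rw [← hV]; exact t.S_V i
  refine ⟨?_, fun j hij => ?_, ?_⟩
  · rw [hV]
    refine
      { odd := hL.odd
        mul := hL.mul
        inj := hL.inj
        mem := hL.mem
        act := fun g hg => ?_
        all := fun σ => ?_ }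
    · have hgN : g ∈ normalizer (N b : Set G) := (sup_le (F.EN b) hSN) hg
      exact F.rel_of_fix ((sup_le (F.EL b) F.SL) hg) (smul_of_mem hgN)
    · obtain ⟨g, hg, h2⟩ := hL.all σ
      exact ⟨g, mem_sup_left hg, h2⟩
  · refine sup_le ((t.E_cent (t.notMem hij hb)).trans (centralizer_le (Set.singleton_subset_iff.2 (t.vV j)))) ?_
    exact TwoO.le_cent_iff.2 (t.vS j)
  · have hv : v i = z b := by
      have h2 := t.comp i hb
      have h3 : v i ∈ N b := by rw [← hV]; exact t.vV i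
      exact t.dec.uniq (t.dec.comp_self h3) h2
    have hT2 : IsPGroup 2 ((S : Subgroup G) ⊓ E b : Subgroup G) := S.isPGroup'.to_le inf_le_left
    obtain ⟨p, hp, -⟩ := exists_ctr hL (F.three b) inf_le_right hT2 (z := z b) (t.one.fix b)
    exact ⟨p, by rw [hv, hp]⟩

/-- **An orbit consisting of one block with at least 4 (5) letters: contradiction.** -/
theorem false_of_big (h : Four S) (hML : ML.Final.MLK.{u, u}) (hE : ML.Ex.Two.Ext.{u, u})
    (hB : Bks S N E ⊥ Om phi)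
    (hno : ∀ R, IsParS (S : Subgroup G) R → ¬ R ≤ normalizer (((S : Subgroup G) ⊓ ⨆ b, E b : Subgroup G) : Set G))
    (t : TwoO S (MZ (S : Subgroup G)) (Wd (S : Subgroup G)) N E ⊥ z O v) {i : Fin 2} {b : I} (hb : b ∈ O i)
    (h1 : ∀ c ∈ O i, c = b) (h4 : 4 ≤ Fintype.card (Om b)) : False := by
  obtain ⟨hl, hc, p, hp⟩ := lett_one hB.toFull t hb h1
  exact (twoV h.toRB t hno).false_of_lett h.toRB hML hE hl h4 le_sup_right (hc (i + 1) (OM.KTwo.ne_add_one i)) hp

end one

end Cfsg.Agent.Omega.NOThreeL.RRed.FourTwoO
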