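import Cfsg.Agent.Omega.NOThreeL.RRed.WideTree
import Cfsg.Agent.Omega.NOThreeL.RWide.Typ
import Cfsg.Agent.Omega.ML.GMod

/-!
# NO-3L, box R: `⟨C_G(l a : a ≠ b) : b⟩` is nonlocal as soon as `C_G(Z)` permutes the lines (#25652, case (ii))

* `nloc` (abstract): lines `l b` in an abelian 2-group, groups `E b` centralising the other lines,
  `M₀ ≤ ⟨E b⟩ Stab(lines)`, `C_G(Z)` permutes the lines ⟹ no 2-group `U ≠ 1` is normalised by all
  `Y_b = C_G(l a : a ≠ b)`  [`G₁ = ⟨Y_b⟩` is normalised by `⟨M₀, C⟩`; `1 ≠ C_U(∏ l b) ≤ O₂(G₁)`];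
* `perm_l` : over `NBs`: `n ∈ M₀ ∩ N(S ∩ ⟨E b⟩)` permutes the lines (only `ln`, `root`, `sylow`; `A₇` on `2⁴` allowed);
* **`g1_nloc`**, **`nonLocF_of`** (any set of classes), **`nonLoc_of`** (two classes).
-/

set_option autoImplicit false
set_option linter.unusedSectionVars false

namespace Cfsg.Agent.Omega.NOThreeL.RRed.GOne

open Subgroup Cfsg Cfsg.Agent.ZN Cfsg.Agent.Omega.MinPar Cfsg.Agent.Omega.Frame Cfsg.Agent.Omega.FrameNOFF
open Cfsg.Agent.Omega.Node.NO3L Cfsg.Agent.Omega.NOThreeL.Basic Cfsg.Agent.Omega.NOThreeL.RTree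
open Cfsg.Agent.Omega.NOThreeL.Merge (MZ nonLoc_MZ)
open Cfsg.Agent.Omega.NOThreeL.RRed.WideTree
open Cfsg.Agent.Omega.NOThreeL.RWide (YY YY_le_cent le_YY)

open scoped Pointwise

universe u v w

section abs

variable {G : Type u} [Group G] {ι : Type v} {l E : ι → Subgroup G}

theorem mem_norm [Finite G] {g : G} {K : Subgroup G} (h : MulAut.conj g • K ≤ K) : g ∈ normalizer (K : Set G) := by
  have h1 : MulAut.conj g • K = K := by
    refine Subgroup.eq_of_le_of_card_ge h ?_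
    exact (Nat.card_congr (Subgroup.equivSMul (MulAut.conj g) K).toEquiv).le
  rw [mem_normalizer_iff]
  intro x
  exact Blk.conj_smul h1

/-- `g` permutes the lines ⟹ `g` permutes the `Y_b` -/
theorem smul_YY [Finite ι] (hinj : Function.Injective l) {g : G} (h : ∀ b, ∃ c, MulAut.conj g • l b = l c) (b : ι) :
    ∃ c, MulAut.conj g • YY l b ≤ YY l c := by
  choose σ hσ using h
  have hσi : Function.Injective σ := by
    intro a b hab
    have h1 : MulAut.conj g • l a = MulAut.conj g • l b := by rw [hσ, hσ, hab]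
    exact hinj (smul_left_cancel _ h1)
  have hσs : Function.Surjective σ := Finite.surjective_of_injective hσi
  refine ⟨σ b, le_YY fun d hd => ?_⟩
  obtain ⟨a, rfl⟩ := hσs d
  have hab : a ≠ b := fun e => hd (by rw [e])
  rintro y ⟨k, hk, rfl⟩
  rw [mem_centralizer_iff]
  intro x hx
  have hx' : x ∈ l (σ a) := hx
  rw [← hσ a] at hx'
  obtain ⟨w, hw, rfl⟩ := hx'
  have h1 := mem_centralizer_iff.1 (YY_le_cent hab hk) w hw
  change (g * w * g⁻¹) * (g * k * g⁻¹) = (g * k * g⁻¹) * (g * w * g⁻¹)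
  calc (g * w * g⁻¹) * (g * k * g⁻¹) = g * (w * k) * g⁻¹ := by group
    _ = g * (k * w) * g⁻¹ := by rw [h1]
    _ = _ := by group

theorem smul_iSup_YY [Finite G] [Finite ι] (hinj : Function.Injective l) {g : G}
    (h : ∀ b, ∃ c, MulAut.conj g • l b = l c) : g ∈ normalizer ((⨆ b, YY l b : Subgroup G) : Set G) := by
  refine mem_norm ?_
  rw [show MulAut.conj g • (⨆ b, YY l b) = ⨆ b, MulAut.conj g • YY l b from Subgroup.map_iSup _ _]
  refine iSup_le fun b => ?_
  obtain ⟨c, hc⟩ := smul_YY hinj h b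
  exact hc.trans (le_iSup (fun b => YY l b) c)

/-- **The normality line**, abstract form. -/
theorem nloc [Finite G] {S : Sylow 2 G} (hG : Ctx G) (hF : Full (S : Subgroup G)) [Finite ι] [Nonempty ι]
    {X : Subgroup G} (hl : ∀ b, l b ≤ X) (hX2 : IsPGroup 2 X) (hX : X ≤ centralizer (X : Set G))
    (hinj : Function.Injective l) (hE : ∀ b c, c ≠ b → E b ≤ centralizer (l c : Set G))
    (hM : ∀ g ∈ MZ (S : Subgroup G), ∃ k ∈ (⨆ b, E b : Subgroup G), ∀ b, ∃ c, MulAut.conj (k * g) • l b = l c)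
    (hC : ∀ g ∈ CZ (S : Subgroup G), ∀ b, ∃ c, MulAut.conj g • l b = l c)
    (U : Subgroup G) (hU : IsPGroup 2 U) (hN : ∀ b, YY l b ≤ normalizer (U : Set G)) : U = ⊥ := by
  by_contra hU1
  have hfact : Fact (Nat.Prime 2) := ⟨Nat.prime_two⟩
  set G1 : Subgroup G := ⨆ b, YY l b with hG1
  have hEG : (⨆ b, E b : Subgroup G) ≤ G1 := iSup_le fun b => (le_YY (hE b)).trans (le_iSup (fun b => YY l b) b)
  have hMn : MZ (S : Subgroup G) ≤ normalizer (G1 : Set G) := by
    intro g hg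
    obtain ⟨k, hk, h1⟩ := hM g hg
    have h2 := smul_iSup_YY hinj h1
    have e : g = k⁻¹ * (k * g) := by group
    rw [e]
    exact mul_mem (inv_mem (le_normalizer (hEG hk))) h2
  have hCn : CZ (S : Subgroup G) ≤ normalizer (G1 : Set G) := fun g hg => smul_iSup_YY hinj (hC g hg)
  have hGU : G1 ≤ normalizer (U : Set G) := iSup_le hN
  have b₀ : ι := Classical.arbitrary ι
  have hlc : ∀ a, (⨆ b, l b : Subgroup G) ≤ centralizer (l a : Set G) := fun a =>
    ((iSup_le hl).trans hX).trans (centralizer_le (hl a))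
  have hLY : (⨆ b, l b : Subgroup G) ≤ YY l b₀ := le_YY fun a _ => hlc a
  have h3 : U ⊓ centralizer ((⨆ b, l b : Subgroup G) : Set G) ≠ ⊥ :=
    Cfsg.Agent.PLocal.OffenderStep.inf_centralizer_ne_bot U (⨆ b, l b) hU (hX2.to_le (iSup_le hl))
      (hLY.trans (hN b₀)) hU1
  have h4 : centralizer ((⨆ b, l b : Subgroup G) : Set G) ≤ G1 :=
    (le_YY fun a _ => centralizer_le (le_iSup l a)).trans (le_iSup (fun b => YY l b) b₀)
  have h5 : U ⊓ G1 ≠ ⊥ := fun e => h3 (by
    rw [eq_bot_iff, ← e]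
    exact inf_le_inf_left _ h4)
  have h6 : U ⊓ G1 ≤ o2 G1 := by
    refine Cfsg.Agent.MinSimple.VModule.le_o2 inf_le_right (hU.to_le inf_le_left) ?_
    intro g hg
    rw [mem_normalizer_iff]
    intro x
    rw [mem_inf, mem_inf]
    exact and_congr (mem_normalizer_iff.1 (hGU hg) x) (mem_normalizer_iff.1 (le_normalizer hg) x)
  have h7 : o2 G1 = ⊥ := nonLoc_MZ hG hF _ (Cfsg.Agent.MinSimple.VModule.o2_isPGroup G1)
    (hMn.trans (Cfsg.Agent.Omega.ML.GMod.normalizer_le_normalizer_o2 G1))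
    (hCn.trans (Cfsg.Agent.Omega.ML.GMod.normalizer_le_normalizer_o2 G1))
  exact h5 (le_bot_iff.1 (h7 ▸ h6))

end abs

section nbs

variable {G : Type u} [Group G] {S : Subgroup G}

theorem natblk_one {D N l : Subgroup G} {F : Type} [Field F] {e : G → Fin 2 → F} (h : NatBlk S D N l F e) :
    e 1 = 0 := by
  have h1 := h.mul 1 (one_mem _) 1 (one_mem _)
  rw [mul_one] at h1
  exact left_eq_add.1 h1

theorem natblk_inv {D N l : Subgroup G} {F : Type} [Field F] {e : G → Fin 2 → F} (h : NatBlk S D N l F e) {v : G}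
    (hv : v ∈ N) : e v⁻¹ = - e v := by
  have h1 := h.mul v hv v⁻¹ (inv_mem hv)
  rw [mul_inv_cancel, natblk_one h] at h1
  exact (neg_eq_of_add_eq_zero_right h1.symm).symm

theorem natblk_inj {D N l : Subgroup G} {F : Type} [Field F] {e : G → Fin 2 → F} (h : NatBlk S D N l F e) {v w : G}
    (hv : v ∈ N) (hw : w ∈ N) (hvw : e v = e w) : v = w := by
  have h1 := h.mul v hv w⁻¹ (inv_mem hw)
  rw [natblk_inv h hw, hvw, add_neg_cancel] at h1
  exact mul_inv_eq_one.1 (h.inj _ (mul_mem hv (inv_mem hw)) h1)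

theorem natblk_l_le {D N l : Subgroup G} {F : Type} [Field F] {e : G → Fin 2 → F} (h : NatBlk S D N l F e) :
    l ≤ N := fun v hv => ((h.line v).1 hv).1

theorem natblk_card {D N l : Subgroup G} {F : Type} [Field F] [Finite F] {e : G → Fin 2 → F}
    (h : NatBlk S D N l F e) : Nat.card l = Nat.card F := by
  refine Nat.card_congr (Equiv.ofBijective (fun v : l => e v 0) ⟨?_, ?_⟩)
  · intro v w hvw
    refine Subtype.ext (natblk_inj h (natblk_l_le h v.2) (natblk_l_le h w.2) ?_)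
    funext i
    fin_cases i
    · exact hvw
    · exact ((h.line v).1 v.2).2.trans ((h.line w).1 w.2).2.symm
  · intro c
    obtain ⟨v, hv, hc⟩ := h.sur ![c, 0]
    exact ⟨⟨v, (h.line v).2 ⟨hv, by rw [hc]; rfl⟩⟩, by show e v 0 = c; rw [hc]; rfl⟩

/-- `[w, s] ∈ l` for a root element `s` -/
theorem natblk_comm {D N l : Subgroup G} {F : Type} [Field F] {e : G → Fin 2 → F} (h : NatBlk S D N l F e)
    {s w : G} {c : F} (hs : ∀ v ∈ N, e (s * v * s⁻¹) = ![e v 0 + c * e v 1, e v 1])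
    (hsN : s * w * s⁻¹ ∈ N) (hw : w ∈ N) :
    s * w * s⁻¹ * w⁻¹ ∈ l ∧ e (s * w * s⁻¹ * w⁻¹) = ![c * e w 1, 0] := by
  have h1 : e (s * w * s⁻¹ * w⁻¹) = ![c * e w 1, 0] := by
    rw [h.mul _ hsN _ (inv_mem hw), natblk_inv h hw, hs w hw]
    funext i
    fin_cases i
    · simp
    · simp
  refine ⟨(h.line _).2 ⟨mul_mem hsN (inv_mem hw), ?_⟩, h1⟩
  rw [h1]
  rfl

variable {ι : Type u} {N E D l : ι → Subgroup G} {q : ι → ℕ}

theorem l_le (h : NBs S N E D l q) (b : ι) : l b ≤ N b := by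
  obtain ⟨F, _, _, _, e, _, nb⟩ := h.nat b
  exact natblk_l_le nb

theorem card_l (h : NBs S N E D l q) (b : ι) : Nat.card (l b) = q b := by
  obtain ⟨F, _, _, _, e, hq, nb⟩ := h.nat b
  rw [natblk_card nb, hq]

theorem l_ne (h : NBs S N E D l q) (b : ι) : l b ≠ ⊥ := by
  obtain ⟨F, _, _, _, e, hq, nb⟩ := h.nat b
  intro hb
  have h1 := natblk_card nb
  rw [hb, Subgroup.card_bot] at h1
  exact (Finite.one_lt_card (α := F)).ne h1

theorem l_side (h : NBs S N E D l q) {b c : ι} (hbc : l b ≤ N c) : b = c := by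
  by_contra hne
  apply l_ne h b
  have h4 : N c ⊓ Blk.Co N ⊥ c = ⊥ := h.dec.ind c
  rw [eq_bot_iff, ← h4]
  exact le_inf hbc ((l_le h b).trans (h.dec.N_le_Co hne))

theorem l_inj (h : NBs S N E D l q) : Function.Injective l := fun b c e =>
  l_side h (by rw [e]; exact l_le h c)

theorem norm_E (h : NBs S N E D l q) [Finite G] : MZ S ≤ normalizer ((⨆ b, E b : Subgroup G) : Set G) := by
  intro g hg
  refine mem_norm ?_
  rw [show MulAut.conj g • (⨆ b, E b) = ⨆ b, MulAut.conj g • E b from Subgroup.map_iSup _ _]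
  refine iSup_le fun b => ?_
  obtain ⟨c, _, hc⟩ := h.dec.perm g hg b
  rw [hc]
  exact le_iSup E c

/-- an element of `S` which normalises `N c` normalises `l c` -/
theorem norm_l (h : NBs S N E D l q) {t : G} (htS : t ∈ S) {c : ι} (htN : t ∈ normalizer (N c : Set G)) {v : G}
    (hv : v ∈ l c) : t * v * t⁻¹ ∈ l c := by
  obtain ⟨d, hd⟩ := h.ln t htS c
  have h1 : l d ≤ N c := by
    rw [← hd]
    rintro y ⟨x, hx, rfl⟩
    exact (mem_normalizer_iff.1 htN x).1 (l_le h c hx)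
  have h2 := l_side h h1
  rw [h2] at hd
  exact (Blk.conj_smul hd).1 hv

/-- **`n ∈ M₀` normalising `S ∩ ⟨E b⟩` permutes the lines.** -/
theorem perm_l (h : NBs S N E D l q) [Finite G] {n : G} (hn : n ∈ MZ S)
    (hnS : n ∈ normalizer ((S ⊓ ⨆ b, E b : Subgroup G) : Set G)) (b : ι) :
    ∃ c, MulAut.conj n • l b = l c := by
  obtain ⟨c, h1, h2⟩ := h.dec.perm n hn b
  obtain ⟨c', h3, h4⟩ := h.perm n hn b
  have h5 : c' = c := h.dec.Ninj (by rw [← h3, h1])
  rw [h5] at h4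
  refine ⟨c, ?_⟩
  have hcard : Nat.card (MulAut.conj n • l b : Subgroup G) = q b := by
    rw [← card_l h b]
    exact (Nat.card_congr (Subgroup.equivSMul (MulAut.conj n) (l b)).toEquiv).symm
  suffices hle : l c ≤ MulAut.conj n • l b by
    exact (Subgroup.eq_of_le_of_card_ge hle (by rw [hcard, card_l h c, h4])).symm
  intro v hv
  by_contra hvn
  obtain ⟨F, _, _, _, e, hq, nb⟩ := h.nat b
  have hvN : v ∈ MulAut.conj n • N b := by rw [h1]; exact l_le h c hv
  obtain ⟨w, hw, hwv⟩ := hvN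
  have hwv' : n * w * n⁻¹ = v := hwv
  have hw1 : e w 1 ≠ 0 := fun h6 => hvn ⟨w, (nb.line w).2 ⟨hw, h6⟩, hwv⟩
  choose s hs hsr using nb.sylow
  have hsE : ∀ x, s x ∈ E b := fun x => h.DE b (hs x).2
  have hsN : ∀ x, s x * w * (s x)⁻¹ ∈ N b := fun x => (mem_normalizer_iff.1 (h.dec.EN b (hsE x)) w).1 hw
  have hcm := fun x => natblk_comm nb (hsr x) (hsN x) hw
  have ht : ∀ x, n * s x * n⁻¹ ∈ S ∧ n * s x * n⁻¹ ∈ E c := by
    intro x
    refine ⟨?_, (Blk.conj_smul h2).1 (hsE x)⟩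
    have h6 : s x ∈ (S ⊓ ⨆ b, E b : Subgroup G) := ⟨(hs x).1, (le_iSup E b) (hsE x)⟩
    exact ((mem_normalizer_iff.1 hnS (s x)).1 h6).1
  have hf : ∀ x, n * (s x * w * (s x)⁻¹ * w⁻¹) * n⁻¹ ∈ (l c ⊓ MulAut.conj n • l b : Subgroup G) := by
    intro x
    refine mem_inf.2 ⟨?_, ⟨_, (hcm x).1, rfl⟩⟩
    have e1 : n * (s x * w * (s x)⁻¹ * w⁻¹) * n⁻¹ =
        (n * s x * n⁻¹) * (n * w * n⁻¹) * (n * s x * n⁻¹)⁻¹ * (n * w * n⁻¹)⁻¹ := by group
    rw [e1, hwv']
    exact mul_mem (norm_l h (ht x).1 (h.dec.EN c (ht x).2) hv) (inv_mem hv)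
  have hfi : Function.Injective fun x => (⟨_, hf x⟩ : (l c ⊓ MulAut.conj n • l b : Subgroup G)) := by
    intro x y hxy
    have h6 : n * (s x * w * (s x)⁻¹ * w⁻¹) * n⁻¹ = n * (s y * w * (s y)⁻¹ * w⁻¹) * n⁻¹ := congrArg Subtype.val hxy
    have h7 : s x * w * (s x)⁻¹ * w⁻¹ = s y * w * (s y)⁻¹ * w⁻¹ := by
      have h8 := congrArg (fun z => n⁻¹ * z * n) h6
      simpa [mul_assoc] using h8
    have h8 := (hcm x).2
    rw [h7, (hcm y).2] at h8
    have h9 := congrFun h8 0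
    simp only [Matrix.cons_val_zero] at h9
    exact (mul_right_cancel₀ hw1 h9).symm
  have h10 := Nat.card_le_card_of_injective _ hfi
  have h11 : (l c ⊓ MulAut.conj n • l b : Subgroup G) < l c := by
    refine lt_of_le_of_ne inf_le_left fun h12 => hvn ?_
    have h13 : v ∈ (l c ⊓ MulAut.conj n • l b : Subgroup G) := by rw [h12]; exact hv
    exact h13.2
  have h12 := Set.ncard_lt_ncard (show ((l c ⊓ MulAut.conj n • l b : Subgroup G) : Set G) ⊂ (l c : Set G) from h11)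
    (Set.toFinite _)
  rw [← Nat.card_coe_set_eq, ← Nat.card_coe_set_eq] at h12
  have h13 : Nat.card (l c) = q c := card_l h c
  have h14 : Nat.card ((l c ⊓ MulAut.conj n • l b : Subgroup G) : Set G) < Nat.card (l c) := h12
  rw [h13, h4, ← hq] at h14
  exact absurd h10 (not_le.2 h14)

theorem nonempty_ι {S : Sylow 2 G} [Finite G] (hG : Ctx G) (h : NBs (S : Subgroup G) N E D l q) : Nonempty ι := by
  by_contra hι
  rw [not_nonempty_iff] at hι
  have h1 := h.dec.sup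
  rw [iSup_of_empty, bot_sup_eq] at h1
  refine MinSimple.Basic.zc_ne_bot S.isPGroup' (hG.sylow_ne_bot S) (le_bot_iff.1 ?_)
  rw [h1]
  exact zc_le_Wd _

/-- **`⟨C_G(l a : a ≠ b) : b⟩` is nonlocal** if `C_G(Z)` permutes the lines. -/
theorem g1_nloc [Finite G] {S : Sylow 2 G} (hR : RB S) [Finite ι] (h : NBs (S : Subgroup G) N E D l q)
    (hC : ∀ g ∈ centralizer (zc (S : Subgroup G) : Set G), ∀ b, ∃ c, MulAut.conj g • l b = l c)
    (U : Subgroup G) (hU : IsPGroup 2 U) (hN : ∀ b, YY l b ≤ normalizer (U : Set G)) : U = ⊥ := by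
  have := nonempty_ι hR.ctx h
  refine nloc hR.ctx hR.full (E := E) (X := Wd (S : Subgroup G)) (fun b => (l_le h b).trans (h.dec.NU b))
    (S.isPGroup'.to_le (WS hR)) (Wd_abel hR) (l_inj h)
    (fun b c hcb => (h.dec.EC b c (Ne.symm hcb)).trans (centralizer_le (l_le h c))) ?_ hC U hU hN
  intro g hg
  obtain ⟨k, hk, n, hn, e⟩ := Cfsg.Agent.Omega.ML.GMod.exists_frattini (SM hR) S.isPGroup'
    (MinSimple.Basic.not_dvd_relIndex S (SM hR)) (norm_E h) hg
  refine ⟨k⁻¹, inv_mem hk, fun b => ?_⟩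
  have e1 : k⁻¹ * g = n := by rw [e]; group
  rw [e1]
  exact perm_l h hn.1 hn.2 b

/-- `Z ∩ ∏_{b ∈ T} N b ≤ ∏_{b ∈ T} l b` -/
theorem mem_lines (h : NBs S N E D l q) (T : Finset ι) : ∀ x ∈ (⨆ b ∈ T, N b : Subgroup G),
    (∀ b, ∀ s ∈ S ⊓ D b, s * x * s⁻¹ = x) → x ∈ (⨆ b ∈ T, l b : Subgroup G) := by
  classical
  induction T using Finset.induction_on with
  | empty => intro x hx _; simpa using hx
  | insert b T hb ih =>
    intro x hx hs
    have hle : (⨆ c ∈ T, N c) ≤ Wd S := iSup₂_le fun c _ => h.dec.NU c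
    rw [Finset.iSup_insert] at hx ⊢
    obtain ⟨n, hn, y, hy, e⟩ := Blk.mem_sup_of (h.dec.nor (h.dec.NU b) hle) hx
    have hDc : ∀ a c, a ≠ c → ∀ s ∈ S ⊓ D a, ∀ z ∈ N c, s * z * s⁻¹ = z := fun a c hac s hs' z hz =>
      Blk.cent (h.dec.EC a c hac (h.DE a hs'.2)) hz
    have hyb : ∀ s ∈ S ⊓ D b, s * y * s⁻¹ = y := by
      intro s hs'
      have h1 : s ∈ centralizer ((⨆ c ∈ T, N c : Subgroup G) : Set G) := by
        have h2 : (⨆ c ∈ T, N c : Subgroup G) ≤ centralizer ((zpowers s : Subgroup G) : Set G) := by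
          refine iSup₂_le fun c hc => ?_
          rw [le_centralizer_iff, zpowers_le]
          exact h.dec.EC b c (fun e => hb (e ▸ hc)) (h.DE b hs'.2)
        exact (le_centralizer_iff.1 h2) (mem_zpowers s)
      exact Blk.cent h1 hy
    have hnb : ∀ s ∈ S ⊓ D b, s * n * s⁻¹ = n := by
      intro s hs'
      have h1 := hs b s hs'
      have e1 : s * x * s⁻¹ = (s * n * s⁻¹) * (s * y * s⁻¹) := by rw [e]; group
      rw [e1, hyb s hs', e] at h1
      exact mul_right_cancel h1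
    have hnl : n ∈ l b := by
      obtain ⟨F, _, _, _, ev, _, nb⟩ := h.nat b
      obtain ⟨s, hs1, hs2⟩ := nb.sylow 1
      have h1 := hs2 n hn
      rw [hnb s hs1] at h1
      have h2 := congrFun h1 0
      simp only [Matrix.cons_val_zero, one_mul] at h2
      exact (nb.line n).2 ⟨hn, left_eq_add.1 h2⟩
    have hyl : y ∈ (⨆ c ∈ T, l c : Subgroup G) := by
      refine ih y hy fun a s hs' => ?_
      by_cases hab : a = b
      · rw [hab] at hs'; exact hyb s hs'
      · have h1 := hs a s hs'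
        have e1 : s * x * s⁻¹ = (s * n * s⁻¹) * (s * y * s⁻¹) := by rw [e]; group
        rw [e1, hDc a b hab s hs' n hn, e] at h1
        exact mul_left_cancel h1
    rw [e]
    exact mul_mem ((le_sup_left : l b ≤ _) hnl) ((le_sup_right : (⨆ c ∈ T, l c : Subgroup G) ≤ _) hyl)

variable {κ : Type w} {W : κ → Subgroup G} {side : ι → κ}

/-- `W i ∩ Z ≤ ∏_{side b = i} l b` -/
theorem zs_le (h : NBs S N E D l q) [Finite ι] (hW : ∀ i, W i = ⨆ b : {b // side b = i}, N b) (i : κ) :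
    W i ⊓ zc S ≤ ⨆ b : {b // side b = i}, l b := by
  classical
  have := Fintype.ofFinite ι
  intro x hx
  have h1 : (⨆ b : {b // side b = i}, N b) = ⨆ b ∈ Finset.univ.filter (fun b => side b = i), N b := by
    rw [iSup_subtype]
    refine iSup_congr fun b => ?_
    simp
  have h2 : (⨆ b : {b // side b = i}, l b) = ⨆ b ∈ Finset.univ.filter (fun b => side b = i), l b := by
    rw [iSup_subtype]
    refine iSup_congr fun b => ?_
    simp
  rw [h2]
  refine mem_lines h _ x ?_ fun b s hs => ?_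
  · rw [← h1, ← hW i]
    exact hx.1
  · have h3 := (mem_zc.1 hx.2).2.1 s hs.1
    rw [h3]; group

/-- **`⟨C_G(Z_j : j ≠ i) : i⟩` is nonlocal** (any set of classes; 181's `NonLocF`). -/
theorem nonLocF_of [Finite G] {S : Sylow 2 G} (hR : RB S) [Finite ι] (h : NBs (S : Subgroup G) N E D l q)
    (hW : ∀ i, W i = ⨆ b : {b // side b = i}, N b)
    (hC : ∀ g ∈ centralizer (zc (S : Subgroup G) : Set G), ∀ b, ∃ c, MulAut.conj g • l b = l c)
    (U : Subgroup G) (hU : IsPGroup 2 U)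
    (hN : ∀ j, YY (fun i => W i ⊓ zc (S : Subgroup G)) j ≤ normalizer (U : Set G)) : U = ⊥ := by
  refine g1_nloc hR h hC U hU fun b => le_trans ?_ (hN (side b))
  refine le_YY fun i hi => ?_
  refine le_trans ?_ (centralizer_le (zs_le h hW i))
  rw [← le_centralizer_iff]
  refine iSup_le fun a => ?_
  rw [le_centralizer_iff]
  refine YY_le_cent fun hab => hi ?_
  rw [← a.2, hab]

/-- **two classes : `C_G(Z_0)`, `C_G(Z_1)` is a nonlocal pair.** -/
theorem nonLoc_of [Finite G] {S : Sylow 2 G} (hR : RB S) [Finite ι] (h : NBs (S : Subgroup G) N E D l q)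
    {W : Fin 2 → Subgroup G} {side : ι → Fin 2} (hW : Fits N W side) (hC : PermL (S : Subgroup G) l side) :
    NonLoc (centralizer ((W 0 ⊓ zc (S : Subgroup G) : Subgroup G) : Set G))
      (centralizer ((W 1 ⊓ zc (S : Subgroup G) : Subgroup G) : Set G)) := by
  intro U hU h0 h1
  refine nonLocF_of hR h hW (fun g hg b => ?_) U hU fun j => ?_
  · obtain ⟨c, _, hc⟩ := hC g hg b
    exact ⟨c, hc⟩
  · fin_cases j
    · exact (YY_le_cent (Z := fun i => W i ⊓ zc (S : Subgroup G)) (j := (0 : Fin 2)) (l := 1) (by decide)).trans h1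
    · exact (YY_le_cent (Z := fun i => W i ⊓ zc (S : Subgroup G)) (j := (1 : Fin 2)) (l := 0) (by decide)).trans h0

end nbs

end Cfsg.Agent.Omega.NOThreeL.RRed.GOne
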