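import Cfsg.Agent.Omega.NOThreeL.RRed.Def
import Cfsg.Agent.Omega.NOThreeL.RRed.LinTv
import Cfsg.Agent.Omega.TV.Group

/-!
# NO-3L, box R, the smallest shape: L5 and L6 of #21468 ([R-red])

`W = zl S (MZ S)`, `M = MZ S`, `Sd S P₀ v₁ v₂ a t`.  Inputs: L0 (`hl`), L2 (`h2`), L3 (`h3`).

* `Sd.l5` : `R ∈ P*(S)`, `t` centralises `V_R` : `R` centralises `v₁`;
* `Sd.l6` : `R ∈ P*(S)` centralises `v₁` : `R` normalises `⟨v₁, a⟩`.
-/

set_option autoImplicit false
set_option linter.unusedSectionVars false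

namespace Cfsg.Agent.Omega.NOThreeL.RRed

open Subgroup Cfsg Cfsg.Agent.ZN Cfsg.Agent.Omega.MinPar Cfsg.Agent.Omega.Frame Cfsg.Agent.Omega.FrameNOFF
open Cfsg.Agent.Omega.Node.NO3L Cfsg.Agent.Omega.NOThreeL.Basic Cfsg.Agent.Omega.NOThreeL.RTree
open Cfsg.Agent.Omega.NOThreeL.Merge (MZ le_MZ S_le_MZ isLoc_MZ)
open Cfsg.Agent.Omega.TV

universe u

variable {G : Type u} [Group G] [Finite G] {S : Sylow 2 G}

/-- `V* = ⟨Z^M⟩` -/
abbrev Ws (S : Sylow 2 G) : Subgroup G := zl (S : Subgroup G) (MZ (S : Subgroup G))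

theorem norW (S : Sylow 2 G) : ∀ c ∈ MZ (S : Subgroup G), ∀ n ∈ Ws S, c * n * c⁻¹ ∈ Ws S :=
  fun _ hc _ hn => (mem_normalizer_iff.1 (le_normalizer_zl _ _ hc) _).1 hn

namespace Sm

variable (h : Sm S)
include h

theorem loc : IsLoc (S : Subgroup G) (MZ (S : Subgroup G)) := isLoc_MZ h.ctx h.full h.data.noff

theorem sqW : ∀ x ∈ Ws S, x * x = 1 := fun x hx => by
  rw [← pow_two]
  exact (mem_zc.1 (h.loc.zl_le S h.ctx.char2 hx)).2.2

theorem W_le : Ws S ≤ (S : Subgroup G) :=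
  (h.loc.zl_le S h.ctx.char2).trans ((zc_le _).trans (h.loc.o2_le S))

theorem VR_le {R : Subgroup G} (hR : IsParS (S : Subgroup G) R) : zl (S : Subgroup G) R ≤ Ws S :=
  MinSimple.VModule.zl_le (MinSimple.VModule.zc_le_zl _ _) ((le_MZ hR).trans (le_normalizer_zl _ _))

end Sm

/-- The representation of `M` on `W`. -/
noncomputable def rp (h : Sm S) : MZ (S : Subgroup G) →* (EA (Ws S) h.sqW ≃ₗ[ZMod 2] EA (Ws S) h.sqW) :=
  EA.crep h.sqW (MZ (S : Subgroup G)) (norW S)

theorem val_rp (h : Sm S) (g : MZ (S : Subgroup G)) (w : EA (Ws S) h.sqW) :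
    (rp h g w).val = (g : G) * w.val * (g : G)⁻¹ := rfl

/-- `C_S(V_R)` is normalised by `R`, `R ∈ P*(S)`. -/
theorem conj_mem_S (hc : IsCharacteristicTwoType G) {R : Subgroup G} (hR : IsParS (S : Subgroup G) R) {s r : G}
    (hs : s ∈ (S : Subgroup G)) (hsc : s ∈ centralizer (zl (S : Subgroup G) R : Set G)) (hr : r ∈ R) :
    r * s * r⁻¹ ∈ (S : Subgroup G) ∧ r * s * r⁻¹ ∈ centralizer (zl (S : Subgroup G) R : Set G) := by
  have h1 : s ∈ o2 R := by
    rw [← hR.inf_centralizer S hc]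
    exact mem_inf.2 ⟨hs, hsc⟩
  have h2 := (mem_normalizer_iff.1 (le_normalizer_o2 _ hr) s).1 h1
  rw [← hR.inf_centralizer S hc] at h2
  exact mem_inf.1 h2

namespace Sd

variable {P₀ : Subgroup G} {v₁ v₂ a t : G} (h : Sd S P₀ v₁ v₂ a t)
include h

/-- `Z = {1, v₁, v₂, v₁ v₂}` -/
theorem mem_Z {x : G} : x ∈ zc (S : Subgroup G) ↔ x = 1 ∨ x = v₁ ∨ x = v₂ ∨ x = v₁ * v₂ := by
  have e1 := h.ln.zz
  have e2 := h.ln.cc
  have hsub : ({1, v₁, v₂, v₁ * v₂} : Set G) ⊆ (zc (S : Subgroup G) : Set G) := by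
    rintro y (rfl | rfl | rfl | rfl)
    · exact one_mem _
    · exact h.ln.zS
    · exact h.ln.cS
    · exact mul_mem h.ln.zS h.ln.cS
  have hn1 : v₁ * v₂ ≠ 1 := fun h2 => h.ln.ne (by
    have h3 : v₁ * v₂ = v₂ * v₂ := by rw [h2, e2]
    exact mul_right_cancel h3)
  have hn2 : v₁ ≠ v₁ * v₂ := fun h2 => h.ln.c1 (mul_eq_left.1 h2.symm)
  have hn3 : v₂ ≠ v₁ * v₂ := fun h2 => h.ln.z1 (mul_eq_right.1 h2.symm)
  have h4 : ({1, v₁, v₂, v₁ * v₂} : Set G).ncard = 4 := by
    rw [Set.ncard_insert_of_notMem (by simp [h.ln.z1.symm, h.ln.c1.symm, hn1.symm]) (Set.toFinite _),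
      Set.ncard_insert_of_notMem (by simp [h.ln.ne, hn2]) (Set.toFinite _),
      Set.ncard_pair hn3]
  have h5 : (zc (S : Subgroup G) : Set G).ncard = 4 := h.sm.z4
  have h6 := Set.eq_of_subset_of_ncard_le hsub (by rw [h4, h5]) (Set.toFinite _)
  rw [← SetLike.mem_coe, ← h6]
  rfl

/-- `x ∈ N_G(Z)` centralising `v₁` centralises `v₂`. -/
theorem fix_of_norm {x : G} (hx : x ∈ normalizer (zc (S : Subgroup G) : Set G)) (h1 : x * v₁ * x⁻¹ = v₁) :
    x * v₂ * x⁻¹ = v₂ := by
  have h2 := h.mem_Z.1 ((mem_normalizer_iff.1 hx _).1 h.ln.cS)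
  have e0 : ∀ y, x * y * x⁻¹ = 1 → y = 1 := fun y hy => by
    have : y = x⁻¹ * (x * y * x⁻¹) * x := by group
    rw [this, hy]; group
  have e1 : x * v₂ * x⁻¹ ≠ v₁ := fun h3 => h.ln.ne (by
    have h4 : x * v₁ * x⁻¹ = x * v₂ * x⁻¹ := by rw [h1, h3]
    exact mul_left_cancel (mul_right_cancel h4))
  rcases h2 with h2 | h2 | h2 | h2
  · exact absurd (e0 _ h2) h.ln.c1
  · exact absurd h2 e1
  · exact h2
  · exfalso
    -- an odd power of `x` centralises `Z`
    set N := normalizer (zc (S : Subgroup G) : Set G) with hN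
    set C := centralizer (zc (S : Subgroup G) : Set G) with hC
    have hSC : (S : Subgroup G) ≤ C := Cfsg.Agent.MinSimple.VModule.le_centralizer_zc _
    have hCN : C ≤ N := centralizer_le_normalizer _
    have hodd : ¬ 2 ∣ C.relIndex N := by
      intro h3
      have h4 : (S : Subgroup G).relIndex C * C.relIndex N = (S : Subgroup G).relIndex N :=
        relIndex_mul_relIndex _ _ _ hSC hCN
      exact MinSimple.Basic.not_dvd_relIndex S (hSC.trans hCN) (h3.trans (Dvd.intro_left _ h4))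
    have hnorm : (C.subgroupOf N).Normal := by
      constructor
      rintro ⟨y, hy⟩ hyC ⟨n, hn⟩
      rw [mem_subgroupOf] at hyC ⊢
      show n * y * n⁻¹ ∈ C
      rw [hC, mem_centralizer_iff] at hyC ⊢
      intro z hz
      have h4 := hyC (n⁻¹ * z * n) ((mem_normalizer_iff''.1 hn z).1 hz)
      calc z * (n * y * n⁻¹) = n * ((n⁻¹ * z * n) * y) * n⁻¹ := by group
        _ = n * (y * (n⁻¹ * z * n)) * n⁻¹ := by rw [h4]
        _ = n * y * n⁻¹ * z := by group
    have hpow := (C.subgroupOf N).pow_index_mem ⟨x, hx⟩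
    rw [mem_subgroupOf] at hpow
    have hpow' : x ^ (C.relIndex N) ∈ C := hpow
    obtain ⟨k, hk⟩ : ∃ k, C.relIndex N = 2 * k + 1 := by
      obtain ⟨k, hk | hk⟩ := Nat.even_or_odd' (C.relIndex N)
      · exact absurd ⟨k, hk⟩ hodd
      · exact ⟨k, hk⟩
    have h5 : (x * x) * v₂ * (x * x)⁻¹ = v₂ := by
      calc (x * x) * v₂ * (x * x)⁻¹ = x * (x * v₂ * x⁻¹) * x⁻¹ := by group
        _ = x * (v₁ * v₂) * x⁻¹ := by rw [h2]
        _ = (x * v₁ * x⁻¹) * (x * v₂ * x⁻¹) := by group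
        _ = v₂ := by rw [h1, h2, ← mul_assoc, h.ln.zz, one_mul]
    have h6 : Commute (x * x) v₂ := by
      show x * x * v₂ = v₂ * (x * x)
      calc x * x * v₂ = (x * x) * v₂ * (x * x)⁻¹ * (x * x) := by group
        _ = v₂ * (x * x) := by rw [h5]
    have h7 : Commute ((x * x) ^ k) v₂ := h6.pow_left k
    have h8 : x ^ (C.relIndex N) = x * (x * x) ^ k := by
      rw [hk, pow_succ', pow_mul, pow_two]
    rw [h8] at hpow'
    have h9 := (mem_centralizer_iff.1 hpow' v₂ h.ln.cS)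
    -- `x (x²)^k` commutes with `v₂`, hence `x` does
    have h10 : x * v₂ * x⁻¹ = v₂ := by
      have e2 : v₂ * x * (x * x) ^ k = x * v₂ * (x * x) ^ k := by
        calc v₂ * x * (x * x) ^ k = v₂ * (x * (x * x) ^ k) := by group
          _ = x * (x * x) ^ k * v₂ := h9
          _ = x * ((x * x) ^ k * v₂) := by group
          _ = x * v₂ * (x * x) ^ k := by rw [h7.eq]; group
      have e3 := mul_right_cancel e2
      rw [← e3]; group
    rw [h10] at h2
    exact h.ln.z1 (mul_eq_right.1 h2.symm)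

/-- `H ≥ S` centralises `v₁`, moves `v₂`: some `R ∈ P*(S)`, `R ≤ H`, moves `v₂`. -/
theorem exists_par {H : Subgroup G} (hH : IsLoc (S : Subgroup G) H) (h1 : ∀ x ∈ H, x * v₁ * x⁻¹ = v₁)
    (h2 : ∃ x ∈ H, x * v₂ * x⁻¹ ≠ v₂) :
    ∃ R, IsParS (S : Subgroup G) R ∧ R ≤ H ∧ ∃ x ∈ R, x * v₂ * x⁻¹ ≠ v₂ := by
  have key : ∀ x, x ∈ centralizer ({v₂} : Set G) ↔ x * v₂ * x⁻¹ = v₂ := fun x => by
    rw [mem_centralizer_singleton_iff]
    constructor
    · intro e; rw [e]; group
    · intro e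
      calc x * v₂ = x * v₂ * x⁻¹ * x := by group
        _ = v₂ * x := by rw [e]
  have hn : ¬ H ≤ centralizer ({v₂} : Set G) := by
    obtain ⟨x, hx, hx2⟩ := h2
    exact fun h3 => hx2 ((key x).1 (h3 hx))
  obtain ⟨R, hR, hRH, hRn⟩ := hH.exists_not_le S (M := centralizer ({v₂} : Set G)) (fun x hx => by
    rw [mem_inf] at hx
    exact (key x).2 (h.fix_of_norm
      (Cfsg.Agent.MinSimple.VModule.normalizer_le_normalizer_zc _ hx.2) (h1 x hx.1))) hn
  refine ⟨R, ⟨hR, fun h3 => hRn fun x hx => (key x).2 (h.fix_of_norm (h3 hx) (h1 x (hRH hx)))⟩, hRH, ?_⟩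
  by_contra h3
  push Not at h3
  exact hRn fun x hx => (key x).2 (h3 x hx)

theorem SM : (S : Subgroup G) ≤ MZ (S : Subgroup G) := h.sm.loc.le

theorem zW : v₁ ∈ Ws S := MinSimple.VModule.zc_le_zl _ _ h.ln.zS

theorem cW : v₂ ∈ Ws S := MinSimple.VModule.zc_le_zl _ _ h.ln.cS

theorem aW : a ∈ Ws S := h.sm.VR_le h.par h.ln.uV

/-- **The linear situation.** -/
theorem tf (h2 : ∀ g ∈ MZ (S : Subgroup G), g * v₁ * g⁻¹ ∈ zc (S : Subgroup G) → g * v₁ * g⁻¹ = v₁)
    (h3 : ∀ g ∈ MZ (S : Subgroup G), g * v₂ * g⁻¹ = v₂ →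
      g * v₁ * g⁻¹ = v₁ ∨ g * v₁ * g⁻¹ = a ∨ g * v₁ * g⁻¹ = a * v₁) :
    ∃ (x y z : EA (Ws S) h.sm.sqW) (f k : Module.Dual (ZMod 2) (EA (Ws S) h.sm.sqW)), x.val = v₁ ∧ y.val = v₂ ∧
      z.val = a ∧ Tf (rp h.sm) ((S : Subgroup G).subgroupOf (MZ (S : Subgroup G))) x y z f k ∧
      Ind (rp h.sm) ⟨t, h.SM h.tS⟩ x f := by
  have ex : (EA.mk h.sm.sqW v₁ h.zW).val = v₁ := EA.val_mk _
  have ey : (EA.mk h.sm.sqW v₂ h.cW).val = v₂ := EA.val_mk _
  have ez : (EA.mk h.sm.sqW a h.aW).val = a := EA.val_mk _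
  set x := EA.mk h.sm.sqW v₁ h.zW with hx
  set y := EA.mk h.sm.sqW v₂ h.cW with hy
  set z := EA.mk h.sm.sqW a h.aW with hz
  have hx0 : x ≠ 0 := fun e => h.ln.z1 (by rw [← ex]; exact EA.val_eq_one.2 e)
  have htM : t ∈ MZ (S : Subgroup G) := h.SM h.tS
  obtain ⟨f, hf⟩ := exists_functional (rp h.sm ⟨t, htM⟩) hx0 (fun w => by
    rcases h.tv w.val w.val_mem with e | e
    · left; exact EA.ext (by rw [val_rp]; exact e)
    · right; exact EA.ext (by rw [val_rp, EA.val_add, ex]; exact e))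
  have hval : ∀ w : EA (Ws S) h.sm.sqW, t * w.val * t⁻¹ = w.val → f w = 0 := by
    intro w hw
    by_contra hcon
    have h4 := hf w
    rw [z2_ne_zero hcon, one_smul] at h4
    have h5 : rp h.sm ⟨t, htM⟩ w = w := EA.ext (by rw [val_rp]; exact hw)
    rw [h5] at h4
    exact hx0 (add_eq_left.1 h4.symm)
  have fx : f x = 0 := hval x (by rw [ex, ← h.ln.zs h.tS |>.symm]; group)
  have fy : f y = 0 := hval y (by rw [ey, h.ln.cs h.tS]; group)
  have fz : f z = 1 := by
    by_contra hcon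
    have h4 := hf z
    rw [z2_ne_one hcon, zero_smul, add_zero] at h4
    have h5 := congrArg EA.val h4
    rw [val_rp, ez] at h5
    have h6 : a * v₁ = a := h.ta.symm.trans h5
    exact h.ln.z1 (mul_eq_left.1 h6)
  have u1 : Uq (rp h.sm) x f := by
    refine ⟨fun e => ?_, ⟨fx, ⟨t, htM⟩, hf⟩, ?_⟩
    · rw [e] at fz
      exact absurd fz (by simp)
    · rintro ψ ⟨_, ⟨g, hg⟩, hψ⟩
      have htv : Tv (Ws S) v₁ g := by
        intro w hw
        have h4 := congrArg EA.val (hψ (EA.mk h.sm.sqW w hw))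
        rw [val_rp, EA.val_mk] at h4
        rcases z2 (ψ (EA.mk h.sm.sqW w hw)) with h5 | h5
        · left; rw [h5, zero_smul, add_zero, EA.val_mk] at h4; exact h4
        · right; rw [h5, one_smul, EA.val_add, EA.val_mk, ex] at h4; exact h4
      rcases h.uni g hg htv with h4 | h4
      · left
        ext w
        by_contra hcon
        have h5 := hψ w
        rw [z2_ne_zero hcon, one_smul] at h5
        have h6 : rp h.sm ⟨g, hg⟩ w = w := EA.ext (by
          rw [val_rp]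
          show g * w.val * g⁻¹ = w.val
          rw [← mem_centralizer_iff.1 h4 w.val w.val_mem]; group)
        rw [h6] at h5
        exact hx0 (add_eq_left.1 h5.symm)
      · right
        ext w
        have h5 : rp h.sm ⟨g, hg⟩ w = rp h.sm ⟨t, htM⟩ w := EA.ext (by
          rw [val_rp, val_rp]
          show g * w.val * g⁻¹ = t * w.val * t⁻¹
          have h6 := mem_centralizer_iff.1 h4 w.val w.val_mem
          calc g * w.val * g⁻¹ = g * (w.val * (g⁻¹ * t)) * t⁻¹ := by group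
            _ = g * (g⁻¹ * t * w.val) * t⁻¹ := by rw [h6]
            _ = t * w.val * t⁻¹ := by group)
        rw [hψ, hf] at h5
        have h7 := add_left_cancel h5
        rcases z2 (ψ w) with e1 | e1 <;> rcases z2 (f w) with e2 | e2
        · rw [e1, e2]
        · rw [e1, e2, zero_smul, one_smul] at h7
          exact absurd h7.symm hx0
        · rw [e1, e2, zero_smul, one_smul] at h7
          exact absurd h7 hx0
        · rw [e1, e2]
  -- `a = v₁^p`
  obtain ⟨p, hp, hpa⟩ := h.ln.tr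
  have hpM : p ∈ MZ (S : Subgroup G) := le_MZ h.par hp
  have hpx : rp h.sm ⟨p, hpM⟩ x = z := EA.ext (by rw [val_rp, ex, ez]; exact hpa)
  have hpy : rp h.sm ⟨p, hpM⟩ y = y := EA.ext (by rw [val_rp, ey]; exact h.ln.cP p hp)
  obtain ⟨k, uz, hky⟩ : ∃ k, Uq (rp h.sm) z k ∧ k y = 0 := by
    have h4 := u1.conj ⟨p, hpM⟩
    rw [hpx] at h4
    refine ⟨_, h4, ?_⟩
    show f (rp h.sm ⟨p, hpM⟩⁻¹ y) = 0
    have h5 : rp h.sm ⟨p, hpM⟩⁻¹ y = y := by
      conv_lhs => rw [← hpy]
      rw [rinv]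
    rw [h5, fy]
  refine ⟨x, y, z, f, k, ex, ey, ez, ?_, hf⟩
  refine
    { ne1 := hx0
      u1 := u1
      ua := uz
      om := ⟨⟨p, hpM⟩, hpx⟩
      one := fz
      f12 := fy
      fa2 := hky
      t := ⟨⟨t, htM⟩, mem_subgroupOf.2 h.tS, hf⟩
      s1 := fun s hs => EA.ext (by
        rw [val_rp, ex, h.ln.zs (mem_subgroupOf.1 hs)]; group)
      s2 := fun s hs => EA.ext (by
        rw [val_rp, ey, h.ln.cs (mem_subgroupOf.1 hs)]; group)
      sa := fun s hs => by
        rcases h.ln.us s (mem_subgroupOf.1 hs) with e | e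
        · left; exact EA.ext (by rw [val_rp, ez]; exact e)
        · right; exact EA.ext (by rw [val_rp, EA.val_add, ez, ex]; exact e)
      fix := ?_
      L2 := ?_
      L3 := ?_ }
  · intro w hw
    have h4 : w.val ∈ zc (S : Subgroup G) := by
      refine MinSimple.VModule.mem_zc.2 ⟨h.sm.W_le w.val_mem, fun s hs => ?_, ?_⟩
      · have h5 := congrArg EA.val (hw ⟨s, h.SM hs⟩ (mem_subgroupOf.2 hs))
        rw [val_rp] at h5
        calc s * w.val = s * w.val * s⁻¹ * s := by group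
          _ = w.val * s := by rw [h5]
      · rw [pow_two]; exact h.sm.sqW _ w.val_mem
    rcases h.mem_Z.1 h4 with e | e | e | e
    · left; exact EA.val_eq_one.1 e
    · right; left; exact EA.ext (by rw [ex]; exact e)
    · right; right; left; exact EA.ext (by rw [ey]; exact e)
    · right; right; right; exact EA.ext (by rw [EA.val_add, ex, ey]; exact e)
  · rintro c ⟨⟨g, hg⟩, rfl⟩ hc
    have h4 : g * v₁ * g⁻¹ ∈ zc (S : Subgroup G) := by
      have h5 : (rp h.sm ⟨g, hg⟩ x).val ∈ zc (S : Subgroup G) := by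
        refine MinSimple.VModule.mem_zc.2 ⟨h.sm.W_le (EA.val_mem _), fun s hs => ?_, ?_⟩
        · have h6 := congrArg EA.val (hc ⟨s, h.SM hs⟩ (mem_subgroupOf.2 hs))
          rw [val_rp] at h6
          calc s * (rp h.sm ⟨g, hg⟩ x).val = s * (rp h.sm ⟨g, hg⟩ x).val * s⁻¹ * s := by group
            _ = (rp h.sm ⟨g, hg⟩ x).val * s := by rw [h6]
        · rw [pow_two]; exact h.sm.sqW _ (EA.val_mem _)
      rwa [val_rp, ex] at h5
    exact EA.ext (by rw [val_rp, ex]; exact h2 g hg h4)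
  · rintro ⟨g, hg⟩ hgy w hw
    have hg2 : g * v₂ * g⁻¹ = v₂ := by
      have h5 := congrArg EA.val hgy
      rwa [val_rp, ey] at h5
    have hw' : w.val = v₁ ∨ w.val = a ∨ w.val = a * v₁ := by
      rcases hw with rfl | rfl | rfl
      · left; exact ex
      · right; left; exact ez
      · right; right; rw [EA.val_add, ex, ez, h.ln.uz]
    have h6 : ∃ q ∈ P₀, q * v₁ * q⁻¹ = w.val := h.ln.tr_all h.par.le hw'
    obtain ⟨q, hq, hqw⟩ := h6
    have h7 := h3 (g * q) (mul_mem hg (le_MZ h.par hq)) (by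
      calc g * q * v₂ * (g * q)⁻¹ = g * (q * v₂ * q⁻¹) * g⁻¹ := by group
        _ = v₂ := by rw [h.ln.cP q hq, hg2])
    have h8 : g * q * v₁ * (g * q)⁻¹ = (rp h.sm ⟨g, hg⟩ w).val := by
      rw [val_rp]
      show g * q * v₁ * (g * q)⁻¹ = g * w.val * g⁻¹
      rw [← hqw]; group
    rw [h8] at h7
    rcases h7 with e | e | e
    · left; exact EA.ext (by rw [ex]; exact e)
    · right; left; exact EA.ext (by rw [ez]; exact e)
    · right; right; exact EA.ext (by rw [EA.val_add, ex, ez, ← h.ln.uz]; exact e)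

/-- A transvection with centre `d` in `S` centralises `V_R`, or `d` is the `z` of `R`. -/
theorem cent_or {R : Subgroup G} (hR : IsParS (S : Subgroup G) R) {z u c : G} (hLn : Ln (S : Subgroup G) R z u c)
    {s d : G} (hs : s ∈ (S : Subgroup G)) (hd : ∀ w ∈ Ws S, s * w * s⁻¹ = w ∨ s * w * s⁻¹ = w * d) :
    s ∈ centralizer (zl (S : Subgroup G) R : Set G) ∨ d = z := by
  by_cases hsu : s * u * s⁻¹ = u
  · left
    have hsu' : u * s = s * u := by
      calc u * s = s * u * s⁻¹ * s := by rw [hsu]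
        _ = s * u := by group
    rw [mem_centralizer_iff]
    have hy : ∀ y, (y = 1 ∨ y = z ∨ y = u ∨ y = u * z) → y * s = s * y := by
      rintro y (rfl | rfl | rfl | rfl)
      · rw [one_mul, mul_one]
      · exact (hLn.zs hs).symm
      · exact hsu'
      · calc u * z * s = u * (z * s) := by group
          _ = (u * s) * z := by rw [← hLn.zs hs]; group
          _ = s * (u * z) := by rw [hsu']; group
    intro x hx
    obtain ⟨y, hy1, hxy | hxy⟩ := hLn.all x hx
    · rw [hxy]; exact hy y hy1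
    · rw [hxy]
      calc y * c * s = y * (c * s) := by group
        _ = (y * s) * c := by rw [← hLn.cs hs]; group
        _ = s * (y * c) := by rw [hy y hy1]; group
  · right
    have h1 := (hd u (h.sm.VR_le hR hLn.uV)).resolve_left hsu
    have h2 := (hLn.us s hs).resolve_left hsu
    exact mul_left_cancel (h1.symm.trans h2)

section

variable (hl : ∀ P, IsParS (S : Subgroup G) P → ∃ z u c, Ln (S : Subgroup G) P z u c)
  (h2 : ∀ g ∈ MZ (S : Subgroup G), g * v₁ * g⁻¹ ∈ zc (S : Subgroup G) → g * v₁ * g⁻¹ = v₁)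
  (h3 : ∀ g ∈ MZ (S : Subgroup G), g * v₂ * g⁻¹ = v₂ →
      g * v₁ * g⁻¹ = v₁ ∨ g * v₁ * g⁻¹ = a ∨ g * v₁ * g⁻¹ = a * v₁)
include hl h2 h3

set_option maxHeartbeats 2000000 in
/-- **L5 / L6, common part.** The two statements together. -/
theorem l56 {R : Subgroup G} (hR : IsParS (S : Subgroup G) R) :
    (t ∈ centralizer (zl (S : Subgroup G) R : Set G) → R ≤ centralizer ({v₁} : Set G)) ∧
      (R ≤ centralizer ({v₁} : Set G) → R ≤ normalizer (li v₁ a : Set G)) := by
  obtain ⟨x, y, z, f, k, ex, ey, ez, T, hti⟩ := h.tf h2 h3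
  set M := MZ (S : Subgroup G) with hM
  set S' := (S : Subgroup G).subgroupOf M with hS'
  have hSM : (S : Subgroup G) ≤ M := h.SM
  have hc := h.sm.ctx.char2
  -- a transvection of `S` in group form
  have toG : ∀ {s : M} {d : EA (Ws S) h.sm.sqW} {φ}, Ind (rp h.sm) s d φ →
      ∀ w ∈ Ws S, (s : G) * w * (s : G)⁻¹ = w ∨ (s : G) * w * (s : G)⁻¹ = w * d.val := by
    intro s d φ hi w hw
    have h4 := congrArg EA.val (hi (EA.mk h.sm.sqW w hw))
    rw [val_rp, EA.val_mk] at h4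
    rcases z2 (φ (EA.mk h.sm.sqW w hw)) with h5 | h5
    · left; rw [h5, zero_smul, add_zero, EA.val_mk] at h4; exact h4
    · right; rw [h5, one_smul, EA.val_add, EA.val_mk] at h4; exact h4
  -- a centre in `Z` is `v₁`
  have inZ : ∀ {d : EA (Ws S) h.sm.sqW}, d ∈ Om (rp h.sm) x → d.val ∈ zc (S : Subgroup G) → d = x := by
    rintro d ⟨⟨g, hg⟩, rfl⟩ hd
    rw [val_rp, ex] at hd
    exact EA.ext (by rw [val_rp, ex]; exact h2 g hg hd)
  -- `s ≡ t`
  have sameT : ∀ {s : M} {φ}, Uq (rp h.sm) x φ → Ind (rp h.sm) s x φ →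
      ∀ w ∈ Ws S, (s : G) * w * (s : G)⁻¹ = t * w * t⁻¹ := by
    intro s φ hu hi w hw
    have h4 : rp h.sm s (EA.mk h.sm.sqW w hw) = rp h.sm ⟨t, hSM h.tS⟩ (EA.mk h.sm.sqW w hw) := by
      rw [hi, hti, hu.eq T.u1]
    have h5 := congrArg EA.val h4
    rw [val_rp, val_rp, EA.val_mk] at h5
    exact h5
  -- stability of `DS` under `R'` if its transvections centralise `V_R'`
  have stab : ∀ {R' : Subgroup G}, IsParS (S : Subgroup G) R' → ∀ {r : G} (hr : r ∈ M), r ∈ R' →
      ∀ d ∈ DS (rp h.sm) S' x, (∀ s : M, s ∈ S' → ∀ φ, Uq (rp h.sm) d φ → Ind (rp h.sm) s d φ →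
        (s : G) ∈ centralizer (zl (S : Subgroup G) R' : Set G)) →
      rp h.sm ⟨r, hr⟩ d ∈ DS (rp h.sm) S' x := by
    intro R' hR' r hr hrR d hd hcen
    obtain ⟨hdO, φ, hφ, s, hs, hsi⟩ := hd
    refine ⟨Om.conj hdO _, _, hφ.conj ⟨r, hr⟩, ⟨r, hr⟩ * s * ⟨r, hr⟩⁻¹, ?_, hsi.conj _⟩
    rw [hS', mem_subgroupOf]
    exact (conj_mem_S hc hR' (mem_subgroupOf.1 hs) (hcen s hs φ hφ hsi) hrR).1
  -- `P' ≤ C(v₁)` permutes `DS`
  have stab1 : ∀ {R' : Subgroup G}, IsParS (S : Subgroup G) R' → R' ≤ centralizer ({v₁} : Set G) →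
      ∀ {r : G} (hr : r ∈ M), r ∈ R' → ∀ d ∈ DS (rp h.sm) S' x, rp h.sm ⟨r, hr⟩ d ∈ DS (rp h.sm) S' x := by
    intro R' hR' hR1 r hr hrR d hd
    refine stab hR' hr hrR d hd fun s hs φ hφ hsi => ?_
    obtain ⟨z', u', c', hLn⟩ := hl R' hR'
    rcases h.cent_or hR' hLn (mem_subgroupOf.1 hs) (toG hsi) with h4 | h4
    · exact h4
    · exfalso
      have h5 := inZ hd.1 (by rw [h4]; exact hLn.zS)
      apply hLn.mvz
      rw [← h4, h5, ex]
      exact hR1
  have fixg : ∀ {g : G} (hg : g ∈ M), rp h.sm ⟨g, hg⟩ x = x ↔ g * v₁ * g⁻¹ = v₁ := by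
    intro g hg
    constructor
    · intro e
      have := congrArg EA.val e
      rwa [val_rp, ex] at this
    · intro e
      exact EA.ext (by rw [val_rp, ex]; exact e)
  have fixg2 : ∀ {g : G} (hg : g ∈ M), rp h.sm ⟨g, hg⟩ y = y ↔ g * v₂ * g⁻¹ = v₂ := by
    intro g hg
    constructor
    · intro e
      have := congrArg EA.val e
      rwa [val_rp, ey] at this
    · intro e
      exact EA.ext (by rw [val_rp, ey]; exact e)
  have cen1 : ∀ {R' : Subgroup G}, R' ≤ centralizer ({v₁} : Set G) → ∀ r ∈ R', r * v₁ * r⁻¹ = v₁ := by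
    intro R' h4 r hr
    rw [mem_centralizer_singleton_iff.1 (h4 hr)]; group
  -- the group `⟨S, g⟩`
  have hgrp : ∀ (g : M), rp h.sm g x = x → rp h.sm g y ≠ y →
      ∃ R', IsParS (S : Subgroup G) R' ∧ R' ≤ (S : Subgroup G) ⊔ zpowers (g : G) ∧
        R' ≤ centralizer ({v₁} : Set G) ∧ ∃ r ∈ R', r * v₂ * r⁻¹ ≠ v₂ := by
    rintro ⟨g, hg⟩ hg1 hg2
    have hHM : (S : Subgroup G) ⊔ zpowers g ≤ M := sup_le hSM (by rwa [zpowers_le])
    have hH1 : (S : Subgroup G) ⊔ zpowers g ≤ centralizer ({v₁} : Set G) := by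
      refine sup_le (fun s hs => ?_) ?_
      · rw [mem_centralizer_singleton_iff, h.ln.zs hs]
      · rw [zpowers_le, mem_centralizer_singleton_iff]
        have h4 := (fixg hg).1 hg1
        calc g * v₁ = g * v₁ * g⁻¹ * g := by group
          _ = v₁ * g := by rw [h4]
    obtain ⟨R', hR', hRH, r, hr, hr2⟩ := h.exists_par (h.sm.loc.of_le S le_sup_left hHM) (cen1 hH1)
      ⟨g, mem_sup_right (mem_zpowers g), fun h4 => hg2 ((fixg2 hg).2 h4)⟩
    exact ⟨R', hR', hRH, hRH.trans hH1, r, hr, hr2⟩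
  constructor
  · intro htR
    by_contra hcon
    obtain ⟨r, hrR, hr1⟩ : ∃ r ∈ R, r * v₁ * r⁻¹ ≠ v₁ := by
      by_contra h4
      push Not at h4
      apply hcon
      intro r hr
      rw [mem_centralizer_singleton_iff]
      calc r * v₁ = r * v₁ * r⁻¹ * r := by group
        _ = v₁ * r := by rw [h4 r hr]
    have hrM : r ∈ M := le_MZ hR hrR
    obtain ⟨z', u', c', hLn⟩ := hl R hR
    -- `R` permutes `DS`
    have hRD : ∀ r : M, (r : G) ∈ R → ∀ d ∈ DS (rp h.sm) S' x, rp h.sm r d ∈ DS (rp h.sm) S' x := by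
      rintro ⟨r, hr⟩ hrR d hd
      refine stab hR hr hrR d hd fun s hs φ hφ hsi => ?_
      rcases h.cent_or hR hLn (mem_subgroupOf.1 hs) (toG hsi) with h4 | h4
      · exact h4
      · have h5 := inZ hd.1 (by rw [h4]; exact hLn.zS)
        subst h5
        rw [mem_centralizer_iff]
        intro w hw
        have h6 := sameT hφ hsi w (h.sm.VR_le hR hw)
        have h7 := mem_centralizer_iff.1 htR w hw
        have h8 : t * w * t⁻¹ = w := by rw [← h7]; group
        rw [h8] at h6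
        calc w * (s : G) = (s : G) * w * (s : G)⁻¹ * (s : G) := by rw [h6]
          _ = (s : G) * w := by group
    have hPD : ∀ p : M, (p : G) ∈ P₀ → ∀ d ∈ DS (rp h.sm) S' x, d ≠ x →
        rp h.sm p d ∈ DS (rp h.sm) S' x ∧ rp h.sm p d ≠ x := by
      rintro ⟨p, hp⟩ hpP d hd hdx
      have hcen : ∀ s : M, s ∈ S' → ∀ φ, Uq (rp h.sm) d φ → Ind (rp h.sm) s d φ →
          (s : G) ∈ centralizer (zl (S : Subgroup G) P₀ : Set G) := by
        intro s hs φ hφ hsi
        rcases h.cent_or h.par h.ln (mem_subgroupOf.1 hs) (toG hsi) with h4 | h4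
        · exact h4
        · exact absurd (EA.ext (by rw [h4, ex])) hdx
      refine ⟨stab h.par hp hpP d hd hcen, fun h4 => ?_⟩
      obtain ⟨hdO, φ, hφ, s, hs, hsi⟩ := hd
      have h5 := hφ.conj ⟨p, hp⟩
      have h6 := hsi.conj ⟨p, hp⟩
      rw [h4] at h5 h6
      have h7 := sameT h5 h6 a h.aW
      have h8 := (conj_mem_S hc h.par (mem_subgroupOf.1 hs) (hcen s hs φ hφ hsi) hpP).2
      have h9 := mem_centralizer_iff.1 h8 a h.ln.uV
      rw [h.ta] at h7
      have h10 : a = a * v₁ := by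
        rw [← h7]
        show a = p * (s : G) * p⁻¹ * a * (p * (s : G) * p⁻¹)⁻¹
        rw [← h9]; group
      exact h.ln.z1 (mul_eq_left.1 h10.symm)
    obtain ⟨p, hpP, hpa⟩ := h.ln.tr
    obtain ⟨hR12, hfix⟩ := T.delta (P₀ := {p | (p : G) ∈ P₀}) (R := {r | (r : G) ∈ R}) (fun p hp => hPD p hp)
      (fun p hp => (fixg2 p.2).2 (h.ln.cP _ hp))
      ⟨⟨p, le_MZ h.par hpP⟩, hpP, fun e => h.ln.uz_ne (by rw [← hpa]; exact (fixg _).1 e)⟩
      (fun r hr => hRD r hr) ⟨⟨r, hrM⟩, hrR, fun e => hr1 ((fixg hrM).1 e)⟩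
    refine T.five (r := ⟨r, hrM⟩) (hR12 _ hrR) (fun e => hr1 ((fixg hrM).1 e))
      (hRD _ hrR _ T.v1_DS) fun d hd φ hφ h1 => ?_
    by_contra h4
    obtain ⟨g, hg⟩ := hφ.ex
    obtain ⟨R', hR', _, hR1', r', hr', hr2'⟩ := hgrp g (by rw [hg, h1, zero_smul, add_zero])
      (fun e => by
        rw [hg, z2_ne_zero h4, one_smul] at e
        exact Om.ne_zero T.ne1 hd (add_eq_left.1 e))
    have hr'M : r' ∈ M := le_MZ hR' hr'
    have h5 := hfix ⟨r', hr'M⟩ (stab1 hR' hR1' hr'M hr') ((fixg hr'M).2 (cen1 hR1' r' hr'))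
    exact hr2' ((fixg2 hr'M).1 h5)
  · intro hR1
    have key : ∀ r ∈ R, r * a * r⁻¹ = a ∨ r * a * r⁻¹ = a * v₁ := by
      intro r hr
      have hrM : r ∈ M := le_MZ hR hr
      have h4 := T.six (r := ⟨r, hrM⟩) ?_ ((fixg hrM).2 (cen1 hR1 r hr))
      · rcases h4 with h4 | h4
        · left
          have := congrArg EA.val h4
          rwa [val_rp, ez] at this
        · right
          have := congrArg EA.val h4
          rwa [val_rp, EA.val_add, ez, ex] at this
      · intro e he φ g hφ hg h1 h2'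
        obtain ⟨R', hR', hRH, hR1', r', hr', hr2'⟩ := hgrp g (by rw [hg, h1, zero_smul, add_zero])
          (fun e' => by
            rw [hg, h2', one_smul] at e'
            exact Om.ne_zero T.ne1 he (add_eq_left.1 e'))
        obtain ⟨z', u', c', hLn⟩ := hl R' hR'
        have hRM : R' ≤ M := le_MZ hR'
        refine ⟨R'.subgroupOf M, ?_, ?_, ⟨⟨r', hRM hr'⟩, mem_subgroupOf.2 hr', fun e' => hr2' ((fixg2 _).1 e')⟩, ?_⟩
        · intro s hs
          exact mem_subgroupOf.2 (hR'.le (mem_subgroupOf.1 hs))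
        · intro q hq
          have h5 : (q : G) ∈ (S : Subgroup G) ⊔ zpowers (g : G) := hRH (mem_subgroupOf.1 hq)
          have h6 : (S' ⊔ zpowers g).map M.subtype = (S : Subgroup G) ⊔ zpowers (g : G) := by
            rw [Subgroup.map_sup, hS', subgroupOf_map_subtype, inf_eq_left.2 hSM, MonoidHom.map_zpowers]
            rfl
          rw [← h6] at h5
          obtain ⟨q', hq', e'⟩ := h5
          have : q' = q := Subtype.ext e'
          rwa [← this]
        · -- the orbit of `v₂`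
          have hv2 : v₂ ∈ zl (S : Subgroup G) R' := MinSimple.VModule.zc_le_zl _ _ h.ln.cS
          have hu' : ∃ b, (b = u' ∨ b = u' * c') ∧ (∀ q ∈ R', q * v₂ * q⁻¹ = v₂ ∨ q * v₂ * q⁻¹ = b ∨
              q * v₂ * q⁻¹ = b * z') := by
            obtain ⟨s0, hs0, hs0u⟩ := hLn.mv
            obtain ⟨y0, hy0, hv⟩ := hLn.all v₂ hv2
            have hsv : s0 * v₂ * s0⁻¹ = v₂ := by rw [h.ln.cs hs0]; group
            have hs0c : s0 * c' * s0⁻¹ = c' := by rw [hLn.cs hs0]; group
            have hs0z : s0 * z' * s0⁻¹ = z' := by rw [hLn.zs hs0]; group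
            have hs0y : s0 * y0 * s0⁻¹ = y0 := by
              rcases hv with hv | hv
              · rw [← hv]; exact hsv
              · have h7 : (s0 * y0 * s0⁻¹) * (s0 * c' * s0⁻¹) = y0 * c' := by
                  calc (s0 * y0 * s0⁻¹) * (s0 * c' * s0⁻¹) = s0 * (y0 * c') * s0⁻¹ := by group
                    _ = y0 * c' := by rw [← hv]; exact hsv
                rw [hs0c] at h7
                exact mul_right_cancel h7
            have hyz : y0 = z' := by
              rcases hy0 with rfl | rfl | rfl | rfl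
              · exfalso
                rcases hv with hv | hv
                · exact h.ln.c1 hv
                · rw [one_mul] at hv
                  apply hr2'
                  rw [hv]
                  exact hLn.cP r' hr'
              · rfl
              · exact absurd hs0y hs0u
              · exfalso
                apply hs0u
                have h7 : (s0 * u' * s0⁻¹) * (s0 * z' * s0⁻¹) = u' * z' := by
                  calc (s0 * u' * s0⁻¹) * (s0 * z' * s0⁻¹) = s0 * (u' * z') * s0⁻¹ := by group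
                    _ = u' * z' := hs0y
                rw [hs0z] at h7
                exact mul_right_cancel h7
            subst hyz
            rcases hv with hv | hv
            · refine ⟨u', Or.inl rfl, fun q hq => ?_⟩
              rw [hv]
              exact hLn.orb q hq
            · refine ⟨u' * c', Or.inr rfl, fun q hq => ?_⟩
              have h7 : q * (y0 * c') * q⁻¹ = (q * y0 * q⁻¹) * c' := by
                calc q * (y0 * c') * q⁻¹ = (q * y0 * q⁻¹) * (q * c' * q⁻¹) := by group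
                  _ = (q * y0 * q⁻¹) * c' := by rw [hLn.cP q hq]
              rw [hv, h7]
              have h8 : c' * y0 = y0 * c' := by
                have := hLn.cs hLn.z_S
                rw [this]
              rcases hLn.orb q hq with e' | e' | e'
              · left; rw [e']
              · right; left; rw [e']
              · right; right; rw [e', mul_assoc, mul_assoc, h8]
          obtain ⟨b, hb, hb2⟩ := hu'
          have hVW : zl (S : Subgroup G) R' ≤ Ws S := h.sm.VR_le hR'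
          have hzV : z' ∈ zl (S : Subgroup G) R' := MinSimple.VModule.zc_le_zl _ _ hLn.zS
          have hcV : c' ∈ zl (S : Subgroup G) R' := MinSimple.VModule.zc_le_zl _ _ hLn.cS
          have hbV : b ∈ zl (S : Subgroup G) R' := by
            rcases hb with rfl | rfl
            · exact hLn.uV
            · exact mul_mem hLn.uV hcV
          refine ⟨EA.mk h.sm.sqW b (hVW hbV), EA.mk h.sm.sqW (b * z') (hVW (mul_mem hbV hzV)), ?_⟩
          rintro ⟨q, hq⟩ hqR
          have hqR' : q ∈ R' := mem_subgroupOf.1 hqR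
          rcases hb2 q hqR' with e' | e' | e'
          · left; exact (fixg2 hq).2 e'
          · right; left; exact EA.ext (by rw [val_rp, ey]; exact e')
          · right; right; exact EA.ext (by rw [val_rp, ey]; exact e')
    have h4 : ∀ r ∈ R, ∀ w ∈ li v₁ a, r * w * r⁻¹ ∈ li v₁ a := by
      intro r hr w hw
      have e1 : r * v₁ * r⁻¹ = v₁ := cen1 hR1 r hr
      have ha : r * a * r⁻¹ ∈ li v₁ a := by
        rcases key r hr with e2 | e2
        · rw [e2]; exact h.ln.u_mem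
        · rw [e2]; exact mul_mem h.ln.u_mem h.ln.z_mem
      rcases h.ln.mem_li.1 hw with rfl | rfl | rfl | rfl
      · simp
      · rw [e1]; exact h.ln.z_mem
      · exact ha
      · have e3 : r * (a * v₁) * r⁻¹ = (r * a * r⁻¹) * (r * v₁ * r⁻¹) := by group
        rw [e3, e1]
        exact mul_mem ha h.ln.z_mem
    intro r hr
    rw [mem_normalizer_iff]
    intro w
    refine ⟨h4 r hr w, fun hw => ?_⟩
    have h5 := h4 r⁻¹ (inv_mem hr) _ hw
    have e : r⁻¹ * (r * w * r⁻¹) * r⁻¹⁻¹ = w := by group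
    rwa [e] at h5

/-- **L5.** -/
theorem l5 {R : Subgroup G} (hR : IsParS (S : Subgroup G) R)
    (ht : t ∈ centralizer (zl (S : Subgroup G) R : Set G)) : R ≤ centralizer ({v₁} : Set G) :=
  (h.l56 hl h2 h3 hR).1 ht

/-- **L6.** -/
theorem l6 {R : Subgroup G} (hR : IsParS (S : Subgroup G) R) (h1 : R ≤ centralizer ({v₁} : Set G)) :
    R ≤ normalizer (li v₁ a : Set G) := (h.l56 hl h2 h3 hR).2 h1

end

end Sd

end Cfsg.Agent.Omega.NOThreeL.RRed
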