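import Cfsg.Agent.Omega.TV.Dich
import Cfsg.Agent.Omega.IId.OneJ

/-!
# NO-3L, box R, smallest shape: L3 of #21468 (helper858)

`M` acts on `W`, `Ω₁Z(S) = ⟨v₁, v₂⟩`, `t ∈ S` is a transvection of `W` with centre `v₁` and the only one in `M` (T1),
`a ∈ v₁^{C_M(v₂)}` is moved by `t`, `⟨v₁, a⟩` is normalised by `S`.

* `quad v a` : the four-group `{1, v, a, v a}`;
* `gsys` : `GSys (M ⊓ C(v₂)) N v₁` for `N = ⟨v₁^{C_M(v₂)}⟩`;
* `pts` : `v₁^{C_M(v₂)} = {v₁, a, v₁ a}`;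
* `norm` : `C_M(v₂)` normalises `⟨v₁, a⟩`.
-/

set_option autoImplicit false
set_option linter.unusedSectionVars false

namespace Cfsg.Agent.Omega.NOThreeL.RRed.LThree

open Subgroup Cfsg Cfsg.Agent.Omega.TV

variable {G : Type*} [Group G]

/-- `{1, v, a, v a}` -/
def quad (v a : G) (hv : v * v = 1) (ha : a * a = 1) (hc : v * a = a * v) : Subgroup G where
  carrier := {x | x = 1 ∨ x = v ∨ x = a ∨ x = v * a}
  one_mem' := Or.inl rfl
  mul_mem' := by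
    have e1 : v * (v * a) = a := by rw [← mul_assoc, hv, one_mul]
    have e2 : a * v = v * a := hc.symm
    have e3 : a * (v * a) = v := by rw [hc, ← mul_assoc, ha, one_mul]
    have e4 : v * a * v = a := by rw [mul_assoc, ← hc, e1]
    have e5 : v * a * a = v := by rw [mul_assoc, ha, mul_one]
    have e6 : v * a * (v * a) = 1 := by rw [mul_assoc, e3, hv]
    rintro x y (rfl | rfl | rfl | rfl) (rfl | rfl | rfl | rfl) <;>
      simp only [Set.mem_ofPred_eq, one_mul, mul_one, hv, ha, e1, e2, e3, e4, e5, e6, true_or, or_true]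
  inv_mem' := by
    have i1 : v⁻¹ = v := inv_eq_of_mul_eq_one_left hv
    have i2 : a⁻¹ = a := inv_eq_of_mul_eq_one_left ha
    rintro x (rfl | rfl | rfl | rfl)
    · left; exact inv_one
    · right; left; exact i1
    · right; right; left; exact i2
    · right; right; right; rw [mul_inv_rev, i1, i2, hc]

theorem mem_quad {v a : G} {hv : v * v = 1} {ha : a * a = 1} {hc : v * a = a * v} {x : G} :
    x ∈ quad v a hv ha hc ↔ x = 1 ∨ x = v ∨ x = a ∨ x = v * a := Iff.rfl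

/-- the hypotheses of L3 -/
structure In (S M W : Subgroup G) (t v₁ a v₂ : G) : Prop where
  SM : S ≤ M
  S2 : IsPGroup 2 S
  Si : ¬ 2 ∣ S.relIndex M
  Wab : ∀ x ∈ W, ∀ y ∈ W, x * y = y * x
  Wsq : ∀ x ∈ W, x * x = 1
  MW : ∀ g ∈ M, ∀ w ∈ W, g * w * g⁻¹ ∈ W
  v1W : v₁ ∈ W
  fix : ∀ x ∈ W, (∀ s ∈ S, s * x = x * s) → x = 1 ∨ x = v₁ ∨ x = v₂ ∨ x = v₁ * v₂
  v1 : v₁ ≠ 1
  s1 : ∀ s ∈ S, s * v₁ = v₁ * s
  s2 : ∀ s ∈ S, s * v₂ = v₂ * s
  tS : t ∈ S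
  tW : ∀ w ∈ W, t * w * t⁻¹ = w ∨ t * w * t⁻¹ = w * v₁
  ta : t * a * t⁻¹ ≠ a
  a_mem : ∃ c ∈ M, c * v₂ = v₂ * c ∧ a = c * v₁ * c⁻¹
  sa : ∀ s ∈ S, s * a * s⁻¹ = a ∨ s * a * s⁻¹ = v₁ * a
  T1 : ∀ x ∈ M, (∀ w ∈ W, x * w * x⁻¹ = w ∨ x * w * x⁻¹ = w * v₁) →
    (∀ w ∈ W, x * w * x⁻¹ = w) ∨ ∀ w ∈ W, x * w * x⁻¹ = t * w * t⁻¹

namespace In

variable {S M W : Subgroup G} {t v₁ a v₂ : G} (h : In S M W t v₁ a v₂)

/-- `C_M(v₂)` -/
def CC (M : Subgroup G) (v₂ : G) : Subgroup G := M ⊓ centralizer ({v₂} : Set G)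

theorem mem_CC {c : G} : c ∈ CC M v₂ ↔ c ∈ M ∧ c * v₂ = v₂ * c := by
  unfold CC
  rw [mem_inf, mem_centralizer_singleton_iff]

/-- `⟨v₁^{C_M(v₂)}⟩` -/
def NN (M : Subgroup G) (v₁ v₂ : G) : Subgroup G := closure {x | ∃ c ∈ CC M v₂, x = c * v₁ * c⁻¹}

include h

theorem aW : a ∈ W := by
  obtain ⟨c, hc, -, rfl⟩ := h.a_mem
  exact h.MW c hc _ h.v1W

theorem NN_le : NN M v₁ v₂ ≤ W := by
  unfold NN
  rw [closure_le]
  rintro _ ⟨c, hc, rfl⟩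
  exact h.MW c (mem_CC.1 hc).1 _ h.v1W

theorem S_le : S ≤ CC M v₂ := fun s hs => mem_CC.2 ⟨h.SM hs, h.s2 s hs⟩

theorem gsys [Finite G] : GSys (CC M v₂) (NN M v₁ v₂) v₁ := by
  refine IId.One.gsys_of (T := S) (fun x hx => h.Wsq x (h.NN_le hx)) ?_ ?_ h.v1 le_rfl h.S_le h.S2 ?_ h.s1
  · intro c hc n hn
    have key : NN M v₁ v₂ ≤ (NN M v₁ v₂).comap (MulAut.conj c).toMonoidHom := by
      conv_lhs => unfold NN
      rw [closure_le]
      rintro _ ⟨d, hd, rfl⟩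
      change c * (d * v₁ * d⁻¹) * c⁻¹ ∈ NN M v₁ v₂
      refine subset_closure ⟨c * d, mul_mem hc hd, by group⟩
    exact key hn
  · exact subset_closure ⟨1, one_mem _, by group⟩
  · intro h2
    apply h.Si
    have e := relIndex_mul_relIndex S (CC M v₂) M h.S_le inf_le_left
    rw [← e]
    exact Dvd.dvd.mul_right h2 _

/-- **L3** -/
theorem four [Finite G] : ∀ w ∈ NN M v₁ v₂, w = 1 ∨ w = v₁ ∨ w = a ∨ w = v₁ * a := by
  have hG := h.gsys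
  have haN : a ∈ NN M v₁ v₂ := by
    obtain ⟨c, hc, hc2, rfl⟩ := h.a_mem
    exact subset_closure ⟨c, mem_CC.2 ⟨hc, hc2⟩, rfl⟩
  have htC : t ∈ CC M v₂ := h.S_le h.tS
  have hta1 : t * a * t⁻¹ = a * v₁ := (h.tW a h.aW).resolve_left h.ta
  have hv11 : v₁ * v₁ = 1 := h.Wsq _ h.v1W
  have haa : a * a = 1 := h.Wsq _ h.aW
  have hva : v₁ * a = a * v₁ := h.Wab _ h.v1W _ h.aW
  rcases hG.dich htC (fun n hn => h.tW n (h.NN_le hn)) (u := a) (by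
      obtain ⟨c, hc, hc2, e⟩ := h.a_mem
      exact ⟨c, mem_CC.2 ⟨hc, hc2⟩, e⟩) h.ta h.S2 (fun x hx => by rw [h.s1 x hx]; group) h.sa h.S_le
      (fun n hn hfix => by
        have h1 := h.fix n (h.NN_le hn) fun s hs => mul_inv_eq_iff_eq_mul.1 (hfix s hs)
        rcases h1 with e | e | e | e
        · exact ⟨1, one_mem _, fun c _ => by group, Or.inl e⟩
        · exact ⟨1, one_mem _, fun c _ => by group, Or.inr (by rw [e, mul_one])⟩
        · refine ⟨n, hn, fun c hc => ?_, Or.inl rfl⟩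
          rw [e, (mem_CC.1 hc).2, mul_inv_cancel_right]
        · have hN : v₂ ∈ NN M v₁ v₂ := by
            have h3 : v₁ * n ∈ NN M v₁ v₂ := mul_mem hG.mem hn
            have h4 : v₁ * n = v₂ := by rw [e, ← mul_assoc, hv11, one_mul]
            rwa [h4] at h3
          refine ⟨v₂, hN, fun c hc => ?_, Or.inr e⟩
          rw [(mem_CC.1 hc).2, mul_inv_cancel_right]) with h1 | h1
  · exact h1
  -- every transvection of `N` is induced
  intro w hw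
  by_contra hcon
  obtain ⟨x, hx, hxt, hxq⟩ : ∃ x ∈ NN M v₁ v₂, t * x * t⁻¹ = x ∧ x ∉ quad v₁ a hv11 haa hva := by
    rcases h.tW w (h.NN_le hw) with h2 | h2
    · exact ⟨w, hw, h2, hcon⟩
    · refine ⟨w * a, mul_mem hw haN, ?_, fun hq => hcon ?_⟩
      · have hwv := h.Wab w (h.NN_le hw) v₁ h.v1W
        calc t * (w * a) * t⁻¹ = (t * w * t⁻¹) * (t * a * t⁻¹) := by group
          _ = w * (v₁ * (a * v₁)) := by rw [h2, hta1]; group
          _ = w * a := by rw [← hva, ← mul_assoc v₁ v₁ a, hv11, one_mul]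
      · have h3 : w * a * a ∈ quad v₁ a hv11 haa hva := mul_mem hq (Or.inr (Or.inr (Or.inl rfl)))
        rwa [mul_assoc, haa, mul_one] at h3
  have hqN : quad v₁ a hv11 haa hva ≤ NN M v₁ v₂ := by
    rintro y (rfl | rfl | rfl | rfl)
    · exact one_mem _
    · exact hG.mem
    · exact haN
    · exact mul_mem hG.mem haN
  obtain ⟨g, hg, hgU, hgx, -⟩ := h1 (quad v₁ a hv11 haa hva) hqN a (Or.inr (Or.inr (Or.inl rfl))) x hx hxq
  have hgM := (mem_CC.1 hg).1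
  have hgv : g * v₁ * g⁻¹ = v₁ := hgU v₁ (Or.inr (Or.inl rfl))
  have hgW : ∀ w ∈ W, g⁻¹ * w * g ∈ W := fun w hw => by
    have := h.MW g⁻¹ (inv_mem hgM) w hw
    rwa [inv_inv] at this
  have htM : t ∈ M := h.SM h.tS
  rcases h.T1 (g * t * g⁻¹) (mul_mem (mul_mem hgM htM) (inv_mem hgM)) (fun w hw => by
      have e : g * t * g⁻¹ * w * (g * t * g⁻¹)⁻¹ = g * (t * (g⁻¹ * w * g) * t⁻¹) * g⁻¹ := by group
      rw [e]
      rcases h.tW _ (hgW w hw) with h2 | h2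
      · left; rw [h2]; group
      · right
        rw [h2]
        calc g * (g⁻¹ * w * g * v₁) * g⁻¹ = w * (g * v₁ * g⁻¹) := by group
          _ = w * v₁ := by rw [hgv]) with h2 | h2
  · apply h.ta
    have h3 := h2 _ (h.MW g hgM a h.aW)
    calc t * a * t⁻¹ = g⁻¹ * (g * t * g⁻¹ * (g * a * g⁻¹) * (g * t * g⁻¹)⁻¹) * g := by group
      _ = a := by rw [h3]; group
  · apply h.ta
    have hxaW : x * a ∈ W := mul_mem (h.NN_le hx) h.aW
    have h3 := h2 _ hxaW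
    have e1 : g⁻¹ * (x * a) * g = x := by rw [← hgx]; group
    have e2 : g * t * g⁻¹ * (x * a) * (g * t * g⁻¹)⁻¹ = x * a := by
      calc g * t * g⁻¹ * (x * a) * (g * t * g⁻¹)⁻¹ = g * (t * (g⁻¹ * (x * a) * g) * t⁻¹) * g⁻¹ := by group
        _ = g * x * g⁻¹ := by rw [e1, hxt]
        _ = x * a := hgx
    have e3 : t * (x * a) * t⁻¹ = x * (t * a * t⁻¹) := by
      calc t * (x * a) * t⁻¹ = (t * x * t⁻¹) * (t * a * t⁻¹) := by group
        _ = x * (t * a * t⁻¹) := by rw [hxt]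
    rw [e2, e3] at h3
    exact (mul_left_cancel h3).symm

/-- `v₁^{C_M(v₂)} = {v₁, a, v₁ a}` -/
theorem pts [Finite G] {c : G} (hc : c ∈ M) (hc2 : c * v₂ = v₂ * c) :
    c * v₁ * c⁻¹ = v₁ ∨ c * v₁ * c⁻¹ = a ∨ c * v₁ * c⁻¹ = v₁ * a := by
  rcases h.four (c * v₁ * c⁻¹) (subset_closure ⟨c, mem_CC.2 ⟨hc, hc2⟩, rfl⟩) with h1 | h1
  · exact absurd (conj_eq_one_iff.1 h1) h.v1
  · exact h1

/-- `C_M(v₂)` normalises `⟨v₁, a⟩` -/
theorem conj_mem [Finite G] {c : G} (hc : c ∈ M) (hc2 : c * v₂ = v₂ * c) {x : G}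
    (hx : x = 1 ∨ x = v₁ ∨ x = a ∨ x = v₁ * a) :
    c * x * c⁻¹ = 1 ∨ c * x * c⁻¹ = v₁ ∨ c * x * c⁻¹ = a ∨ c * x * c⁻¹ = v₁ * a := by
  have haN : a ∈ NN M v₁ v₂ := by
    obtain ⟨c, hc, hc2, rfl⟩ := h.a_mem
    exact subset_closure ⟨c, mem_CC.2 ⟨hc, hc2⟩, rfl⟩
  refine h.four _ (h.gsys.nor c (mem_CC.2 ⟨hc, hc2⟩) x ?_)
  rcases hx with rfl | rfl | rfl | rfl
  · exact one_mem _
  · exact h.gsys.mem
  · exact haN
  · exact mul_mem h.gsys.mem haN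

/-- the same for a subgroup with the elements `1, v₁, a, v₁ a` -/
theorem le_norm [Finite G] {V : Subgroup G} (hV : ∀ x, x ∈ V ↔ x = 1 ∨ x = v₁ ∨ x = a ∨ x = v₁ * a) :
    M ⊓ centralizer ({v₂} : Set G) ≤ normalizer (V : Set G) := by
  intro c hc
  have hc' := mem_CC.1 hc
  rw [mem_normalizer_iff]
  intro x
  constructor
  · intro hx
    exact (hV _).2 (h.conj_mem hc'.1 hc'.2 ((hV x).1 hx))
  · intro hx
    have hi := mem_CC.1 (inv_mem hc : c⁻¹ ∈ CC M v₂)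
    have h1 := h.conj_mem hi.1 hi.2 ((hV _).1 hx)
    have e : c⁻¹ * (c * x * c⁻¹) * c⁻¹⁻¹ = x := by group
    rw [e] at h1
    exact (hV x).2 h1

end In

end Cfsg.Agent.Omega.NOThreeL.RRed.LThree
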