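import Cfsg.Agent.Omega.NOThreeL.RRed.Def
import Cfsg.Agent.Omega.NOThreeL.RRed.LThree

/-!
# NO-3L, box R, the smallest shape: L3 of #21468 (`C_M(v₂)` permutes the points of the line `⟨v₁, a⟩`)
-/

set_option autoImplicit false
set_option linter.unusedSectionVars false

namespace Cfsg.Agent.Omega.NOThreeL.RRed

open Subgroup Cfsg Cfsg.Agent.Omega.MinPar
open Cfsg.Agent.ZN (zc zl o2)
open Cfsg.Agent.Omega.NOThreeL.Merge (MZ)
open Cfsg.Agent.MinSimple.VModule (mem_zc zc_le zc_le_zl le_normalizer_zl zc_comm zc_sq)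

universe u

variable {G : Type u} [Group G] [Finite G] {S : Sylow 2 G}

/-- `Ω₁(Z(S)) = {1, z, c, z c}` -/
theorem Ln.zS_of {P : Subgroup G} {z u c : G} (h : Ln (S : Subgroup G) P z u c)
    (h4 : Nat.card (zc (S : Subgroup G)) = 4) {x : G} :
    x ∈ zc (S : Subgroup G) ↔ x = 1 ∨ x = z ∨ x = c ∨ x = z * c := by
  have hzc : z * c ∈ zc (S : Subgroup G) := mul_mem h.zS h.cS
  have hne1 : z * c ≠ 1 := fun e => h.ne (by
    have h1 : z * c = c * c := by rw [e, h.cc]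
    exact mul_right_cancel h1)
  have hne2 : z * c ≠ z := fun e => h.c1 (by simpa using e)
  have hne3 : z * c ≠ c := fun e => h.z1 (by simpa using e)
  have hsub : ({1, z, c, z * c} : Set G) ⊆ (zc (S : Subgroup G) : Set G) := by
    rintro y (rfl | rfl | rfl | rfl)
    · exact one_mem _
    · exact h.zS
    · exact h.cS
    · exact hzc
  have hcard : ({1, z, c, z * c} : Set G).ncard = 4 := by
    rw [Set.ncard_insert_of_notMem (by simp [h.z1.symm, h.c1.symm, hne1.symm]) (Set.toFinite _),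
      Set.ncard_insert_of_notMem (by simp [h.ne, hne2.symm]) (Set.toFinite _),
      Set.ncard_pair hne3.symm]
  have h1 : ({1, z, c, z * c} : Set G) = (zc (S : Subgroup G) : Set G) := by
    refine Set.eq_of_subset_of_ncard_le hsub ?_ (Set.toFinite _)
    rw [hcard]
    exact le_of_eq h4
  rw [← SetLike.mem_coe, ← h1]
  rfl

namespace Sd

variable {P₀ : Subgroup G} {v₁ v₂ a t : G} (h : Sd S P₀ v₁ v₂ a t)
include h

theorem isLoc : IsLoc (S : Subgroup G) (MZ (S : Subgroup G)) := Merge.isLoc_MZ h.sm.ctx h.sm.full h.sm.data.noff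

theorem zl_zc : zl (S : Subgroup G) (MZ (S : Subgroup G)) ≤ zc (o2 (MZ (S : Subgroup G))) :=
  h.isLoc.zl_le S h.sm.ctx.char2

theorem zl_S : zl (S : Subgroup G) (MZ (S : Subgroup G)) ≤ (S : Subgroup G) :=
  (h.zl_zc.trans (zc_le _)).trans (h.isLoc.o2_le S)

/-- the input of `LThree` -/
theorem inThree : LThree.In (S : Subgroup G) (MZ (S : Subgroup G)) (zl (S : Subgroup G) (MZ (S : Subgroup G))) t v₁ a v₂ where
  SM := h.isLoc.le
  S2 := S.isPGroup'
  Si := MinSimple.Basic.not_dvd_relIndex S h.isLoc.le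
  Wab x hx y hy := zc_comm _ _ (h.zl_zc hx) _ (h.zl_zc hy)
  Wsq x hx := by rw [← pow_two]; exact zc_sq _ _ (h.zl_zc hx)
  MW g hg w hw := (mem_normalizer_iff.1 (le_normalizer_zl _ _ hg) w).1 hw
  v1W := zc_le_zl _ _ h.ln.zS
  fix x hx hs := by
    rw [← h.ln.zS_of h.sm.z4]
    exact mem_zc.2 ⟨h.zl_S hx, hs, zc_sq _ _ (h.zl_zc hx)⟩
  v1 := h.ln.z1
  s1 s hs := h.ln.zs hs
  s2 s hs := h.ln.cs hs
  tS := h.tS
  tW := h.tv
  ta e := by
    rw [h.ta] at e
    exact h.ln.z1 (by simpa using e)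
  a_mem := by
    obtain ⟨p, hp, e⟩ := h.ln.tr
    refine ⟨p, Merge.le_MZ h.par hp, ?_, e.symm⟩
    have := h.ln.cP p hp
    exact mul_inv_eq_iff_eq_mul.1 this
  sa s hs := by
    rw [← h.ln.uz]
    exact h.ln.us s hs
  T1 x hx hT := by
    rcases h.uni x hx hT with h1 | h1
    · left
      intro w hw
      rw [← mem_centralizer_iff.1 h1 w hw]; group
    · right
      intro w hw
      have h2 := mem_centralizer_iff.1 h1 w hw
      calc x * w * x⁻¹ = x * (w * (x⁻¹ * t)) * t⁻¹ := by group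
        _ = x * ((x⁻¹ * t) * w) * t⁻¹ := by rw [h2]
        _ = t * w * t⁻¹ := by group

/-- **L3** -/
theorem l3 : ∀ g ∈ MZ (S : Subgroup G), g * v₂ * g⁻¹ = v₂ →
    g * v₁ * g⁻¹ = v₁ ∨ g * v₁ * g⁻¹ = a ∨ g * v₁ * g⁻¹ = a * v₁ := by
  intro g hg hg2
  rw [h.ln.uz]
  exact h.inThree.pts hg (mul_inv_eq_iff_eq_mul.1 hg2)

/-- `C_M(v₂)` normalises the line -/
theorem l3_norm {g : G} (hg : g ∈ MZ (S : Subgroup G)) (hg2 : g * v₂ * g⁻¹ = v₂) :
    g ∈ normalizer (li v₁ a : Set G) := by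
  refine h.inThree.le_norm (V := li v₁ a) (fun x => ?_) ⟨hg, ?_⟩
  · rw [h.ln.mem_li, h.ln.uz]
  · exact mem_centralizer_singleton_iff.2 (mul_inv_eq_iff_eq_mul.1 hg2)

end Sd

end Cfsg.Agent.Omega.NOThreeL.RRed
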