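import Cfsg.Agent.Omega.NOThreeL.RRed.L7
import Cfsg.Agent.Omega.NOThreeL.RZ.Frame

/-!
# NO-3L, box R, smallest shape: `RR S = 1` in place of (RC')

* `Sd.par_eq` : a member `R` of `P*(S)` which centralises `v₂` is `C_R(EE S t) S`;
* `Sd.not_nn` : `RR S = 1` implies that `V^(v₂) = VZ S v₂` is not in `NN(S)`;
* `Sd.S_le_YZ` : `S ≤ YZ S v₂`;
* `Sd.l7_rr` : `Sd.l7_of` with these two.
-/

set_option autoImplicit false
set_option linter.unusedSectionVars false

namespace Cfsg.Agent.Omega.NOThreeL.RRed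

open Subgroup Cfsg Cfsg.Agent.ZN Cfsg.Agent.Omega.MinPar Cfsg.Agent.Omega.Frame Cfsg.Agent.Omega.FrameNOFF
open Cfsg.Agent.Omega.Node.NO3L Cfsg.Agent.Omega.NOThreeL.Basic Cfsg.Agent.Omega.NOThreeL.RTree
open Cfsg.Agent.Omega.NOThreeL.Merge (MZ)
open Cfsg.Agent.Omega.NOThreeL.ZCut (FZ YZ XZ VZ)
open Cfsg.Agent.Omega.NO3b.Bang (bang NN)
open Cfsg.Agent.ZN.ChoiceBase (cj cj_inf cj_centralizer cj_eq_of_mem_normalizer mem_normalizer_iff_cj mem_cj cj_mono
  cj_cj_inv)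
open scoped Pointwise

universe u

variable {G : Type u} [Group G] [Finite G] {S : Sylow 2 G} {P₀ : Subgroup G} {v₁ v₂ a t : G}

namespace Sd

variable (h : Sd S P₀ v₁ v₂ a t)
include h

theorem par_eq (hnrm : ∀ R, IsParS (S : Subgroup G) R → R ≤ normalizer (li v₁ a : Set G)) {R : Subgroup G}
    (hR : IsParS (S : Subgroup G) R) (h2 : R ≤ centralizer ({v₂} : Set G)) :
    R ⊓ centralizer (EE (S : Subgroup G) t : Set G) ⊔ (S : Subgroup G) = R := by
  have hE : R ≤ normalizer (EE (S : Subgroup G) t : Set G) := by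
    intro g hg
    rw [mem_normalizer_iff]
    intro w
    refine ⟨fun hw => conj_mem_EE (par_le_MZ hR hg) hw, fun hw => ?_⟩
    have h3 := conj_mem_EE (inv_mem (par_le_MZ hR hg)) hw
    have e : g⁻¹ * (g * w * g⁻¹) * g⁻¹⁻¹ = w := by group
    rwa [e] at h3
  have hn : R ≤ normalizer ((R ⊓ centralizer (EE (S : Subgroup G) t : Set G) : Subgroup G) : Set G) := by
    intro p hp
    rw [mem_normalizer_iff_cj, cj_inf, cj_centralizer, cj_eq_of_mem_normalizer (le_normalizer hp),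
      cj_eq_of_mem_normalizer (hE hp)]
  rcases hR.toIsPar.sup_eq_or_inf_le S inf_le_left hn with h1 | h1
  · exact h1
  exfalso
  -- `R` moves `v₁`
  have h3 : ¬ R ≤ centralizer ({v₁} : Set G) := by
    intro h3
    apply hR.not_zc
    refine le_trans ?_ (centralizer_le_normalizer _)
    intro r hr
    rw [mem_centralizer_iff]
    intro x hx
    have e1 := mem_centralizer_singleton_iff.1 (h3 hr)
    have e2 := mem_centralizer_singleton_iff.1 (h2 hr)
    rcases h.l7_zc hx with e | e | e | e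
    · rw [e, one_mul, mul_one]
    · rw [e, e1]
    · rw [e, e2]
    · rw [e, mul_assoc, ← e2, ← mul_assoc, ← e1, mul_assoc]
  obtain ⟨r, hr, hrv⟩ : ∃ r ∈ R, r * v₁ * r⁻¹ ≠ v₁ := by
    by_contra hcon
    push Not at hcon
    apply h3
    intro r hr
    rw [mem_centralizer_singleton_iff]
    calc r * v₁ = (r * v₁ * r⁻¹) * r := by group
      _ = v₁ * r := by rw [hcon r hr]
  have h4 : r * v₁ * r⁻¹ ∈ li v₁ a := (mem_normalizer_iff.1 (hnrm R hR hr) v₁).1 h.ln.z_mem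
  have h5 : r * v₁ * r⁻¹ ≠ 1 := fun e => h.ln.z1 (conj_eq_one_iff.1 e)
  apply h.t_mv h4 h5 hrv
  have htR : t ∈ R := hR.le h.tS
  have htE : t ∈ centralizer (EE (S : Subgroup G) t : Set G) := by
    rw [mem_centralizer_iff]
    intro w hw
    have h6 := (mem_EE.1 hw).2 1 (one_mem _)
    simpa using h6.symm
  have hto : t ∈ o2 R := h1 ⟨h.tS, htR, htE⟩
  have h7 : r⁻¹ * t * r ∈ (S : Subgroup G) :=
    hR.isLoc.o2_le S ((mem_normalizer_iff''.1 (MinSimple.VModule.le_normalizer_o2 R hr) t).1 hto)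
  have h8 := h.ln.zs h7
  calc t * (r * v₁ * r⁻¹) * t⁻¹ = r * ((r⁻¹ * t * r) * v₁) * (r⁻¹ * t⁻¹) := by group
    _ = r * (v₁ * (r⁻¹ * t * r)) * (r⁻¹ * t⁻¹) := by rw [h8]
    _ = r * v₁ * r⁻¹ := by group

omit h in
theorem cent_le_norm {v : G} : centralizer ({v} : Set G) ≤ normalizer ((zpowers v : Subgroup G) : Set G) := by
  refine le_trans ?_ (centralizer_le_normalizer _)
  intro g hg
  rw [mem_centralizer_iff] at hg ⊢
  intro x hx
  obtain ⟨k, rfl⟩ := mem_zpowers_iff.1 hx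
  have e : Commute v g := hg v rfl
  exact (e.zpow_left k).eq

/-- Some `R ∈ P*(S)` moves `v₂`. -/
theorem S_le_YZ : (S : Subgroup G) ≤ YZ (S : Subgroup G) v₂ := by
  by_contra hcon
  have hz := h.ln.cS
  have h1 : zpowers v₂ = ⊥ := by
    refine FrameNOFF.eq_bot_of_norm h.sm.ctx S h.sm.full (S.isPGroup'.to_le ?_) (fun P hP => ?_) ?_
    · rw [zpowers_le]; exact MinSimple.VModule.zc_le _ hz
    · refine le_trans ?_ cent_le_norm
      by_contra h2
      exact hcon (hP.le.trans (ZCut.le_YZ ⟨hP, h2⟩))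
    · exact (centralizer_le (Set.singleton_subset_iff.2 hz)).trans cent_le_norm
  exact h.ln.c1 (zpowers_eq_bot.1 h1)

/-- **`RR S = 1` in place of (RC').** -/
theorem not_nn (hr : RZ.RR (S : Subgroup G) = ⊥)
    (hnrm : ∀ R, IsParS (S : Subgroup G) R → R ≤ normalizer (li v₁ a : Set G)) :
    ¬ NN (S : Subgroup G) (VZ (S : Subgroup G) v₂) := by
  intro hN
  have hVE := h.VZ_le_EE hnrm
  have hys : Star.YS (S : Subgroup G) ≤ normalizer (VZ (S : Subgroup G) v₂ : Set G) := by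
    refine sSup_le fun R hR => ?_
    by_cases h2 : R ≤ centralizer ({v₂} : Set G)
    · rw [← h.par_eq hnrm hR h2]
      refine sup_le (inf_le_right.trans ?_) hN.norm
      exact (centralizer_le hVE).trans (centralizer_le_normalizer _)
    · exact (ZCut.le_YZ (show R ∈ FZ (S : Subgroup G) v₂ from ⟨hR, h2⟩)).trans (ZCut.le_normalizer_XZ _ _)
  have hI : RZ.Inv (S : Subgroup G) (VZ (S : Subgroup G) v₂) := by
    refine ⟨hN, hys, ZCut.XZ_le fun p hp => ?_⟩
    have hp' : p ∈ Star.YS (S : Subgroup G) :=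
      (sSup_le fun P hP => Star.le_YS hP.1 : YZ (S : Subgroup G) v₂ ≤ Star.YS (S : Subgroup G)) hp
    refine NoFF.Basic.Z_le_V hp' ?_
    rw [NoFF.Basic.mem_conj]
    have e : p⁻¹ * (p * v₂ * p⁻¹) * p = v₂ := by group
    rw [e]
    exact ⟨ZCut.mem_XZ, h.ln.cS⟩
  have h1 := hI.le_RR
  rw [hr] at h1
  exact h.ln.c1 (mem_bot.1 (h1 ZCut.mem_XZ))

/-- **L7** with `RR S = 1`. -/
theorem l7_rr (hcen : ∀ R, IsParS (S : Subgroup G) R →
      R ≤ centralizer ({v₁} : Set G) ∨ R ≤ centralizer ({v₂} : Set G))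
    (hnrm : ∀ R, IsParS (S : Subgroup G) R → R ≤ normalizer (li v₁ a : Set G))
    (line : ∀ R, IsParS (S : Subgroup G) R → ∃ z u c, Ln (S : Subgroup G) R z u c) :
    ∃ P₂ b, IsParS (S : Subgroup G) P₂ ∧ Ln (S : Subgroup G) P₂ v₂ b v₁ ∧
      ∀ R, IsParS (S : Subgroup G) R → R ≤ normalizer (li v₂ b : Set G) :=
  h.l7_of hcen hnrm line h.S_le_YZ (h.not_nn h.sm.rr hnrm)

end Sd

end Cfsg.Agent.Omega.NOThreeL.RRed
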