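import Cfsg.Agent.Omega.NOThreeL.RRed.Bridge
import Cfsg.Agent.Omega.NOThreeL.RRed.L3
import Cfsg.Agent.Omega.NOThreeL.RRed.NotNN

/-!
# NO-3L, box R: the smallest shape gives `Two S V P v` (#21468)

* `LineS` (L0), `SideS` (L1) : the K-free sockets (L2 - L7 are theorems);
* `exists_two_of` : they give `Two S V P v` for the smallest shape;
* `TCR K` : the frame of CARD #18791 with the hypotheses of box R (the card, `[A]`, `[B]`);
* the other shapes of (RC'): `RRank K` (`|Z| ≥ 8`, all `|Z : C_Z(P)| = 2`), `RFour K` (`|Z| = 4`, all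
  `|Z : C_Z(P)| = 2`, some `|V_P| ≠ 8`), `RWide K` (some `|Z : C_Z(P)| ≥ 4`);
* `rbc_of` : `LineS`, `SideS`, `TCR K`, `RRank K`, `RFour K`, `RWide K` imply `RTree.RBc K`.
-/

set_option autoImplicit false
set_option linter.unusedSectionVars false

namespace Cfsg.Agent.Omega.NOThreeL.RRed

open Subgroup Cfsg Cfsg.Agent.ZN Cfsg.Agent.Omega.MinPar Cfsg.Agent.Omega.Frame Cfsg.Agent.Omega.FrameNOFF
open Cfsg.Agent.Omega.Node.NO3L Cfsg.Agent.Omega.NOThreeL.Basic Cfsg.Agent.Omega.NOThreeL.RTree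
open Cfsg.Agent.Omega.NOThreeL.Merge (MZ)
open Cfsg.Agent.Omega.NOThreeL.ZCut (FZ)
open Cfsg.Agent.Omega.NO3b.Bang (bang)

universe u

variable {G : Type u} [Group G]

section sockets

/-- L0 -/
def LineS : Prop :=
  ∀ (G : Type u) [Group G] [Finite G] (S : Sylow 2 G), Sm S → ∀ P : Subgroup G, IsParS (S : Subgroup G) P →
    ∃ z u c, Ln (S : Subgroup G) P z u c

/-- L1 -/
def SideS : Prop :=
  ∀ (G : Type u) [Group G] [Finite G] (S : Sylow 2 G), Sm S → ∃ P₀ v₁ v₂ a t, Sd S P₀ v₁ v₂ a t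

variable (K : Cls.{u})

/-- The frame of CARD #18791 in box R. -/
def TCR : Prop :=
  ∀ (G : Type u) [Group G] [Finite G], K G → ∀ (S : Sylow 2 G), RB S → ∀ (V P : Fin 2 → Subgroup G)
    (v : Fin 2 → G), Two (S : Subgroup G) V P v → TC.Fr (S : Subgroup G) V P v → IsKnownSimple' G

/-- (RC') -/
def RC {G : Type u} [Group G] [Finite G] (S : Sylow 2 G) : Prop :=
  ∀ z ∈ zc (S : Subgroup G), z ≠ 1 →
    ∃ P ∈ FZ (S : Subgroup G) z, ¬ P ≤ normalizer (bang (S : Subgroup G) : Set G)

/-- `|Z| = 2 |C_Z(P)|` for all `P ∈ P*(S)`. -/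
def Thin (S : Subgroup G) : Prop :=
  ∀ P, IsParS S P → Nat.card (zc S) = 2 * Nat.card ↥(zc S ⊓ centralizer (P : Set G))

/-- (RC'), `|Z| ≥ 8`, all `|Z : C_Z(P)| = 2`. -/
def RRank : Prop :=
  ∀ (G : Type u) [Group G] [Finite G], K G → ∀ (S : Sylow 2 G), RB S → RC S → Thin (S : Subgroup G) →
    8 ≤ Nat.card (zc (S : Subgroup G)) → IsKnownSimple' G

/-- (RC'), `|Z| = 4`, all `|Z : C_Z(P)| = 2`, some `|V_P| ≠ 8`. -/
def RFour : Prop :=
  ∀ (G : Type u) [Group G] [Finite G], K G → ∀ (S : Sylow 2 G), RB S → RC S → Thin (S : Subgroup G) →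
    Nat.card (zc (S : Subgroup G)) = 4 →
      (∃ P, IsParS (S : Subgroup G) P ∧ Nat.card (zl (S : Subgroup G) P) ≠ 8) → IsKnownSimple' G

/-- (RC'), some `|Z : C_Z(P)| ≥ 4`. -/
def RWide : Prop :=
  ∀ (G : Type u) [Group G] [Finite G], K G → ∀ (S : Sylow 2 G), RB S → RC S →
    (∃ P, IsParS (S : Subgroup G) P ∧
      4 * Nat.card ↥(zc (S : Subgroup G) ⊓ centralizer (P : Set G)) ≤ Nat.card (zc (S : Subgroup G))) →
      IsKnownSimple' G

end sockets

theorem exists_two_of (hL : LineS.{u}) (hS : SideS.{u}) {G : Type u} [Group G] [Finite G]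
    {S : Sylow 2 G} (h : Sm S) : ∃ (V P : Fin 2 → Subgroup G) (v : Fin 2 → G), Two (S : Subgroup G) V P v := by
  obtain ⟨P₀, v₁, v₂, a, t, hd⟩ := hS G S h
  have hm := fun R (hR : IsParS (S : Subgroup G) R) => hd.main (hL G S h) hd.l3 hR
  obtain ⟨P₂, b, hP2, hl2, h8⟩ := hd.l7_rr (fun R hR => (hm R hR).1) (fun R hR => (hm R hR).2) (hL G S h)
  have h2 : ∀ i : Fin 2, i = 0 ∨ i = 1 := by decide
  refine ⟨![li v₁ a, li v₂ b], ![P₀, P₂], ![v₁, v₂], ?_⟩
  exact
    { four := fun i => by
        rcases h2 i with rfl | rfl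
        · exact hd.ln.card_li
        · exact hl2.card_li
      mem := fun i => by
        rcases h2 i with rfl | rfl
        · exact hd.ln.z_mem
        · exact hl2.z_mem
      ne := fun i => by
        rcases h2 i with rfl | rfl
        · exact hd.ln.z1
        · exact hl2.z1
      zS := h.zc_iff hd.ln.zS hd.ln.cS hd.ln.z1 hd.ln.c1 hd.ln.ne
      par := fun i => by
        rcases h2 i with rfl | rfl
        · exact hd.par
        · exact hP2
      VP := fun i => by
        rcases h2 i with rfl | rfl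
        · exact hd.ln.li_le (Cfsg.Agent.MinSimple.VModule.zc_le_zl _ _)
        · exact hl2.li_le (Cfsg.Agent.MinSimple.VModule.zc_le_zl _ _)
      PC := fun i j hij => by
        rcases h2 i with rfl | rfl <;> rcases h2 j with rfl | rfl
        · exact absurd rfl hij
        · exact hd.ln.PC
        · exact hl2.PC
        · exact absurd rfl hij
      mv := fun i => by
        rcases h2 i with rfl | rfl
        · exact hd.ln.mvz
        · exact hl2.mvz
      tr := fun i x hx hx1 => by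
        rcases h2 i with rfl | rfl
        · exact hd.ln.tr_all hd.par.le ((hd.ln.mem_li.1 hx).resolve_left hx1)
        · exact hl2.tr_all hP2.le ((hl2.mem_li.1 hx).resolve_left hx1)
      cen := fun R hR => (hm R hR).1
      nrm := fun R hR i => by
        rcases h2 i with rfl | rfl
        · exact (hm R hR).2
        · exact h8 R hR }

/-- The three cases for the other shapes. -/
theorem thin_or [Finite G] {S : Sylow 2 G} : Thin (S : Subgroup G) ∨
    ∃ P, IsParS (S : Subgroup G) P ∧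
      4 * Nat.card ↥(zc (S : Subgroup G) ⊓ centralizer (P : Set G)) ≤ Nat.card (zc (S : Subgroup G)) := by
  by_contra hcon
  push Not at hcon
  obtain ⟨h1, h2⟩ := hcon
  apply h1
  intro P hP
  set C := zc (S : Subgroup G) ⊓ centralizer (P : Set G) with hC
  have hf : Fact (Nat.Prime 2) := ⟨Nat.prime_two⟩
  obtain ⟨n, hn⟩ := (IsPGroup.iff_card (p := 2)).1 (S.isPGroup'.to_le (zc_le (S : Subgroup G)))
  obtain ⟨m, hm⟩ := (IsPGroup.iff_card (p := 2)).1 (S.isPGroup'.to_le ((inf_le_left : C ≤ _).trans (zc_le (S : Subgroup G))))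
  have hne : C ≠ zc (S : Subgroup G) := by
    intro e
    apply hP.not_zc
    have h3 : zc (S : Subgroup G) ≤ centralizer (P : Set G) := by rw [← e]; exact inf_le_right
    refine le_trans ?_ (centralizer_le_normalizer _)
    intro p hp
    rw [mem_centralizer_iff]
    intro z hz
    exact (mem_centralizer_iff.1 (h3 hz) p hp).symm
  have hlt : Nat.card C < Nat.card (zc (S : Subgroup G)) := by
    refine lt_of_le_of_ne (Subgroup.card_le_of_le inf_le_left) fun e => hne ?_
    exact Subgroup.eq_of_le_of_card_ge inf_le_left e.ge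
  have h3 := h2 P hP
  rw [hn, hm] at h3 hlt
  rw [hn, hm]
  have h4 : m < n := (Nat.pow_lt_pow_iff_right (by norm_num)).1 hlt
  have h5 : n < m + 2 := by
    have : 2 ^ n < 2 ^ (m + 2) := by rw [pow_add]; omega
    exact (Nat.pow_lt_pow_iff_right (by norm_num)).1 this
  have h6 : n = m + 1 := by omega
  rw [h6, pow_succ]; ring

theorem four_le [Finite G] {S : Sylow 2 G} (B : RB S) : 4 ≤ Nat.card (zc (S : Subgroup G)) := by
  obtain ⟨P, hP, h1⟩ := B.ex
  have hf : Fact (Nat.Prime 2) := ⟨Nat.prime_two⟩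
  set C := zc (S : Subgroup G) ⊓ centralizer (P : Set G) with hC
  obtain ⟨n, hn⟩ := (IsPGroup.iff_card (p := 2)).1 (S.isPGroup'.to_le (zc_le (S : Subgroup G)))
  obtain ⟨m, hm⟩ := (IsPGroup.iff_card (p := 2)).1 (S.isPGroup'.to_le ((inf_le_left : C ≤ _).trans (zc_le (S : Subgroup G))))
  have hne : C ≠ zc (S : Subgroup G) := by
    intro e
    apply hP.not_zc
    have h3 : zc (S : Subgroup G) ≤ centralizer (P : Set G) := by rw [← e]; exact inf_le_right
    refine le_trans ?_ (centralizer_le_normalizer _)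
    intro p hp
    rw [mem_centralizer_iff]
    intro z hz
    exact (mem_centralizer_iff.1 (h3 hz) p hp).symm
  have hlt : Nat.card C < Nat.card (zc (S : Subgroup G)) := by
    refine lt_of_le_of_ne (Subgroup.card_le_of_le inf_le_left) fun e => hne ?_
    exact Subgroup.eq_of_le_of_card_ge inf_le_left e.ge
  have h1' : Nat.card C ≠ 1 := fun e => h1 (Subgroup.card_eq_one.1 e)
  rw [hn, hm] at hlt
  rw [hm] at h1'
  rw [hn]
  have h4 : m < n := (Nat.pow_lt_pow_iff_right (by norm_num)).1 hlt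
  have h5 : m ≠ 0 := by rintro rfl; exact h1' rfl
  calc 4 = 2 ^ 2 := by norm_num
    _ ≤ 2 ^ n := Nat.pow_le_pow_right (by norm_num) (by omega)

/-- **(RC') from its leaves.** -/
theorem rbc_of {K : Cls.{u}} (hL : LineS.{u}) (hS : SideS.{u}) (hT : TCR K) (h8 : RRank K) (h4 : RFour K)
    (hW : RWide K) : RBc K := by
  intro G _ _ hK S B hrc
  rcases thin_or (S := S) with ht | hw
  · by_cases hz : Nat.card (zc (S : Subgroup G)) = 4
    · by_cases h : ∀ P, IsParS (S : Subgroup G) P → Nat.card (zl (S : Subgroup G) P) = 8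
      · have hs : Sm S := { toRB := B, rr := RZ.eq_bot_of_rc hrc, z4 := hz, v8 := h }
        obtain ⟨V, P, v, T⟩ := exists_two_of hL hS hs
        exact hT G hK S B V P v T (T.fr B)
      · push Not at h
        exact h4 G hK S B hrc ht hz h
    · refine h8 G hK S B hrc ht ?_
      have h1 := four_le B
      have hf : Fact (Nat.Prime 2) := ⟨Nat.prime_two⟩
      obtain ⟨n, hn⟩ := (IsPGroup.iff_card (p := 2)).1 (S.isPGroup'.to_le (zc_le (S : Subgroup G)))
      rw [hn] at h1 hz ⊢
      have h2 : 2 ≤ n := by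
        by_contra hcon
        have : 2 ^ n ≤ 2 ^ 1 := Nat.pow_le_pow_right (by norm_num) (by omega)
        omega
      have h3 : n ≠ 2 := by rintro rfl; exact hz (by norm_num)
      calc 8 = 2 ^ 3 := by norm_num
        _ ≤ 2 ^ n := Nat.pow_le_pow_right (by norm_num) (by omega)
  · exact hW G hK S B hrc hw

end Cfsg.Agent.Omega.NOThreeL.RRed
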