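import Cfsg.Agent.Omega.NOThreeL.RRed.GlueSigT

/-!
# NO-3L, box R: the tree with a refined (RC')

`Ref G S` : any property with `Ref G S → RR S = 1` (e.g. helper319's refined (RC'): every `z ∈ Z#` is moved by some
`P ∈ P*(S)` with `P ≰ N_G(K_e)`, `K_e` the end of the refined chain of levels, #24937).

* `FBR Ref` : the frame `RBF S ∧ Ref G S`; `FourOf K (FBR Ref)`, `WideAll K (FBR Ref)` : the sockets with `Ref`;
* `NrOf K Ref` : `RBF S`, `¬ Ref G S`, (L2) if `Thin S`;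
* `rbf_ref`, `rbzF_ref`, `rbcF_ref` : the tree.
-/

set_option autoImplicit false
set_option linter.unusedSectionVars false

namespace Cfsg.Agent.Omega.NOThreeL.RRed.GlueSig

open Subgroup Cfsg Cfsg.Agent.ZN Cfsg.Agent.Omega.MinPar Cfsg.Agent.Omega.Frame Cfsg.Agent.Omega.FrameNOFF
open Cfsg.Agent.Omega.Node.NO3L Cfsg.Agent.Omega.NOThreeL.Basic Cfsg.Agent.Omega.NOThreeL.RTree
open Cfsg.Agent.Omega.NOThreeL.RTreeF
open Cfsg.Agent.Omega.NOThreeL.RZ (RR)

universe u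

/-- the frame `RBF` with `Ref` -/
abbrev FBR (Ref : Fr.{u}) : Fr.{u} := fun G _ _ S => RBF S ∧ Ref G S

/-- box R, `V*` FF, not `Ref`. -/
def NrOf (K : Cls.{u}) (Ref : Fr.{u}) : Prop :=
  ∀ (G : Type u) [Group G] [Finite G], K G → ∀ (S : Sylow 2 G), RBF S → ¬ Ref G S →
    (Thin (S : Subgroup G) → L2 (S : Subgroup G)) → IsKnownSimple' G

section tree

variable {K : Cls.{u}} {Ref : Fr.{u}}

theorem NrOf.br (h : NrOf K Ref) (hR : ∀ (G : Type u) [Group G] [Finite G] (S : Sylow 2 G), RBF S → Ref G S →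
    RR (S : Subgroup G) = ⊥) : BrTOf K FBF.{u} :=
  fun G _ _ hK S hB hne h2 => h G hK S hB (fun hr => hne (hR G S hB hr)) h2

/-- **Box R, `V*` FF**, with `Ref`. -/
theorem rbf_ref (hR : ∀ (G : Type u) [Group G] [Finite G] (S : Sylow 2 G), RBF S → Ref G S →
    RR (S : Subgroup G) = ⊥) (hσ : SigTOf K FBF.{u}) (hs : SmOf K FBF.{u}) (h4 : FourOf K (FBR Ref))
    (hw : WideAll K (FBR Ref)) (hn : NrOf K Ref) {G : Type u} [Group G] [Finite G] (hK : K G) {S : Sylow 2 G}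
    (hB : RBF S) : IsKnownSimple' G := by
  by_cases hr : Ref G S
  · exact bnT_of (B := FBR Ref) (fun G _ _ S h => h.1.toRB) (hσ.mono fun _ _ _ _ h => h.1)
      (hs.mono fun _ _ _ _ h => h.1) h4 hw G hK S ⟨hB, hr⟩ (hR G S hB hr)
  · by_cases h2 : Thin (S : Subgroup G) → L2 (S : Subgroup G)
    · exact hn G hK S hB hr h2
    · push Not at h2
      exact hσ G hK S hB h2.1 h2.2

theorem rbzF_ref (hR : ∀ (G : Type u) [Group G] [Finite G] (S : Sylow 2 G), RBF S → Ref G S →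
    RR (S : Subgroup G) = ⊥) (hσ : SigTOf K FBF.{u}) (hs : SmOf K FBF.{u}) (h4 : FourOf K (FBR Ref))
    (hw : WideAll K (FBR Ref)) (hn : NrOf K Ref) : RBzF K :=
  fun _ _ _ hK _ hB _ _ _ _ => rbf_ref hR hσ hs h4 hw hn hK hB

theorem rbcF_ref (hR : ∀ (G : Type u) [Group G] [Finite G] (S : Sylow 2 G), RBF S → Ref G S →
    RR (S : Subgroup G) = ⊥) (hσ : SigTOf K FBF.{u}) (hs : SmOf K FBF.{u}) (h4 : FourOf K (FBR Ref))
    (hw : WideAll K (FBR Ref)) (hn : NrOf K Ref) : RBcF K :=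
  fun _ _ _ hK _ hB _ => rbf_ref hR hσ hs h4 hw hn hK hB

end tree

end Cfsg.Agent.Omega.NOThreeL.RRed.GlueSig
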