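import Cfsg.Agent.Omega.NOThreeL.RRed.Glue
import Cfsg.Agent.Omega.NOThreeL.RZ.Frame
import Cfsg.Agent.Omega.NOThreeL.RTreeA
import Cfsg.Agent.Omega.NOThreeL.RTreeF

/-!
# NO-3L, box R: the tree with THEOREM SIGMA on top (#22781, #23593)

`Z = Ω₁(Z(S))`, `C_Z(P) = Z ∩ C(P)` for `P ∈ P*(S)`.

* `L1 S` : `C_Z(P) = 1` for some `P ∈ P*(S)`;
* `L2 S` : `⟨C_G(C_Z(P)), C_G(C_Z(P'))⟩` is nonlocal for some `P, P' ∈ P*(S)`;
* `not_l1`, `not_l2` : `Thin S` implies `¬ L1 S` if `|Z| ≥ 4` and `¬ L2 S` if `|Z| ≥ 8`;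
* sockets over a frame `B S` (`B = RB` or `RBF`):
  - `SigOf` : THEOREM SIGMA: `¬ L1 S`, `¬ L2 S`;
  - `SmOf` : the smallest shape `|Z| = 4`, all `|V_P| = 8` (so `L2 S`);
  - `FourOf` : `|Z| = 4`, all `|Z : C_Z(P)| = 2`, some `|V_P| ≠ 8`, `L2 S`;
  - `WideOf` : some `|Z : C_Z(P)| ≥ 4`, and `L1 S` or `L2 S`;
  - `BrOf` : `RR S ≠ 1`, and `L1 S` or `L2 S`;
* `bn_of`, `br_of` : they imply the sockets `RR S = 1`, `RR S ≠ 1`;
* `rbn_sig`, `rbr_sig`, `rbc_sig`, `rbz_sig`, `rg_sig` : the tree of `RTree` (`B = RB`);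
* `rbzF_sig`, `rbcF_sig`, `rgF_sig` : the tree of `RTreeF` (`B = RBF`);
* `smOf_of` : `SmOf` from `LineS`, `SideS`, `TCR`;
* `rbc_of_sm`, `rsm_of` : `RTree.RBc` from the smallest shape.
-/

set_option autoImplicit false
set_option linter.unusedSectionVars false

namespace Cfsg.Agent.Omega.NOThreeL.RRed.GlueSig

open Subgroup Cfsg Cfsg.Agent.ZN Cfsg.Agent.Omega.MinPar Cfsg.Agent.Omega.Frame Cfsg.Agent.Omega.FrameNOFF
open Cfsg.Agent.Omega.Node.NO3L Cfsg.Agent.Omega.NOThreeL.Basic Cfsg.Agent.Omega.NOThreeL.RTree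
open Cfsg.Agent.Omega.NOThreeL.RTreeF
open Cfsg.Agent.Omega.NOThreeL.Merge (MZ)
open Cfsg.Agent.Omega.NOThreeL.ZCut (FZ)
open Cfsg.Agent.Omega.NO3b.Bang (bang)
open Cfsg.Agent.Omega.NOThreeL.RZ (RR)

universe u

section defs

variable {G : Type u} [Group G]

/-- (L1): `C_Z(P) = 1` for some `P ∈ P*(S)`. -/
def L1 (S : Subgroup G) : Prop :=
  ∃ P, IsParS S P ∧ zc S ⊓ centralizer (P : Set G) = ⊥

/-- (L2): some `⟨C_G(C_Z(P)), C_G(C_Z(P'))⟩` is nonlocal. -/
def L2 (S : Subgroup G) : Prop :=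
  ∃ P P', IsParS S P ∧ IsParS S P' ∧
    NonLoc (centralizer ((zc S ⊓ centralizer (P : Set G) : Subgroup G) : Set G))
      (centralizer ((zc S ⊓ centralizer (P' : Set G) : Subgroup G) : Set G))

/-- If `Thin S` and `|Z| ≥ 4`, then all `C_Z(P) ≠ 1`. -/
theorem not_l1 [Finite G] {S : Subgroup G} (ht : Thin S) (h4 : 4 ≤ Nat.card (zc S)) : ¬ L1 S := by
  rintro ⟨P, hP, h0⟩
  have h1 := ht P hP
  rw [h0, Subgroup.card_bot] at h1
  omega

/-- If `Thin S` and `|Z| ≥ 8`, then all `⟨C_G(C_Z(P)), C_G(C_Z(P'))⟩` are local. -/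
theorem not_l2 [Finite G] {S : Subgroup G} (hS : IsPGroup 2 S) (ht : Thin S) (h8 : 8 ≤ Nat.card (zc S)) :
    ¬ L2 S := by
  rintro ⟨P, P', hP, hP', hn⟩
  set Y := zc S ⊓ centralizer (P : Set G) with hY
  set Y' := zc S ⊓ centralizer (P' : Set G) with hY'
  have hc := ht P hP
  have hc' := ht P' hP'
  have hYZ : Y ≤ zc S := inf_le_left
  have hY'Z : Y' ≤ zc S := inf_le_left
  have hne : Y ⊓ Y' ≠ ⊥ := by
    intro h0
    have hcm : Y ≤ centralizer (Y' : Set G) := by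
      intro y hy
      rw [mem_centralizer_iff]
      intro y' hy'
      exact (MinSimple.VModule.mem_zc.1 (hYZ hy)).2.1 y' (MinSimple.VModule.zc_le _ (hY'Z hy'))
    have h1 := Cfsg.Agent.PLocal.ElemAbSup.card_sup_mul_card_inf hcm
    rw [inf_comm, h0, Subgroup.card_bot, mul_one, mul_comm (Nat.card Y')] at h1
    have h2 := Subgroup.card_le_of_le (sup_le hY'Z hYZ)
    rw [h1] at h2
    have h3 : Nat.card (zc S) * Nat.card (zc S) ≤ 4 * Nat.card (zc S) := by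
      calc Nat.card (zc S) * Nat.card (zc S) = (2 * Nat.card Y) * (2 * Nat.card Y') := by rw [← hc, ← hc']
        _ = 4 * (Nat.card Y * Nat.card Y') := by ring
        _ ≤ 4 * Nat.card (zc S) := Nat.mul_le_mul_left _ h2
    have h4 := Nat.le_of_mul_le_mul_right h3 (by omega)
    omega
  apply hne
  refine hn (Y ⊓ Y') (hS.to_le (inf_le_left.trans (hYZ.trans (MinSimple.VModule.zc_le _)))) ?_ ?_
  · refine le_trans ?_ (centralizer_le_normalizer _)
    exact centralizer_le inf_le_left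
  · refine le_trans ?_ (centralizer_le_normalizer _)
    exact centralizer_le inf_le_right

end defs

/-- a frame -/
abbrev Fr : Type (u + 1) := ∀ (G : Type u) [Group G] [Finite G], Sylow 2 G → Prop

section sockets

variable (K : Cls.{u}) (B : Fr.{u})

/-- **THEOREM SIGMA.** -/
def SigOf : Prop :=
  ∀ (G : Type u) [Group G] [Finite G], K G → ∀ (S : Sylow 2 G), B G S → ¬ L1 (S : Subgroup G) →
    ¬ L2 (S : Subgroup G) → IsKnownSimple' G

/-- The smallest shape: `|Z| = 4`, all `|V_P| = 8`. -/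
def SmOf : Prop :=
  ∀ (G : Type u) [Group G] [Finite G], K G → ∀ (S : Sylow 2 G), B G S → RR (S : Subgroup G) = ⊥ →
    Nat.card (zc (S : Subgroup G)) = 4 →
      (∀ P, IsParS (S : Subgroup G) P → Nat.card (zl (S : Subgroup G) P) = 8) → L2 (S : Subgroup G) →
        IsKnownSimple' G

/-- `|Z| = 4`, all `|Z : C_Z(P)| = 2`, some `|V_P| ≠ 8`, (L2). -/
def FourOf : Prop :=
  ∀ (G : Type u) [Group G] [Finite G], K G → ∀ (S : Sylow 2 G), B G S → RR (S : Subgroup G) = ⊥ →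
    Thin (S : Subgroup G) → Nat.card (zc (S : Subgroup G)) = 4 →
      (∃ P, IsParS (S : Subgroup G) P ∧ Nat.card (zl (S : Subgroup G) P) ≠ 8) → L2 (S : Subgroup G) →
        IsKnownSimple' G

/-- some `|Z : C_Z(P)| ≥ 4`, (L1) or (L2). -/
def WideOf : Prop :=
  ∀ (G : Type u) [Group G] [Finite G], K G → ∀ (S : Sylow 2 G), B G S → RR (S : Subgroup G) = ⊥ →
    (∃ P, IsParS (S : Subgroup G) P ∧
      4 * Nat.card ↥(zc (S : Subgroup G) ⊓ centralizer (P : Set G)) ≤ Nat.card (zc (S : Subgroup G))) →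
      (L1 (S : Subgroup G) ∨ L2 (S : Subgroup G)) → IsKnownSimple' G

/-- [R-z], (L1) or (L2). -/
def BrOf : Prop :=
  ∀ (G : Type u) [Group G] [Finite G], K G → ∀ (S : Sylow 2 G), B G S → RR (S : Subgroup G) ≠ ⊥ →
    (L1 (S : Subgroup G) ∨ L2 (S : Subgroup G)) → IsKnownSimple' G

/-- `RR S = 1`. -/
def BnOf : Prop :=
  ∀ (G : Type u) [Group G] [Finite G], K G → ∀ (S : Sylow 2 G), B G S → RR (S : Subgroup G) = ⊥ →
    IsKnownSimple' G

/-- `RR S ≠ 1`. -/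
def BrrOf : Prop :=
  ∀ (G : Type u) [Group G] [Finite G], K G → ∀ (S : Sylow 2 G), B G S → RR (S : Subgroup G) ≠ ⊥ →
    IsKnownSimple' G

end sockets

/-- the frame `RB` -/
abbrev FB : Fr.{u} := fun _ _ _ S => RB S

/-- the frame `RBF` -/
abbrev FBF : Fr.{u} := fun _ _ _ S => RBF S

section mono

variable {K : Cls.{u}} {B B' : Fr.{u}} (hB : ∀ (G : Type u) [Group G] [Finite G] (S : Sylow 2 G), B' G S → B G S)

include hB

theorem SigOf.mono (h : SigOf K B) : SigOf K B' := fun G _ _ hK S hb => h G hK S (hB G S hb)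

theorem SmOf.mono (h : SmOf K B) : SmOf K B' := fun G _ _ hK S hb => h G hK S (hB G S hb)

theorem FourOf.mono (h : FourOf K B) : FourOf K B' := fun G _ _ hK S hb => h G hK S (hB G S hb)

theorem WideOf.mono (h : WideOf K B) : WideOf K B' := fun G _ _ hK S hb => h G hK S (hB G S hb)

theorem BrOf.mono (h : BrOf K B) : BrOf K B' := fun G _ _ hK S hb => h G hK S (hB G S hb)

end mono

theorem toRB (G : Type u) [Group G] [Finite G] (S : Sylow 2 G) (h : FBF G S) : FB G S := h.toRB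

section glue

variable {K : Cls.{u}} {B : Fr.{u}}

theorem known_or (hσ : SigOf K B) {G : Type u} [Group G] [Finite G] (hK : K G) {S : Sylow 2 G} (hb : B G S) :
    IsKnownSimple' G ∨ L1 (S : Subgroup G) ∨ L2 (S : Subgroup G) := by
  by_cases h1 : L1 (S : Subgroup G)
  · exact Or.inr (Or.inl h1)
  · by_cases h2 : L2 (S : Subgroup G)
    · exact Or.inr (Or.inr h2)
    · exact Or.inl (hσ G hK S hb h1 h2)

/-- The shapes of box R. -/
theorem shapes (hσ : SigOf K B) {G : Type u} [Group G] [Finite G] (hK : K G) {S : Sylow 2 G} (hS : RB S)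
    (hB : B G S) : IsKnownSimple' G ∨
      (Nat.card (zc (S : Subgroup G)) = 4 ∧
        (∀ P, IsParS (S : Subgroup G) P → Nat.card (zl (S : Subgroup G) P) = 8) ∧ L2 (S : Subgroup G)) ∨
      (Thin (S : Subgroup G) ∧ Nat.card (zc (S : Subgroup G)) = 4 ∧
        (∃ P, IsParS (S : Subgroup G) P ∧ Nat.card (zl (S : Subgroup G) P) ≠ 8) ∧ L2 (S : Subgroup G)) ∨
      ((∃ P, IsParS (S : Subgroup G) P ∧
        4 * Nat.card ↥(zc (S : Subgroup G) ⊓ centralizer (P : Set G)) ≤ Nat.card (zc (S : Subgroup G))) ∧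
        (L1 (S : Subgroup G) ∨ L2 (S : Subgroup G))) := by
  have h4' := four_le hS
  rcases known_or hσ hK hB with h | h12
  · exact Or.inl h
  rcases thin_or (S := S) with ht | hwd
  · rcases h12 with h1 | h2
    · exact absurd h1 (not_l1 ht h4')
    · have hz : Nat.card (zc (S : Subgroup G)) = 4 := by
        by_contra hz
        refine not_l2 S.isPGroup' ht ?_ h2
        have hf : Fact (Nat.Prime 2) := ⟨Nat.prime_two⟩
        obtain ⟨n, hn⟩ := (IsPGroup.iff_card (p := 2)).1 (S.isPGroup'.to_le (MinSimple.VModule.zc_le (S : Subgroup G)))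
        rw [hn] at h4' hz ⊢
        have k2 : 2 ≤ n := by
          by_contra hcon
          have : 2 ^ n ≤ 2 ^ 1 := Nat.pow_le_pow_right (by norm_num) (by omega)
          omega
        have k3 : n ≠ 2 := by rintro rfl; exact hz (by norm_num)
        calc 8 = 2 ^ 3 := by norm_num
          _ ≤ 2 ^ n := Nat.pow_le_pow_right (by norm_num) (by omega)
      by_cases h : ∀ P, IsParS (S : Subgroup G) P → Nat.card (zl (S : Subgroup G) P) = 8
      · exact Or.inr (Or.inl ⟨hz, h, h2⟩)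
      · push Not at h
        exact Or.inr (Or.inr (Or.inl ⟨ht, hz, h, h2⟩))
  · exact Or.inr (Or.inr (Or.inr ⟨hwd, h12⟩))

/-- **`RR S = 1` from its leaves.** -/
theorem bn_of (hb : ∀ (G : Type u) [Group G] [Finite G] (S : Sylow 2 G), B G S → RB S) (hσ : SigOf K B)
    (hs : SmOf K B) (h4 : FourOf K B) (hw : WideOf K B) : BnOf K B := by
  intro G _ _ hK S hB hr
  rcases shapes hσ hK (hb G S hB) hB with h | ⟨hz, h8, h2⟩ | ⟨ht, hz, h8, h2⟩ | ⟨hwd, h12⟩
  · exact h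
  · exact hs G hK S hB hr hz h8 h2
  · exact h4 G hK S hB hr ht hz h8 h2
  · exact hw G hK S hB hr hwd h12

/-- **`RR S ≠ 1` from its leaf.** -/
theorem br_of (hσ : SigOf K B) (hr : BrOf K B) : BrrOf K B := by
  intro G _ _ hK S hB hne
  rcases known_or hσ hK hB with h | h
  · exact h
  · exact hr G hK S hB hne h

end glue

/-! ### The tree of `RTree` -/

section tree

variable {K : Cls.{u}}

theorem rbn_sig (hσ : SigOf K FB.{u}) (hs : SmOf K FB.{u}) (h4 : FourOf K FB.{u}) (hw : WideOf K FB.{u}) :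
    RZ.RBn K := bn_of (fun _ _ _ _ h => h) hσ hs h4 hw

theorem rbr_sig (hσ : SigOf K FB.{u}) (hr : BrOf K FB.{u}) : RZ.RBr K := br_of hσ hr

theorem rbc_sig (hσ : SigOf K FB.{u}) (hs : SmOf K FB.{u}) (h4 : FourOf K FB.{u}) (hw : WideOf K FB.{u}) : RBc K :=
  RZ.rbc_of (rbn_sig hσ hs h4 hw)

theorem rbz_sig (hσ : SigOf K FB.{u}) (hs : SmOf K FB.{u}) (h4 : FourOf K FB.{u}) (hw : WideOf K FB.{u})
    (hr : BrOf K FB.{u}) : RBz K :=
  RZ.rbz_of (rbr_sig hσ hr) (rbn_sig hσ hs h4 hw)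

/-- The smallest shape. -/
def RSm (K : Cls.{u}) : Prop :=
  ∀ (G : Type u) [Group G] [Finite G], K G → ∀ (S : Sylow 2 G), Sm S → IsKnownSimple' G

theorem rsm_of (hL : LineS.{u}) (hS : SideS.{u}) (hT : TCR K) : RSm K := by
  intro G _ _ hK S hs
  obtain ⟨V, P, v, T⟩ := exists_two_of hL hS hs
  exact hT G hK S hs.toRB V P v T (T.fr hs.toRB)

/-- **The smallest shape, from the card.** -/
theorem smOf_of (hL : LineS.{u}) (hS : SideS.{u}) (hT : TCR K) : SmOf K FB.{u} := by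
  intro G _ _ hK S hB hr hz h8 _
  exact rsm_of hL hS hT G hK S { toRB := hB, rr := hr, z4 := hz, v8 := h8 }

theorem rbc_of_sm (hσ : SigOf K FB.{u}) (hs : RSm K) (h4 : FourOf K FB.{u}) (hw : WideOf K FB.{u}) : RBc K := by
  intro G _ _ hK S hB hc
  have hr := RZ.eq_bot_of_rc hc
  rcases shapes hσ hK hB hB with h | ⟨hz, h8, h2⟩ | ⟨ht, hz, h8, h2⟩ | ⟨hwd, h12⟩
  · exact h
  · exact hs G hK S { toRB := hB, rr := hr, z4 := hz, v8 := h8 }
  · exact h4 G hK S hB hr ht hz h8 h2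
  · exact hw G hK S hB hr hwd h12

/-- **Box R.** -/
theorem rg_sig (hN : RTreeA.NatBig.{u}) (hσ : SigOf K FB.{u}) (hs : SmOf K FB.{u}) (h4 : FourOf K FB.{u})
    (hw : WideOf K FB.{u}) (hr : BrOf K FB.{u}) : Merge.RG K :=
  RTreeA.rg_of' hN (rbz_sig hσ hs h4 hw hr) (rbc_sig hσ hs h4 hw)

end tree

/-! ### The tree of `RTreeF` -/

section treeF

variable {K : Cls.{u}}

theorem rbf_sig (hσ : SigOf K FBF.{u}) (hs : SmOf K FBF.{u}) (h4 : FourOf K FBF.{u}) (hw : WideOf K FBF.{u})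
    (hr : BrOf K FBF.{u}) {G : Type u} [Group G] [Finite G] (hK : K G) {S : Sylow 2 G} (hB : RBF S) :
    IsKnownSimple' G := by
  by_cases h : RR (S : Subgroup G) = ⊥
  · exact bn_of toRB hσ hs h4 hw G hK S hB h
  · exact br_of hσ hr G hK S hB h

theorem rbzF_sig (hσ : SigOf K FBF.{u}) (hs : SmOf K FBF.{u}) (h4 : FourOf K FBF.{u}) (hw : WideOf K FBF.{u})
    (hr : BrOf K FBF.{u}) : RBzF K :=
  fun _ _ _ hK _ hB _ _ _ _ => rbf_sig hσ hs h4 hw hr hK hB

theorem rbcF_sig (hσ : SigOf K FBF.{u}) (hs : SmOf K FBF.{u}) (h4 : FourOf K FBF.{u}) (hw : WideOf K FBF.{u}) :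
    RBcF K :=
  fun G _ _ hK S hB hc => bn_of toRB hσ hs h4 hw G hK S hB (RZ.eq_bot_of_rc hc)

theorem raBig_of (hN : RTreeA.NatBig.{u}) : RAbig K := by
  intro G _ _ hG _ S _ D P H hE F _ _ _ k _ _ _
  exact (RTreeA.pair_false hN hG D hE).elim

/-- **Box R.** -/
theorem rgF_sig (T : RLow.Parts.{u}) (hN : RTreeA.NatBig.{u}) (hσ : SigOf K FBF.{u}) (hs : SmOf K FBF.{u})
    (h4 : FourOf K FBF.{u}) (hw : WideOf K FBF.{u}) (hr : BrOf K FBF.{u}) : Merge.RG K :=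
  RTreeF.rg_of T (raBig_of hN) (rbzF_sig hσ hs h4 hw hr) (rbcF_sig hσ hs h4 hw)

end treeF

end Cfsg.Agent.Omega.NOThreeL.RRed.GlueSig
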