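import Cfsg.Agent.Omega.NOThreeL.RRed.FsOf
import Cfsg.Agent.Omega.NOThreeL.RRed.LemmaE
import Cfsg.Agent.Omega.NOThreeL.RRed.ClassInst
import Cfsg.Agent.Omega.NOThreeL.RRed.Blk.AsmMv

/-!
# Box R: `bad` for natural blocks (#26668, #27311), helper314

* `At S N A e` : `A ≤ S` is a minimal exact offender of `V*` with `[V*, A] ≤ N` which acts on the natural block `N`
  (coordinates `e`) as the full root group, and every minimal exact offender in `S` which moves `N` acts on `N` by root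
  elements; `exists_at` : from `Src.mov`;
* `at_of` : for a block of an active natural `P` with trivial radical;
* `At.cent` : one block, abstract `Dec`;
* `perm_of` : `⟨M₀, N_G(S)⟩` permutes the blocks;
* **`bad_nat`** : `BadG` for every set `J` of blocks and every `z ∈ Z` with non-trivial components in the blocks of `J`;
* **`hBad_nat`** : `HBad S N {N b - 1}`.
-/

set_option autoImplicit false
set_option linter.unusedSectionVars false

namespace Cfsg.Agent.Omega.NOThreeL.RRed.HBadNat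

open Subgroup Cfsg Cfsg.Agent.ZN Cfsg.Agent.ZN.ChoiceBase Cfsg.Agent.Omega.MinPar
open Cfsg.Agent.Omega.FFThm Cfsg.Agent.Lib.SL2Mat
open Cfsg.Agent.Omega.FrameFF (cv)
open Cfsg.Agent.Omega.NO3S.ThmB Cfsg.Agent.Omega.NO3S.KeyRad
open Cfsg.Agent.Omega.NOThreeL.RRed.NS hiding rt
open Cfsg.Agent.Omega.NOThreeL.RRed.WideTree (Act MvAct NBs Src BadG QQ)
open Cfsg.Agent.Omega.NOThreeL.RTree (RB)
open Cfsg.Agent.Omega.NOThreeL.Merge (MZ le_MZ isLoc_MZ)
open Cfsg.Agent.Omega.NOThreeL.RRed.Blk (Dec IsC Co conj_of conj_smul FSup InvJ)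
open Cfsg.Agent.Omega.NOThreeL.RRed.LemmaE (Up)
open scoped Pointwise

universe u v

variable {G : Type u} [Group G]

/-- `A` is the root group of the natural block `N`. -/
structure At (S N A : Subgroup G) {F : Type} [Field F] (e : G → Fin 2 → F) : Prop where
  AS : A ≤ S
  mx : Mx (Wd S) A
  mul : ∀ v ∈ N, ∀ w ∈ N, e (v * w) = e v + e w
  inj : ∀ v ∈ N, e v = 0 → v = 1
  sur : ∀ x, ∃ v ∈ N, e v = x
  AN : A ≤ normalizer (N : Set G)
  all : ∀ β, ∃ a ∈ A, Up N e a β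
  com : ∀ a ∈ A, ∀ v ∈ Wd S, a * v * a⁻¹ * v⁻¹ ∈ N
  oth : ∀ A' ≤ S, Mx (Wd S) A' → ¬ A' ≤ centralizer (N : Set G) → ∀ a ∈ A', ∃ β, Up N e a β

variable [Finite G] {S : Sylow 2 G} {ι : Type u} {N E D l : ι → Subgroup G} {q : ι → ℕ}

/-- **the root group of a block of an active `P`** -/
theorem at_of (B : RB S) {P : Subgroup G} (a : Act (S : Subgroup G) P) {F : Type} [Field F] [Finite F] [CharP F 2]
    {k : ℕ} {M : NatKM F (S : Subgroup G) P (zl (S : Subgroup G) P) (cv (S : Subgroup G) P) k} (h : Nb M)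
    (hD : ∀ i, DD M i = ⊥) (j : Fin k) :
    ∃ A : Subgroup G, At (S : Subgroup G) (blk M j) A (fun v => M.e v j) := by
  obtain ⟨A₀, hA₀⟩ := Blk.AsmMv.EP_ne B a
  have hP := a.1
  have hL := isLoc_MZ B.ctx B.full B.data.noff
  have hPL : P ≤ MZ (S : Subgroup G) := le_MZ hP
  have hPU := par_le_norm hP
  have hU2 := elem_Wd B
  have hVU : zl (S : Subgroup G) P ≤ Wd (S : Subgroup G) := Star.zl_mono _ hPL
  have no := Blk.AsmMv.no_of B a
  have t₀ : Tt (Wd (S : Subgroup G)) A₀ := tt_of_mx hA₀.1.2 no (hA₀.1.1.trans hL.le)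
  obtain ⟨i, O₀⟩ := t₀.one h hU2 hVU hA₀.1.1 hA₀.2
  obtain ⟨s, hsS, hAS, t, O⟩ := exists_cj h hU2 hVU hPU hA₀.1.1 t₀ O₀ j
  have hmx : Mx (Wd (S : Subgroup G)) (ChoiceBase.cj s A₀) := CI.mx_conj hA₀.1.2 (hPU (hP.le hsS))
  have hBV := blk_le h j
  have hup : ∀ x ∈ P, ∀ β, ActsSL M.e (zl (S : Subgroup G) P) (cv (S : Subgroup G) P) x (sg j (up β)) →
      Up (blk M j) (fun v => M.e v j) x β := by
    intro x _ β hx v hv
    show M.e (x * v * x⁻¹) j = ![M.e v j 0 + β * M.e v j 1, M.e v j 1]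
    rw [hx.1 v (hBV hv) j, sg_self]
    exact vec_eq (by rw [ap_up_0]; rfl) (by rw [ap_up_1]; rfl)
  have hcj : ∀ x ∈ ChoiceBase.cj s A₀, ∀ v ∈ blk M j, x * v * x⁻¹ ∈ blk M j := by
    intro x hx v hv
    obtain ⟨β, hβ⟩ := O.act x hx
    have h1 := mem_blk (h.SP' (hAS hx)) hβ (hBV hv)
    have e1 : x * v * x⁻¹ = x * v * x⁻¹ * v⁻¹ * v := by group
    rw [e1]
    exact mul_mem h1 hv
  exact ⟨ChoiceBase.cj s A₀,
    { AS := hAS
      mx := hmx
      mul := fun v hv w hw => by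
        show M.e (v * w) j = M.e v j + M.e w j
        rw [M.mul v (hBV hv) w (hBV hw)]; rfl
      inj := fun v hv h0 => by
        have h1 : v ∈ DD M j := (mem_DD h hv).2 h0
        rw [hD j] at h1
        exact mem_bot.1 h1
      sur := fun x => exists_blk_e h j x
      AN := fun x hx => mem_normalizer_iff.2 fun v => ⟨fun hv => hcj x hx v hv, fun hv => by
        have h1 := hcj x⁻¹ (inv_mem hx) _ hv
        have e1 : x⁻¹ * (x * v * x⁻¹) * x⁻¹⁻¹ = v := by group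
        rwa [e1] at h1⟩
      all := fun β => by
        obtain ⟨x, hx, hxa⟩ := O.all β
        exact ⟨x, hx, hup x (h.SP' (hAS hx)) β hxa⟩
      com := fun x hx v hv => by
        obtain ⟨y, hy, -, c, -, hxc, rfl⟩ := O.full v hv
        obtain ⟨β, hβ⟩ := O.act x hx
        have h1 := mem_blk (h.SP' (hAS hx)) hβ hy
        have e1 : x * (y * c) * x⁻¹ * (y * c)⁻¹ = x * y * x⁻¹ * y⁻¹ := by
          calc x * (y * c) * x⁻¹ * (y * c)⁻¹ = x * y * x⁻¹ * (x * c) * x⁻¹ * c⁻¹ * y⁻¹ := by group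
            _ = x * y * x⁻¹ * (c * x) * x⁻¹ * c⁻¹ * y⁻¹ := by rw [hxc x hx]
            _ = x * y * x⁻¹ * y⁻¹ := by group
        rw [e1]
        exact h1
      oth := fun A' hA' hm hn x hx => by
        have t' : Tt (Wd (S : Subgroup G)) A' := tt_of_mx hm no (hA'.trans hL.le)
        have hne : ¬ A' ≤ centralizer (zl (S : Subgroup G) P : Set G) := fun h1 =>
          hn (h1.trans (centralizer_le hBV))
        obtain ⟨i', O'⟩ := t'.one h hU2 hVU hA' hne
        have hi : i' = j := by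
          by_contra hij
          refine hn fun y hy => mem_centralizer_iff.2 fun v hv => ?_
          obtain ⟨β, hβ⟩ := O'.act y hy
          exact (cent_sg h (h.SP' (hA' hy)) hβ (hBV hv) (e_blk h hij hv)).symm
        subst hi
        obtain ⟨β, hβ⟩ := O'.act x hx
        exact ⟨β, hup x (h.SP' (hA' hx)) β hβ⟩ }⟩

/-- **the root group of a block** -/
theorem exists_at (B : RB S) (hs : Src (S : Subgroup G) N l q) (b : ι) :
    ∃ (F : Type) (_ : Field F) (_ : CharP F 2) (e : G → Fin 2 → F) (A : Subgroup G),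
      At (S : Subgroup G) (N b) A e := by
  obtain ⟨P, a, F, i1, i2, i3, k, hk, M, h, hD, ⟨j, hN, -, -⟩, -⟩ := hs.mov b
  obtain ⟨A, hA⟩ := at_of B a h hD j
  exact ⟨F, i1, i3, _, A, by rw [hN]; exact hA⟩

namespace At

variable {κ : Type v} {N E : κ → Subgroup G} {b : κ} {A : Subgroup G} {F : Type} [Field F] {e : G → Fin 2 → F}
  (t : At (S : Subgroup G) (N b) A e) (h : Dec (S : Subgroup G) (MZ (S : Subgroup G)) (Wd (S : Subgroup G)) N E ⊥)
include t h

/-- the other blocks are centralised -/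
theorem cent_oth {c : κ} (hc : c ≠ b) : A ≤ centralizer (N c : Set G) := by
  intro a ha
  rw [mem_centralizer_iff]
  intro x hx
  have haL : a ∈ MZ (S : Subgroup G) := h.SL (t.AS ha)
  obtain ⟨c', hc', -⟩ := h.perm a haL c
  have hy : a * x * a⁻¹ ∈ N c' := (conj_smul hc').1 hx
  have hyb : a * x * a⁻¹ * x⁻¹ ∈ N b := t.com a ha x (h.NU c hx)
  have key : a * x * a⁻¹ = x := by
    by_cases hcc : c' = c
    · rw [hcc] at hy
      have h1 : a * x * a⁻¹ * x⁻¹ ∈ N b ⊓ Co N ⊥ b :=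
        mem_inf.2 ⟨hyb, h.N_le_Co hc (mul_mem hy (inv_mem hx))⟩
      rw [show N b ⊓ Co N ⊥ b = ⊥ from h.ind b, mem_bot] at h1
      exact mul_inv_eq_one.1 h1
    · have h1 : IsC N ⊥ c (a * x * a⁻¹) 1 := h.comp_ne hcc hy
      have h2 : IsC N ⊥ c (a * x * a⁻¹ * x⁻¹) 1 := h.comp_ne hc.symm hyb
      have h3 : IsC N ⊥ c x x := h.comp_self hx
      have h4 := h.comp_mul h2 h3
      have e1 : a * x * a⁻¹ * x⁻¹ * x = a * x * a⁻¹ := by group
      rw [e1, one_mul] at h4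
      have h5 : x = 1 := h.uniq h4 h1
      rw [h5]; group
  exact (mul_inv_eq_iff_eq_mul.1 key).symm

theorem cent_Co : A ≤ centralizer (Co N ⊥ b : Set G) := by
  intro a ha
  rw [mem_centralizer_iff]
  have h1 : Co N ⊥ b ≤ centralizer ({a} : Set G) := by
    unfold Co
    refine sup_le (iSup_le fun c x hx => ?_) bot_le
    rw [mem_centralizer_singleton_iff]
    exact mem_centralizer_iff.1 (t.cent_oth h c.2 ha) x hx
  exact fun x hx => mem_centralizer_singleton_iff.1 (h1 hx)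

/-- **one block**: `d` of odd order permutes the blocks, `[[T, d], [N b, d]] = 1`, `d` fixes `z ∈ Z` with a non-trivial
component in `N b`: then `d` centralises `N b`. -/
theorem cent {d : G} (p1 : ∀ b, ∃ c, MulAut.conj d • N b = N c) (p2 : ∀ b, ∃ c, MulAut.conj d⁻¹ • N b = N c)
    (hdW : d ∈ normalizer (Wd (S : Subgroup G) : Set G)) {T : Subgroup G} (hTS : T ≤ (S : Subgroup G)) (hAT : A ≤ T)
    (hdT : d ∈ normalizer (T : Set G)) (hodd : Odd (orderOf d))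
    (hcom : ∀ j ∈ T, ∀ w ∈ N b,
      (j * d * j⁻¹ * d⁻¹) * (d * w * d⁻¹ * w⁻¹) = (d * w * d⁻¹ * w⁻¹) * (j * d * j⁻¹ * d⁻¹))
    {z : G} (hdz : d * z = z * d) (hzc : z ∈ zc (S : Subgroup G))
    (hz : ∃ n ∈ {x | x ∈ N b ∧ x ≠ 1}, IsC N ⊥ b z n) [CharP F 2] : d ∈ centralizer (N b : Set G) := by
  -- `d` normalises `N b`
  have hdb : MulAut.conj d • N b = N b := by
    obtain ⟨c, hc⟩ := p1 b
    by_cases hcb : c = b
    · rw [hc, hcb]
    exfalso
    obtain ⟨a, ha, hup⟩ := t.all 1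
    obtain ⟨w, hw, hwe⟩ := t.sur ![0, 1]
    -- `d a⁻¹ d⁻¹` centralises `N b`
    have hcd : ∀ x ∈ N b, (d * a⁻¹ * d⁻¹) * x * (d * a⁻¹ * d⁻¹)⁻¹ = x := by
      intro x hx
      obtain ⟨b', hb'⟩ := p2 b
      have hb'b : b' ≠ b := by
        intro h3
        rw [h3] at hb'
        apply hcb
        have h4 : MulAut.conj d • N b = N b := by
          conv_lhs => rw [← hb']
          rw [← mul_smul, ← map_mul, mul_inv_cancel, map_one, one_smul]
        exact h.Ninj (by rw [← hc, h4])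
      have h1 : d⁻¹ * x * d ∈ N b' := by
        have := (conj_smul hb').1 hx
        rwa [inv_inv] at this
      have h2 := mem_centralizer_iff.1 (t.cent_oth h hb'b (inv_mem ha)) _ h1
      calc (d * a⁻¹ * d⁻¹) * x * (d * a⁻¹ * d⁻¹)⁻¹ = d * (a⁻¹ * (d⁻¹ * x * d)) * a * d⁻¹ := by group
        _ = d * ((d⁻¹ * x * d) * a⁻¹) * a * d⁻¹ := by rw [h2]
        _ = x := by group
    set y := d * w * d⁻¹ with hy
    have hyc : y ∈ N c := (conj_smul hc).1 hw
    have hyn : (d * a⁻¹ * d⁻¹) * y * (d * a⁻¹ * d⁻¹)⁻¹ ∈ N c := by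
      have h1 : a⁻¹ * w * a⁻¹⁻¹ ∈ N b := conj_of (t.AN (inv_mem ha)) hw
      have h2 := (conj_smul hc).1 h1
      have e1 : (d * a⁻¹ * d⁻¹) * y * (d * a⁻¹ * d⁻¹)⁻¹ = d * (a⁻¹ * w * a⁻¹⁻¹) * d⁻¹ := by rw [hy]; group
      rw [e1]
      exact h2
    set y' := (d * a⁻¹ * d⁻¹) * y * (d * a⁻¹ * d⁻¹)⁻¹ with hy'
    have hay : a * y' * a⁻¹ = y' := Blk.cent (t.cent_oth h hcb ha) hyn
    have h1 := hcom a (hAT ha) w hw
    have h2 : (a * d * a⁻¹ * d⁻¹) * (y * w⁻¹) * (a * d * a⁻¹ * d⁻¹)⁻¹ = y * w⁻¹ := by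
      rw [hy, h1]; group
    have h3 : (a * d * a⁻¹ * d⁻¹) * (y * w⁻¹) * (a * d * a⁻¹ * d⁻¹)⁻¹ = y' * (a * w⁻¹ * a⁻¹) := by
      have h4 := hcd w⁻¹ (inv_mem hw)
      calc (a * d * a⁻¹ * d⁻¹) * (y * w⁻¹) * (a * d * a⁻¹ * d⁻¹)⁻¹
          = a * (((d * a⁻¹ * d⁻¹) * y * (d * a⁻¹ * d⁻¹)⁻¹) *
              ((d * a⁻¹ * d⁻¹) * w⁻¹ * (d * a⁻¹ * d⁻¹)⁻¹)) * a⁻¹ := by group
        _ = a * (y' * w⁻¹) * a⁻¹ := by rw [h4]
        _ = (a * y' * a⁻¹) * (a * w⁻¹ * a⁻¹) := by group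
        _ = y' * (a * w⁻¹ * a⁻¹) := by rw [hay]
    have haw : a * w⁻¹ * a⁻¹ ∈ N b := conj_of (t.AN ha) (inv_mem hw)
    have h5 : IsC N ⊥ b (y' * (a * w⁻¹ * a⁻¹)) (1 * (a * w⁻¹ * a⁻¹)) :=
      h.comp_mul (h.comp_ne hcb hyn) (h.comp_self haw)
    have h6 : IsC N ⊥ b (y * w⁻¹) (1 * w⁻¹) := h.comp_mul (h.comp_ne hcb hyc) (h.comp_self (inv_mem hw))
    rw [← h3, h2] at h5
    have h7 : a * w⁻¹ * a⁻¹ = w⁻¹ := by
      have := h.uniq h5 h6
      rwa [one_mul, one_mul] at this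
    have h8 : a * w * a⁻¹ = w := by
      have e1 : a * w * a⁻¹ = (a * w⁻¹ * a⁻¹)⁻¹ := by group
      rw [e1, h7, inv_inv]
    have h9 := congrFun (hup w hw) 0
    rw [h8, hwe] at h9
    simp at h9
  have hdN : d ∈ normalizer (N b : Set G) := by
    rw [mem_normalizer_iff]
    exact fun x => conj_smul hdb
  -- the component of `z`
  obtain ⟨n, ⟨hnN, hn1⟩, hnc⟩ := hz
  have hdCo : ∀ x ∈ Co N ⊥ b, d * x * d⁻¹ ∈ Co N ⊥ b := by
    have h1 : Co N ⊥ b ≤ (Co N ⊥ b).comap (MulAut.conj d).toMonoidHom := by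
      conv_lhs => unfold Co
      refine sup_le (iSup_le fun c x hx => ?_) bot_le
      obtain ⟨c', hc'⟩ := p1 c.1
      have hne : c' ≠ b := by
        rintro rfl
        refine c.2 (h.Ninj (smul_left_cancel (MulAut.conj d) ?_))
        rw [hc', hdb]
      exact mem_comap.2 (h.N_le_Co hne ((conj_smul hc').1 hx))
    exact fun x hx => h1 hx
  have dz : d * z * d⁻¹ = z := by
    rw [mul_inv_eq_iff_eq_mul]
    exact hdz
  have dn : d * n * d⁻¹ = n := by
    refine h.uniq (b := b) (x := z) ?_ hnc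
    refine ⟨conj_of hdN hnN, ?_⟩
    have e1 : (d * n * d⁻¹)⁻¹ * z = d * (n⁻¹ * z) * d⁻¹ := by
      calc (d * n * d⁻¹)⁻¹ * z = (d * n * d⁻¹)⁻¹ * (d * z * d⁻¹) := by rw [dz]
        _ = d * (n⁻¹ * z) * d⁻¹ := by group
    rw [e1]
    exact hdCo _ hnc.2
  have nA : ∀ a ∈ A, a * n * a⁻¹ = n := by
    intro a ha
    have h1 : a * z = z * a := (ChoiceBase.mem_zc.1 hzc).2.2 a (t.AS ha)
    have h2 : a * (n⁻¹ * z) = n⁻¹ * z * a := (mem_centralizer_iff.1 (t.cent_Co h ha) _ hnc.2).symm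
    have h3 : a * n * a⁻¹ * (n⁻¹ * z) = z := by
      calc a * n * a⁻¹ * (n⁻¹ * z) = a * n * a⁻¹ * (n⁻¹ * z * a) * a⁻¹ := by group
        _ = a * n * a⁻¹ * (a * (n⁻¹ * z)) * a⁻¹ := by rw [h2]
        _ = (a * z) * a⁻¹ := by group
        _ = z := by rw [h1]; group
    have h4 : a * n * a⁻¹ = z * (n⁻¹ * z)⁻¹ := eq_mul_inv_of_mul_eq h3
    rw [h4]; group
  -- the conjugate of `A`
  have act' : ∀ a ∈ A, ∃ β, Up (N b) e (d * a * d⁻¹) β := by
    have h1 : ChoiceBase.cj d A ≤ T := by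
      intro x hx
      rw [ChoiceBase.mem_cj] at hx
      have h2 := conj_of hdT (hAT hx)
      have e1 : d * (d⁻¹ * x * d) * d⁻¹ = x := by group
      rwa [e1] at h2
    have h2 : Mx (Wd (S : Subgroup G)) (ChoiceBase.cj d A) := CI.mx_conj t.mx hdW
    have hmem : ∀ a ∈ A, d * a * d⁻¹ ∈ ChoiceBase.cj d A := by
      intro a ha
      rw [ChoiceBase.mem_cj]
      have e1 : d⁻¹ * (d * a * d⁻¹) * d = a := by group
      rwa [e1]
    have h3 : ¬ ChoiceBase.cj d A ≤ centralizer (N b : Set G) := by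
      intro h4
      obtain ⟨a, ha, hup⟩ := t.all 1
      obtain ⟨w, hw, hwe⟩ := t.sur ![0, 1]
      have h5 := Blk.cent (h4 (hmem a ha)) (conj_of hdN hw)
      have h6 : a * w * a⁻¹ = w := by
        have e1 : d * a * d⁻¹ * (d * w * d⁻¹) * (d * a * d⁻¹)⁻¹ = d * (a * w * a⁻¹) * d⁻¹ := by group
        rw [e1] at h5
        exact mul_left_cancel (mul_right_cancel h5)
      have h9 := congrFun (hup w hw) 0
      rw [h6, hwe] at h9
      simp at h9
    exact fun a ha => t.oth _ (h1.trans hTS) h2 h3 _ (hmem a ha)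
  exact LemmaE.mem_cent t.mul t.inj t.sur t.AN t.all hdN act' hodd hnN hn1 dn nA
    fun a ha w hw => hcom a (hAT ha) w hw

end At

/-- **`⟨M₀, N_G(S)⟩` permutes the blocks** -/
theorem perm_of (hn : NBs (S : Subgroup G) N E D l q) {d : G}
    (hd : d ∈ MZ (S : Subgroup G) ⊔ normalizer ((S : Subgroup G) : Set G)) (b : ι) :
    ∃ c, MulAut.conj d • N b = N c := by
  let K : Subgroup G :=
    { carrier := {g | (∀ b, ∃ c, MulAut.conj g • N b = N c) ∧ ∀ b, ∃ c, MulAut.conj g⁻¹ • N b = N c}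
      one_mem' := ⟨fun b => ⟨b, by rw [map_one, one_smul]⟩, fun b => ⟨b, by rw [inv_one, map_one, one_smul]⟩⟩
      mul_mem' := by
        rintro x y ⟨h1, h2⟩ ⟨h3, h4⟩
        refine ⟨fun b => ?_, fun b => ?_⟩
        · obtain ⟨c, hc⟩ := h3 b
          obtain ⟨c', hc'⟩ := h1 c
          exact ⟨c', by rw [map_mul, mul_smul, hc, hc']⟩
        · obtain ⟨c, hc⟩ := h2 b
          obtain ⟨c', hc'⟩ := h4 c
          exact ⟨c', by rw [mul_inv_rev, map_mul, mul_smul, hc, hc']⟩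
      inv_mem' := by
        rintro x ⟨h1, h2⟩
        exact ⟨h2, by rwa [inv_inv]⟩ }
  have hK : MZ (S : Subgroup G) ⊔ normalizer ((S : Subgroup G) : Set G) ≤ K := by
    refine sup_le (fun g hg => ⟨fun b => ?_, fun b => ?_⟩) fun g hg => ⟨fun b => ?_, fun b => ?_⟩
    · obtain ⟨c, hc, -⟩ := hn.perm g hg b
      exact ⟨c, hc⟩
    · obtain ⟨c, hc, -⟩ := hn.perm g⁻¹ (inv_mem hg) b
      exact ⟨c, hc⟩
    · obtain ⟨c, hc, -⟩ := hn.permN g hg b
      exact ⟨c, hc⟩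
    · obtain ⟨c, hc, -⟩ := hn.permN g⁻¹ (inv_mem hg) b
      exact ⟨c, hc⟩
  exact (hK hd).1 b

/-- **`bad` for natural blocks**, any set `J` of blocks, `z ∈ Z` -/
theorem bad_nat (B : RB S) (hn : NBs (S : Subgroup G) N E D l q) (hs : Src (S : Subgroup G) N l q) {J : Set ι}
    {z : G} (hz : z ∈ FSup N ⊥ (fun b => {x | x ∈ N b ∧ x ≠ 1}) J) (hzc : z ∈ zc (S : Subgroup G))
    {R C : Subgroup G} (hR : R = ⨆ b : J, N b) (hC : C = ⨆ b : {b // b ∉ J}, N b) :
    BadG (centralizer ({z} : Set G) ⊓ QQ (S : Subgroup G) R C ((S : Subgroup G) ⊓ centralizer (C : Set G)))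
      ((S : Subgroup G) ⊓ centralizer (C : Set G)) R := by
  intro d hd hodd hcom
  have h := hn.dec
  obtain ⟨hdz, hdQ⟩ := mem_inf.1 hd
  obtain ⟨hd1, hdT⟩ := mem_inf.1 hdQ
  obtain ⟨hd2, hdC⟩ := mem_inf.1 hd1
  obtain ⟨hdM, hdR⟩ := mem_inf.1 hd2
  have hdW : d ∈ normalizer (Wd (S : Subgroup G) : Set G) := by
    have hW : Wd (S : Subgroup G) = R ⊔ C := by
      rw [← h.sup, sup_bot_eq, hR, hC]
      apply le_antisymm
      · refine iSup_le fun b => ?_
        by_cases hb : b ∈ J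
        · exact (le_iSup (fun b : J => N b) ⟨b, hb⟩).trans le_sup_left
        · exact (le_iSup (fun b : {b // b ∉ J} => N b) ⟨b, hb⟩).trans le_sup_right
      · exact sup_le (iSup_le fun b => le_iSup N b.1) (iSup_le fun b => le_iSup N b.1)
    have hk : ∀ g ∈ normalizer (R : Set G) ⊓ normalizer (C : Set G), ∀ x ∈ R ⊔ C, g * x * g⁻¹ ∈ R ⊔ C := by
      intro g hg
      have h1 : R ⊔ C ≤ (R ⊔ C).comap (MulAut.conj g).toMonoidHom := by
        refine sup_le (fun x hx => ?_) fun x hx => ?_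
        · exact mem_comap.2 (le_sup_left (a := R) (b := C) (conj_of (mem_inf.1 hg).1 hx))
        · exact mem_comap.2 (le_sup_right (a := R) (b := C) (conj_of (mem_inf.1 hg).2 hx))
      exact fun x hx => h1 hx
    rw [hW, mem_normalizer_iff]
    refine fun x => ⟨hk d (mem_inf.2 ⟨hdR, hdC⟩) x, fun hx => ?_⟩
    have h1 := hk d⁻¹ (inv_mem (mem_inf.2 ⟨hdR, hdC⟩)) _ hx
    have e1 : d⁻¹ * (d * x * d⁻¹) * d⁻¹⁻¹ = x := by group
    rwa [e1] at h1
  -- one block
  have key : ∀ b ∈ J, d ∈ centralizer (N b : Set G) := by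
    intro b hb
    obtain ⟨F, i1, i2, e, A, t⟩ := exists_at B hs b
    have hNR : N b ≤ R := by rw [hR]; exact le_iSup (fun b : J => N b) ⟨b, hb⟩
    have hAC : A ≤ centralizer (C : Set G) := by
      intro a ha
      rw [mem_centralizer_iff]
      have h1 : C ≤ centralizer ({a} : Set G) := by
        rw [hC]
        refine iSup_le fun c x hx => ?_
        rw [mem_centralizer_singleton_iff]
        exact mem_centralizer_iff.1 (t.cent_oth h (c := c.1) (fun h2 => c.2 (by rw [h2]; exact hb)) ha) x hx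
      exact fun x hx => mem_centralizer_singleton_iff.1 (h1 hx)
    have hAT : A ≤ (S : Subgroup G) ⊓ centralizer (C : Set G) := le_inf t.AS hAC
    exact t.cent h (perm_of hn hdM) (perm_of hn (inv_mem hdM)) hdW inf_le_left hAT hdT hodd
      (fun a ha w hw => hcom a ha w (hNR hw)) (mem_centralizer_singleton_iff.1 hdz) hzc (hz.2 b hb)
  rw [mem_centralizer_iff]
  have h1 : R ≤ centralizer ({d} : Set G) := by
    rw [hR]
    refine iSup_le fun b x hx => ?_
    rw [mem_centralizer_singleton_iff]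
    exact mem_centralizer_iff.1 (key b.1 b.2) x hx
  exact fun x hx => mem_centralizer_singleton_iff.1 (h1 hx)

/-- **`HBad` for natural blocks** (field `hb` of `LeftAllOf.leftAll_of`) -/
theorem hBad_nat (B : RB S) (hn : NBs (S : Subgroup G) N E D l q) (hs : Src (S : Subgroup G) N l q) :
    FullSup.HBad (S : Subgroup G) N (fun b => {x | x ∈ N b ∧ x ≠ 1}) :=
  fun _ _ _ hz hzc _ _ hR hC => bad_nat B hn hs hz hzc hR hC

end Cfsg.Agent.Omega.NOThreeL.RRed.HBadNat
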