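import Cfsg.Agent.Omega.NOThreeL.RRed.HBadNatM
import Cfsg.Agent.Omega.NOThreeL.RRed.HBadOf

/-!
# Box R: `HBadOf.Kd` for the natural blocks of a mixed family (#27311, #27870), helper540

* **`kd_rrs`** : `N' b = un Q (NN D)`, `N' c ≤ un Q (CC D)` for `c ≠ b` ⟹ `∃ A, Kd S N' b A`.
-/

set_option autoImplicit false
set_option linter.unusedSectionVars false

namespace Cfsg.Agent.Omega.NOThreeL.RRed.HBadNatM

open Subgroup Cfsg Cfsg.Agent.ZN Cfsg.Agent.Omega.MinPar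
open Cfsg.Agent.Omega.FFThm (NatKM NoOverM)
open Cfsg.Agent.Omega.NOThreeL.RSplit (Nrm)
open Cfsg.Agent.Omega.NOThreeL.RRed.NS (un)
open Cfsg.Agent.Omega.NOThreeL.RRed.Blk.TypesNat (XH)
open Cfsg.Agent.Omega.NOThreeL.RRed.Blk.Asm
open Cfsg.Agent.Omega.NOThreeL.RRed.Blk.AsmG (RRs)
open Cfsg.Agent.Omega.NOThreeL.RRed.Blk.AsmOneBlk (EB)
open Cfsg.Agent.Omega.NOThreeL.RRed.WideTree (Act MvAct)
open Cfsg.Agent.Omega.NOThreeL.RRed.HBadOf (Kd kd_nat)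
open Cfsg.Agent.Omega.NOThreeL.RTree (RB)
open Cfsg.Agent.Omega.NOThreeL.Merge (MZ)

universe u v

variable {G : Type u} [Group G] [Finite G] {S : Sylow 2 G} {ι : Type v}

/-- **LEMMA E for a natural block of a mixed family** -/
theorem kd_rrs (B : RB S) (mv : MvAct (S : Subgroup G))
    (no : NoOverM (zl (S : Subgroup G) (MZ (S : Subgroup G))) (MZ (S : Subgroup G)))
    (Q : Nrm (MZ (S : Subgroup G)) (zl (S : Subgroup G) (MZ (S : Subgroup G)))) {D : Subgroup (XH Q)}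
    (hD : D ∈ RRs S (MZ (S : Subgroup G)) Q) {N' : ι → Subgroup G} {b : ι}
    (hb : N' b = un Q (NN (EB S Q) Q.Mod D)) (oth : ∀ c, c ≠ b → N' c ≤ un Q (CC (EB S Q) Q.Mod D)) :
    ∃ A, Kd (S : Subgroup G) N' b A := by
  obtain ⟨F, i1, i3, e, A, -, h2, t⟩ := at_rrs B mv no Q hD
  rw [← hb] at t
  exact ⟨A, kd_nat t.mul t.inj t.sur t.AS t.AN (fun c hc => h2.trans (centralizer_le (oth c hc))) t.all t.mx t.oth⟩

end Cfsg.Agent.Omega.NOThreeL.RRed.HBadNatM
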