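import Cfsg.Agent.Omega.NOThreeL.RRed.HBadNat
import Cfsg.Agent.Omega.NOThreeL.RRed.Blk.AsmRR

/-!
# Box R: LEMMA E data for the natural blocks of a mixed family (#27870 (B)), helper540

* `at_rrs` : for `D ∈ RRs` : `HBadNat.At S (un Q (NN D)) A e` with `im Q A = D`, `A ≤ C(un Q (CC D))`;
* **`nat_rrs`** : the same, unfolded.
-/

set_option autoImplicit false
set_option linter.unusedSectionVars false

namespace Cfsg.Agent.Omega.NOThreeL.RRed.HBadNatM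

open Subgroup Cfsg Cfsg.Agent.ZN Cfsg.Agent.Omega.MinPar
open Cfsg.Agent.Omega.FFThm (NatKM NoOverM)
open Cfsg.Agent.Omega.FrameFF (cv)
open Cfsg.Agent.Omega.NO3S.ThmB (Nb)
open Cfsg.Agent.Omega.NO3S.KeyRad (blk)
open Cfsg.Agent.Omega.NOThreeL.RSplit (Nrm)
open Cfsg.Agent.Omega.NOThreeL.RRed.NS (fxd brk mem_fxd un conj_eq_cj YY)
open Cfsg.Agent.Omega.NOThreeL.RRed.Blk.TypesNat (XH ph ph_smul XH_faith ph_eq ph_surj no_XH)
open Cfsg.Agent.Omega.NOThreeL.RRed.Blk.Asm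
open Cfsg.Agent.Omega.NOThreeL.RRed.Blk.AsmG (Inp RRs)
open Cfsg.Agent.Omega.NOThreeL.RRed.Blk.AsmInp (nrm_box inp_box no_of_act spl_of_mvAct td_RRs act_iff)
open Cfsg.Agent.Omega.NOThreeL.RRed.Blk.AsmOneBlk (EB rrs_sub nat_fam)
open Cfsg.Agent.Omega.NOThreeL.RRed.Blk.AsmCore (im EP KP im_cj mem_im ph_mem_im im_smul)
open Cfsg.Agent.Omega.NOThreeL.RRed.WideTree (Act MvAct)
open Cfsg.Agent.Omega.NOThreeL.RRed.HBadNat (At at_of)
open Cfsg.Agent.Omega.NOThreeL.RRed.LemmaE (Up)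
open Cfsg.Agent.Omega.NOThreeL.RTree (RB)
open Cfsg.Agent.Omega.NOThreeL.Merge (MZ le_MZ isLoc_MZ)
open scoped Pointwise

universe u

variable {G : Type u} [Group G] [Finite G] {S : Sylow 2 G}

/-- the full root group moves the block -/
theorem not_cent {N A : Subgroup G} {F : Type} [Field F] {e : G → Fin 2 → F} (t : At (S : Subgroup G) N A e) :
    ¬ A ≤ centralizer (N : Set G) := by
  intro h
  obtain ⟨a, ha, hup⟩ := t.all 1
  obtain ⟨w, hw, hw'⟩ := t.sur ![0, 1]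
  have h1 := congrFun (hup w hw) 0
  rw [← mem_centralizer_iff.1 (h ha) w hw, mul_inv_cancel_right, hw'] at h1
  simp at h1

/-- the centraliser of `un Q N` -/
theorem le_cent_un {Q : Nrm (MZ (S : Subgroup G)) (zl (S : Subgroup G) (MZ (S : Subgroup G)))} {A : Subgroup G}
    (hA : A ≤ MZ (S : Subgroup G)) {N : AddSubgroup Q.Mod} (h : ∀ x ∈ im Q A, ∀ m ∈ N, x • m = m) :
    A ≤ centralizer (un Q N : Set G) := by
  intro a ha
  rw [mem_centralizer_iff]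
  rintro _ ⟨m, hm, rfl⟩
  exact (mul_inv_eq_iff_eq_mul.1 ((im_smul Q).1 h a ha (hA ha) m hm)).symm

/-- **the root group of `D ∈ RRs`** -/
theorem at_rrs (B : RB S) (mv : MvAct (S : Subgroup G))
    (no : NoOverM (zl (S : Subgroup G) (MZ (S : Subgroup G))) (MZ (S : Subgroup G)))
    (Q : Nrm (MZ (S : Subgroup G)) (zl (S : Subgroup G) (MZ (S : Subgroup G)))) {D : Subgroup (XH Q)}
    (hD : D ∈ RRs S (MZ (S : Subgroup G)) Q) :
    ∃ (F : Type) (_ : Field F) (_ : CharP F 2) (e : G → Fin 2 → F) (A : Subgroup G),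
      im Q A = D ∧ A ≤ centralizer (un Q (CC (EB S Q) Q.Mod D) : Set G) ∧
        At (S : Subgroup G) (un Q (NN (EB S Q) Q.Mod D)) A e := by
  obtain ⟨hI, h4, hGB, hFam, -⟩ := nat_fam B mv no Q
  have hSL : (S : Subgroup G) ≤ MZ (S : Subgroup G) := (isLoc_MZ B.ctx B.full B.data.noff).le
  obtain ⟨P, a, F, i1, i2, i3, k, hk, M, h, h1, -, j, hN, -, -⟩ := Blk.AsmMv.mov_of B mv Q
    (FF := RRs S (MZ (S : Subgroup G)) Q) hI.es
    (fun P hP => hI.ac P hP.1 (le_MZ hP.1) ((act_iff B.ctx.char2 hP.1).1 hP)) hGB h4 hFam.sinv rrs_sub hD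
  obtain ⟨A, t⟩ := at_of B a h h1 j
  rw [← hN] at t
  have hAE : im Q A ∈ EB S Q := ⟨A, ⟨t.AS, t.mx⟩, rfl⟩
  have hAD : im Q A = D := by
    by_contra hne
    exact not_cent t (le_cent_un (t.AS.trans hSL) ((hGB D hD).oth _ hAE hne))
  exact ⟨F, i1, i3, _, A, hAD, le_cent_un (t.AS.trans hSL) fun x hx m hm => (hGB D hD).nb.C_le hm x (hAD ▸ hx), t⟩

/-- **the root group of `D ∈ RRs`**, unfolded -/
theorem nat_rrs (B : RB S) (mv : MvAct (S : Subgroup G))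
    (no : NoOverM (zl (S : Subgroup G) (MZ (S : Subgroup G))) (MZ (S : Subgroup G)))
    (Q : Nrm (MZ (S : Subgroup G)) (zl (S : Subgroup G) (MZ (S : Subgroup G)))) {D : Subgroup (XH Q)}
    (hD : D ∈ RRs S (MZ (S : Subgroup G)) Q) :
    ∃ (F : Type) (_ : Field F) (_ : CharP F 2) (e : G → Fin 2 → F),
      ∃ A ∈ Blk.AsmCore.EE (S : Subgroup G) (Wd (S : Subgroup G)), im Q A = D ∧
        (∀ v ∈ un Q (NN (EB S Q) Q.Mod D), ∀ w ∈ un Q (NN (EB S Q) Q.Mod D), e (v * w) = e v + e w) ∧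
        (∀ v ∈ un Q (NN (EB S Q) Q.Mod D), e v = 0 → v = 1) ∧
        (∀ x, ∃ v ∈ un Q (NN (EB S Q) Q.Mod D), e v = x) ∧
        A ≤ normalizer (un Q (NN (EB S Q) Q.Mod D) : Set G) ∧
        A ≤ centralizer (un Q (CC (EB S Q) Q.Mod D) : Set G) ∧
        (∀ β, ∃ a ∈ A, Up (un Q (NN (EB S Q) Q.Mod D)) e a β) ∧
        ∀ A' ∈ Blk.AsmCore.EE (S : Subgroup G) (Wd (S : Subgroup G)),
          ¬ A' ≤ centralizer (un Q (NN (EB S Q) Q.Mod D) : Set G) →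
            ∀ a ∈ A', ∃ β, Up (un Q (NN (EB S Q) Q.Mod D)) e a β := by
  obtain ⟨F, i1, i3, e, A, h1, h2, t⟩ := at_rrs B mv no Q hD
  exact ⟨F, i1, i3, e, A, ⟨t.AS, t.mx⟩, h1, t.mul, t.inj, t.sur, t.AN, h2, t.all,
    fun A' hA' hn => t.oth A' hA'.1 hA'.2 hn⟩

end Cfsg.Agent.Omega.NOThreeL.RRed.HBadNatM
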