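import Cfsg.Agent.Omega.NOThreeL.RRed.InstLDef
import Cfsg.Agent.Omega.KL.TwoZ.Line

/-!
# NO-3L, box R: the instance of 853's frame `KL.TwoZ.Line.LFr` (two natural blocks with field automorphisms; helper19)

* `NatF S V l` : the data; **`NatF.lfr`** : `LFr S V (ZZ S V) l`.
-/

set_option autoImplicit false
set_option linter.unusedSectionVars false

namespace Cfsg.Agent.Omega.NOThreeL.RRed.InstL

open Subgroup Cfsg Cfsg.Agent.ZN Cfsg.Agent.Omega.MinPar Cfsg.Agent.Omega.Frame Cfsg.Agent.Omega.FrameNOFF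
open Cfsg.Agent.Omega.Node.NO3L Cfsg.Agent.Omega.NOThreeL.Basic
open Cfsg.Agent.Omega.NOThreeL.Merge (MZ)
open Cfsg.Agent.Omega.NOThreeL.RTree (RB)
open Cfsg.Agent.ZN.ChoiceSit (Syl)
open Cfsg.Agent.MinSimple.MinParabolic (IsMinPar)
open Cfsg.Agent.Omega.NOThreeL.RRed.InstZ (ZZ Spl GF)
open Cfsg.Agent.Omega.NOThreeL.RShape.Lines (FLG le_sup_lines)
open Cfsg.Agent.Omega.OM.KTwo (exists_mul_of_mem_sup)
open scoped Pointwise

universe u

variable {G : Type u} [Group G]

/-- **two natural blocks with field automorphisms**: the data of the instance -/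
structure NatF [Finite G] (S : Sylow 2 G) (V l : Fin 2 → Subgroup G) : Prop where
  nM : ∀ i, MZ (S : Subgroup G) ≤ normalizer (V i : Set G)
  nS : ∀ n ∈ normalizer ((S : Subgroup G) : Set G), (∀ j, MulAut.conj n • l j = l j ∧ MulAut.conj n • V j = V j) ∨
    ∀ j, MulAut.conj n • l j = l (j + 1) ∧ MulAut.conj n • V j = V (j + 1)
  ld : ∀ i, LD (S : Subgroup G) (V i) (V (i + 1)) (l i)
  act : ∀ R, IsParS (S : Subgroup G) R → (∀ k, R ≤ normalizer (l k : Set G)) ∨
    ∃ i, (∀ z ∈ ZZ (S : Subgroup G) V i, z ≠ 1 → ¬ R ≤ centralizer ({z} : Set G)) ∧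
      ∀ g ∈ R, Odd (orderOf g) → g ∈ centralizer (V (i + 1) : Set G)
  gal : ∀ R, IsParS (S : Subgroup G) R → (∀ k, R ≤ normalizer (l k : Set G)) → ∀ i,
    ∀ z ∈ ZZ (S : Subgroup G) V i, z ≠ 1 → R ≤ centralizer ({z} : Set G) →
      R ≤ centralizer (ZZ (S : Subgroup G) V i : Set G)

namespace NatF

variable [Finite G] {S : Sylow 2 G} {V l : Fin 2 → Subgroup G} (N : NatF S V l)
include N

theorem Sl (i : Fin 2) : (S : Subgroup G) ≤ normalizer (l i : Set G) := (N.ld i).Sl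

theorem comm_l (s : Spl S V) (h : RB S) {i j : Fin 2} : l i ≤ centralizer (l j : Set G) :=
  (N.ld i).lV.trans ((s.comm h i j).trans (centralizer_le (N.ld j).lV))

/-- `C_G(Z)` normalises both lines as soon as it normalises their product (LEMMA LINES). -/
theorem perm (s : Spl S V) (h : RB S)
    (zj : centralizer (zc (S : Subgroup G) : Set G) ≤ normalizer ((l 0 ⊔ l 1 : Subgroup G) : Set G)) (i : Fin 2) :
    centralizer (zc (S : Subgroup G) : Set G) ≤ normalizer (l i : Set G) := by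
  set C : Subgroup G := centralizer (zc (S : Subgroup G) : Set G) with hC
  have hSC : (S : Subgroup G) ≤ C := MinSimple.VModule.le_centralizer_zc _
  have h0V : ∀ k, l k ≤ V k := fun k => (N.ld k).lV
  have hVS := s.V_le_S h
  have hY2 : IsPGroup 2 ↥(l 0 ⊔ l 1) := S.isPGroup'.to_le (sup_le ((h0V 0).trans (hVS 0)) ((h0V 1).trans (hVS 1)))
  have hYc : ∀ x ∈ l 0 ⊔ l 1, ∀ y ∈ l 0 ⊔ l 1, x * y = y * x := by
    have h1 : (l 0 ⊔ l 1 : Subgroup G) ≤ centralizer ((l 0 ⊔ l 1 : Subgroup G) : Set G) :=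
      sup_le (NoFF.Basic.comm_symm (sup_le (N.comm_l s h) (N.comm_l s h)))
        (NoFF.Basic.comm_symm (sup_le (N.comm_l s h) (N.comm_l s h)))
    exact fun x hx y hy => (mem_centralizer_iff.1 (h1 hy) x hx)
  have hfix : ∀ y ∈ l 0 ⊔ l 1, (∀ t ∈ (S : Subgroup G), t * y * t⁻¹ = y) → ∀ c ∈ C, c * y * c⁻¹ = y := by
    intro y hy hyS c hc
    have hyZ : y ∈ zc (S : Subgroup G) := by
      refine mem_zc.2 ⟨(sup_le ((h0V 0).trans (hVS 0)) ((h0V 1).trans (hVS 1))) hy, fun t ht => ?_, ?_⟩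
      · have h1 := hyS t ht
        calc t * y = (t * y * t⁻¹) * t := by group
          _ = y * t := by rw [h1]
      · have h1 : y ∈ zl (S : Subgroup G) (MZ (S : Subgroup G)) := by
          rw [← s.sup]
          exact sup_le_sup (h0V 0) (h0V 1) hy
        exact Star.zl_sq h.ctx.char2 h.data.noff y h1
    have h2 := mem_centralizer_iff.1 hc y hyZ
    rw [← h2, mul_inv_cancel_right]
  have hdis : l 0 ⊓ l 1 = ⊥ := by
    rw [eq_bot_iff, ← s.dis]
    exact inf_le_inf (h0V 0) (h0V 1)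
  have hSylC : Syl (S : Subgroup G) C := ⟨hSC, S.isPGroup', fun Q _ hQ2 hQ => S.is_maximal' hQ2 hQ⟩
  have h1 := le_sup_lines hSylC hY2 hYc zj rfl hdis (N.ld 0).flg (N.ld 1).flg hfix
  refine h1.trans (sup_le ?_ (N.Sl i))
  refine (inf_le_right.trans (centralizer_le ?_)).trans (centralizer_le_normalizer _)
  have h2 : l i ≤ l 0 ⊔ l 1 := by
    rcases Fin.exists_fin_two.1 ⟨i, rfl⟩ with e | e
    · rw [e]; exact le_sup_left
    · rw [e]; exact le_sup_right
  exact h2

omit N in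
/-- a local mover is in `P*(S)` -/
theorem parS_of {R : Subgroup G} (hR : IsMinPar (S : Subgroup G) R) (ho : o2 R ≠ ⊥)
    (hm : ¬ R ≤ centralizer (zc (S : Subgroup G) : Set G)) : IsParS (S : Subgroup G) R := by
  by_contra h3
  exact hm (par_le_CZ S ⟨hR, ho⟩ h3)

omit N in
theorem o2_ne_of {z : G} (hz : z ∈ zc (S : Subgroup G)) (hz1 : z ≠ 1) {R : Subgroup G}
    (hSR : (S : Subgroup G) ≤ R) (hRz : R ≤ centralizer ({z} : Set G)) : o2 R ≠ ⊥ := by
  have h0 : zpowers z ≤ zc (S : Subgroup G) := by rw [zpowers_le]; exact hz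
  have h1 : zpowers z ≤ o2 R := by
    refine MinSimple.VModule.le_o2 ((h0.trans (zc_le _)).trans hSR) (S.isPGroup'.to_le (h0.trans (zc_le _))) ?_
    refine hRz.trans (le_trans ?_ (centralizer_le_normalizer _))
    intro x hx
    rw [mem_centralizer_singleton_iff] at hx
    rw [mem_centralizer_iff]
    rintro _ ⟨k, rfl⟩
    exact ((show Commute x z from hx).zpow_right k).symm
  intro hc
  rw [hc, le_bot_iff, zpowers_eq_bot] at h1
  exact hz1 h1

theorem ZZ_le (i : Fin 2) : ZZ (S : Subgroup G) V i ≤ l i := fun v hv =>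
  (N.ld i).fix v hv.1 (MinSimple.VModule.zc_le_centralizer _ hv.2)

/-- **the frame of two natural blocks with field automorphisms** -/
theorem lfr (h : RB S) (s : Spl S V)
    (zj : centralizer (zc (S : Subgroup G) : Set G) ≤ normalizer ((l 0 ⊔ l 1 : Subgroup G) : Set G))
    (hn : NonLoc (centralizer (ZZ (S : Subgroup G) V 0 : Set G)) (centralizer (ZZ (S : Subgroup G) V 1 : Set G))) :
    KL.TwoZ.Line.LFr S V (ZZ (S : Subgroup G) V) l where
  char2 := (s.gf h).char2
  sqV := (s.gf h).sqV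
  Zl := N.ZZ_le
  lV i := (N.ld i).lV
  ne := (s.gf h).ne
  zT := (s.gf h).zT
  lZ i v hv hvS := by
    refine mem_inf.2 ⟨(N.ld i).lV hv, mem_zc.2 ⟨s.V_le_S h i ((N.ld i).lV hv), fun t ht => ?_, ?_⟩⟩
    · have h1 := mem_centralizer_iff.1 hvS t ht
      exact h1
    · exact s.sq h i v ((N.ld i).lV hv)
  com := (s.gf h).comm 0 1
  dis := s.dis
  nV := s.nS
  nS := N.nS
  perm := N.perm s h zj
  cyc i := (N.ld i).cyc
  uni R hR ho hm := by
    have h1 := parS_of hR ho hm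
    refine ⟨fun k => (NOThreeL.Merge.le_MZ h1).trans (N.nM k), N.act R h1⟩
  gal R hR hl i z hz hz1 hRz := by
    by_cases hm : R ≤ centralizer (zc (S : Subgroup G) : Set G)
    · exact hm.trans (centralizer_le inf_le_right)
    · exact N.gal R (parS_of hR (o2_ne_of hz.2 hz1 hR.le hRz) hm) hl i z hz hz1 hRz
  trV i := (N.ld i).trV
  tor i := (N.ld i).tor
  VQ := (s.gf h).VQ
  VC := (s.gf h).VC
  VN := (s.gf h).VN
  root i := (N.ld i).root
  reg i := (N.ld i).reg
  cardV i := (N.ld i).cardV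
  nonloc := hn

end NatF

end Cfsg.Agent.Omega.NOThreeL.RRed.InstL
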