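import Cfsg.Agent.Omega.NOThreeL.RRed.InstZ
import Cfsg.Agent.Omega.NOThreeL.RShape.Lines

/-!
# NO-3L, box R: two natural blocks with field automorphisms (definitions; helper19)

* `LD S V W l` : the per-type facts about the block `V`, the other block `W` and the line `l ≤ V`;
* `LD.flg` : `S` acts on `l` as in LEMMA LINES;
* `NatF S V l` : the data of the instance of 853's frame `KL.TwoZ.Line.LFr`;
* `NatF.perm` : `C_G(Z) ≤ N(l 0 l 1)` ⟹ `C_G(Z) ≤ (C_G(Z) ∩ C(l 0 l 1)) S`.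
-/

set_option autoImplicit false
set_option linter.unusedSectionVars false

namespace Cfsg.Agent.Omega.NOThreeL.RRed.InstL

open Subgroup Cfsg Cfsg.Agent.ZN Cfsg.Agent.Omega.MinPar Cfsg.Agent.Omega.Frame Cfsg.Agent.Omega.FrameNOFF
open Cfsg.Agent.Omega.Node.NO3L Cfsg.Agent.Omega.NOThreeL.Basic
open Cfsg.Agent.Omega.NOThreeL.Merge (MZ)
open Cfsg.Agent.Omega.NOThreeL.RTree (RB)
open Cfsg.Agent.ZN.ChoiceSit (Syl)
open Cfsg.Agent.MinSimple.MinParabolic (IsMinPar)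
open Cfsg.Agent.Omega.NOThreeL.RRed.InstZ (ZZ Spl GF)
open Cfsg.Agent.Omega.NOThreeL.RShape.Lines (FLG le_sup_lines)
open scoped Pointwise

universe u

variable {G : Type u} [Group G]

/-- **the facts about one natural block `V`** (`W` the other block, `l` the line) -/
structure LD (S V W l : Subgroup G) : Prop where
  lV : l ≤ V
  Sl : S ≤ normalizer (l : Set G)
  /-- the `S`-fixed vectors lie in the line -/
  fix : ∀ v ∈ V, v ∈ centralizer (S : Set G) → v ∈ l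
  cyc : ∃ t ∈ S, ∀ s ∈ S, ∃ n : ℤ, ∀ v ∈ l, s * v * s⁻¹ = t ^ n * v * (t ^ n)⁻¹
  trV : ∀ v ∈ V, ∃ h ∈ centralizer (W : Set G), h ∈ normalizer (V : Set G) ∧ h * v * h⁻¹ ∈ V ⊓ zc S
  tor : ∀ v ∈ l, ∃ h ∈ centralizer (W : Set G), h ∈ normalizer (V : Set G) ∧
    h ∈ normalizer (l : Set G) ∧ h * v * h⁻¹ ∈ V ⊓ zc S
  root : ∀ x ∈ V, ∀ y ∈ S, y ∈ centralizer (l : Set G) → x * y * x⁻¹ * y⁻¹ ∈ l
  reg : ∀ y ∈ S, y ∈ centralizer (l : Set G) → ∀ v ∈ V, v ∉ l → y * v = v * y → y ∈ centralizer (V : Set G)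
  cardV : Nat.card V = Nat.card l * Nat.card l

/-- a 2-group which acts on `l` as a cyclic group -/
theorem flg_of_cyc [Finite G] {S l : Subgroup G} (hS : S ≤ normalizer (l : Set G))
    (cyc : ∃ t ∈ S, ∀ s ∈ S, ∃ n : ℤ, ∀ v ∈ l, s * v * s⁻¹ = t ^ n * v * (t ^ n)⁻¹) : FLG S l := by
  obtain ⟨t, ht, hc⟩ := cyc
  have inv : ∀ g ∈ S, ∀ y ∈ l, g * y * g⁻¹ ∈ l := fun g hg y hy => (mem_normalizer_iff.1 (hS hg) y).1 hy
  -- the automorphism induced by `t`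
  let τ : MulAut l := RShape.Lines.rho S l hS ⟨t, ht⟩
  have hτ : ∀ (n : ℤ) (y : l), (((τ ^ n : MulAut l) y : l) : G) = t ^ n * y * (t ^ n)⁻¹ := by
    intro n y
    have e : (τ ^ n : MulAut l) = RShape.Lines.rho S l hS (⟨t, ht⟩ ^ n) := (map_zpow (RShape.Lines.rho S l hS) _ _).symm
    rw [e, RShape.Lines.rho_apply]
    simp
  refine ⟨inv, fun g hg h hh y hy => ?_, fun g hg h hh hg2 hh2 hg1 hh1 y hy => ?_⟩
  · obtain ⟨n, hn⟩ := hc g hg
    obtain ⟨m, hm⟩ := hc h hh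
    rw [hn _ (inv h hh y hy), hm y hy, hm _ (inv g hg y hy), hn y hy]
    have e1 : t ^ n * (t ^ m * y * (t ^ m)⁻¹) * (t ^ n)⁻¹ = (t ^ n * t ^ m) * y * (t ^ n * t ^ m)⁻¹ := by group
    have e2 : t ^ m * (t ^ n * y * (t ^ n)⁻¹) * (t ^ m)⁻¹ = (t ^ m * t ^ n) * y * (t ^ m * t ^ n)⁻¹ := by group
    rw [e1, e2, ← zpow_add, ← zpow_add, add_comm]
  · obtain ⟨n, hn⟩ := hc g hg
    obtain ⟨m, hm⟩ := hc h hh
    -- `τ ^ n`, `τ ^ m` are involutions
    have key : ∀ (k : ℤ) (x : G), x ∈ S → (∀ v ∈ l, x * v * x⁻¹ = t ^ k * v * (t ^ k)⁻¹) →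
        (∀ y ∈ l, x * (x * y * x⁻¹) * x⁻¹ = y) → (∃ y ∈ l, x * y * x⁻¹ ≠ y) →
        τ ^ (2 * k) = 1 ∧ τ ^ k ≠ 1 := by
      intro k x hx hk h2 h1
      constructor
      · ext y
        rw [two_mul, zpow_add]
        have e1 := hτ k y
        have e2 := hτ k ((τ ^ k : MulAut l) y)
        have e3 : (((τ ^ k * τ ^ k : MulAut l) y : l) : G) = t ^ k * ((τ ^ k : MulAut l) y : l) * (t ^ k)⁻¹ := e2
        rw [e3, e1, ← hk y y.2, ← hk _ (inv x hx y y.2), h2 y y.2]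
        rfl
      · intro hc1
        obtain ⟨y, hy, hne⟩ := h1
        apply hne
        have e1 := hτ k ⟨y, hy⟩
        rw [hc1] at e1
        rw [hk y hy]
        exact e1.symm
    obtain ⟨a1, a2⟩ := key n g hg hn hg2 hg1
    obtain ⟨b1, b2⟩ := key m h hh hm hh2 hh1
    have d1 := orderOf_dvd_iff_zpow_eq_one.2 a1
    have d2 := orderOf_dvd_iff_zpow_eq_one.2 b1
    have d3 : ¬ (orderOf τ : ℤ) ∣ n := fun hc1 => a2 (orderOf_dvd_iff_zpow_eq_one.1 hc1)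
    have d4 : ¬ (orderOf τ : ℤ) ∣ m := fun hc1 => b2 (orderOf_dvd_iff_zpow_eq_one.1 hc1)
    obtain ⟨a, ha⟩ := d1
    obtain ⟨b, hb⟩ := d2
    have oa : Odd a := by
      by_contra hne
      rw [Int.not_odd_iff_even] at hne
      obtain ⟨c, hc'⟩ := hne
      apply d3
      refine ⟨c, ?_⟩
      have : 2 * n = 2 * (orderOf τ * c) := by rw [ha, hc']; ring
      linarith
    have ob : Odd b := by
      by_contra hne
      rw [Int.not_odd_iff_even] at hne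
      obtain ⟨c, hc'⟩ := hne
      apply d4
      refine ⟨c, ?_⟩
      have : 2 * m = 2 * (orderOf τ * c) := by rw [hb, hc']; ring
      linarith
    have d5 : (orderOf τ : ℤ) ∣ n - m := by
      obtain ⟨c, hc'⟩ := oa.sub_odd ob
      refine ⟨c, ?_⟩
      have : 2 * (n - m) = 2 * (orderOf τ * c) := by
        calc 2 * (n - m) = orderOf τ * a - orderOf τ * b := by rw [← ha, ← hb]; ring
          _ = orderOf τ * (a - b) := by ring
          _ = 2 * (orderOf τ * c) := by rw [hc']; ring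
      linarith
    have d6 : τ ^ n = τ ^ m := by
      have h1 := orderOf_dvd_iff_zpow_eq_one.1 d5
      rw [zpow_sub, mul_inv_eq_one] at h1
      exact h1
    have e1 := hτ n ⟨y, hy⟩
    have e2 := hτ m ⟨y, hy⟩
    rw [d6] at e1
    rw [hn y hy, hm y hy]
    exact e1.symm.trans e2

theorem LD.flg [Finite G] {S V W l : Subgroup G} (h : LD S V W l) : FLG S l := flg_of_cyc h.Sl h.cyc

end Cfsg.Agent.Omega.NOThreeL.RRed.InstL
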