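import Cfsg.Agent.Omega.NOThreeL.RRed.HBadNat
import Cfsg.Agent.Omega.NOThreeL.RRed.HBadOf

/-!
# Box R: `Kd` for the blocks of an active natural `P`, helper314

* **`kd_of_blk`** : `N b = blk M j` for an active `P` with trivial radical ⟹ `∃ A, Kd S N b A` (helper329's `hBad_of`).
-/

set_option autoImplicit false

namespace Cfsg.Agent.Omega.NOThreeL.RRed.HBadNat

open Subgroup Cfsg Cfsg.Agent.ZN
open Cfsg.Agent.Omega.FFThm
open Cfsg.Agent.Omega.FrameFF (cv)
open Cfsg.Agent.Omega.NO3S.ThmB (Nb)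
open Cfsg.Agent.Omega.NO3S.KeyRad (blk)
open Cfsg.Agent.Omega.NOThreeL.RRed.WideTree (Act)
open Cfsg.Agent.Omega.NOThreeL.RRed.Blk (Dec)
open Cfsg.Agent.Omega.NOThreeL.Merge (MZ)
open Cfsg.Agent.Omega.NOThreeL.RTree (RB)

universe u v

variable {G : Type u} [Group G] [Finite G] {S : Sylow 2 G}

/-- `Kd` from `At` -/
theorem At.kd {ι : Type v} {N E : ι → Subgroup G} {b : ι} {A : Subgroup G} {F : Type} [Field F] [CharP F 2]
    {e : G → Fin 2 → F} (t : At (S : Subgroup G) (N b) A e)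
    (h : Dec (S : Subgroup G) (MZ (S : Subgroup G)) (Wd (S : Subgroup G)) N E ⊥) : HBadOf.Kd (S : Subgroup G) N b A :=
  HBadOf.kd_nat t.mul t.inj t.sur t.AS t.AN (fun _ hc => t.cent_oth h hc) t.all t.mx t.oth

/-- **`Kd` for the blocks of an active natural `P`** -/
theorem kd_of_blk (B : RB S) {P : Subgroup G} (a : Act (S : Subgroup G) P) {F : Type} [Field F] [Finite F] [CharP F 2]
    {k : ℕ} {M : NatKM F (S : Subgroup G) P (zl (S : Subgroup G) P) (cv (S : Subgroup G) P) k} (h : Nb M)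
    (hD : ∀ i, NS.DD M i = ⊥) (j : Fin k) {ι : Type v} {N E : ι → Subgroup G} {b : ι} (hb : N b = blk M j)
    (hd : Dec (S : Subgroup G) (MZ (S : Subgroup G)) (Wd (S : Subgroup G)) N E ⊥) :
    ∃ A, HBadOf.Kd (S : Subgroup G) N b A := by
  obtain ⟨A, t⟩ := at_of B a h hD j
  rw [← hb] at t
  exact ⟨A, t.kd hd⟩

end Cfsg.Agent.Omega.NOThreeL.RRed.HBadNat
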