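import Cfsg.Agent.Omega.NOThreeL.RRed.Lin

/-!
# NO-3L, box R, the smallest shape: L6 ([R-red], #21468)

`LFr.l6` : no `b ∈ Om` has `f b v₁ = f b v₂ = 1`.
-/

set_option autoImplicit false

namespace Cfsg.Agent.Omega.NOThreeL.RRed

open Module Cfsg.Agent.Omega.TV

variable {H : Type*} [Group H] {V : Type*} [AddCommGroup V] [Module (ZMod 2) V]

namespace LFr

variable {ρ : H →* (V ≃ₗ[ZMod 2] V)} {S : Subgroup H} {Om : Set V} {f : V → Dual (ZMod 2) V}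
  {PP : Set (Subgroup H)} {v₁ v₂ a : V} {P₀ : Subgroup H} (h : LFr ρ S Om f PP v₁ v₂ a P₀)
include h

/-- `f v₁ v₂ = 0`. -/
theorem x12 : f v₁ v₂ = 0 := by
  obtain ⟨t, ht, h1⟩ := h.t
  have h2 := h.s2 t ht
  rw [h1] at h2
  have h3 : f v₁ v₂ • v₁ = 0 := by simpa using h2
  rcases z2 (f v₁ v₂) with e | e
  · exact e
  · rw [e, one_smul] at h3
    exact absurd h3 h.ln0.z0

theorem xOm : a ∈ Om := by
  obtain ⟨r, -, hr⟩ := h.ln0.tr
  rw [← hr]
  exact h.inv r _ h.m1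

/-- `f a v₂ = 0`. -/
theorem xa2 : f a v₂ = 0 := by
  obtain ⟨r, hr, e⟩ := h.ln0.tr
  have h1 := h.toUSys.eqv' r (x := v₂) h.m1 (h.ln0.cR r hr)
  rw [e] at h1
  rw [h1, h.x12]

theorem xa1 : f a v₁ = 1 := by rw [h.toUSys.symm h.xOm h.m1, h.ta]

/-- The point `e = v₁ + a + b`. -/
theorem x_exists_e {b : V} (hb : b ∈ Om) (h1 : f b v₁ = 1) (h2 : f b v₂ = 1) :
    ∃ e ∈ Om, f e v₁ = 0 ∧ f e v₂ = 1 ∧ f e a = 1 := by
  have U := h.toUSys
  -- without loss `f a b = 0`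
  obtain ⟨b, hb, h1, h2, h3⟩ : ∃ b ∈ Om, f b v₁ = 1 ∧ f b v₂ = 1 ∧ f a b = 0 := by
    rcases z2 (f a b) with e | e
    · exact ⟨b, hb, h1, h2, e⟩
    · refine ⟨b + v₁, U.mem_add hb h.m1 h1, ?_, ?_, ?_⟩
      · rw [U.add hb h.m1 h1, h1, U.self h.m1, add_zero]
      · rw [U.add hb h.m1 h1, h2, h.x12, add_zero]
      · rw [map_add, e, h.xa1]; exact z2_add_self 1
  have h4 : v₁ + a ∈ Om := U.mem_add h.m1 h.xOm h.ta
  have h5 : f (v₁ + a) b = 1 := by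
    rw [U.add h.m1 h.xOm h.ta, U.symm h.m1 hb, h1, h3, add_zero]
  refine ⟨v₁ + a + b, U.mem_add h4 hb h5, ?_, ?_, ?_⟩
  · rw [U.add h4 hb h5, U.add h.m1 h.xOm h.ta, U.self h.m1, h.xa1, h1, zero_add]
    exact z2_add_self 1
  · rw [U.add h4 hb h5, U.add h.m1 h.xOm h.ta, h.x12, h.xa2, h2, zero_add, zero_add]
  · rw [U.add h4 hb h5, U.add h.m1 h.xOm h.ta, h.ta, U.self h.xOm, U.symm hb h.xOm, h3, add_zero, add_zero]

/-- The `S`-conjugates of `e`. -/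
theorem x_conj_e {e : V} (he : e ∈ Om) (h1 : f e v₁ = 0) (h2 : f e v₂ = 1) (h3 : f e a = 1) {s : H} (hs : s ∈ S) :
    ρ s e ∈ Om ∧ f (ρ s e) v₁ = 0 ∧ f (ρ s e) v₂ = 1 ∧ f (ρ s e) a = 1 := by
  have U := h.toUSys
  refine ⟨U.inv s e he, ?_, ?_, ?_⟩
  · rw [U.eqv' s he (h.ln0.zS s hs), h1]
  · rw [U.eqv' s he (h.s2 s hs), h2]
  · have h4 : a = ρ s (ρ s⁻¹ a) := (rinv' ρ s a).symm
    rw [h4, U.eqv s he]
    rcases h.ln0.us s⁻¹ (S.inv_mem hs) with e1 | e1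
    · rw [e1, h3]
    · rw [e1, map_add, h3, h1, add_zero]

/-- Two points perpendicular to `v₁`, with `f · v₂ = f · a = 1`, are not perpendicular. -/
theorem x_perp {c d : V} (hc : c ∈ Om) (hd : d ∈ Om) (c1 : f c v₁ = 0) (c2 : f c v₂ = 1) (c3 : f c a = 1)
    (d1 : f d v₁ = 0) (d2 : f d v₂ = 1) (d3 : f d a = 1) (hne : c ≠ d) : f c d = 1 := by
  have U := h.toUSys
  by_contra hcon
  have h0 : f c d = 0 := z2_ne_one hcon
  -- `v₁ + a`
  have k1 : v₁ + a ∈ Om := U.mem_add h.m1 h.xOm h.ta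
  have g1 : ∀ x, f (v₁ + a) x = f v₁ x + f a x := U.add h.m1 h.xOm h.ta
  -- `v₁ + a + c`
  have e1 : f (v₁ + a) c = 1 := by
    rw [g1, U.symm h.m1 hc, c1, U.symm h.xOm hc, c3, zero_add]
  have k2 : v₁ + a + c ∈ Om := U.mem_add k1 hc e1
  have g2 : ∀ x, f (v₁ + a + c) x = f v₁ x + f a x + f c x := fun x => by rw [U.add k1 hc e1, g1]
  -- `v₁ + a + c + d`
  have e2 : f (v₁ + a + c) d = 1 := by
    rw [g2, U.symm h.m1 hd, d1, U.symm h.xOm hd, d3, h0, zero_add, add_zero]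
  have k3 : v₁ + a + c + d ∈ Om := U.mem_add k2 hd e2
  have g3 : ∀ x, f (v₁ + a + c + d) x = f v₁ x + f a x + f c x + f d x := fun x => by rw [U.add k2 hd e2, g2]
  -- `v₁ + c + d`
  have e3 : f (v₁ + a + c + d) a = 1 := by
    rw [g3, h.ta, U.self h.xOm, c3, d3]; decide
  have k4' : v₁ + a + c + d + a ∈ Om := U.mem_add k3 h.xOm e3
  have ee : v₁ + a + c + d + a = v₁ + c + d := by
    calc v₁ + a + c + d + a = v₁ + c + d + (a + a) := by abel
      _ = v₁ + c + d := by rw [v_add_self, add_zero]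
  have k4 : v₁ + c + d ∈ Om := ee ▸ k4'
  have g4 : ∀ x, f (v₁ + c + d) x = f v₁ x + f c x + f d x := fun x => by
    rw [← ee, U.add k3 h.xOm e3, g3]
    calc f v₁ x + f a x + f c x + f d x + f a x = f v₁ x + f c x + f d x + (f a x + f a x) := by ring
      _ = _ := by rw [z2_add_self, add_zero]
  have e4 : f (v₁ + c + d) v₂ = 0 := by rw [g4, h.x12, c2, d2]; decide
  have e5 : f (v₁ + c + d) a = 1 := by rw [g4, h.ta, c3, d3]; decide
  have e6 : f (v₁ + c + d) v₁ = 0 := by rw [g4, U.self h.m1, c1, d1]; decide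
  -- the transvection
  obtain ⟨g, hg⟩ := U.ex k4
  obtain ⟨r, hr, hra⟩ := h.ln0.tr
  have h5 : ρ (g * r) v₂ = v₂ := by
    rw [rmul, h.ln0.cR r hr, hg, e4, zero_smul, add_zero]
  have h6 := h.l3 (g * r) h5
  rw [rmul, hra, hg, e5, one_smul] at h6
  rcases h6 with h6 | h6 | h6
  · -- `v₁ + c + d = a + v₁`
    have h7 : v₁ + c + d = v₁ + a := by
      calc v₁ + c + d = a + (a + (v₁ + c + d)) := (self_add_add _ _).symm
        _ = v₁ + a := by rw [h6, add_comm]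
    rw [h7, g1, U.self h.m1, h.xa1, zero_add] at e6
    exact one_ne_zero e6
  · have h7 : v₁ + c + d = 0 := by
      calc v₁ + c + d = a + (a + (v₁ + c + d)) := (self_add_add _ _).symm
        _ = 0 := by rw [h6, v_add_self]
    exact h.zero (h7 ▸ k4)
  · have h7 : v₁ + c + d = v₁ := by
      calc v₁ + c + d = a + (a + (v₁ + c + d)) := (self_add_add _ _).symm
        _ = v₁ := by rw [h6, self_add_add]
    have h8 : c + d = 0 := by
      have h9 : v₁ + (v₁ + c + d) = v₁ + v₁ := by rw [h7]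
      rw [v_add_self] at h9
      calc c + d = v₁ + (v₁ + (c + d)) := (self_add_add _ _).symm
        _ = v₁ + (v₁ + c + d) := by rw [add_assoc v₁ c d]
        _ = 0 := h9
    exact hne (v_eq_of_add h8)

/-- **L6.** -/
theorem l6 {b : V} (hb : b ∈ Om) (h1 : f b v₁ = 1) (h2 : f b v₂ = 1) : False := by
  have U := h.toUSys
  obtain ⟨e, he, e1, e2, e3⟩ := h.x_exists_e hb h1 h2
  have hce : ∀ s ∈ S, ρ s e ∈ Om ∧ f (ρ s e) v₁ = 0 ∧ f (ρ s e) v₂ = 1 ∧ f (ρ s e) a = 1 := fun s hs =>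
    h.x_conj_e he e1 e2 e3 hs
  have hee : ∀ s ∈ S, ρ s e ≠ e → f e (ρ s e) = 1 := fun s hs hne =>
    h.x_perp he (hce s hs).1 e1 e2 e3 (hce s hs).2.1 (hce s hs).2.2.1 (hce s hs).2.2.2 (Ne.symm hne)
  -- the orbit of `v₂`
  let Ω : Set V := {x | x = v₂ ∨ ∃ s ∈ S, x = v₂ + ρ s e}
  obtain ⟨t, ht⟩ := U.ex he
  have hS : ∀ s ∈ S, ∀ x ∈ Ω, ρ s x ∈ Ω := by
    rintro s hs x (rfl | ⟨s', hs', rfl⟩)
    · exact Or.inl (h.s2 s hs)
    · exact Or.inr ⟨s * s', S.mul_mem hs hs', by rw [map_add, h.s2 s hs, rmul]⟩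
  have hT : ∀ x ∈ Ω, ρ t x ∈ Ω := by
    rintro x (rfl | ⟨s, hs, rfl⟩)
    · right
      exact ⟨1, S.one_mem, by rw [ht, e2, one_smul, rone]⟩
    · by_cases hne : ρ s e = e
      · left
        rw [hne, ht, map_add, e2, U.self he, add_zero, one_smul, add_add_self]
      · right
        refine ⟨s, hs, ?_⟩
        rw [ht, map_add, e2, hee s hs hne, z2_add_self, zero_smul, add_zero]
  have hti : ∀ x, ρ t⁻¹ x = ρ t x := by
    intro x
    have h3 := U.invol he ht x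
    calc ρ t⁻¹ x = ρ t⁻¹ (ρ t (ρ t x)) := by rw [h3]
      _ = ρ t x := rinv ρ t _
  let K : Subgroup H :=
    { carrier := {g | (∀ x ∈ Ω, ρ g x ∈ Ω) ∧ (∀ x ∈ Ω, ρ g⁻¹ x ∈ Ω) ∧ ρ g v₁ = v₁}
      one_mem' := ⟨fun x hx => by rwa [rone], fun x hx => by rwa [inv_one, rone], rone ρ _⟩
      mul_mem' := by
        rintro g g' ⟨a1, a2, a3⟩ ⟨b1, b2, b3⟩
        refine ⟨fun x hx => ?_, fun x hx => ?_, ?_⟩
        · rw [rmul]; exact a1 _ (b1 x hx)
        · rw [mul_inv_rev, rmul]; exact b2 _ (a2 x hx)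
        · rw [rmul, b3, a3]
      inv_mem' := by
        rintro g ⟨a1, a2, a3⟩
        refine ⟨a2, fun x hx => ?_, ?_⟩
        · rw [inv_inv]; exact a1 x hx
        · conv_lhs => rw [← a3]
          exact rinv ρ g v₁ }
  have hSK : S ≤ K := fun s hs =>
    ⟨hS s hs, hS s⁻¹ (S.inv_mem hs), h.ln0.zS s hs⟩
  have htK : t ∈ K :=
    ⟨hT, fun x hx => by rw [hti]; exact hT x hx, by rw [ht, e1, zero_smul, add_zero]⟩
  have he0 : e ≠ 0 := U.c_ne he
  obtain ⟨R, hR, hRK, g, hgR, hg⟩ := h.gen K hSK (fun g hg => hg.2.2)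
    ⟨t, htK, by
      rw [ht, e2, one_smul]
      intro h3
      exact he0 (by simpa using h3)⟩
  obtain ⟨z, u, c, L⟩ := h.par R hR
  have hgv : ∃ s ∈ S, ρ g v₂ = v₂ + ρ s e := (hRK hgR).1 v₂ (Or.inl rfl) |>.resolve_left hg
  obtain ⟨s₀, hs₀, hg0⟩ := hgv
  -- all `v₂ + ρ s e` are in the `R`-orbit of `v₂`
  have horb : ∀ s ∈ S, ∃ r ∈ R, ρ r v₂ = v₂ + ρ s e := by
    intro s hs
    refine ⟨s * s₀⁻¹ * g, R.mul_mem (R.mul_mem (L.le hs) (L.le (S.inv_mem hs₀))) hgR, ?_⟩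
    rw [rmul, hg0, map_add, h.s2 _ (S.mul_mem hs (S.inv_mem hs₀)), ← rmul]
    congr 2
    group
  -- the `R`-orbit of `v₂`
  have hR1 : ∀ r ∈ R, ρ r v₁ = v₁ := fun r hr => (hRK hr).2.2
  have hzu : z ≠ u := by
    rintro rfl
    obtain ⟨s, hs, h3⟩ := L.mv
    exact h3 (L.zS s hs)
  obtain ⟨p, q, hpq⟩ : ∃ p q : V, ∀ r ∈ R, ρ r v₂ = v₂ ∨ ρ r v₂ = p ∨ ρ r v₂ = q := by
    rcases h.fix z L.zS with h3 | h3 | h3 | h3
    · exact absurd h3 L.z0
    · exfalso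
      obtain ⟨r, hr, h4⟩ := L.tr
      rw [h3, hR1 r hr] at h4
      exact hzu (h3.trans h4)
    · exact ⟨u, u + z, fun r hr => by
        have := L.orb r hr
        rwa [h3] at this ⊢⟩
    · refine ⟨u + v₁, u + z + v₁, fun r hr => ?_⟩
      have h4 : ρ r v₂ = ρ r z + v₁ := by
        calc ρ r v₂ = ρ r (v₁ + (v₁ + v₂)) := by rw [self_add_add]
          _ = v₁ + ρ r z := by rw [map_add, hR1 r hr, h3]
          _ = ρ r z + v₁ := add_comm _ _
      rw [h4]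
      rcases L.orb r hr with h5 | h5 | h5
      · left
        rw [h5, h3, add_comm, self_add_add]
      · right; left; rw [h5]
      · right; right; rw [h5]
  have hpq' : ∀ s ∈ S, v₂ + ρ s e = p ∨ v₂ + ρ s e = q := by
    intro s hs
    obtain ⟨r, hr, h3⟩ := horb s hs
    rcases hpq r hr with h4 | h4 | h4
    · exfalso
      rw [h3] at h4
      have h5 : ρ s e = 0 := by simpa using h4
      exact U.c_ne (hce s hs).1 h5
    · left; rw [← h3, h4]
    · right; rw [← h3, h4]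
  -- `e` is not fixed by `S`
  have hnf : ∃ s ∈ S, ρ s e ≠ e := by
    by_contra hcon
    push Not at hcon
    have h3 := h.l2 e he hcon
    rw [h3, h.x12] at e2
    exact zero_ne_one e2
  obtain ⟨s₁, hs₁, hne⟩ := hnf
  have he1 := hpq' 1 S.one_mem
  rw [rone] at he1
  have he2 := hpq' s₁ hs₁
  have hcan : ∀ {x y : V}, v₂ + x = v₂ + y → x = y := fun {x y} hxy => add_left_cancel hxy
  -- the orbit is `{e, ρ s₁ e}`
  have hor : ∀ s ∈ S, ρ s e = e ∨ ρ s e = ρ s₁ e := by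
    intro s hs
    have h3 := hpq' s hs
    rcases he1 with h4 | h4 <;> rcases he2 with h5 | h5 <;> rcases h3 with h6 | h6
    all_goals first
      | exact Or.inl (hcan (h6.trans h4.symm))
      | exact Or.inr (hcan (h6.trans h5.symm))
      | exact absurd (hcan (h5.trans h4.symm)) hne
  have hsum : ∀ s ∈ S, ρ s (e + ρ s₁ e) = e + ρ s₁ e := by
    intro s hs
    rw [map_add, ← rmul]
    have hd : ρ s e ≠ ρ (s * s₁) e := by
      rw [rmul]
      intro h3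
      exact hne ((ρ s).injective h3).symm
    rcases hor s hs with h3 | h3 <;> rcases hor (s * s₁) (S.mul_mem hs hs₁) with h4 | h4
    · exact absurd (h3.trans h4.symm) hd
    · rw [h3, h4]
    · rw [h3, h4, add_comm]
    · exact absurd (h3.trans h4.symm) hd
  have hf := hee s₁ hs₁ hne
  have hm : e + ρ s₁ e ∈ Om := U.mem_add he (hce s₁ hs₁).1 hf
  have h7 := h.l2 _ hm hsum
  rw [← h7, map_add, U.self he, hf, zero_add] at e1
  exact one_ne_zero e1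

end LFr

end Cfsg.Agent.Omega.NOThreeL.RRed
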