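import Cfsg.Agent.Omega.NOThreeL.RRed.GSide

/-!
# NO-3L, box R, the smallest shape: L2 of #21468 ([R-red])

* `Sd.lin` : the linear form of `Sd` (no L2, L3);
* `Sd.normalizer_fix` : `N_M(S)` centralises `v₁`;
* `Sd.l2` : `z ∈ Z ∩ v₁^M` : `z = v₁`.
-/

set_option autoImplicit false
set_option linter.unusedSectionVars false

namespace Cfsg.Agent.Omega.NOThreeL.RRed

open Subgroup Cfsg Cfsg.Agent.ZN Cfsg.Agent.Omega.MinPar Cfsg.Agent.Omega.Frame Cfsg.Agent.Omega.FrameNOFF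
open Cfsg.Agent.Omega.Node.NO3L Cfsg.Agent.Omega.NOThreeL.Basic Cfsg.Agent.Omega.NOThreeL.RTree
open Cfsg.Agent.Omega.NOThreeL.Merge (MZ le_MZ S_le_MZ isLoc_MZ)
open Cfsg.Agent.Omega.TV

universe u

variable {G : Type u} [Group G] [Finite G] {S : Sylow 2 G}

/-- An odd power of `x ∈ N_G(Z)` centralises `Z`. -/
theorem exists_odd_pow {x : G} (hx : x ∈ normalizer (zc (S : Subgroup G) : Set G)) :
    ∃ k : ℕ, x * (x * x) ^ k ∈ centralizer (zc (S : Subgroup G) : Set G) := by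
  set N := normalizer (zc (S : Subgroup G) : Set G) with hN
  set C := centralizer (zc (S : Subgroup G) : Set G) with hC
  have hSC : (S : Subgroup G) ≤ C := Cfsg.Agent.MinSimple.VModule.le_centralizer_zc _
  have hCN : C ≤ N := centralizer_le_normalizer _
  have hodd : ¬ 2 ∣ C.relIndex N := by
    intro h3
    have h4 : (S : Subgroup G).relIndex C * C.relIndex N = (S : Subgroup G).relIndex N :=
      relIndex_mul_relIndex _ _ _ hSC hCN
    exact MinSimple.Basic.not_dvd_relIndex S (hSC.trans hCN) (h3.trans (Dvd.intro_left _ h4))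
  have hnorm : (C.subgroupOf N).Normal := by
    constructor
    rintro ⟨y, hy⟩ hyC ⟨n, hn⟩
    rw [mem_subgroupOf] at hyC ⊢
    show n * y * n⁻¹ ∈ C
    rw [hC, mem_centralizer_iff] at hyC ⊢
    intro z hz
    have h4 := hyC (n⁻¹ * z * n) ((mem_normalizer_iff''.1 hn z).1 hz)
    calc z * (n * y * n⁻¹) = n * ((n⁻¹ * z * n) * y) * n⁻¹ := by group
      _ = n * (y * (n⁻¹ * z * n)) * n⁻¹ := by rw [h4]
      _ = n * y * n⁻¹ * z := by group
  have hpow := (C.subgroupOf N).pow_index_mem ⟨x, hx⟩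
  rw [mem_subgroupOf] at hpow
  have hpow' : x ^ (C.relIndex N) ∈ C := hpow
  obtain ⟨k, hk⟩ : ∃ k, C.relIndex N = 2 * k + 1 := by
    obtain ⟨k, hk | hk⟩ := Nat.even_or_odd' (C.relIndex N)
    · exact absurd ⟨k, hk⟩ hodd
    · exact ⟨k, hk⟩
  refine ⟨k, ?_⟩
  have h8 : x ^ (C.relIndex N) = x * (x * x) ^ k := by
    rw [hk, pow_succ', pow_mul, pow_two]
  rwa [h8] at hpow'

namespace Sd

variable {P₀ : Subgroup G} {v₁ v₂ a t : G} (h : Sd S P₀ v₁ v₂ a t)
include h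

/-- **The linear form.** -/
theorem lin : ∃ (x y z : EA (Ws S) h.sm.sqW) (f k : Module.Dual (ZMod 2) (EA (Ws S) h.sm.sqW)), x.val = v₁ ∧
      y.val = v₂ ∧ z.val = a ∧ x ≠ 0 ∧ Uq (rp h.sm) x f ∧ Uq (rp h.sm) z k ∧ z ∈ Om (rp h.sm) x ∧ f z = 1 ∧
      f y = 0 ∧ k y = 0 ∧ Ind (rp h.sm) ⟨t, h.SM h.tS⟩ x f := by
  have ex : (EA.mk h.sm.sqW v₁ h.zW).val = v₁ := EA.val_mk _
  have ey : (EA.mk h.sm.sqW v₂ h.cW).val = v₂ := EA.val_mk _
  have ez : (EA.mk h.sm.sqW a h.aW).val = a := EA.val_mk _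
  set x := EA.mk h.sm.sqW v₁ h.zW with hx
  set y := EA.mk h.sm.sqW v₂ h.cW with hy
  set z := EA.mk h.sm.sqW a h.aW with hz
  have hx0 : x ≠ 0 := fun e => h.ln.z1 (by rw [← ex]; exact EA.val_eq_one.2 e)
  have htM : t ∈ MZ (S : Subgroup G) := h.SM h.tS
  obtain ⟨f, hf⟩ := exists_functional (rp h.sm ⟨t, htM⟩) hx0 (fun w => by
    rcases h.tv w.val w.val_mem with e | e
    · left; exact EA.ext (by rw [val_rp]; exact e)
    · right; exact EA.ext (by rw [val_rp, EA.val_add, ex]; exact e))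
  have hval : ∀ w : EA (Ws S) h.sm.sqW, t * w.val * t⁻¹ = w.val → f w = 0 := by
    intro w hw
    by_contra hcon
    have h4 := hf w
    rw [z2_ne_zero hcon, one_smul] at h4
    have h5 : rp h.sm ⟨t, htM⟩ w = w := EA.ext (by rw [val_rp]; exact hw)
    rw [h5] at h4
    exact hx0 (add_eq_left.1 h4.symm)
  have fx : f x = 0 := hval x (by rw [ex, ← h.ln.zs h.tS |>.symm]; group)
  have fy : f y = 0 := hval y (by rw [ey, h.ln.cs h.tS]; group)
  have fz : f z = 1 := by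
    by_contra hcon
    have h4 := hf z
    rw [z2_ne_one hcon, zero_smul, add_zero] at h4
    have h5 := congrArg EA.val h4
    rw [val_rp, ez] at h5
    have h6 : a * v₁ = a := h.ta.symm.trans h5
    exact h.ln.z1 (mul_eq_left.1 h6)
  have u1 : Uq (rp h.sm) x f := by
    refine ⟨fun e => ?_, ⟨fx, ⟨t, htM⟩, hf⟩, ?_⟩
    · rw [e] at fz
      exact absurd fz (by simp)
    · rintro ψ ⟨_, ⟨g, hg⟩, hψ⟩
      have htv : Tv (Ws S) v₁ g := by
        intro w hw
        have h4 := congrArg EA.val (hψ (EA.mk h.sm.sqW w hw))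
        rw [val_rp, EA.val_mk] at h4
        rcases z2 (ψ (EA.mk h.sm.sqW w hw)) with h5 | h5
        · left; rw [h5, zero_smul, add_zero, EA.val_mk] at h4; exact h4
        · right; rw [h5, one_smul, EA.val_add, EA.val_mk, ex] at h4; exact h4
      rcases h.uni g hg htv with h4 | h4
      · left
        ext w
        by_contra hcon
        have h5 := hψ w
        rw [z2_ne_zero hcon, one_smul] at h5
        have h6 : rp h.sm ⟨g, hg⟩ w = w := EA.ext (by
          rw [val_rp]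
          show g * w.val * g⁻¹ = w.val
          rw [← mem_centralizer_iff.1 h4 w.val w.val_mem]; group)
        rw [h6] at h5
        exact hx0 (add_eq_left.1 h5.symm)
      · right
        ext w
        have h5 : rp h.sm ⟨g, hg⟩ w = rp h.sm ⟨t, htM⟩ w := EA.ext (by
          rw [val_rp, val_rp]
          show g * w.val * g⁻¹ = t * w.val * t⁻¹
          have h6 := mem_centralizer_iff.1 h4 w.val w.val_mem
          calc g * w.val * g⁻¹ = g * (w.val * (g⁻¹ * t)) * t⁻¹ := by group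
            _ = g * (g⁻¹ * t * w.val) * t⁻¹ := by rw [h6]
            _ = t * w.val * t⁻¹ := by group)
        rw [hψ, hf] at h5
        have h7 := add_left_cancel h5
        rcases z2 (ψ w) with e1 | e1 <;> rcases z2 (f w) with e2 | e2
        · rw [e1, e2]
        · rw [e1, e2, zero_smul, one_smul] at h7
          exact absurd h7.symm hx0
        · rw [e1, e2, zero_smul, one_smul] at h7
          exact absurd h7 hx0
        · rw [e1, e2]
  -- `a = v₁^p`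
  obtain ⟨p, hp, hpa⟩ := h.ln.tr
  have hpM : p ∈ MZ (S : Subgroup G) := le_MZ h.par hp
  have hpx : rp h.sm ⟨p, hpM⟩ x = z := EA.ext (by rw [val_rp, ex, ez]; exact hpa)
  have hpy : rp h.sm ⟨p, hpM⟩ y = y := EA.ext (by rw [val_rp, ey]; exact h.ln.cP p hp)
  obtain ⟨k, uz, hky⟩ : ∃ k, Uq (rp h.sm) z k ∧ k y = 0 := by
    have h4 := u1.conj ⟨p, hpM⟩
    rw [hpx] at h4
    refine ⟨_, h4, ?_⟩
    show f (rp h.sm ⟨p, hpM⟩⁻¹ y) = 0
    have h5 : rp h.sm ⟨p, hpM⟩⁻¹ y = y := by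
      conv_lhs => rw [← hpy]
      rw [rinv]
    rw [h5, fy]
  exact ⟨x, y, z, f, k, ex, ey, ez, hx0, u1, uz, ⟨⟨p, hpM⟩, hpx⟩, fz, fy, hky, hf⟩

/-- No conjugate of `v₁` under `N_M(S)` is `v₁ v₂`. -/
theorem no12 {n : G} (hn : n ∈ MZ (S : Subgroup G)) (hnS : n ∈ normalizer ((S : Subgroup G) : Set G)) :
    n * v₁ * n⁻¹ ≠ v₁ * v₂ := by
  intro hcon
  obtain ⟨x, y, z, f, k, ex, ey, ez, hx0, u1, uz, hzO, fz, fy, ky, hti⟩ := h.lin
  have hkx : k x = 1 := by rw [← u1.symm uz, fz]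
  have h1 : rp h.sm ⟨n, hn⟩ x = x + y := EA.ext (by rw [val_rp, EA.val_add, ex, ey]; exact hcon)
  have h2 := u1.conj ⟨n, hn⟩
  have h3 := hti.conj ⟨n, hn⟩
  rw [h1] at h2 h3
  have h4 : (f ∘ₗ (rp h.sm ⟨n, hn⟩⁻¹ : EA (Ws S) h.sm.sqW ≃ₗ[ZMod 2] EA (Ws S) h.sm.sqW).toLinearMap) z = 1 := by
    rw [h2.symm uz, map_add, hkx, ky, add_zero]
  have h5 := h3 z
  rw [h4, one_smul] at h5
  have h6 := congrArg EA.val h5
  rw [val_rp, EA.val_add, EA.val_add, ez, ex, ey] at h6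
  have hs : n * t * n⁻¹ ∈ (S : Subgroup G) := (mem_normalizer_iff.1 hnS t).1 h.tS
  have h7 : (n * t * n⁻¹) * a * (n * t * n⁻¹)⁻¹ = a * (v₁ * v₂) := h6
  rcases h.ln.us _ hs with e | e
  · rw [e] at h7
    have h8 := mul_eq_left.1 h7.symm
    exact h.ln.ne (by
      have : v₁ * v₂ = v₂ * v₂ := by rw [h8, h.ln.cc]
      exact mul_right_cancel this)
  · rw [e] at h7
    have h8 := mul_left_cancel h7
    exact h.ln.c1 (mul_eq_left.1 h8.symm)

/-- `N_M(S)` centralises `v₁`. -/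
theorem normalizer_fix {n : G} (hn : n ∈ MZ (S : Subgroup G)) (hnS : n ∈ normalizer ((S : Subgroup G) : Set G)) :
    n * v₁ * n⁻¹ = v₁ := by
  have hnZ := MinSimple.VModule.normalizer_le_normalizer_zc _ hnS
  have e1 := h.ln.zz
  have e2 := h.ln.cc
  have e3 : v₁ * v₂ = v₂ * v₁ := h.ln.cs h.ln.z_S
  have hmem : ∀ {m : G}, m ∈ normalizer (zc (S : Subgroup G) : Set G) → ∀ {w}, w ∈ zc (S : Subgroup G) →
      m * w * m⁻¹ ∈ zc (S : Subgroup G) := fun hm _ hw => (mem_normalizer_iff.1 hm _).1 hw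
  rcases h.mem_Z.1 (hmem hnZ h.ln.zS) with h1 | h1 | h1 | h1
  · exfalso
    apply h.ln.z1
    have : v₁ = n⁻¹ * (n * v₁ * n⁻¹) * n := by group
    rw [this, h1]; group
  · exact h1
  · -- `v₁^n = v₂`
    exfalso
    rcases h.mem_Z.1 (hmem hnZ h.ln.cS) with h2 | h2 | h2 | h2
    · apply h.ln.c1
      have : v₂ = n⁻¹ * (n * v₂ * n⁻¹) * n := by group
      rw [this, h2]; group
    · -- `n` swaps `v₁`, `v₂`
      obtain ⟨j, hj⟩ := exists_odd_pow hnZ
      have h3 : Commute (n * n) v₁ := by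
        show n * n * v₁ = v₁ * (n * n)
        calc n * n * v₁ = n * (n * v₁ * n⁻¹) * n⁻¹ * (n * n) := by group
          _ = v₁ * (n * n) := by rw [h1, h2]
      have h4 : Commute ((n * n) ^ j) v₁ := h3.pow_left j
      have h5 := mem_centralizer_iff.1 hj v₁ h.ln.zS
      have h6 : v₁ * n * (n * n) ^ j = n * v₁ * (n * n) ^ j := by
        calc v₁ * n * (n * n) ^ j = v₁ * (n * (n * n) ^ j) := by group
          _ = n * (n * n) ^ j * v₁ := h5
          _ = n * ((n * n) ^ j * v₁) := by group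
          _ = n * v₁ * (n * n) ^ j := by rw [h4.eq]; group
      have h7 := mul_right_cancel h6
      apply h.ln.ne
      rw [← h1, ← h7]; group
    · exact h.ln.ne (by
        have h3 : n * v₁ * n⁻¹ = n * v₂ * n⁻¹ := h1.trans h2.symm
        exact mul_left_cancel (mul_right_cancel h3))
    · -- `v₂^n = v₁ v₂`: `v₁^{n²} = v₁ v₂`
      refine h.no12 (n := n * n) (mul_mem hn hn) (mul_mem hnS hnS) ?_
      calc n * n * v₁ * (n * n)⁻¹ = n * (n * v₁ * n⁻¹) * n⁻¹ := by group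
        _ = v₁ * v₂ := by rw [h1, h2]
  · exact absurd h1 (h.no12 hn hnS)

/-- **L2.** `z ∈ Z ∩ v₁^M` : `z = v₁`. -/
theorem l2 : ∀ g ∈ MZ (S : Subgroup G), g * v₁ * g⁻¹ ∈ zc (S : Subgroup G) → g * v₁ * g⁻¹ = v₁ := by
  intro g hg hgz
  have hf : Fact (Nat.Prime 2) := ⟨Nat.prime_two⟩
  -- Burnside inside `M`
  set M := MZ (S : Subgroup G) with hM
  have hSM : (S : Subgroup G) ≤ M := h.SM
  set SM' : Sylow 2 M := S.subtype hSM with hSM'
  have hcS : ∀ w ∈ zc (S : Subgroup G), ∀ hw : w ∈ M, (⟨w, hw⟩ : M) ∈ centralizer ((SM' : Subgroup M) : Set M) := by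
    intro w hw hwM
    rw [mem_centralizer_iff]
    rintro ⟨s, hs⟩ hs'
    have hsS : s ∈ (S : Subgroup G) := mem_subgroupOf.1 hs'
    exact Subtype.ext ((MinSimple.VModule.mem_zc.1 hw).2.1 s hsS)
  have hv1M : v₁ ∈ M := hSM h.ln.z_S
  have hzM : g * v₁ * g⁻¹ ∈ M := mul_mem (mul_mem hg hv1M) (inv_mem hg)
  obtain ⟨n, hn, h1⟩ := SM'.conj_eq_normalizer_conj_of_mem_centralizer (⟨v₁, hv1M⟩ : M) ⟨g, hg⟩⁻¹
    (hcS v₁ h.ln.zS hv1M) (by
      have e : ((⟨g, hg⟩ : M)⁻¹)⁻¹ * ⟨v₁, hv1M⟩ * (⟨g, hg⟩ : M)⁻¹ = ⟨g * v₁ * g⁻¹, hzM⟩ := Subtype.ext (by simp)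
      rw [e]
      exact hcS _ hgz hzM)
  have h2 := congrArg (Subtype.val) h1
  have h3 : g * v₁ * g⁻¹ = ((n : M) : G)⁻¹ * v₁ * ((n : M) : G) := by
    simpa using h2
  have hnS : ((n : M) : G)⁻¹ ∈ normalizer ((S : Subgroup G) : Set G) := by
    rw [inv_mem_iff, mem_normalizer_iff]
    intro s
    constructor
    · intro hs
      have h4 := (mem_normalizer_iff.1 hn ⟨s, hSM hs⟩).1 (mem_subgroupOf.2 hs)
      exact mem_subgroupOf.1 h4
    · intro hs
      have hsM : s ∈ M := by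
        have h5 := mul_mem (mul_mem (inv_mem n.2) (hSM hs)) n.2
        have e : (n : G)⁻¹ * ((n : G) * s * (n : G)⁻¹) * (n : G) = s := by group
        rwa [e] at h5
      exact mem_subgroupOf.1 ((mem_normalizer_iff.1 hn ⟨s, hsM⟩).2 (mem_subgroupOf.2 hs))
  have h4 := h.normalizer_fix (inv_mem n.2) hnS
  rw [inv_inv] at h4
  rw [h3, h4]

end Sd

end Cfsg.Agent.Omega.NOThreeL.RRed
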