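import Cfsg.Agent.Omega.NOThreeL.RRed.LeftPair
import Cfsg.Agent.Omega.NOThreeL.RRed.FsOf

/-!
# WideTree v5, socket `LeftAll` (#25809 (2), #26343, #26368), helper863

`Left` ⟹ `𝒜(O₂(C_G(Z)))` moves every block: `z, e` vectors of full support of the class `i` and of the other classes,
`D' = C_G(z) ∩ C_G(e)`; some `A ∈ 𝒜(O₂(D'))` moves `W i`; `M₀ ∩ D'` is transitive on the blocks of class `i`;
`𝒜(O₂(D')) ⊆ 𝒜(O₂(C_G(Z)))` (`D'` is long).
-/

set_option autoImplicit false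
set_option linter.unusedSectionVars false

namespace Cfsg.Agent.Omega.NOThreeL.RRed.LeftAllOf

open Subgroup Cfsg Cfsg.Agent.Omega.MinPar Cfsg.Agent.Omega.Frame Cfsg.Agent.Omega.FrameNOFF
open Cfsg.Agent.ZN (zc zl o2 le_normalizer_o2)
open Cfsg.Agent.Omega.ML.Final (MLK)
open Cfsg.Agent.Omega.NoFF.Basic (comm_symm)
open Cfsg.Agent.Omega.NOThreeL.Merge (MZ)
open Cfsg.Agent.Omega.Node.NO3L Cfsg.Agent.Omega.NOThreeL.RTree Cfsg.Agent.Omega.NOThreeL.RTreeF
open Cfsg.Agent.Omega.NOThreeL.RRed.GlueSig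
open Cfsg.Agent.Omega.NOThreeL.RRed.Blk
open Cfsg.Agent.Omega.NOThreeL.RRed.WideTree
open Cfsg.Agent.Omega.NOThreeL.RRed.FullSup
open Cfsg.Agent.Omega.NOThreeL.RRed.LeftPair
open Cfsg.Agent.Omega.NOThreeL.RZ.TwoC.DecE (Orbs)
open scoped Pointwise

universe u v w

variable {G : Type u} [Group G] [Finite G] {S : Sylow 2 G}

/-- **Every block of the class `i` is moved by a member of `𝒜(O₂(C_G(Z)))`.** -/
theorem move_of (ml : MLK.{u, u}) (hR : RB S) {κ : Type u} {W : κ → Subgroup G} (hCM : CM (S : Subgroup G) W)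
    {ι : Type v} [Finite ι] {N E : ι → Subgroup G} {O : ι → Set G} {cls : ι → κ}
    (h : Dec (S : Subgroup G) (MZ (S : Subgroup G)) (Wd (S : Subgroup G)) N E ⊥)
    (o : Orbs (MZ (S : Subgroup G)) N E O) (hW : ∀ k, W k = ⨆ b : {b // cls b = k}, N b) {i : κ} {z e : G}
    (hz : z ∈ FSup N ⊥ O {b | cls b = i}) (he : e ∈ FSup N ⊥ O {b | cls b = i}ᶜ)
    (zz : z ∈ zc (S : Subgroup G)) (ez : e ∈ zc (S : Subgroup G)) (z1 : z ≠ 1) {A : Subgroup G}
    (hA : KL.TwoS.Mx (o2 (centralizer ({z} : Set G) ⊓ centralizer ({e} : Set G))) A)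
    (mv : ¬ A ≤ centralizer (W i : Set G)) {b : ι} (hb : cls b = i) :
    ∃ A : Subgroup G, KL.TwoS.Mx (o2 (centralizer (zc (S : Subgroup G) : Set G))) A ∧ ¬ A ≤ centralizer (N b : Set G) := by
  have hJ := inv_cls h hW hCM.inv i
  obtain ⟨c, hc⟩ : ∃ c : {c // cls c = i}, ¬ A ≤ centralizer (N c : Set G) := by
    by_contra hcon
    push Not at hcon
    refine mv ?_
    rw [hW]
    exact comm_symm (iSup_le fun c => comm_symm (hcon c))
  have horb : ∃ y ∈ MZ (S : Subgroup G), MulAut.conj y • N c = N b := by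
    refine orb_of_irr h {b | cls b = i} (fun X hX hn hne => ?_)
      (fun g hg b c hbc hb => hJ g hg b hb c hbc) c.2 hb
    have h1 := hCM.irr i X (by rw [hW]; exact hX) hn hne
    rw [hW] at h1
    exact h1
  obtain ⟨k, hk, hkb⟩ := tr_of h o hJ hz he horb
  have hkD : k ∈ centralizer ({z} : Set G) ⊓ centralizer ({e} : Set G) := mem_inf.2 ⟨hk.1.2, hk.2⟩
  refine ⟨MulAut.conj k • A, mx_long ml hR.ctx (isLong_pair zz ez z1) (hA.conj ?_), fun h1 => hc ?_⟩
  · rintro _ ⟨a, ha, rfl⟩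
    exact conj_of (le_normalizer_o2 _ hkD) (hA.le ha)
  · intro a ha
    rw [mem_centralizer_iff]
    intro n hn
    have h2 : k * a * k⁻¹ ∈ MulAut.conj k • A := (conj_smul rfl).1 ha
    have h3 : k * n * k⁻¹ ∈ N b := by
      rw [← hkb]
      exact (conj_smul rfl).1 hn
    have h4 := mem_centralizer_iff.1 (h1 h2) _ h3
    have e1 : k * n * k⁻¹ * (k * a * k⁻¹) = k * (n * a) * k⁻¹ := by group
    have e2 : k * a * k⁻¹ * (k * n * k⁻¹) = k * (a * n) * k⁻¹ := by group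
    rw [e1, e2] at h4
    exact mul_left_cancel (mul_right_cancel h4)

/-- `𝒜(O)` moves every block, over any block data with `HBad` -/
theorem allB_of (ml : MLK.{u, u}) (hR : RB S) {κ : Type u} {W : κ → Subgroup G} (hCM : CM (S : Subgroup G) W)
    (hij : ∃ i j : κ, i ≠ j) (hL : Left (S : Subgroup G) W) {ι : Type u} [Finite ι] {N E : ι → Subgroup G}
    {O : ι → Set G} {cls : ι → κ}
    (h : Dec (S : Subgroup G) (MZ (S : Subgroup G)) (Wd (S : Subgroup G)) N E ⊥)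
    (o : Orbs (MZ (S : Subgroup G)) N E O) (hW : ∀ k, W k = ⨆ b : {b // cls b = k}, N b)
    (hb : HBad (S : Subgroup G) N O) : AllB (S : Subgroup G) N := by
  intro b
  have hi : ∃ j, j ≠ cls b := by
    obtain ⟨i, j, hij⟩ := hij
    by_cases hi : i = cls b
    · exact ⟨j, fun e => hij (by rw [hi, e])⟩
    · exact ⟨i, hi⟩
  obtain ⟨z, hz, e, he, h1, h2, A, hA, mv⟩ := exists_fs_left hR hCM hL h o hW hb (cls b) hi
  exact move_of ml hR hCM h o hW hz he h1.mem.2 h2.mem.2 h1.ne hA mv rfl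

/-- **socket `LeftAll` of WideTree v5**, from `bad` for natural blocks -/
theorem leftAll_of (ml : MLK.{u, u}) (B : Fr.{u})
    (hb : ∀ (G : Type u) [Group G] [Finite G] (S : Sylow 2 G), B G S → Wide S →
      ∀ (κ : Type u) [Finite κ] (N E D l : κ → Subgroup G) (q : κ → ℕ), NBs (S : Subgroup G) N E D l q →
        Src (S : Subgroup G) N l q → HBad (S : Subgroup G) N (fun b => {x | x ∈ N b ∧ x ≠ 1})) :
    LeftAll B := by
  intro G _ _ S hB hW _ ι _ W hCM hij hL κ _ N E D l q side hN hsrc hfit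
  exact allB_of ml hW.toRB hCM hij hL hN.dec (nbs_orbs hN) (fun k => hfit k) (hb G S hB hW κ N E D l q hN hsrc)

end Cfsg.Agent.Omega.NOThreeL.RRed.LeftAllOf
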