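import Cfsg.Agent.Omega.NOThreeL.RRed.LeftAll
import Cfsg.Agent.Omega.NOThreeL.RRed.HBadNat

/-!
# Box R: the socket `LeftAll` of WideTree v5 (helper863, helper314)
-/

set_option autoImplicit false

namespace Cfsg.Agent.Omega.NOThreeL.RRed.LeftAllOf

open Subgroup Cfsg
open Cfsg.Agent.Omega.ML.Final (MLK)
open Cfsg.Agent.Omega.Node.NO3L Cfsg.Agent.Omega.NOThreeL.RTree Cfsg.Agent.Omega.NOThreeL.RTreeF
open Cfsg.Agent.Omega.NOThreeL.RRed.GlueSig
open Cfsg.Agent.Omega.NOThreeL.RRed.WideTree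

universe u

/-- **`𝒜(O)` moves every block** (socket `LeftAll`) -/
theorem leftAll (ml : MLK.{u, u}) (B : Fr.{u}) : LeftAll B :=
  leftAll_of ml B fun _ _ _ _ _ hW _ _ _ _ _ _ _ hN hs => HBadNat.hBad_nat hW.toRB hN hs

end Cfsg.Agent.Omega.NOThreeL.RRed.LeftAllOf
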