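import Cfsg.Agent.Omega.NOThreeL.RRed.Blk.Tr
import Cfsg.Agent.Omega.NOThreeL.RWide.LemM
import Cfsg.Agent.Omega.NOThreeL.Sigma.Front
import Cfsg.Agent.Omega.NOThreeL.RZ.LowR
import Cfsg.Agent.Omega.KL.TwoS.Fr
import Cfsg.Agent.Omega.ML.GNN

/-!
# Box R, `t ≥ 2` classes: the pair of full-support vectors (#25809 (2), #26343, #26368), helper863

* `mx_long` : `R` long: `𝒜(O₂(R)) ⊆ 𝒜(O₂(C_G(Z)))`;  `isLong_pair` : `C_G(z) ∩ C_G(e)` is long;
* `exists_full` : an `S`-fixed vector of `∏_{Om} N b` with components in given sets `O b`;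
* `exists_pair` : `z` of full support in `Om`, `e` of full support in the complement: `L ∩ C(z) ∩ C(e)` moves the blocks
  like `L`;
* `orb_of_irr` : `L` is transitive on the blocks of an irreducible class;
* **`all_of`** : if some `A ∈ 𝒜(O₂(C(z) ∩ C(e)))` moves `∏_{Om} N b`, and `L` is transitive on `Om`, then every `N b`,
  `b ∈ Om`, is moved by a member of `𝒜(O₂(C_G(Z)))`.
-/

set_option autoImplicit false
set_option linter.unusedSectionVars false

namespace Cfsg.Agent.Omega.NOThreeL.RRed.LeftPair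

open Subgroup Cfsg Cfsg.Agent.Omega.MinPar Cfsg.Agent.Omega.Frame Cfsg.Agent.Omega.FrameNOFF
open Cfsg.Agent.ZN (zc zl o2)
open Cfsg.Agent.Omega.Node.NO3L
open Cfsg.Agent.Omega.NoFF.ThmJQ (MxIn exists_mxIn)
open Cfsg.Agent.Omega.ML.Final (MLK)
open Cfsg.Agent.Omega.KL.TwoS (Mx)
open Cfsg.Agent.Omega.NoFF.Basic (comm_symm comm_mono)
open Cfsg.Agent.Omega.NOThreeL.RRed.Blk
open Cfsg.Agent.MinSimple.VModule (zc_le mem_zc le_normalizer_o2 o2_isPGroup o2_le le_o2)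
open scoped Pointwise

universe u v

variable {G : Type u} [Group G]

section long

variable [Finite G] {S : Sylow 2 G}

/-- `𝒜(O₂(R)) ⊆ 𝒜(O₂(C_G(Z)))` for a long group `R` -/
theorem mx_long (ml : MLK.{u, u}) (hG : Ctx G) {R A : Subgroup G} (hR : IsLong (S : Subgroup G) R)
    (hA : Mx (o2 R) A) : Mx (o2 (CZ (S : Subgroup G))) A := by
  obtain ⟨B, hB⟩ := exists_mxIn (o2 (CZ (S : Subgroup G)))
  have kg : ∀ R : Subgroup G, IsLoc (S : Subgroup G) R → IsKGroup R := fun R h =>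
    ML.GNN.kgroup_of_isLoc hG hG.not_isPGroup h
  have h1 := Sigma.swap_mx hG.char2 ml kg hR hB
  have h2 := hA.max _ (sup_le (hR.zl_le_o2 hG.char2 S) (Sigma.inf_le hG.char2 hR hB.2.1)) fun b hb => h1.1 b hb
  exact ⟨hA.le.trans (hR.o2_le S), hA.sq, fun C hC hC2 => (h1.2.2 C hC2 hC).trans h2⟩

/-- `C_G(z) ∩ C_G(e)` is long for `z, e ∈ Z`, `z ≠ 1` -/
theorem isLong_pair {z e : G} (hz : z ∈ zc (S : Subgroup G)) (he : e ∈ zc (S : Subgroup G)) (h1 : z ≠ 1) :
    IsLong (S : Subgroup G) (centralizer ({z} : Set G) ⊓ centralizer ({e} : Set G)) := by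
  have hS : ∀ {x : G}, x ∈ zc (S : Subgroup G) → (S : Subgroup G) ≤ centralizer ({x} : Set G) := fun {x} hx s hs => by
    rw [mem_centralizer_singleton_iff]
    exact (mem_zc.1 hx).2.1 s hs
  exact ⟨(RZ.LowR.isLoc_cent hz h1).of_le S (le_inf (hS hz) (hS he)) inf_le_left,
    le_inf (centralizer_le (Set.singleton_subset_iff.2 hz)) (centralizer_le (Set.singleton_subset_iff.2 he))⟩

end long

section blocks

variable {ι : Type v} {S L U : Subgroup G} {N E : ι → Subgroup G} {R₀ : Subgroup G}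

/-- the `E b`, `b ∈ Om`, fix all blocks -/
theorem conj_of_mem (h : Dec S L U N E R₀) (Om : Set ι) {a : G} (ha : a ∈ ⨆ b : Om, E b) (c : ι) :
    MulAut.conj a • N c = N c := by
  have h1 : (⨆ b : Om, E b) ≤ normalizer (N c : Set G) := iSup_le fun b => by
    by_cases hbc : (b : ι) = c
    · rw [← hbc]; exact h.EN b
    · exact (h.EC b c hbc).trans (centralizer_le_normalizer _)
  exact RWide.LemM.smul_of_nor (h1 ha)

theorem norm_iSup_E [Finite G] (h : Dec S L U N E R₀) (Om : Set ι)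
    (inv : ∀ g ∈ L, ∀ b c, MulAut.conj g • N b = N c → b ∈ Om → c ∈ Om) :
    L ≤ normalizer ((⨆ b : Om, E b : Subgroup G) : Set G) := by
  have key : ∀ g ∈ L, MulAut.conj g • (⨆ b : Om, E b : Subgroup G) ≤ ⨆ b : Om, E b := by
    intro g hg
    rw [show MulAut.conj g • (⨆ b : Om, E b : Subgroup G) = ⨆ b : Om, MulAut.conj g • E b from Subgroup.map_iSup _ _]
    refine iSup_le fun b => ?_
    obtain ⟨c, hc, hc'⟩ := h.perm g hg b
    rw [hc']
    exact le_iSup (fun b : Om => E b) ⟨c, inv g hg b c hc b.2⟩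
  intro g hg
  rw [mem_normalizer_iff]
  refine fun x => ⟨fun hx => key g hg ((conj_smul rfl).1 hx), fun hx => ?_⟩
  have h1 := key g⁻¹ (inv_mem hg) ((conj_smul rfl).1 hx)
  have e : g⁻¹ * (g * x * g⁻¹) * g⁻¹⁻¹ = x := by group
  rwa [e] at h1

/-- **`L ∩ C(z) ∩ C(e)` moves the blocks like `L`.** -/
theorem exists_pair [Finite G] (h : Dec S L U N E R₀) (Om : Set ι)
    (inv : ∀ g ∈ L, ∀ b c, MulAut.conj g • N b = N c → b ∈ Om → c ∈ Om)
    {z e : G} (zN : z ∈ ⨆ b : Om, N b)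
    (hz : L ≤ (⨆ b : Om, E b) ⊔ (L ⊓ centralizer ({z} : Set G)))
    (he : L ≤ (⨆ b : (Omᶜ : Set ι), E b) ⊔ (L ⊓ centralizer ({e} : Set G))) {g : G} (hg : g ∈ L) :
    ∃ k ∈ L, k ∈ centralizer ({z} : Set G) ∧ k ∈ centralizer ({e} : Set G) ∧
      ∀ b, MulAut.conj k • N b = MulAut.conj g • N b := by
  have inv' : ∀ g ∈ L, ∀ b c, MulAut.conj g • N b = N c → b ∈ Omᶜ → c ∈ Omᶜ := fun g hg b c hbc hb hc =>
    hb (inv g⁻¹ (inv_mem hg) c b (by rw [← hbc, map_inv, inv_smul_smul]) hc)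
  have hg1 := hz hg
  rw [sup_comm] at hg1
  obtain ⟨k, hk, a, ha, e1⟩ := mem_sup_of (inf_le_left.trans (norm_iSup_E h Om inv)) hg1
  have hk1 := he hk.1
  rw [sup_comm] at hk1
  obtain ⟨m, hm, a', ha', e2⟩ := mem_sup_of (inf_le_left.trans (norm_iSup_E h Omᶜ inv')) hk1
  have hm1 : m = k * a'⁻¹ := by rw [e2]; group
  have ha'z : a' ∈ centralizer ({z} : Set G) := by
    have h1 : (⨆ b : (Omᶜ : Set ι), E b) ≤ centralizer ((⨆ b : Om, N b : Subgroup G) : Set G) :=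
      iSup_le fun b => by
        refine comm_symm (iSup_le fun c => ?_)
        exact comm_symm (h.EC b c fun hbc => b.2 (by rw [hbc]; exact c.2))
    rw [mem_centralizer_singleton_iff]
    exact (mem_centralizer_iff.1 (h1 ha') z zN).symm
  refine ⟨m, hm.1, ?_, hm.2, fun b => ?_⟩
  · rw [hm1]
    exact mul_mem hk.2 (inv_mem ha'z)
  · have h1 : MulAut.conj g • N b = MulAut.conj k • N b := by
      rw [e1, map_mul, mul_smul, conj_of_mem h Om ha]
    have h2 : MulAut.conj k • N b = MulAut.conj m • N b := by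
      rw [e2, map_mul, mul_smul, conj_of_mem h Omᶜ ha']
    rw [h1, h2]

/-- **an `S`-fixed vector of `∏_{Om} N b` with components in the `O b`** -/
theorem exists_full [Finite ι] (h : Dec S L U N E R₀) (Om : Set ι)
    (inv : ∀ g ∈ L, ∀ b c, MulAut.conj g • N b = N c → b ∈ Om → c ∈ Om) (O : ι → Set G) (hON : ∀ b, O b ⊆ N b)
    (hO : ∀ b, ∃ x ∈ O b, ∀ s ∈ S, MulAut.conj s • N b = N b → s * x * s⁻¹ = x)
    (hc : ∀ g ∈ L, ∀ b c, MulAut.conj g • N b = N c → ∀ x ∈ O b, g * x * g⁻¹ ∈ O c) :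
    ∃ z ∈ ⨆ b : Om, N b, (∀ s ∈ S, s * z = z * s) ∧ ∀ b ∈ Om, ∃ n ∈ O b, IsC N R₀ b z n := by
  classical
  obtain ⟨f, hf1, hf2⟩ := h.exists_equi O hO fun s hs => hc s (h.SL hs)
  have := Fintype.ofFinite ι
  -- the vector
  have key : ∀ s : Finset ι, (∀ b ∈ s, b ∈ Om) → ∃ z ∈ ⨆ b : Om, N b, (∀ b ∈ s, IsC N R₀ b z (f b)) ∧
      ∀ b ∉ s, IsC N R₀ b z 1 := by
    intro s
    induction s using Finset.induction_on with
    | empty => exact fun _ => ⟨1, one_mem _, fun b hb => absurd hb (Finset.notMem_empty b), fun b _ => h.comp_one (one_mem _)⟩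
    | insert b s hb ih =>
      intro hs
      obtain ⟨e, he, h1, h2⟩ := ih fun c hc => hs c (Finset.mem_insert_of_mem hc)
      refine ⟨f b * e, mul_mem (le_iSup (fun b : Om => N b) ⟨b, hs b (Finset.mem_insert_self _ _)⟩ (hON b (hf1 b))) he,
        fun c hc => ?_, fun c hc => ?_⟩
      · rcases Finset.mem_insert.1 hc with rfl | hc
        · have := h.comp_mul (h.comp_self (hON _ (hf1 c))) (h2 c hb)
          rwa [mul_one] at this
        · have hne : b ≠ c := fun e => hb (e ▸ hc)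
          have := h.comp_mul (h.comp_ne hne (hON _ (hf1 b))) (h1 c hc)
          rwa [one_mul] at this
      · rw [Finset.mem_insert, not_or] at hc
        have := h.comp_mul (h.comp_ne (Ne.symm hc.1) (hON _ (hf1 b))) (h2 c hc.2)
        rwa [one_mul] at this
  obtain ⟨z, hz, h1, h2⟩ := key (Finset.univ.filter (· ∈ Om)) (by simp)
  have hzN : z ∈ ⨆ b, N b := (iSup_le fun b : Om => le_iSup N b.1) hz
  refine ⟨z, hz, fun s hs => ?_, fun b hb => ⟨f b, hf1 b, h1 b (by simpa using hb)⟩⟩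
  have hsL := h.SL hs
  have h3 : s * z * s⁻¹ = z := by
    refine h.ext (h.conj_mem_B hsL hzN) hzN fun c => ?_
    obtain ⟨b, hb⟩ := h.exists_pre hsL c
    by_cases hcO : c ∈ Om
    · have hbO : b ∈ Om := inv s⁻¹ (inv_mem hsL) c b (by rw [← hb, map_inv, inv_smul_smul]) hcO
      refine ⟨f c, ?_, h1 c (by simpa using hcO)⟩
      have h4 := h.comp_conj hsL hb (h1 b (by simpa using hbO))
      rwa [hf2 s hs b c hb] at h4
    · have hbO : b ∉ Om := fun hbO => hcO (inv s hsL b c hb hbO)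
      refine ⟨1, ?_, h2 c (by simpa using hcO)⟩
      have h4 := h.comp_conj hsL hb (h2 b (by simpa using hbO))
      simpa using h4
  calc s * z = (s * z * s⁻¹) * s := by group
    _ = z * s := by rw [h3]

/-- `L` is transitive on the blocks of an irreducible class -/
theorem orb_of_irr [Finite G] [Finite ι] (h : Dec S L U N E R₀) (Om : Set ι)
    (irr : ∀ X : Subgroup G, X ≤ ⨆ b : Om, N b → L ≤ normalizer (X : Set G) → X ≠ ⊥ → (⨆ b : Om, N b) ≤ X)
    (inv : ∀ g ∈ L, ∀ b c, MulAut.conj g • N b = N c → b ∈ Om → c ∈ Om) {b c : ι} (hb : b ∈ Om) (hc : c ∈ Om) :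
    ∃ g ∈ L, MulAut.conj g • N b = N c := by
  set T : Set ι := {d | ∃ g ∈ L, MulAut.conj g • N b = N d} with hT
  have hbT : b ∈ T := ⟨1, one_mem _, by rw [map_one, one_smul]⟩
  have hTO : ∀ d ∈ T, d ∈ Om := fun d ⟨g, hg, hd⟩ => inv g hg b d hd hb
  have hX1 : (⨆ d : T, N d) ≤ ⨆ d : Om, N d := iSup_le fun d => le_iSup (fun d : Om => N d) ⟨d, hTO d d.2⟩
  have key : ∀ g ∈ L, MulAut.conj g • (⨆ d : T, N d : Subgroup G) ≤ ⨆ d : T, N d := by
    intro g hg
    rw [show MulAut.conj g • (⨆ d : T, N d : Subgroup G) = ⨆ d : T, MulAut.conj g • N d from Subgroup.map_iSup _ _]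
    refine iSup_le fun d => ?_
    obtain ⟨x, hx, hx'⟩ := h.perm g hg d
    rw [hx]
    obtain ⟨y, hy, hy'⟩ := d.2
    exact le_iSup (fun d : T => N d) ⟨x, g * y, mul_mem hg hy, by rw [map_mul, mul_smul, hy', hx]⟩
  have hX2 : L ≤ normalizer ((⨆ d : T, N d : Subgroup G) : Set G) := by
    intro g hg
    rw [mem_normalizer_iff]
    refine fun x => ⟨fun hx => key g hg ((conj_smul rfl).1 hx), fun hx => ?_⟩
    have h1 := key g⁻¹ (inv_mem hg) ((conj_smul rfl).1 hx)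
    have e : g⁻¹ * (g * x * g⁻¹) * g⁻¹⁻¹ = x := by group
    rwa [e] at h1
  have hX3 : (⨆ d : T, N d : Subgroup G) ≠ ⊥ := fun e => h.ne b
    (le_bot_iff.1 ((le_iSup (fun d : T => N d) ⟨b, hbT⟩).trans e.le))
  have h1 := irr _ hX1 hX2 hX3
  by_contra hcT
  have h2 : N c ≤ Co N R₀ c := ((le_iSup (fun d : Om => N d) ⟨c, hc⟩).trans h1).trans
    (iSup_le fun d => h.N_le_Co fun e => hcT (by rw [← e]; exact d.2))
  refine h.ne c (le_bot_iff.1 ?_)
  rw [← (h.ind c : N c ⊓ Co N R₀ c = ⊥)]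
  exact le_inf le_rfl h2

end blocks

/-- **Every block of the class is moved by a member of `𝒜(O₂(C_G(Z)))`.** -/
theorem all_of [Finite G] {S : Sylow 2 G} (ml : MLK.{u, u}) (hG : Ctx G) {ι : Type v} {L U : Subgroup G}
    {N E : ι → Subgroup G} {R₀ : Subgroup G} (h : Dec (S : Subgroup G) L U N E R₀) (Om : Set ι)
    (inv : ∀ g ∈ L, ∀ b c, MulAut.conj g • N b = N c → b ∈ Om → c ∈ Om)
    (orb : ∀ b ∈ Om, ∀ c ∈ Om, ∃ g ∈ L, MulAut.conj g • N b = N c) {z e : G}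
    (hzz : z ∈ zc (S : Subgroup G)) (hez : e ∈ zc (S : Subgroup G)) (z1 : z ≠ 1) (zN : z ∈ ⨆ b : Om, N b)
    (hz : L ≤ (⨆ b : Om, E b) ⊔ (L ⊓ centralizer ({z} : Set G)))
    (he : L ≤ (⨆ b : (Omᶜ : Set ι), E b) ⊔ (L ⊓ centralizer ({e} : Set G))) {A : Subgroup G}
    (hA : Mx (o2 (centralizer ({z} : Set G) ⊓ centralizer ({e} : Set G))) A)
    (mv : ¬ A ≤ centralizer ((⨆ b : Om, N b : Subgroup G) : Set G)) :
    ∀ b ∈ Om, ∃ A : Subgroup G, Mx (o2 (CZ (S : Subgroup G))) A ∧ ¬ A ≤ centralizer (N b : Set G) := by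
  obtain ⟨c, hc⟩ : ∃ c : Om, ¬ A ≤ centralizer (N c : Set G) := by
    by_contra hcon
    push Not at hcon
    exact mv (comm_symm (iSup_le fun c => comm_symm (hcon c)))
  intro b hb
  obtain ⟨g, hg, hgb⟩ := orb c c.2 b hb
  obtain ⟨k, hk, hkz, hke, hkb⟩ := exists_pair h Om inv zN hz he hg
  have hkD : k ∈ centralizer ({z} : Set G) ⊓ centralizer ({e} : Set G) := mem_inf.2 ⟨hkz, hke⟩
  refine ⟨MulAut.conj k • A, mx_long ml hG (isLong_pair hzz hez z1) (hA.conj ?_), fun h1 => hc ?_⟩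
  · rintro _ ⟨a, ha, rfl⟩
    exact conj_of (le_normalizer_o2 _ hkD) (hA.le ha)
  · intro a ha
    rw [mem_centralizer_iff]
    intro n hn
    have h2 : k * a * k⁻¹ ∈ MulAut.conj k • A := (conj_smul rfl).1 ha
    have h3 : k * n * k⁻¹ ∈ N b := by
      rw [← hgb, ← hkb]
      exact (conj_smul rfl).1 hn
    have h4 := mem_centralizer_iff.1 (h1 h2) _ h3
    have e1 : k * n * k⁻¹ * (k * a * k⁻¹) = k * (n * a) * k⁻¹ := by group
    have e2 : k * a * k⁻¹ * (k * n * k⁻¹) = k * (a * n) * k⁻¹ := by group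
    rw [e1, e2] at h4
    exact mul_left_cancel (mul_right_cancel h4)

end Cfsg.Agent.Omega.NOThreeL.RRed.LeftPair
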