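import Cfsg.Agent.Omega.NOThreeL.RRed.LeftData

/-!
# The socket `LeftPerm` of WideTree (helper540; head and text: helper278, #24948, #25094)

**`leftPerm : LeftPerm B`**: in the left case `C_G(Z)` permutes the lines of each class.
-/

set_option autoImplicit false
set_option linter.unusedSectionVars false

namespace Cfsg.Agent.Omega.NOThreeL.RRed.LeftPermPlug

open Subgroup Cfsg Cfsg.Agent.ZN
open Cfsg.Agent.Omega.NOThreeL.RTree Cfsg.Agent.Omega.NOThreeL.RTreeF Cfsg.Agent.Omega.NOThreeL.RRed.GlueSig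
open Cfsg.Agent.Omega.NOThreeL.RRed.WideTree

universe u

theorem leftPerm (B : Fr.{u}) : LeftPerm B := by
  intro G _ _ S _ hW _ ι _ W hC hij _ κ _ N E D l q side hN hs hf ha
  refine LeftData.left_perm_of hW.toRB hC hij hN.dec hf hN.permN (fun b => ?_) ha
  obtain ⟨P, hP, F, i1, _, i2, k, _, M, h, h1, ⟨j, h2, h3, -⟩, -⟩ := hs.mov b
  exact ⟨P, hP, F, i1, i2, k, M, h, j, h1, h2, h3⟩

end Cfsg.Agent.Omega.NOThreeL.RRed.LeftPermPlug
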