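import Cfsg.Agent.Omega.NOThreeL.RRed.FourTwoP
import Cfsg.Agent.Omega.NOThreeL.RRed.HypJOf
import Cfsg.Agent.Omega.NOThreeL.RLev.HatFin
import Cfsg.Agent.Omega.NO3b.EndX.Done
import Cfsg.Agent.Omega.ML.Ex.Ext

/-!
# NO-3L, box R, `RR S = 1`: some level moves `V*` (the literal `LevMv`, no open hypothesis)

* **`levMv`** : `RB S`, `RR S = 1`: `LevMv S` (`RLev.HatFin.exists_levX` + `ffMod_rr`);
* **`hypJ_trans`** : `Bks S N E ⊥ Om phi`, `M₀` transitive on the blocks: `HypJ S N`;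
  **`hypJ_irr`** : the same with `V*` irreducible;
* **`fourTwo`** : `FourLeft K B → FourTwo K B`.
-/

set_option autoImplicit false

namespace Cfsg.Agent.Omega.NOThreeL.RRed.LevMvOf

open Subgroup Cfsg Cfsg.Agent.Omega.MinPar Cfsg.Agent.Omega.Frame Cfsg.Agent.Omega.FrameNOFF
open Cfsg.Agent.Omega.NOThreeL.RTree (RB)
open Cfsg.Agent.Omega.NOThreeL.RTreeF (RBF)
open Cfsg.Agent.Omega.NOThreeL.Merge (MZ)
open Cfsg.Agent.Omega.NOThreeL.RZ (RR)
open Cfsg.Agent.Omega.NOThreeL.RRed.GlueSig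
open Cfsg.Agent.Omega.NOThreeL.RRed.FourTree (Bks HypJ Four FourTwo ffMod_rr)
open Cfsg.Agent.Omega.NOThreeL.RRed.FourNoK2 (LevMv)
open Cfsg.Agent.Omega.NOThreeL.RRed.FourTwoP (FourLeft fourTwo_of)
open scoped Pointwise

universe u

section

variable {G : Type u} [Group G] [Finite G] {S : Sylow 2 G}

/-- `RR S = 1`: box R with `V*` FF -/
theorem rbf (B : RB S) (hr : RR (S : Subgroup G) = ⊥) : RBF S :=
  ⟨B.ctx, B.full, B.data, B.notA, ffMod_rr B hr, B.ex⟩

/-- `V*` FF: some level (or `J(S)`) moves `V*`. -/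
theorem levMv_ff (h : RBF S) : LevMv (S : Subgroup G) :=
  RLev.HatFin.exists_levX ML.KnownAll.mlk NO3b.EndX.absP h

/-- **`RR S = 1`: some level (or `J(S)`) moves `V*`.** -/
theorem levMv (B : RB S) (hr : RR (S : Subgroup G) = ⊥) : LevMv (S : Subgroup G) :=
  levMv_ff (rbf B hr)

variable {I : Type u} [Fintype I] [DecidableEq I] {N E : I → Subgroup G} {Om : I → Type u}
  [∀ i, Fintype (Om i)] [∀ i, DecidableEq (Om i)] {phi : ∀ i, Finset (Om i) → G}

/-- **`M₀` transitive on the blocks: at some level the best offenders move all blocks.** -/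
theorem hypJ_trans (B : RB S) (hr : RR (S : Subgroup G) = ⊥) (hB : Bks S N E ⊥ Om phi)
    (tr : ∀ b c, ∃ g ∈ MZ (S : Subgroup G), MulAut.conj g • N b = N c) : HypJ (S : Subgroup G) N :=
  HypJOf.hypJ_of B hB tr (levMv B hr)

/-- **`V*` irreducible: at some level the best offenders move all blocks.** -/
theorem hypJ_irr (B : RB S) (hr : RR (S : Subgroup G) = ⊥) (hB : Bks S N E ⊥ Om phi)
    (hirr : ∀ W : Subgroup G, W ≤ Wd (S : Subgroup G) → MZ (S : Subgroup G) ≤ normalizer (W : Set G) → W ≠ ⊥ →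
      Wd (S : Subgroup G) ≤ W) : HypJ (S : Subgroup G) N :=
  hypJ_trans B hr hB (HypJOf.trans_of_irr hB.toDec hirr)

end

/-- **The socket `FourTwo` from the left case.** -/
theorem fourTwo {K : Cls.{u}} {B : Fr.{u}} (hL : FourLeft K B) : FourTwo K B :=
  fourTwo_of ML.KnownAll.mlk ML.Ex.Two.ext (fun _ _ _ _ _ h => levMv h.toRB h.rr) hL

end Cfsg.Agent.Omega.NOThreeL.RRed.LevMvOf
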