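import Cfsg.Agent.Omega.TV.Basic

/-!
# NO-3L, box R, the smallest shape: the linear part ([R-red], #21468, L4, L5, L6)

`H` acts on `V` (over `𝔽₂`), `S ≤ H`, `Om` an orbit; every `c ∈ Om` is the centre of exactly one transvection induced
by `H`, with functional `f c`.

* `USys.symm`, `USys.add`, `USys.eqv` : `f c d = f d c`, `f (c + d) = f c + f d` if `f c d = 1`, equivariance;
* `LnV ρ S R z u c` : the line `{z, u, u + z} = z^R` of `R`, `R` fixes `c`;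
* `LFr` : side 1.
-/

set_option autoImplicit false

namespace Cfsg.Agent.Omega.NOThreeL.RRed

open Module Cfsg.Agent.Omega.TV

variable {H : Type*} [Group H] {V : Type*} [AddCommGroup V] [Module (ZMod 2) V]

/-- Every `c ∈ Om` is the centre of exactly one transvection induced by `H`. -/
structure USys (ρ : H →* (V ≃ₗ[ZMod 2] V)) (Om : Set V) (f : V → Dual (ZMod 2) V) : Prop where
  zero : (0 : V) ∉ Om
  inv : ∀ g : H, ∀ c ∈ Om, ρ g c ∈ Om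
  fn : ∀ c ∈ Om, Fn ρ c (f c)
  ne : ∀ c ∈ Om, f c ≠ 0
  uni : ∀ c ∈ Om, ∀ φ, Fn ρ c φ → φ = 0 ∨ φ = f c

/-- The line of `R`. -/
structure LnV (ρ : H →* (V ≃ₗ[ZMod 2] V)) (S R : Subgroup H) (z u c : V) : Prop where
  le : S ≤ R
  z0 : z ≠ 0
  c0 : c ≠ 0
  ne : z ≠ c
  zS : ∀ s ∈ S, ρ s z = z
  cR : ∀ r ∈ R, ρ r c = c
  us : ∀ s ∈ S, ρ s u = u ∨ ρ s u = u + z
  mv : ∃ s ∈ S, ρ s u ≠ u
  orb : ∀ r ∈ R, ρ r z = z ∨ ρ r z = u ∨ ρ r z = u + z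
  tr : ∃ r ∈ R, ρ r z = u
  o2 : ∀ s ∈ S, ρ s u = u → ∀ r ∈ R, r * s * r⁻¹ ∈ S

/-- **Side 1**, linear. -/
structure LFr (ρ : H →* (V ≃ₗ[ZMod 2] V)) (S : Subgroup H) (Om : Set V) (f : V → Dual (ZMod 2) V)
    (PP : Set (Subgroup H)) (v₁ v₂ a : V) (P₀ : Subgroup H) : Prop extends USys ρ Om f where
  m1 : v₁ ∈ Om
  fix : ∀ x, (∀ s ∈ S, ρ s x = x) → x = 0 ∨ x = v₁ ∨ x = v₂ ∨ x = v₁ + v₂
  s2 : ∀ s ∈ S, ρ s v₂ = v₂
  mem0 : P₀ ∈ PP
  ln0 : LnV ρ S P₀ v₁ a v₂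
  par : ∀ R ∈ PP, ∃ z u c, LnV ρ S R z u c
  t : ∃ t ∈ S, ∀ x, ρ t x = x + f v₁ x • v₁
  ta : f v₁ a = 1
  l2 : ∀ c ∈ Om, (∀ s ∈ S, ρ s c = c) → c = v₁
  l3 : ∀ g : H, ρ g v₂ = v₂ → ρ g v₁ = v₁ ∨ ρ g v₁ = a ∨ ρ g v₁ = a + v₁
  gen : ∀ X : Subgroup H, S ≤ X → (∀ g ∈ X, ρ g v₁ = v₁) → (∃ g ∈ X, ρ g v₂ ≠ v₂) →
    ∃ R ∈ PP, R ≤ X ∧ ∃ g ∈ R, ρ g v₂ ≠ v₂

namespace USys

variable {ρ : H →* (V ≃ₗ[ZMod 2] V)} {Om : Set V} {f : V → Dual (ZMod 2) V} (h : USys ρ Om f)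
include h

theorem self {c : V} (hc : c ∈ Om) : f c c = 0 := (h.fn c hc).1

theorem c_ne {c : V} (hc : c ∈ Om) : c ≠ 0 := fun e => h.zero (e ▸ hc)

/-- The transvection is an involution. -/
theorem invol {c : V} (hc : c ∈ Om) {g : H} (hg : ∀ x, ρ g x = x + f c x • c) (x : V) : ρ g (ρ g x) = x := by
  rw [hg, hg x, map_add, map_smul, h.self hc, smul_eq_mul, mul_zero, add_zero, add_assoc, v_add_self, add_zero]

/-- An element inducing the transvection. -/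
theorem ex {c : V} (hc : c ∈ Om) : ∃ g : H, ∀ x, ρ g x = x + f c x • c := (h.fn c hc).2

theorem eqv (g : H) {c : V} (hc : c ∈ Om) (x : V) : f (ρ g c) (ρ g x) = f c x := by
  have h1 := (h.fn c hc).conj g
  have h2 : f c ∘ₗ (ρ g⁻¹ : V ≃ₗ[ZMod 2] V).toLinearMap ≠ 0 := by
    intro h3
    apply h.ne c hc
    ext y
    have h4 := LinearMap.congr_fun h3 (ρ g y)
    simpa using h4
  have h3 := (h.uni _ (h.inv g c hc) _ h1).resolve_left h2
  rw [← h3]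
  simp

theorem eqv' (g : H) {c x : V} (hc : c ∈ Om) (hx : ρ g x = x) : f (ρ g c) x = f c x := by
  conv_lhs => rw [← hx]
  exact h.eqv g hc x

theorem mem_add {c d : V} (hc : c ∈ Om) (hd : d ∈ Om) (h1 : f c d = 1) : c + d ∈ Om := by
  obtain ⟨g, hg⟩ := h.ex hc
  have h2 := h.inv g d hd
  rw [hg, h1, one_smul] at h2
  rwa [add_comm]

theorem symm1 {c d : V} (hc : c ∈ Om) (hd : d ∈ Om) (h1 : f c d = 1) : f d c = 1 := by
  by_contra hcon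
  have h0 := z2_ne_one hcon
  obtain ⟨g, hg⟩ := h.ex hc
  -- `f (c + d) = f d`
  have h2 : f (c + d) = f d := by
    ext x
    have h3 := h.eqv g hd (ρ g x)
    have h4 := h.invol hc hg x
    rw [h4, hg d, h1, one_smul, add_comm d c] at h3
    rw [h3, hg x, map_add, map_smul, h0]
    simp
  have h5 := h.fn _ (h.mem_add hc hd h1)
  rw [h2] at h5
  have h6 := h5.addc (h.fn d hd)
  rw [add_assoc, v_add_self, add_zero] at h6
  rcases h.uni c hc _ h6 with h7 | h7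
  · exact h.ne d hd h7
  · rw [← h7, h.self hd] at h1
    exact zero_ne_one h1

theorem symm {c d : V} (hc : c ∈ Om) (hd : d ∈ Om) : f c d = f d c := by
  rcases z2 (f c d) with h1 | h1
  · rcases z2 (f d c) with h2 | h2
    · rw [h1, h2]
    · rw [h.symm1 hd hc h2, h2]
  · rw [h1, h.symm1 hc hd h1]

/-- `f (c + d) = f c + f d` for `f c d = 1`. -/
theorem add {c d : V} (hc : c ∈ Om) (hd : d ∈ Om) (h1 : f c d = 1) (x : V) : f (c + d) x = f c x + f d x := by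
  obtain ⟨g, hg⟩ := h.ex hc
  have h4 := h.invol hc hg x
  have h3 := h.eqv g hd (ρ g x)
  rw [h4, hg d, h1, one_smul, add_comm d c] at h3
  rw [h3, hg x, map_add, map_smul, h.symm1 hc hd h1]
  simp [add_comm]

end USys

end Cfsg.Agent.Omega.NOThreeL.RRed
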