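import Cfsg.Agent.Omega.NOThreeL.RRed.Def
import Cfsg.Agent.Omega.F4Leaf.NoWrFree
import Cfsg.Agent.Omega.FFBr.FinalM
import Cfsg.Agent.Omega.MixOne.Frame4
import Cfsg.Agent.Omega.HOne.SplitP

/-!
# NO-3L, box R, the smallest shape: L0 of #21468

`Sm.line` : for `P ∈ P*(S)`, `|Z| = 4`, `|V_P| = 8`: `V_P = ⟨z, u⟩ × ⟨c⟩`, `P` centralises `c`, `⟨z, u⟩` is a natural
`SL₂(2)`-module for `P` (an element of `S` which moves `V_P` is a transvection, hence an offender: FF theorem).
-/

set_option autoImplicit false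
set_option linter.unusedSectionVars false

namespace Cfsg.Agent.Omega.NOThreeL.RRed

open Subgroup Cfsg Cfsg.Agent.ZN Cfsg.Agent.Omega.MinPar Cfsg.Agent.Omega.Frame Cfsg.Agent.Omega.FrameNOFF
open Cfsg.Agent.Omega.FrameFF Cfsg.Agent.Omega.FrameMulti
open Cfsg.Agent.Omega.FFThm (ElemM OffM NoOverM relIndex_le_iff)
open Cfsg.Agent.MinSimple.VModule (zc_le_zl zc_comm)
open Cfsg.Agent.Omega.BTwo (conj_mem_of_normalizer)

universe u

variable {G : Type u} [Group G] [Finite G] {S : Sylow 2 G}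

/-- A member of `P*(S)` with `|V_P| = 2 |Z|`, `[V_P, S] ≠ 1` satisfies the conclusion of the FF theorem. -/
theorem typed_of_two (hG : IsCharacteristicTwoType G) {P : Subgroup G} (hP : IsParS (S : Subgroup G) P)
    (c : Nat.card (zl (S : Subgroup G) P) = 2 * Nat.card (zc (S : Subgroup G))) :
    Typed (S : Subgroup G) P := by
  have hZV : zc (S : Subgroup G) ≤ zl (S : Subgroup G) P := zc_le_zl _ _
  have hle : zl (S : Subgroup G) P ≤ zc (o2 P) := hP.isLoc.zl_le S hG
  have hVS : zl (S : Subgroup G) P ≤ (S : Subgroup G) := (hle.trans (zc_le _)).trans (hP.isLoc.o2_le S)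
  have hz : 0 < Nat.card (zc (S : Subgroup G)) := Nat.card_pos
  -- `S` does not centralise `V`
  have hs : ¬ (S : Subgroup G) ≤ centralizer (zl (S : Subgroup G) P : Set G) := by
    intro h1
    have h2 : zl (S : Subgroup G) P ≤ zc (S : Subgroup G) := fun v hv =>
      mem_zc.2 ⟨hVS hv, fun s hs => (mem_centralizer_iff.1 (h1 hs) v hv).symm, MinSimple.VModule.zc_sq _ _ (hle hv)⟩
    have h3 := Nat.card_le_card_of_injective _ (inclusion_injective h2)
    omega
  obtain ⟨s, hsS, hsV⟩ := SetLike.not_le_iff_exists.1 hs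
  -- the index of `Z` in `V`
  have hidx : (zc (S : Subgroup G)).relIndex (zl (S : Subgroup G) P) = 2 := by
    have h1 := relIndex_inf_mul_relIndex (⊥ : Subgroup G) (zc (S : Subgroup G)) (zl (S : Subgroup G) P)
    rw [relIndex_bot_left, bot_inf_eq, relIndex_bot_left, inf_eq_left.2 hZV, c, mul_comm] at h1
    exact Nat.eq_of_mul_eq_mul_right hz h1
  have hidx' : ((zc (S : Subgroup G)).subgroupOf (zl (S : Subgroup G) P)).index = 2 := hidx
  have key : ∀ v ∈ zl (S : Subgroup G) P, ∃ w ∈ zc (S : Subgroup G), s * v * s⁻¹ = v * w := by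
    intro v hv
    have hsv : s * v * s⁻¹ ∈ zl (S : Subgroup G) P :=
      conj_mem_of_normalizer (MinSimple.VModule.le_normalizer_zl _ _ (hP.le hsS)) hv
    refine ⟨v⁻¹ * (s * v * s⁻¹), ?_, by group⟩
    have h1 := mul_mem_iff_of_index_two hidx' (a := ⟨v⁻¹, inv_mem hv⟩) (b := ⟨s * v * s⁻¹, hsv⟩)
    have h2 : (⟨v⁻¹, inv_mem hv⟩ * ⟨s * v * s⁻¹, hsv⟩ : zl (S : Subgroup G) P) ∈
        (zc (S : Subgroup G)).subgroupOf (zl (S : Subgroup G) P) := by
      rw [h1, mem_subgroupOf, mem_subgroupOf]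
      simp only
      rw [inv_mem_iff]
      constructor
      · intro hvZ
        rw [(mem_zc.1 hvZ).2.1 s hsS, mul_inv_cancel_right]
        exact hvZ
      · intro hvZ
        have h3 := (mem_zc.1 hvZ).2.1 s⁻¹ (inv_mem hsS)
        have h4 : v = s * v * s⁻¹ := by
          calc v = s⁻¹ * (s * v * s⁻¹) * s := by group
            _ = s * v * s⁻¹ := by rw [h3]; group
        rw [h4]; exact hvZ
    exact mem_subgroupOf.1 h2
  have hs2 : s * s ∈ centralizer (zl (S : Subgroup G) P : Set G) := by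
    rw [mem_centralizer_iff]
    intro v hv
    obtain ⟨w, hw, h1⟩ := key v hv
    have h2 := (mem_zc.1 hw).2.1 s hsS
    have h3 : w * w = 1 := by rw [← pow_two]; exact (mem_zc.1 hw).2.2
    have h4 : s * s * v * (s * s)⁻¹ = v := by
      calc s * s * v * (s * s)⁻¹ = s * (s * v * s⁻¹) * s⁻¹ := by group
        _ = s * (v * w) * s⁻¹ := by rw [h1]
        _ = (s * v * s⁻¹) * (s * w * s⁻¹) := by group
        _ = v * w * w := by rw [h1, h2, mul_inv_cancel_right]
        _ = v := by rw [mul_assoc, h3, mul_one]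
    calc v * (s * s) = (s * s * v * (s * s)⁻¹) * (s * s) := by rw [h4]
      _ = s * s * v := by group
  have hA : zpowers s ≤ (S : Subgroup G) := by rw [zpowers_le]; exact hsS
  have hcomm : ∀ a ∈ zpowers s, ∀ b ∈ zpowers s, a * b = b * a := by
    rintro _ ⟨i, rfl⟩ _ ⟨j, rfl⟩
    exact zpow_mul_comm s i j
  have hoff : OffM (zl (S : Subgroup G) P) (zpowers s) := by
    refine ⟨⟨?_, ?_⟩, ?_, ?_⟩
    · rintro _ ⟨i, rfl⟩
      have e : (s ^ i) ^ 2 = (s * s) ^ i := by
        rw [← pow_two, ← zpow_natCast, ← zpow_natCast, ← zpow_mul, ← zpow_mul, mul_comm]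
      change (s ^ i) ^ 2 ∈ _
      rw [e]
      exact zpow_mem hs2 i
    · intro a ha b hb
      rw [hcomm a ha b hb]
      have e : b * a * a⁻¹ * b⁻¹ = 1 := by group
      rw [e]; exact one_mem _
    · intro h1
      exact hsV (h1 (mem_zpowers s))
    · rw [relIndex_le_iff]
      have h1 : (centralizer (zpowers s : Set G)).relIndex (zl (S : Subgroup G) P) ≤ 2 := by
        refine le_trans (relIndex_le_of_le_left (H := zc (S : Subgroup G)) ?_ (by rw [hidx]; norm_num)) hidx.le
        intro w hw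
        rw [mem_centralizer_iff]
        intro a ha
        exact (mem_zc.1 hw).2.1 a (hA ha)
      refine h1.trans ?_
      have h2 : (centralizer (zl (S : Subgroup G) P : Set G)).relIndex (zpowers s) ≠ 0 :=
        index_ne_zero_of_finite
      have h3 : (centralizer (zl (S : Subgroup G) P : Set G)).relIndex (zpowers s) ≠ 1 := by
        rw [Ne, relIndex_eq_one]
        intro h4
        exact hsV (h4 (mem_zpowers s))
      omega
  obtain ⟨h1, h2⟩ := FFBr.ffthmM G (S : Subgroup G) P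
    (FFThm.syl_of_sylow S hP.le) hP.toIsMinPar
    (hP.isLoc.char2 S hG) ⟨zpowers s, hA.trans hP.le, hoff⟩
  refine ⟨h1.noOver, ?_⟩
  rcases h2 with ⟨F, i1, i2, i3, k, hk, ⟨M⟩⟩ | ⟨k, m, hk, hm, ⟨M⟩⟩
  · exact Or.inl ⟨F, i1, i2, i3, k, hk, ⟨M.toNatK⟩⟩
  · exact Or.inr ⟨k, m, hk, hm, ⟨M.toSymK⟩⟩

/-- The split case. -/
theorem Sm.line_of (h : Sm S) {P : Subgroup G} (hP : IsParS (S : Subgroup G) P) {F : Type} [Field F] [Finite F]
    [CharP F 2] (hF : Nat.card F = 2) {N D K : Subgroup G} (M : Mix.RMod F N K)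
    (s : MixOne.Spl P (zl (S : Subgroup G) P) D M) (hPN : P ≤ normalizer (N : Set G)) :
    ∃ z u c, Ln (S : Subgroup G) P z u c := by
  have hG := h.ctx.char2
  have hZV : zc (S : Subgroup G) ≤ zl (S : Subgroup G) P := zc_le_zl _ _
  have hle : zl (S : Subgroup G) P ≤ zc (o2 P) := hP.isLoc.zl_le S hG
  have hVS : zl (S : Subgroup G) P ≤ (S : Subgroup G) := (hle.trans (zc_le _)).trans (hP.isLoc.o2_le S)
  have hsq : ∀ v ∈ zl (S : Subgroup G) P, v * v = 1 := fun v hv => by
    rw [← pow_two]; exact MinSimple.VModule.zc_sq _ _ (hle hv)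
  have hN4 : Nat.card N = 4 := by
    rw [M.card_V, hF]; norm_num
  have hNV : N ≤ zl (S : Subgroup G) P := s.NV
  have hDV : D ≤ zl (S : Subgroup G) P := s.DV
  have hcm : ∀ v ∈ zl (S : Subgroup G) P, ∀ w ∈ zl (S : Subgroup G) P, v * w = w * v := s.comm
  have hSN : (S : Subgroup G) ≤ normalizer (N : Set G) := hP.le.trans hPN
  have hfact : Fact (Nat.Prime 2) := ⟨Nat.prime_two⟩
  -- `|D| = 2`
  have hD2 : Nat.card D = 2 := by
    let f : N × D → zl (S : Subgroup G) P := fun p => ⟨p.1 * p.2, mul_mem (hNV p.1.2) (hDV p.2.2)⟩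
    have hf : Function.Bijective f := by
      constructor
      · rintro ⟨⟨x, hx⟩, ⟨y, hy⟩⟩ ⟨⟨x', hx'⟩, ⟨y', hy'⟩⟩ he
        have e0 : x * y = x' * y' := congrArg Subtype.val he
        have e1 : x'⁻¹ * x = y' * y⁻¹ := by
          calc x'⁻¹ * x = x'⁻¹ * (x * y) * y⁻¹ := by group
            _ = y' * y⁻¹ := by rw [e0]; group
        have e2 : x'⁻¹ * x ∈ N ⊓ D :=
          mem_inf.2 ⟨mul_mem (inv_mem hx') hx, by rw [e1]; exact mul_mem hy' (inv_mem hy)⟩
        rw [s.inf, mem_bot] at e2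
        have e3 : x = x' := (inv_mul_eq_one.1 e2).symm
        subst e3
        have e4 : y = y' := mul_left_cancel e0
        subst e4
        rfl
      · rintro ⟨v, hv⟩
        obtain ⟨n, hn, d, hd, rfl⟩ := s.dec v hv
        exact ⟨(⟨n, hn⟩, ⟨d, hd⟩), rfl⟩
    have h1 := Nat.card_congr (Equiv.ofBijective f hf)
    rw [Nat.card_prod, hN4, h.v8 P hP] at h1
    omega
  -- `z`
  obtain ⟨z, hzN, hzS, hz1⟩ : ∃ z ∈ N, (∀ t ∈ (S : Subgroup G), t * z = z * t) ∧ z ≠ 1 := by
    have hNb : N ≠ ⊥ := by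
      intro h1
      rw [h1, card_bot] at hN4
      omega
    have h1 := Cfsg.Agent.PLocal.OffenderStep.inf_centralizer_ne_bot (p := 2) N (S : Subgroup G)
      (S.isPGroup'.to_le (hNV.trans hVS)) S.isPGroup' hSN hNb
    obtain ⟨⟨z, hz⟩, hz1⟩ := Subgroup.ne_bot_iff_exists_ne_one.1 h1
    exact ⟨z, hz.1, fun t ht => mem_centralizer_iff.1 hz.2 t ht, fun e => hz1 (Subtype.ext e)⟩
  have hzZ : z ∈ zc (S : Subgroup G) :=
    mem_zc.2 ⟨hVS (hNV hzN), hzS, by rw [pow_two]; exact hsq z (hNV hzN)⟩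
  -- `c`
  obtain ⟨⟨c, hcD⟩, hc1'⟩ : ∃ c : D, c ≠ 1 := by
    have : Nontrivial D := Finite.one_lt_card_iff_nontrivial.1 (by rw [hD2]; norm_num)
    exact exists_ne 1
  have hc1 : c ≠ 1 := fun e => hc1' (Subtype.ext e)
  have hDall : ∀ d ∈ D, d = 1 ∨ d = c := by
    intro d hd
    by_contra hcon
    push Not at hcon
    have h3 : Nat.card ({1, c, d} : Set G) ≤ Nat.card D := by
      refine Nat.card_mono (Set.toFinite _) ?_
      rintro x (rfl | rfl | rfl)
      · exact one_mem _
      · exact hcD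
      · exact hd
    have h4 : Nat.card ({1, c, d} : Set G) = 3 := by
      have : ({1, c, d} : Set G).ncard = 3 := by
        rw [Set.ncard_insert_of_notMem (by simp [hc1.symm, hcon.1.symm]) (Set.toFinite _),
          Set.ncard_pair hcon.2.symm]
      exact this
    omega
  have hcP : ∀ p ∈ P, p * c * p⁻¹ = c := fun p hp => by
    rw [← mem_centralizer_iff.1 (s.cen hp) c hcD, mul_inv_cancel_right]
  have hcS : ∀ t ∈ (S : Subgroup G), t * c = c * t := fun t ht =>
    (mem_centralizer_iff.1 (s.cen (hP.le ht)) c hcD).symm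
  have hcZ : c ∈ zc (S : Subgroup G) :=
    mem_zc.2 ⟨hVS (hDV hcD), hcS, by rw [pow_two]; exact hsq c (hDV hcD)⟩
  have hzc : z ≠ c := by
    rintro rfl
    apply hz1
    have : z ∈ N ⊓ D := mem_inf.2 ⟨hzN, hcD⟩
    rw [s.inf, mem_bot] at this
    exact this
  -- `u`
  obtain ⟨u, huN, hu1, huz⟩ : ∃ u ∈ N, u ≠ 1 ∧ u ≠ z := by
    by_contra hcon
    push Not at hcon
    have h3 : (N : Set G) ⊆ {1, z} := by
      intro x hx
      by_cases h1 : x = 1
      · exact Or.inl h1
      · exact Or.inr (hcon x hx h1)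
    have h4 : Nat.card N ≤ Nat.card ({1, z} : Set G) := Nat.card_mono (Set.toFinite _) h3
    have h5 : Nat.card ({1, z} : Set G) ≤ 2 := by
      have h6 := Set.ncard_insert_le (1 : G) {z}
      rw [Set.ncard_singleton] at h6
      exact h6
    omega
  have huu : u * u = 1 := hsq u (hNV huN)
  have hzz : z * z = 1 := hsq z (hNV hzN)
  have huzc : u * z = z * u := hcm u (hNV huN) z (hNV hzN)
  have huz1 : u * z ≠ 1 := fun e => huz (by
    have h3 : u * z = z * z := by rw [e, hzz]
    exact mul_right_cancel h3)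
  have hNall : ∀ x ∈ N, x = 1 ∨ x = z ∨ x = u ∨ x = u * z := by
    intro x hx
    by_contra hcon
    push Not at hcon
    obtain ⟨g1, g2, g3, g4⟩ := hcon
    have h3 : Nat.card ({1, z, u, u * z, x} : Set G) ≤ Nat.card N := by
      refine Nat.card_mono (Set.toFinite _) ?_
      rintro y (rfl | rfl | rfl | rfl | rfl)
      · exact one_mem _
      · exact hzN
      · exact huN
      · exact mul_mem huN hzN
      · exact hx
    have h4 : Nat.card ({1, z, u, u * z, x} : Set G) = 5 := by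
      have : ({1, z, u, u * z, x} : Set G).ncard = 5 := by
        rw [Set.ncard_insert_of_notMem (by simp [hz1.symm, hu1.symm, huz1.symm, g1.symm]) (Set.toFinite _),
          Set.ncard_insert_of_notMem (by simp [huz.symm, hu1, g2.symm]) (Set.toFinite _),
          Set.ncard_insert_of_notMem (by simp [hz1, g3.symm]) (Set.toFinite _),
          Set.ncard_pair g4.symm]
      exact this
    omega
  have hconj : ∀ p ∈ P, ∀ x ∈ N, p * x * p⁻¹ ∈ N := fun p hp x hx => conj_mem_of_normalizer (hPN hp) hx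
  have hne1 : ∀ (p x : G), x ≠ 1 → p * x * p⁻¹ ≠ 1 := fun p x hx e => hx (by
    calc x = p⁻¹ * (p * x * p⁻¹) * p := by group
      _ = 1 := by rw [e]; group)
  refine ⟨z, u, c, ⟨hzZ, hcZ, hz1, hc1, hzc, hNV huN, huu, ?_, ?_, hcP, ?_, ?_, ?_⟩⟩
  · intro t ht
    rcases hNall _ (hconj t (hP.le ht) u huN) with e | e | e | e
    · exact absurd e (hne1 t u hu1)
    · exfalso
      apply huz
      calc u = t⁻¹ * (t * u * t⁻¹) * t := by group
        _ = t⁻¹ * (z * t) := by rw [e]; group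
        _ = z := by rw [← hzS t ht]; group
    · exact Or.inl e
    · exact Or.inr e
  · by_contra hcon
    push Not at hcon
    -- `S` centralises `V`
    have h2 : zl (S : Subgroup G) P ≤ zc (S : Subgroup G) := by
      intro v hv
      refine mem_zc.2 ⟨hVS hv, fun t ht => ?_, by rw [pow_two]; exact hsq v hv⟩
      obtain ⟨n, hn, d, hd, rfl⟩ := s.dec v hv
      have hu' : t * u = u * t := by
        calc t * u = (t * u * t⁻¹) * t := by group
          _ = u * t := by rw [hcon t ht]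
      have hn' : t * n = n * t := by
        rcases hNall n hn with rfl | rfl | rfl | rfl
        · simp
        · exact hzS t ht
        · exact hu'
        · rw [← mul_assoc, hu', mul_assoc, hzS t ht, mul_assoc]
      have hd' : t * d = d * t := by
        rcases hDall d hd with rfl | rfl
        · simp
        · exact hcS t ht
      rw [← mul_assoc, hn', mul_assoc, hd', mul_assoc]
    have h3 := Nat.card_le_card_of_injective _ (inclusion_injective h2)
    rw [h.v8 P hP, h.z4] at h3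
    omega
  · intro p hp
    rcases hNall _ (hconj p hp z hzN) with e | e | e | e
    · exact absurd e (hne1 p z hz1)
    · exact Or.inl e
    · exact Or.inr (Or.inl e)
    · exact Or.inr (Or.inr e)
  · exact s.trans z hzN hz1 u huN hu1
  · intro x hx
    obtain ⟨n, hn, d, hd, rfl⟩ := s.dec x hx
    refine ⟨n, hNall n hn, ?_⟩
    rcases hDall d hd with rfl | rfl
    · left; simp
    · right; rfl

/-- **L0 of #21468.** -/
theorem Sm.line (h : Sm S) {P : Subgroup G} (hP : IsParS (S : Subgroup G) P) :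
    ∃ z u c, Ln (S : Subgroup G) P z u c := by
  have hG := h.ctx.char2
  have hc : Nat.card (zl (S : Subgroup G) P) = 2 * Nat.card (zc (S : Subgroup G)) := by
    rw [h.v8 P hP, h.z4]
  obtain ⟨F, i1, i2, i3, hF, ⟨o⟩⟩ := F4Leaf.NoWrFree.exists_natOver hG (typed_of_two hG hP hc) hP hc
  have hsp := HOne.splitPar_of_two hG S hP o hF
  obtain ⟨K, M, s⟩ := MixOne.exists_spl hG hP o hsp
  exact h.line_of hP hF M s (MixOne.le_normalizer_vx _ _)

end Cfsg.Agent.Omega.NOThreeL.RRed
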