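import Cfsg.Agent.Omega.NOThreeL.RRed.Glue
import Cfsg.Agent.Omega.NOThreeL.RRed.Line

/-! # NO-3L, box R, the smallest shape: the socket `LineS` (L0 of #21468) -/

set_option autoImplicit false

namespace Cfsg.Agent.Omega.NOThreeL.RRed

universe u

theorem lineS : LineS.{u} := fun _ _ _ _ h _ hP => h.line hP

end Cfsg.Agent.Omega.NOThreeL.RRed
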