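import Cfsg.Agent.Omega.NOThreeL.RRed.Blk.AsmInp
import Cfsg.Agent.Omega.NOThreeL.RRed.Blk.AsmUn
import Cfsg.Agent.Omega.NOThreeL.RRed.Blk.Uni
import Cfsg.Agent.Omega.NOThreeL.RRed.EOneTr

/-!
# NO-3L, box R: `E1S ⟹ MvAct`, first steps ((M4) of #27316)

`I : AsmG.Inp S L Q` (no `MvAct`), `EE` : the images of the atoms of `S` in `U = zl S L`.

* **`mem_FFs`** : `D ∈ EE`, `|D| ≥ 4` ⟹ `D ∈ FFs EE (RRs S L Q)` (gallery with (T0));
* **`permC_of`** : the complements of the blocks are permuted by `X`;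
* `exists_mv` : `E1S S`, `z ∈ Z#` : some atom `A ≤ S` moves `y⁻¹ z y`, `y ∈ Y`;
* **`comp_or`** : `z` has a component `≠ 0` in a natural block (`z ∉ CC D`), or some atom `A`, `|im Q A| ≤ 3`, moves a
  conjugate of `z`.
-/

set_option autoImplicit false
set_option linter.unusedSectionVars false

namespace Cfsg.Agent.Omega.NOThreeL.RRed.MvCov

open Subgroup Cfsg Cfsg.Agent.ZN Cfsg.Agent.Omega.MinPar
open Cfsg.Agent.Omega.FFThm (NoOverM)
open Cfsg.Agent.Omega.NOThreeL.RSplit (Nrm)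
open Cfsg.Agent.Omega.NOThreeL.Star (YS)
open Cfsg.Agent.Omega.NOThreeL.RRed.NS (fxd brk mem_fxd un val_mem_un smul_eq_iff)
open Cfsg.Agent.Omega.NOThreeL.RTree (RB)
open Cfsg.Agent.Omega.NOThreeL.Merge (MZ le_MZ isLoc_MZ)
open Cfsg.Agent.Omega.NOThreeL.RRed.EOne (E1 E1S)
open Cfsg.Agent.Omega.NOThreeL.RRed.Blk
open Cfsg.Agent.Omega.NOThreeL.RRed.Blk.TypesNat (XH ph ph_smul XH_faith ph_eq ph_surj)
open Cfsg.Agent.Omega.NOThreeL.RRed.Blk.Asm (Es GB NB Fam FFs NN CC St Ac le_FFs conj_FFs mem_St le_St)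
open Cfsg.Agent.Omega.NOThreeL.RRed.Blk.AsmCore (EP KP im ph_mem_im)
open Cfsg.Agent.Omega.NOThreeL.RRed.Blk.AsmG (Inp RRs Ps sSup_Ps inact)
open scoped Pointwise

universe u v

section abs

variable {X : Type u} {V : Type v} [Group X] [AddCommGroup V] [DistribMulAction X V] [Finite X] [Finite V]

/-- **the gallery** : `T ⊆ EE` is stable under the inactive `P` and `S`, and no member of `T` is in `EP` for an active `P`:
`T` is `X`-invariant. -/
theorem gal (h2 : ∀ v : V, v + v = 0) (hf : ∀ x : X, (∀ v : V, x • v = v) → x = 1)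
    (hno : TypesGam.NO X V) {S : Subgroup X} {EE : Set (Subgroup X)} (E : Es S EE V) {Ps : Set (Subgroup X)}
    (htop : sSup Ps = ⊤) {T : Set (Subgroup X)} (hT : T ⊆ EE) (hst : ∀ g ∈ St EE, ∀ D ∈ T, MulAut.conj g • D ∈ T)
    (hPs : ∀ P ∈ Ps, (∀ g ∈ P, ∀ A ∈ EE, MulAut.conj g • A ∈ EE) ∨
      ∃ K : Subgroup X, P ≤ K ⊔ S ∧ ∀ D ∈ T, ∀ a ∈ D, ∀ m ∈ brk V K, a • m = m) :
    ∀ g : X, ∀ D ∈ T, MulAut.conj g • D ∈ T := by
  let H : Subgroup X :=
    { carrier := {g | ∀ D, D ∈ T ↔ MulAut.conj g • D ∈ T}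
      mul_mem' := fun {a b} ha hb D => by rw [map_mul, mul_smul, ← ha, ← hb]
      one_mem' := fun D => by rw [map_one, one_smul]
      inv_mem' := fun {a} ha D => by
        rw [ha (MulAut.conj a⁻¹ • D), ← mul_smul, ← map_mul, mul_inv_cancel, map_one, one_smul] }
  have key : ∀ P : Subgroup X, (∀ g ∈ P, ∀ D ∈ T, MulAut.conj g • D ∈ T) → P ≤ H := by
    intro P hP g hg D
    refine ⟨hP g hg D, fun hD => ?_⟩
    have h1 := hP g⁻¹ (P.inv_mem hg) _ hD
    rwa [← mul_smul, ← map_mul, inv_mul_cancel, map_one, one_smul] at h1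
  have hS : S ≤ H := key S fun s hs D hD => hst s (le_St E.nS hs) D hD
  have htop' : H = ⊤ := by
    rw [eq_top_iff, ← htop]
    refine sSup_le fun P hP => ?_
    rcases hPs P hP with h | ⟨K, hK, hc⟩
    · exact key P fun g hg D hD => hst g (le_St h hg) D hD
    · refine hK.trans (sup_le (key K fun g hg D hD => ?_) hS)
      rw [Uni.cj_of h2 hf hno E (hT hD) (hc D hD) hg]
      exact hD
  intro g D hD
  have h1 : g ∈ H := htop' ▸ Subgroup.mem_top g
  exact (h1 D).1 hD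

end abs

variable {G : Type u} [Group G] [Finite G] {S : Sylow 2 G} {L : Subgroup G} {Q : Nrm L (zl (S : Subgroup G) L)}

/-- a subgroup all of whose conjugates are in `im Q S` is trivial -/
theorem eq_bot_of {D : Subgroup (XH Q)}
    (hD : ∀ g : XH Q, MulAut.conj g • D ≤ im Q (S : Subgroup G)) : D = ⊥ := by
  set W : AddSubgroup Q.Mod := fxd (normalClosure (D : Set (XH Q))) with hW
  have hWi : ∀ g : XH Q, ∀ m ∈ W, g • m ∈ W := by
    intro g m hm x hx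
    have h1 : g⁻¹ * x * g ∈ normalClosure (D : Set (XH Q)) := by
      have := (normalClosure_normal (s := (D : Set (XH Q)))).conj_mem x hx g⁻¹
      rwa [inv_inv] at this
    have h3 := hm _ h1
    rw [mul_smul, mul_smul, inv_smul_eq_iff] at h3
    exact h3
  have h1 : L ≤ normalizer (un Q W : Set G) := (AsmUn.inv_iff Q W).1 hWi
  have hle : normalClosure (D : Set (XH Q)) ≤ im Q (S : Subgroup G) := by
    rw [normalClosure, closure_le]
    intro x hx
    obtain ⟨y, hy, hyx⟩ := Group.mem_conjugatesOfSet_iff.1 hx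
    obtain ⟨g, rfl⟩ := isConj_iff.1 hyx
    exact hD g (NS.conj_mem' hy)
  have h3 : zc (S : Subgroup G) ≤ un Q W := by
    intro z hz
    have hzU : z ∈ zl (S : Subgroup G) L := MinSimple.VModule.zc_le_zl _ _ hz
    refine ⟨Q.of z hzU, fun x hx => ?_, rfl⟩
    obtain ⟨s, hs, rfl⟩ := hle hx
    rw [ph_smul, smul_eq_iff]
    have h5 := MinSimple.VModule.mem_zc.1 hz
    have h6 : (s : G) * z = z * s := h5.2.1 s hs
    exact mul_inv_eq_iff_eq_mul.2 h6
  have h5 : zl (S : Subgroup G) L ≤ un Q W := MinSimple.VModule.zl_le h3 h1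
  rw [eq_bot_iff]
  intro d hd
  rw [Subgroup.mem_bot]
  refine XH_faith Q d fun m => ?_
  have h6 : m ∈ W := (val_mem_un Q).1 (h5 (Q.val_mem m))
  exact h6 d (subset_normalClosure hd)

section inp

variable (I : Inp S L Q)
include I

/-- **`D ∈ EE`, `|D| ≥ 4` : `D` is a conjugate of a member of `RRs`.** -/
theorem mem_FFs {D : Subgroup (XH Q)}
    (hD : D ∈ im Q '' AsmCore.EE (S : Subgroup G) (zl (S : Subgroup G) L)) (h4 : 4 ≤ Nat.card D) :
    D ∈ FFs (im Q '' AsmCore.EE (S : Subgroup G) (zl (S : Subgroup G) L)) (RRs S L Q) := by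
  by_contra hcon
  have key := gal I.two I.hf I.hno I.es (sSup_Ps Q I.gen)
    (T := {D | D ∈ im Q '' AsmCore.EE (S : Subgroup G) (zl (S : Subgroup G) L) ∧ 4 ≤ Nat.card D ∧
      D ∉ FFs (im Q '' AsmCore.EE (S : Subgroup G) (zl (S : Subgroup G) L)) (RRs S L Q)}) (fun D hD => hD.1)
    (fun g hg D hD => ⟨(mem_St.1 hg D).1 hD.1, by rw [Asm.conj_ne_bot]; exact hD.2.1, fun h5 => hD.2.2 (by
      have h6 := conj_FFs (inv_mem hg) h5
      rwa [← mul_smul, ← map_mul, inv_mul_cancel, map_one, one_smul] at h6)⟩)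
    (by
      rintro _ ⟨P, hP, hPL, rfl⟩
      by_cases hne : (EP (S : Subgroup G) P (zl (S : Subgroup G) L)).Nonempty
      · have hac := I.ac P hP hPL hne
        refine Or.inr ⟨_, hac.gen, fun D hD => (hac.dich D hD.1).resolve_left fun h5 => hD.2.2 (le_FFs ?_)⟩
        obtain ⟨A, hA, rfl⟩ := h5
        exact ⟨hD.2.1, P, hP, hPL, A, hA, rfl⟩
      · exact Or.inl (inact I.hc Q hP hne))
  have h0 : D = ⊥ := eq_bot_of fun g => by
    have h5 := (key g D ⟨hD, h4, hcon⟩).1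
    exact I.es.le _ h5
  rw [h0, Subgroup.card_bot] at h4
  omega

/-- **The complements of the blocks are permuted.** -/
theorem permC_of (hL : IsLoc (S : Subgroup G) L) (spl : AsmInp.Spl S L) :
    ∀ g : XH Q, ∀ D ∈ FFs (im Q '' AsmCore.EE (S : Subgroup G) (zl (S : Subgroup G) L)) (RRs S L Q),
      ∃ D' ∈ FFs (im Q '' AsmCore.EE (S : Subgroup G) (zl (S : Subgroup G) L)) (RRs S L Q),
        Nat.card D' = Nat.card D ∧ ∀ m, m ∈ CC (im Q '' AsmCore.EE (S : Subgroup G) (zl (S : Subgroup G) L)) Q.Mod D ↔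
          g • m ∈ CC (im Q '' AsmCore.EE (S : Subgroup G) (zl (S : Subgroup G) L)) Q.Mod D' := by
  refine Asm.permC I.two I.hf I.hno I.es ?_ (sSup_Ps Q I.gen) ?_ (fun A hA => hA.1) ?_
  · rintro _ ⟨P, hP, hPL, rfl⟩
    by_cases hne : (EP (S : Subgroup G) P (zl (S : Subgroup G) L)).Nonempty
    · refine Or.inr ⟨_, _, I.ac P hP hPL hne, ?_⟩
      rcases AsmInp.type_of I.hc hL I.no hP hPL hne with h2 | ⟨F, i1, i2, i3, k, hF, hk, ⟨M⟩⟩
      · rintro _ ⟨A, hA, rfl⟩ h4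
        have := AsmSmall.card_small I.hc hL hP hPL I.no h2 Q hA
        omega
      · intro D hD h4 N C hNC
        obtain ⟨-, N', C', h1, -, -, -, h3, -⟩ :=
          AsmAct.typC_nat I.hc hL hP hPL I.no M (spl P hP hPL hne F k M hF) Q hF D hD
        rw [(hNC.uniq I.two I.hf I.hno h1 h4).2]
        exact h3
    · exact Or.inl (inact I.hc Q hP hne)
  · rintro D ⟨-, P, -, -, A, hA, rfl⟩
    exact ⟨A, hA.1, rfl⟩
  · rintro D ⟨h4, P, hP, hPL, A, hA, rfl⟩
    exact (I.ac P hP hPL ⟨A, hA⟩).gb ⟨A, hA, rfl⟩ h4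

end inp

/-! ### Box R -/

/-- some atom moves a conjugate of `z` -/
theorem exists_mv (he : E1S (S : Subgroup G)) {z : G} (hz : z ∈ zc (S : Subgroup G)) (hz1 : z ≠ 1) :
    ∃ A ∈ AsmCore.EE (S : Subgroup G) (Wd (S : Subgroup G)), ∃ y ∈ MZ (S : Subgroup G),
      ¬ A ≤ centralizer ({y⁻¹ * z * y} : Set G) := by
  by_contra hcon
  push Not at hcon
  apply hz1
  have h1 : E1 (S : Subgroup G) ≤ centralizer ({z} : Set G) := by
    refine NoFF.Basic.V_le fun y hy => ?_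
    rintro _ ⟨a, ha, rfl⟩
    have h2 : EOne.J1 (S : Subgroup G) ≤ centralizer ({y⁻¹ * z * y} : Set G) :=
      sSup_le fun A hA => hcon A hA y hy
    have h3 := mem_centralizer_singleton_iff.1 (h2 ha)
    have e : (MulAut.conj y • a : G) = y * a * y⁻¹ := rfl
    change (MulAut.conj y • a : G) ∈ centralizer ({z} : Set G)
    rw [mem_centralizer_singleton_iff, e]
    calc y * a * y⁻¹ * z = y * (a * (y⁻¹ * z * y)) * y⁻¹ := by group
      _ = y * ((y⁻¹ * z * y) * a) * y⁻¹ := by rw [h3]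
      _ = z * (y * a * y⁻¹) := by group
  have h2 : z ∈ zc (S : Subgroup G) ⊓ centralizer (E1 (S : Subgroup G) : Set G) :=
    ⟨hz, mem_centralizer_iff.2 fun e he' => (mem_centralizer_singleton_iff.1 (h1 he'))⟩
  rw [show zc (S : Subgroup G) ⊓ centralizer (E1 (S : Subgroup G) : Set G) = ⊥ from he] at h2
  exact Subgroup.mem_bot.1 h2

variable {Q : Nrm (MZ (S : Subgroup G)) (zl (S : Subgroup G) (MZ (S : Subgroup G)))}

/-- **a natural component, or a transvection** -/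
theorem comp_or (B : RB S) (he : E1S (S : Subgroup G)) (I : Inp S (MZ (S : Subgroup G)) Q)
    (spl : AsmInp.Spl S (MZ (S : Subgroup G))) {z : G} (hz : z ∈ zc (S : Subgroup G)) (hz1 : z ≠ 1) {m : Q.Mod}
    (hm : Q.val m = z) :
    (∃ D ∈ FFs (im Q '' AsmCore.EE (S : Subgroup G) (zl (S : Subgroup G) (MZ (S : Subgroup G)))) (RRs S (MZ (S : Subgroup G)) Q),
      m ∉ CC (im Q '' AsmCore.EE (S : Subgroup G) (zl (S : Subgroup G) (MZ (S : Subgroup G)))) Q.Mod D) ∨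
    ∃ A ∈ AsmCore.EE (S : Subgroup G) (zl (S : Subgroup G) (MZ (S : Subgroup G))), Nat.card (im Q A) < 4 ∧ ∃ y ∈ MZ (S : Subgroup G),
      ¬ A ≤ centralizer ({y⁻¹ * z * y} : Set G) := by
  obtain ⟨A, hA', y, hy, hmv⟩ := exists_mv he hz hz1
  have hA : A ∈ AsmCore.EE (S : Subgroup G) (zl (S : Subgroup G) (MZ (S : Subgroup G))) := hA'
  by_cases h4 : 4 ≤ Nat.card (im Q A)
  swap
  · exact Or.inr ⟨A, hA, by omega, y, hy, hmv⟩
  left
  have hL := isLoc_MZ B.ctx B.full B.data.noff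
  have hD : im Q A ∈ FFs (im Q '' AsmCore.EE (S : Subgroup G) (zl (S : Subgroup G) (MZ (S : Subgroup G)))) (RRs S (MZ (S : Subgroup G)) Q) :=
    mem_FFs I ⟨A, hA, rfl⟩ h4
  obtain ⟨D', hD', -, h5⟩ := permC_of I hL spl (ph Q ⟨y, hy⟩) _ hD
  refine ⟨D', hD', fun h6 => hmv ?_⟩
  have h7 := (h5 ((ph Q ⟨y, hy⟩)⁻¹ • m)).2 (by rw [smul_inv_smul]; exact h6)
  obtain ⟨-, -, hGB, -⟩ := I.main (RR := RRs S (MZ (S : Subgroup G)) Q) le_rfl
  obtain ⟨F, i1, i2, e, f, up, lo, hB, hup, -⟩ := (hGB _ hD).nb.ex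
  have h8 := Asm.C_le_fxd hB h7
  rw [hup] at h8
  intro a ha
  have h9 := h8 (ph Q ⟨a, hL.le (hA.1 ha)⟩) (ph_mem_im Q ha)
  have e1 : Q.val ((ph Q ⟨y, hy⟩)⁻¹ • m) = y⁻¹ * z * y := by
    rw [← map_inv, ph_smul]
    have e2 : Q.val ((⟨y, hy⟩⁻¹ : MZ (S : Subgroup G)) • m) = y⁻¹ * Q.val m * y⁻¹⁻¹ := Nrm.val_smul _ _
    rw [e2, hm, inv_inv]
  have h10 : a * Q.val ((ph Q ⟨y, hy⟩)⁻¹ • m) * a⁻¹ = Q.val ((ph Q ⟨y, hy⟩)⁻¹ • m) := by
    rw [ph_smul] at h9
    exact (smul_eq_iff Q _ _).1 h9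
  rw [e1] at h10
  rw [mem_centralizer_singleton_iff]
  exact mul_inv_eq_iff_eq_mul.1 h10

end Cfsg.Agent.Omega.NOThreeL.RRed.MvCov
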