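import Cfsg.Agent.Omega.NOThreeL.RRed.Blk.AsmInp
import Cfsg.Agent.Omega.NOThreeL.RRed.Blk.AsmUn
import Cfsg.Agent.Omega.NOThreeL.RRed.Blk.AsmN2
import Cfsg.Agent.Omega.NOThreeL.RRed.EOneTr

/-!
# NO-3L, box R: `C_Z(E₁) = 1` excludes blocks with a radical ((M1) of #27316)

* **`false_of_fam`** : a family of natural blocks (`AsmN.FamN`, over the atoms of `S` in `V*`) with a radical `Z D ≠ 0`
  contradicts `E1S S`: `R' = ⨆ Z D` is normalised by `Y` and centralised by all atoms.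
* `FamOf S` : what the nonsplit blocks give (`NonF`);  **`spl_of_e1s`** : `E1S S` ⟹ `AsmInp.Spl S (MZ S)`.
-/

set_option autoImplicit false
set_option linter.unusedSectionVars false

namespace Cfsg.Agent.Omega.NOThreeL.RRed.MvSpl

open Subgroup Cfsg Cfsg.Agent.ZN Cfsg.Agent.Omega.MinPar
open Cfsg.Agent.Omega.NO3S.ThmB Cfsg.Agent.Omega.NO3S.KeyRad
open Cfsg.Agent.Omega.NOThreeL.RSplit (Nrm)
open Cfsg.Agent.Omega.NOThreeL.Star (YS)
open Cfsg.Agent.Omega.NOThreeL.RRed.NS (fxd brk mem_fxd un val_mem_un smul_eq_iff)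
open Cfsg.Agent.Omega.NOThreeL.RTree (RB)
open Cfsg.Agent.Omega.NOThreeL.Merge (MZ le_MZ isLoc_MZ)
open Cfsg.Agent.Omega.NOThreeL.RRed.EOne (E1 E1S)
open Cfsg.Agent.Omega.NOThreeL.RRed.Blk
open Cfsg.Agent.Omega.NOThreeL.RRed.Blk.TypesNat (XH ph ph_smul XH_faith ph_eq ph_surj)
open Cfsg.Agent.Omega.NOThreeL.RRed.Blk.AsmN (FamN)
open Cfsg.Agent.Omega.NOThreeL.RRed.Blk.AsmCore (im ph_mem_im)
open scoped Pointwise

universe u

variable {G : Type u} [Group G] [Finite G] {S : Sylow 2 G}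

/-- **`E1S` excludes a family with a radical.** -/
theorem false_of_fam (B : RB S) (he : E1S (S : Subgroup G)) {H : Subgroup G}
    (Q : Nrm H (Wd (S : Subgroup G))) (YH : MZ (S : Subgroup G) ≤ H)
    {FF : Set (Subgroup (XH Q))} {N C L Z : Subgroup (XH Q) → AddSubgroup Q.Mod}
    (F : FamN (im Q (S : Subgroup G)) (im Q '' AsmCore.EE (S : Subgroup G) (Wd (S : Subgroup G))) FF N C L Z)
    {D : Subgroup (XH Q)} (hD : D ∈ FF) (hZ : Z D ≠ ⊥) : False := by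
  have hSY := EOne.S_YS B
  have hSH : (S : Subgroup G) ≤ H := hSY.trans YH
  have h2 : ∀ v : Q.Mod, v + v = 0 := fun v => Nrm.ext (by
    rw [Nrm.val_add, Nrm.val_zero]
    have := EOne.Vsq B _ (Q.val_mem v)
    rwa [pow_two] at this)
  have hf : ∀ x : XH Q, (∀ v : Q.Mod, x • v = v) → x = 1 := fun x hx => XH_faith Q x hx
  set T : AddSubgroup Q.Mod := ⨆ D ∈ FF, Z D with hT
  have hinv : ∀ g : XH Q, ∀ m ∈ T, g • m ∈ T := fun g m hm => F.inv_Z g hm
  set R : Subgroup G := un Q T with hR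
  have hRH : H ≤ normalizer (R : Set G) := (AsmUn.inv_iff Q T).1 hinv
  have hRU : R ≤ Wd (S : Subgroup G) := AsmUn.un_le Q T
  have hR0 : R ≠ ⊥ := by
    intro h0
    have h1 : T = ⊥ := (AsmUn.un_eq_bot Q).1 h0
    exact hZ (le_bot_iff.1 ((le_iSup₂ (f := fun D (_ : D ∈ FF) => Z D) D hD).trans h1.le))
  -- `E₁` centralises `R`
  have hE : E1 (S : Subgroup G) ≤ centralizer (R : Set G) := by
    refine EOne.E1_le_of ((YH.trans hRH).trans ?_) fun A hA hM => ?_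
    · exact RZ.norm_cent le_rfl
    · intro a ha
      rw [mem_centralizer_iff]
      rintro _ ⟨m, hm, rfl⟩
      have h1 := F.EE_Z h2 hf (A := im Q A) ⟨A, ⟨hA, hM⟩, rfl⟩ hm (ph Q ⟨a, hSH (hA ha)⟩) (ph_mem_im Q ha)
      rw [ph_smul, smul_eq_iff] at h1
      exact (mul_inv_eq_iff_eq_mul.1 h1).symm
  -- an `S`-fixed vector
  have hUS : Wd (S : Subgroup G) ≤ (S : Subgroup G) := EOne.VS B
  have hf2 : Fact (Nat.Prime 2) := ⟨Nat.prime_two⟩
  have h5 := PLocal.OffenderStep.inf_centralizer_ne_bot _ (S : Subgroup G) (S.isPGroup'.to_le (hRU.trans hUS))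
    S.isPGroup' (hSH.trans hRH) hR0
  obtain ⟨z, hz1⟩ := Subgroup.ne_bot_iff_exists_ne_one.1 h5
  have hz : (z : G) ∈ zc (S : Subgroup G) :=
    ChoiceBase.mem_zc.2 ⟨hUS (hRU z.2.1), by
      have := EOne.Vsq B _ (hRU z.2.1)
      exact this, fun y hy => mem_centralizer_iff.1 z.2.2 y hy⟩
  have h6 : (z : G) ∈ zc (S : Subgroup G) ⊓ centralizer (E1 (S : Subgroup G) : Set G) := by
    exact ⟨hz, mem_centralizer_iff.2 fun e he' => (mem_centralizer_iff.1 (hE he') _ z.2.1).symm⟩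
  rw [show zc (S : Subgroup G) ⊓ centralizer (E1 (S : Subgroup G) : Set G) = ⊥ from he, Subgroup.mem_bot] at h6
  exact hz1 (Subtype.ext h6)

/-- The family of the blocks with a radical. -/
def FamOf (S : Sylow 2 G) : Prop :=
  ¬ AsmInp.Spl S (MZ (S : Subgroup G)) →
    ∃ (H : Subgroup G) (_ : MZ (S : Subgroup G) ≤ H) (Q : Nrm H (Wd (S : Subgroup G))) (FF : Set (Subgroup (XH Q)))
      (N C L Z : Subgroup (XH Q) → AddSubgroup Q.Mod) (D : Subgroup (XH Q)),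
      FamN (im Q (S : Subgroup G)) (im Q '' AsmCore.EE (S : Subgroup G) (Wd (S : Subgroup G))) FF N C L Z ∧
        D ∈ FF ∧ Z D ≠ ⊥

/-- **(M1)** -/
theorem spl_of_fam (B : RB S) (he : E1S (S : Subgroup G)) (hF : FamOf S) : AsmInp.Spl S (MZ (S : Subgroup G)) := by
  by_contra hn
  obtain ⟨H, YH, Q, FF, N, C, L, Z, D, F, hD, hZ⟩ := hF hn
  exact false_of_fam B he Q YH F hD hZ

end Cfsg.Agent.Omega.NOThreeL.RRed.MvSpl
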