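import Cfsg.Agent.Omega.NOThreeL.RRed.MvEnd
import Cfsg.Agent.Omega.NOThreeL.RRed.MvSpl
import Cfsg.Agent.Omega.NOThreeL.RRed.GlueRef

/-!
# NO-3L, box R: the row `noMv` is void ((M1), (M3), (M4) of #27316)

* `mvAct_of_e1s'` : `RB S`, `E1S S` ⟹ `MvAct S`, over `MvSpl.FamOf S` (M1) and `MvEnd.MvBig S` (M3n);
* **`wNoMv_of`** : `WideTree.WNoMv K (FBR E1Fr)`.
-/

set_option autoImplicit false

namespace Cfsg.Agent.Omega.NOThreeL.RRed.NoMvPlug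

open Cfsg.Agent.Omega.Frame
open Cfsg.Agent.Omega.NOThreeL.RTree (RB)
open Cfsg.Agent.Omega.NOThreeL.RRed.EOne (E1S)
open Cfsg.Agent.Omega.NOThreeL.RRed.WideTree (MvAct)
open Cfsg.Agent.Omega.NOThreeL.RRed.GlueSig (FBR)

universe u

/-- `E1S` implies `MvAct` -/
theorem mvAct_of_e1s' {G : Type u} [Group G] [Finite G] {S : Sylow 2 G} (B : RB S) (he : E1S (S : Subgroup G))
    (hF : MvSpl.FamOf S) (hb : MvEnd.MvBig S) : MvAct (S : Subgroup G) :=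
  MvEnd.mvAct_of_parts B he (MvSpl.spl_of_fam B he hF) hb

/-- **The row `noMv`.** -/
theorem wNoMv_of
    (hF : ∀ (G : Type u) [Group G] [Finite G] (S : Sylow 2 G), RB S → E1S (S : Subgroup G) → MvSpl.FamOf S)
    (hb : ∀ (G : Type u) [Group G] [Finite G] (S : Sylow 2 G), RB S → E1S (S : Subgroup G) → MvEnd.MvBig S)
    (K : Cls.{u}) : WideTree.WNoMv K (FBR EOne.E1Fr.{u}) :=
  fun G _ _ _ S h _ hm => absurd (mvAct_of_e1s' h.1.toRB h.2 (hF G S h.1.toRB h.2) (hb G S h.1.toRB h.2)) hm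

end Cfsg.Agent.Omega.NOThreeL.RRed.NoMvPlug
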