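import Cfsg.Agent.Omega.NOThreeL.RRed.Blk.FamOf
import Cfsg.Agent.Omega.NOThreeL.RRed.Blk.MvNatH
import Cfsg.Agent.Omega.NOThreeL.RRed.NoMvPlug

/-!
# NO-3L, box R: the row `noMv` is void, over the inputs `FamOf.InN` of the nonsplit family

* `famOf_of` : `MvSpl.FamOf S` from `Blk.FamOf.InN` (the families of the nonsplit blocks, `Blk/FamOf.lean`);
* `mvAct_of_inN` : `RB S`, `E1S S` ⟹ `MvAct S`;
* **`wNoMv_of_inN`** : `WideTree.WNoMv K (FBR E1Fr)`.
-/

set_option autoImplicit false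

namespace Cfsg.Agent.Omega.NOThreeL.RRed.MvFam

open Subgroup Cfsg Cfsg.Agent.ZN Cfsg.Agent.Omega.MinPar
open Cfsg.Agent.Omega.Frame
open Cfsg.Agent.Omega.FFThm (NoOverM)
open Cfsg.Agent.Omega.NOThreeL.RSplit (Nrm)
open Cfsg.Agent.Omega.NOThreeL.RTree (RB)
open Cfsg.Agent.Omega.NOThreeL.Merge (MZ isLoc_MZ)
open Cfsg.Agent.Omega.NOThreeL.RRed.EOne (E1S)
open Cfsg.Agent.Omega.NOThreeL.RRed.WideTree (MvAct)
open Cfsg.Agent.Omega.NOThreeL.RRed.GlueSig (FBR)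
open Cfsg.Agent.Omega.NOThreeL.RRed.Blk

universe u

/-- the inputs of the nonsplit family, for every `Q` -/
def InAll {G : Type u} [Group G] [Finite G] (S : Sylow 2 G) : Prop :=
  NoOverM (zl (S : Subgroup G) (MZ (S : Subgroup G))) (normalizer (MZ (S : Subgroup G) : Set G)) →
    ∀ Q : Nrm (normalizer (MZ (S : Subgroup G) : Set G)) (zl (S : Subgroup G) (MZ (S : Subgroup G))), FamOf.InN S Q

/-- **(M1), first half** -/
theorem famOf_of {G : Type u} [Group G] [Finite G] {S : Sylow 2 G} (B : RB S) (hI : InAll S) : MvSpl.FamOf S := by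
  intro hn
  have hc := B.ctx.char2
  have hL := isLoc_MZ B.ctx B.full B.data.noff
  unfold AsmInp.Spl at hn
  push Not at hn
  obtain ⟨P, hP, hPL, ne, F, i1, i2, i3, k, M, hF, hns⟩ := hn
  have no := AsmInp.no_of_act B ((AsmInp.act_iff hc hP).2 ne)
  have hU2 := FFThm.elem_zl hc S hL
  let Q := FamOf.nrm_norm hL.le hU2
  have I := hI (FamOf.no_norm hL.le no) Q
  obtain ⟨N, C, L, Z, Fa, -, hZ⟩ := FamOf.famN_of hc hL no Q I
  obtain ⟨D, hD⟩ := FamOf.exists_RRN hc hL no Q I hP ne M hF hns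
  exact ⟨_, le_normalizer, Q, _, N, C, L, Z, D, Fa, Asm.le_FFs hD, hZ D (Asm.le_FFs hD)⟩

/-- `E1S` implies `MvAct` -/
theorem mvAct_of_inN {G : Type u} [Group G] [Finite G] {S : Sylow 2 G} (B : RB S) (he : E1S (S : Subgroup G))
    (hI : InAll S) : MvAct (S : Subgroup G) :=
  NoMvPlug.mvAct_of_e1s' B he (famOf_of B hI) (MvNatH.mvBig B)

/-- **The row `noMv`.** -/
theorem wNoMv_of_inN (hI : ∀ (G : Type u) [Group G] [Finite G] (S : Sylow 2 G), RB S → InAll S) (K : Cls.{u}) :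
    WideTree.WNoMv K (FBR EOne.E1Fr.{u}) :=
  NoMvPlug.wNoMv_of (fun G _ _ S B _ => famOf_of B (hI G S B)) (fun _ _ _ _ B _ => MvNatH.mvBig B) K

/-- the same, with the input of `RZ/TwoE/NsEnd` (`NsEnd.InB`) -/
theorem wNoMv_of_inB (inp : ∀ (G : Type u) [Group G] [Finite G] (S : Sylow 2 G), RB S →
      NoOverM (zl (S : Subgroup G) (MZ (S : Subgroup G))) (MZ (S : Subgroup G)) →
      ∀ Q : Nrm (normalizer (MZ (S : Subgroup G) : Set G)) (zl (S : Subgroup G) (MZ (S : Subgroup G))), FamOf.InN S Q)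
    (K : Cls.{u}) : WideTree.WNoMv K (FBR EOne.E1Fr.{u}) :=
  wNoMv_of_inN (fun G _ _ S B no => inp G S B fun A hA hE => no A (hA.trans le_normalizer) hE) K

end Cfsg.Agent.Omega.NOThreeL.RRed.MvFam
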