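import Cfsg.Agent.Omega.NOThreeL.RRed.WideTree
import Cfsg.Agent.Omega.NOThreeL.RRed.TvTr
import Cfsg.Agent.Omega.NOThreeL.RRed.Blk.OneOf
import Cfsg.Agent.Lib.SylowNormalInf

/-!
# NO-3L, box R: letters blocks are moved by active minimal parabolics (#27316 (M3l))

`F : TvFin.Full S M V N E R₀ Om phi` (even sets of letters). `OO S V E phi oo` : the letter `oo b` of `Om b` fixed by
`S ∩ E b`; every other letter `x` is in a transposition `(x y) ∈ S ∩ E b`, `y ≠ oo b`; `S` permutes the `oo b`.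
`z ∈ C_V(S)` with components `phi b (s b)`; `D b = s b ∪ {oo b}`;
`KK` = the elements of `M ∩ C(R₀)` which act on every block as permutations fixing the letters outside `D b`;
`H = S KK`:

* `notMem_of_inv` : `oo b ∉ s b`;
* `fix_of_mem` : `h ∈ H`, `z^h` fixed by `S` ⟹ `z^h = z`;
* `tv_of_ne` : `h ∈ H`, `z^h ≠ z` ⟹ there is a transvection `t ∈ S` with `t^h ∉ S`;
* **`act_of`** : if some component of `z` is `≠ 1`, then an active `P` moves `z`.
-/

set_option autoImplicit false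
set_option linter.unusedSectionVars false

namespace Cfsg.Agent.Omega.NOThreeL.RRed.MvLet

open Subgroup Cfsg Cfsg.Agent.ZN Cfsg.Agent.Omega.MinPar
open Cfsg.Agent.Omega.KL.TwoS (Rel Lett)
open Cfsg.Agent.Omega.NOThreeL.RRed.TvFin (Full TvV)
open Cfsg.Agent.Omega.NOThreeL.RRed.Blk (Dec Co IsC)
open Cfsg.Agent.Omega.NOThreeL.RTree (RB)
open Cfsg.Agent.Omega.NOThreeL.Merge (MZ)
open Cfsg.Agent.Omega.NOThreeL.RRed.WideTree (Act)
open Cfsg.Agent.Omega.FFThm (ElemM)
open scoped Pointwise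

universe u

variable {G : Type u} [Group G]

section letters

variable {Ω : Type u} [Fintype Ω] [DecidableEq Ω] {V R T : Subgroup G} {φ : Finset Ω → G}

omit [Fintype Ω] [DecidableEq Ω] in
theorem map_one' (s : Finset Ω) : s.map (1 : Equiv.Perm Ω).toEmbedding = s := by
  have e : (1 : Equiv.Perm Ω).toEmbedding = Function.Embedding.refl Ω := by
    ext x
    simp
  rw [e, Finset.map_refl]

/-- an even `T`-invariant set of letters does not contain the only fixed letter of the 2-group `T` -/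
theorem notMem_of_inv (L : Lett V R φ) (h3 : 3 ≤ Fintype.card Ω) (hTR : T ≤ R) (hT : IsPGroup 2 T) {o : Ω}
    (ho : ∀ x, x ≠ o → ∃ t ∈ T, ∃ σ, Rel φ t σ ∧ σ x ≠ x) {s : Finset Ω} (hs : Even s.card)
    (hi : ∀ t ∈ T, ∀ σ : Equiv.Perm Ω, Rel φ t σ → s.map σ.toEmbedding = s) : o ∉ s := by
  classical
  obtain ⟨f, hf⟩ := Blk.exists_hom L h3 hTR
  let _ : MulAction T Ω := MulAction.compHom Ω f
  have : Fact (Nat.Prime 2) := ⟨Nat.prime_two⟩
  have hsm : ∀ (t : T) (x : Ω), t • x = f t x := fun _ _ => rfl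
  let X : SubMulAction T Ω :=
    { carrier := {x | x ∉ s}
      smul_mem' := by
        intro t x hx hx'
        have h1 := hi t t.2 (f t) (hf t)
        rw [← h1, hsm, Finset.mem_map] at hx'
        obtain ⟨y, hy, e⟩ := hx'
        have : y = x := (f t).injective e
        exact hx (this ▸ hy) }
  have h1 : ¬ 2 ∣ Nat.card X := by
    have e : Nat.card X = Fintype.card Ω - s.card := by
      have e1 : Nat.card X = Nat.card {x : Ω // x ∈ sᶜ} := by
        refine Nat.card_congr (Equiv.subtypeEquivRight fun x => ?_)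
        rw [Finset.mem_compl]
        rfl
      rw [e1, Nat.card_eq_fintype_card, Fintype.card_coe, Finset.card_compl]
    rw [e]
    have h4 := L.odd
    have h5 : s.card ≤ Fintype.card Ω := Finset.card_le_univ s
    have h6 : Odd (Fintype.card Ω - s.card) := Nat.Odd.sub_even h5 h4 hs
    exact h6.not_two_dvd_nat
  obtain ⟨p, hp⟩ := hT.nonempty_fixed_point_of_prime_not_dvd_card X h1
  have hpo : (p : Ω) = o := by
    by_contra hne
    obtain ⟨t, ht, σ, hσ, hx⟩ := ho _ hne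
    have h2 : σ = f ⟨t, ht⟩ := L.unique h3 hσ (hf ⟨t, ht⟩)
    apply hx
    rw [h2]
    exact congrArg Subtype.val (hp ⟨t, ht⟩)
  rw [← hpo]
  exact p.2

end letters

section full

variable {S M V : Subgroup G} {I : Type u} {N E : I → Subgroup G} {R₀ : Subgroup G} {Om : I → Type u}
    [∀ i, Fintype (Om i)] [∀ i, DecidableEq (Om i)] {phi : ∀ i, Finset (Om i) → G}

/-- The fixed letters of `S`. -/
structure OO (S V : Subgroup G) (E : I → Subgroup G) (phi : ∀ i, Finset (Om i) → G) (oo : ∀ i, Om i) : Prop where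
  fix : ∀ i, ∀ g ∈ S ⊓ E i, ∀ σ, Rel (phi i) g σ → σ (oo i) = oo i
  sw : ∀ i x, x ≠ oo i → ∃ y, y ≠ x ∧ y ≠ oo i ∧ ∃ t ∈ S ⊓ E i, Rel (phi i) t (Equiv.swap x y) ∧
    TvV V (phi i {x, y}) t
  cj : ∀ g ∈ S, ∀ (τ : Equiv.Perm I) (σ : ∀ i, Om i ≃ Om (τ i)),
    (∀ i (s : Finset (Om i)), g * phi i s * g⁻¹ = phi (τ i) (s.map (σ i).toEmbedding)) →
      ∀ i, σ i (oo i) = oo (τ i)

/-- `K` : the elements of `M ∩ C(R₀)` acting on all blocks as permutations which fix the letters outside `D` -/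
def KK (M R₀ : Subgroup G) (phi : ∀ i, Finset (Om i) → G) (D : ∀ b, Finset (Om b)) : Subgroup G where
  carrier := {k | k ∈ M ∧ k ∈ centralizer (R₀ : Set G) ∧
    ∀ b, ∃ σ : Equiv.Perm (Om b), Rel (phi b) k σ ∧ ∀ x, x ∉ D b → σ x = x}
  mul_mem' := by
    rintro a b ⟨ha, ha2, ha3⟩ ⟨hb, hb2, hb3⟩
    refine ⟨mul_mem ha hb, mul_mem ha2 hb2, fun c => ?_⟩
    obtain ⟨σ, h1, h2⟩ := ha3 c
    obtain ⟨τ, h3, h4⟩ := hb3 c
    refine ⟨σ * τ, h1.mul h3, fun x hx => ?_⟩
    rw [Equiv.Perm.mul_apply, h4 x hx, h2 x hx]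
  one_mem' := ⟨one_mem _, one_mem _, fun b => ⟨1, Rel.one, fun _ _ => rfl⟩⟩
  inv_mem' := by
    rintro a ⟨ha, ha2, ha3⟩
    refine ⟨inv_mem ha, inv_mem ha2, fun c => ?_⟩
    obtain ⟨σ, h1, h2⟩ := ha3 c
    refine ⟨σ⁻¹, h1.inv, fun x hx => ?_⟩
    rw [Equiv.Perm.inv_eq_iff_eq]
    exact (h2 x hx).symm

theorem mem_KK {D : ∀ b, Finset (Om b)} {k : G} : k ∈ KK M R₀ phi D ↔ k ∈ M ∧ k ∈ centralizer (R₀ : Set G) ∧
    ∀ b, ∃ σ : Equiv.Perm (Om b), Rel (phi b) k σ ∧ ∀ x, x ∉ D b → σ x = x := Iff.rfl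

/-- data of a fixed vector -/
structure ZS (S V : Subgroup G) (N : I → Subgroup G) (R₀ : Subgroup G) (phi : ∀ i, Finset (Om i) → G) (z : G)
    (s : ∀ b, Finset (Om b)) : Prop where
  mem : z ∈ V
  fx : ∀ g ∈ S, g * z * g⁻¹ = z
  ev : ∀ b, Even (s b).card
  co : ∀ b, IsC N R₀ b z (phi b (s b))

/-- `D b = s b ∪ {oo b}` -/
abbrev DD (oo : ∀ b, Om b) (s : ∀ b, Finset (Om b)) : ∀ b, Finset (Om b) := fun b => insert (oo b) (s b)

variable (F : Full S M V N E R₀ Om phi)
include F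

theorem conj_N {b : I} {k : G} {σ : Equiv.Perm (Om b)} (h : Rel (phi b) k σ) : MulAut.conj k • N b = N b := by
  have key : ∀ {k : G} {σ : Equiv.Perm (Om b)}, Rel (phi b) k σ → ∀ x ∈ N b, k * x * k⁻¹ ∈ N b := by
    intro k σ h x hx
    obtain ⟨s, hs, rfl⟩ := ((F.lett b).mem x).1 hx
    rw [h s hs]
    exact ((F.lett b).mem _).2 ⟨_, by rwa [Finset.card_map], rfl⟩
  apply le_antisymm
  · rintro _ ⟨x, hx, rfl⟩
    exact key h x hx
  · intro x hx
    rw [Blk.conj_smul (A := MulAut.conj k • N b) (B := N b) (g := k⁻¹) (by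
      rw [map_inv, inv_smul_smul])]
    exact key h.inv x hx

theorem conj_E {b : I} {k : G} (hk : k ∈ M) (h : MulAut.conj k • N b = N b) {x : G} (hx : x ∈ E b) :
    k * x * k⁻¹ ∈ E b := by
  obtain ⟨c, h1, h2⟩ := F.toDec.perm k hk b
  have hc : c = b := F.toDec.Ninj (by rw [← h1, h])
  subst hc
  exact (Blk.conj_smul h2).1 hx

theorem exists_s {z : G} (hz : z ∈ V) : ∃ s : ∀ b, Finset (Om b), ∀ b, Even (s b).card ∧
    IsC N R₀ b z (phi b (s b)) := by
  have h : ∀ b, ∃ s : Finset (Om b), Even s.card ∧ IsC N R₀ b z (phi b s) := by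
    intro b
    obtain ⟨n, hn⟩ := F.toDec.ex_comp b hz
    obtain ⟨s, hs, rfl⟩ := ((F.lett b).mem n).1 hn.1
    exact ⟨s, hs, hn⟩
  choose s hs using h
  exact ⟨s, hs⟩

/-- components of a fixed vector are invariant -/
theorem s_inv {z : G} {b : I} {s : Finset (Om b)} (hs : Even s.card) (hc : IsC N R₀ b z (phi b s)) {g : G}
    (hg : g ∈ M) {σ : Equiv.Perm (Om b)} (hσ : Rel (phi b) g σ) (hgz : g * z * g⁻¹ = z) :
    s.map σ.toEmbedding = s := by
  have h1 := F.toDec.comp_conj hg (conj_N F hσ) hc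
  rw [hgz, hσ s hs] at h1
  exact (F.lett b).phi_inj (by rwa [Finset.card_map]) hs (F.toDec.uniq h1 hc)

variable {z : G} {s : ∀ b, Finset (Om b)} {oo : ∀ b, Om b}

theorem oo_notMem (hO : OO S V E phi oo) (hS : IsPGroup 2 S) (hz : ZS S V N R₀ phi z s) (b : I) : oo b ∉ s b := by
  refine notMem_of_inv (F.lett b) (F.three b) (T := S ⊓ E b) inf_le_right (hS.to_le inf_le_left) (fun x hx => ?_)
    (hz.ev b) fun t ht σ hσ => s_inv F (hz.ev b) (hz.co b) (F.toDec.SL ht.1) hσ (hz.fx t ht.1)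
  obtain ⟨y, hy, -, t, ht, h1, -⟩ := hO.sw b x hx
  exact ⟨t, ht, _, h1, by rw [Equiv.swap_apply_left]; exact hy⟩

theorem sub_D {b : I} {σ : Equiv.Perm (Om b)} (h : ∀ x, x ∉ DD oo s b → σ x = x) :
    (s b).map σ.toEmbedding ⊆ DD oo s b := by
  intro y hy
  rw [Finset.mem_map] at hy
  obtain ⟨x, hx, rfl⟩ := hy
  by_contra hn
  have h1 := h _ hn
  have h2 : σ x = x := σ.injective h1
  apply hn
  rw [Equiv.toEmbedding_apply, h2]
  exact Finset.mem_insert_of_mem hx

theorem norm_KK (hO : OO S V E phi oo) (hz : ZS S V N R₀ phi z s) : S ≤ normalizer (KK M R₀ phi (DD oo s) : Set G) := by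
  have key : ∀ g ∈ S, ∀ k ∈ KK M R₀ phi (DD oo s), g * k * g⁻¹ ∈ KK M R₀ phi (DD oo s) := by
    intro g hg k hk
    obtain ⟨h1, h2, h3⟩ := mem_KK.1 hk
    have hgM := F.toDec.SL hg
    obtain ⟨τ, σ, e1, -, e3⟩ := F.letters g hgM
    refine mem_KK.2 ⟨mul_mem (mul_mem hgM h1) (inv_mem hgM), ?_, fun c => ?_⟩
    · rw [mem_centralizer_iff] at h2 ⊢
      intro r hr
      have hr' : g⁻¹ * r * g ∈ R₀ := by
        have := Blk.conj_of (F.toDec.Rnor (inv_mem hgM)) hr
        simpa using this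
      have h4 := h2 _ hr'
      calc r * (g * k * g⁻¹) = g * ((g⁻¹ * r * g) * k) * g⁻¹ := by group
        _ = g * k * g⁻¹ * r := by rw [h4]; group
    · obtain ⟨b, rfl⟩ := τ.surjective c
      obtain ⟨ρ, h5, h6⟩ := h3 b
      refine ⟨((σ b).symm.trans ρ).trans (σ b), ?_, ?_⟩
      · intro t ht
        have e4 : t = (t.map (σ b).symm.toEmbedding).map (σ b).toEmbedding := by
          rw [Finset.map_map]
          ext x
          simp
        have ht' : Even (t.map (σ b).symm.toEmbedding).card := by rwa [Finset.card_map]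
        have e5 : g⁻¹ * phi (τ b) t * g = phi b (t.map (σ b).symm.toEmbedding) := by
          have := e3 b (t.map (σ b).symm.toEmbedding)
          rw [← e4] at this
          rw [← this]; group
        calc g * k * g⁻¹ * phi (τ b) t * (g * k * g⁻¹)⁻¹ = g * (k * (g⁻¹ * phi (τ b) t * g) * k⁻¹) * g⁻¹ := by group
          _ = _ := by
            rw [e5, h5 _ ht', e3, Finset.map_map, Finset.map_map]
            rfl
      · intro x hx
        have hx' : (σ b).symm x ∉ DD oo s b := by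
          intro hm
          apply hx
          rcases Finset.mem_insert.1 hm with h7 | h7
          · have h8 : x = σ b (oo b) := by rw [← h7]; simp
            rw [h8, hO.cj g hg τ σ e3 b]
            exact Finset.mem_insert_self _ _
          · have h8 : (s b).map (σ b).toEmbedding = s (τ b) := by
              have h9 := F.toDec.comp_conj hgM (e1 b) (hz.co b)
              rw [hz.fx g hg, e3] at h9
              exact (F.lett (τ b)).phi_inj (by rw [Finset.card_map]; exact hz.ev b) (hz.ev _)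
                (F.toDec.uniq h9 (hz.co (τ b)))
            refine Finset.mem_insert_of_mem ?_
            rw [← h8, Finset.mem_map]
            exact ⟨_, h7, by simp⟩
        simp only [Equiv.trans_apply]
        rw [h6 _ hx']
        simp
  intro g hg
  rw [mem_normalizer_iff]
  intro k
  refine ⟨key g hg k, fun h => ?_⟩
  have := key g⁻¹ (inv_mem hg) _ h
  have e : g⁻¹ * (g * k * g⁻¹) * g⁻¹⁻¹ = k := by group
  rwa [e] at this

/-- `k ∈ K` with all `s b` invariant fixes `z` -/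
theorem fix_of_s [Finite I] (hz : ZS S V N R₀ phi z s) {k : G} (hk : k ∈ KK M R₀ phi (DD oo s))
    (h : ∀ b, ∀ σ : Equiv.Perm (Om b), Rel (phi b) k σ → (s b).map σ.toEmbedding = s b) : k * z * k⁻¹ = z := by
  obtain ⟨h1, h2, h3⟩ := mem_KK.1 hk
  have hS : ∀ g ∈ S, g * z = z * g := fun g hg => by
    have := hz.fx g hg
    calc g * z = (g * z * g⁻¹) * g := by group
      _ = z * g := by rw [this]
  obtain ⟨e, he, r, hr, hzr, -, -⟩ := F.toDec.fix_split hz.mem hS
  have hr1 : k * r * k⁻¹ = r := Blk.cent h2 hr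
  have hce : ∀ b, IsC N R₀ b e (phi b (s b)) := by
    intro b
    have h4 := F.toDec.comp_mul (hz.co b) (F.toDec.comp_inv (F.toDec.comp_one (F.toDec.R_le_Co b hr)))
    rw [hzr, mul_inv_cancel_right, inv_one, mul_one] at h4
    exact h4
  have he1 : k * e * k⁻¹ = e := by
    refine F.toDec.ext (F.toDec.conj_mem_B h1 he) he fun b => ⟨phi b (s b), ?_, hce b⟩
    obtain ⟨σ, hσ, -⟩ := h3 b
    have h5 := F.toDec.comp_conj h1 (conj_N F hσ) (hce b)
    rwa [hσ _ (hz.ev b), h b σ hσ] at h5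
  calc k * z * k⁻¹ = (k * e * k⁻¹) * (k * r * k⁻¹) := by rw [hzr]; group
    _ = z := by rw [he1, hr1, hzr]

/-- `k ∈ K`, `z^k ∈ C(S)` ⟹ `z^k = z` -/
theorem fix_K [Finite I] (hO : OO S V E phi oo) (hS : IsPGroup 2 S) (hz : ZS S V N R₀ phi z s) {k : G}
    (hk : k ∈ KK M R₀ phi (DD oo s)) (hkz : ∀ g ∈ S, g * (k * z * k⁻¹) * g⁻¹ = k * z * k⁻¹) : k * z * k⁻¹ = z := by
  obtain ⟨h1, h2, h3⟩ := mem_KK.1 hk
  refine fix_of_s F hz hk fun b σ hσ => ?_
  obtain ⟨σ', hσ', hD⟩ := h3 b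
  have e : σ = σ' := (F.lett b).unique (F.three b) hσ hσ'
  subst e
  have hA : (s b).map σ.toEmbedding ⊆ DD oo s b := sub_D F hD
  have hcard : ((s b).map σ.toEmbedding).card = (s b).card := Finset.card_map _
  have hev : Even ((s b).map σ.toEmbedding).card := by rw [hcard]; exact hz.ev b
  have hc := F.toDec.comp_conj h1 (conj_N F hσ) (hz.co b)
  rw [hσ _ (hz.ev b)] at hc
  have hoo : oo b ∉ (s b).map σ.toEmbedding := by
    refine notMem_of_inv (F.lett b) (F.three b) (T := S ⊓ E b) inf_le_right (hS.to_le inf_le_left) (fun x hx => ?_)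
      hev fun t ht ρ hρ => s_inv F hev hc (F.toDec.SL ht.1) hρ (hkz t ht.1)
    obtain ⟨y, hy, -, t, ht, h4, -⟩ := hO.sw b x hx
    exact ⟨t, ht, _, h4, by rw [Equiv.swap_apply_left]; exact hy⟩
  refine Finset.eq_of_subset_of_card_le (fun x hx => ?_) hcard.ge
  rcases Finset.mem_insert.1 (hA hx) with h5 | h5
  · exact absurd (h5 ▸ hx) hoo
  · exact h5

/-- `k ∈ K`, `z^k ≠ z` ⟹ some transvection `t ∈ S` has `t^k ∉ S` -/
theorem tv_K [Finite I] (hO : OO S V E phi oo) (hS : IsPGroup 2 S) (hz : ZS S V N R₀ phi z s) {k : G}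
    (hk : k ∈ KK M R₀ phi (DD oo s)) (hkz : k * z * k⁻¹ ≠ z) :
    ∃ t ∈ S, ∃ c ∈ V, TvV V c t ∧ t ∉ centralizer (V : Set G) ∧ k * t * k⁻¹ ∉ S := by
  obtain ⟨h1, h2, h3⟩ := mem_KK.1 hk
  have hb : ∃ b, ∃ σ : Equiv.Perm (Om b), Rel (phi b) k σ ∧ (s b).map σ.toEmbedding ≠ s b := by
    by_contra hcon
    push Not at hcon
    exact hkz (fix_of_s F hz hk hcon)
  obtain ⟨b, σ, hσ, hne⟩ := hb
  obtain ⟨σ', hσ', hD⟩ := h3 b
  have e : σ = σ' := (F.lett b).unique (F.three b) hσ hσ'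
  subst e
  have hA : (s b).map σ.toEmbedding ⊆ DD oo s b := sub_D F hD
  have hcard : ((s b).map σ.toEmbedding).card = (s b).card := Finset.card_map _
  have hoo : oo b ∈ (s b).map σ.toEmbedding := by
    by_contra hn
    refine hne (Finset.eq_of_subset_of_card_le (fun x hx => ?_) hcard.ge)
    rcases Finset.mem_insert.1 (hA hx) with h5 | h5
    · exact absurd (h5 ▸ hx) hn
    · exact h5
  rw [Finset.mem_map] at hoo
  obtain ⟨x, hx, hxo⟩ := hoo
  rw [Equiv.toEmbedding_apply] at hxo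
  have hxne : x ≠ oo b := fun e => oo_notMem F hO hS hz b (e ▸ hx)
  obtain ⟨y, hyx, hyo, t, ht, hR, hT⟩ := hO.sw b x hxne
  refine ⟨t, ht.1, phi b {x, y}, ?_, hT, ?_, ?_⟩
  · refine F.toDec.NU b (((F.lett b).mem _).2 ⟨{x, y}, ?_, rfl⟩)
    rw [Finset.card_pair hyx.symm]; exact even_two
  · intro hc
    have h5 : Rel (phi b) t (1 : Equiv.Perm (Om b)) := by
      intro w hw
      have h6 : phi b w ∈ V := F.toDec.NU b (((F.lett b).mem _).2 ⟨w, hw, rfl⟩)
      rw [Blk.cent hc h6, map_one']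
    have h6 := (F.lett b).unique (F.three b) hR h5
    have h7 : Equiv.swap x y x = x := by rw [h6]; rfl
    rw [Equiv.swap_apply_left] at h7
    exact hyx h7
  · intro hcon
    have h5 : k * t * k⁻¹ ∈ S ⊓ E b := mem_inf.2 ⟨hcon, conj_E F h1 (conj_N F hσ) ht.2⟩
    have h6 : Rel (phi b) (k * t * k⁻¹) (σ * Equiv.swap x y * σ⁻¹) := (hσ.mul hR).mul hσ.inv
    have h7 := hO.fix b _ h5 _ h6
    have h8 : σ⁻¹ (oo b) = x := by rw [← hxo]; simp
    rw [Equiv.Perm.mul_apply, Equiv.Perm.mul_apply, h8, Equiv.swap_apply_left, ← hxo] at h7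
    exact hyx (σ.injective h7)

/-- some `k ∈ K` moves `z` -/
theorem exists_mv (hO : OO S V E phi oo) (hS : IsPGroup 2 S) (hz : ZS S V N R₀ phi z s) {b : I} (hb : (s b).Nonempty) :
    ∃ k ∈ KK M R₀ phi (DD oo s), k * z * k⁻¹ ≠ z := by
  obtain ⟨x, hx⟩ := hb
  obtain ⟨k, hk, hR⟩ := (F.lett b).all (Equiv.swap x (oo b))
  have hkM := F.toDec.EL b hk
  refine ⟨k, mem_KK.2 ⟨hkM, F.toDec.ER b hk, fun c => ?_⟩, fun hcon => ?_⟩
  · by_cases hcb : b = c
    · subst hcb
      refine ⟨_, hR, fun y hy => ?_⟩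
      rw [Finset.mem_insert, not_or] at hy
      exact Equiv.swap_apply_of_ne_of_ne (fun e => hy.2 (e ▸ hx)) hy.1
    · refine ⟨1, fun w hw => ?_, fun _ _ => rfl⟩
      have h6 : phi c w ∈ N c := ((F.lett c).mem _).2 ⟨w, hw, rfl⟩
      rw [Blk.cent (F.toDec.EC b c hcb hk) h6, map_one']
  · have h1 := s_inv F (hz.ev b) (hz.co b) hkM hR hcon
    apply oo_notMem F hO hS hz b
    rw [← h1, Finset.mem_map]
    exact ⟨x, hx, by simp⟩

end full

/-! ### The active parabolic -/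

section act

theorem mx_of_tv [Finite G] {S : Sylow 2 G} (B : RB S) {t c : G} (ht : t ∈ (S : Subgroup G))
    (hc : c ∈ Wd (S : Subgroup G)) (hT : TvV (Wd (S : Subgroup G)) c t)
    (hn : t ∉ centralizer (Wd (S : Subgroup G) : Set G)) : Mx (Wd (S : Subgroup G)) (zpowers t) := by
  have hcm := wcomm B
  have hsq := wsq B
  generalize hV : Wd (S : Subgroup G) = V at *
  have hcc : c * c = 1 := hsq c hc
  have hc1 : c ≠ 1 := by
    rintro rfl
    apply hn
    rw [mem_centralizer_iff]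
    intro v hv
    have h1 : t * v * t⁻¹ = v := by
      rcases hT v hv with h | h
      · exact h
      · rw [h, mul_one]
    calc v * t = (t * v * t⁻¹) * t := by rw [h1]
      _ = t * v := by group
  have htc : t * c * t⁻¹ = c := by
    rcases hT c hc with h | h
    · exact h
    · rw [hcc] at h
      exact absurd (by simpa using h) hc1
  have hmul : ∀ v, t * (v * c) * t⁻¹ = (t * v * t⁻¹) * c := by
    intro v
    calc t * (v * c) * t⁻¹ = (t * v * t⁻¹) * (t * c * t⁻¹) := by group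
      _ = _ := by rw [htc]
  have ht2 : t ^ 2 ∈ centralizer (V : Set G) := by
    rw [mem_centralizer_iff]
    intro v hv
    have h1 : t * (t * v * t⁻¹) * t⁻¹ = v := by
      rcases hT v hv with h | h
      · rw [h, h]
      · rw [h, hmul, h, mul_assoc, hcc, mul_one]
    calc v * t ^ 2 = (t * (t * v * t⁻¹) * t⁻¹) * (t * t) := by rw [h1, pow_two]
      _ = (t * t) * v := by group
      _ = t ^ 2 * v := by rw [pow_two]
  obtain ⟨a, ha, hta⟩ : ∃ a ∈ V, t * a * t⁻¹ = a * c := by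
    by_contra hcon
    push Not at hcon
    apply hn
    rw [mem_centralizer_iff]
    intro v hv
    have h1 : t * v * t⁻¹ = v := (hT v hv).resolve_right (hcon v hv)
    calc v * t = (t * v * t⁻¹) * t := by rw [h1]
      _ = t * v := by group
  have hA2 : ((centralizer (V : Set G) : Subgroup G)).relIndex (zpowers t) = 2 := by
    rw [relIndex_eq_two_iff_exists_notMem_and]
    refine ⟨t, mem_zpowers t, hn, fun b hb => ?_⟩
    obtain ⟨n, rfl⟩ := mem_zpowers_iff.1 hb
    rcases Int.even_or_odd' n with ⟨m, rfl | rfl⟩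
    · right
      rw [zpow_mul]
      exact zpow_mem (by exact_mod_cast ht2) m
    · left
      have e : t ^ (2 * m + 1) * t = (t ^ (2 : ℤ)) ^ (m + 1) := by
        rw [← zpow_add_one, ← zpow_mul]; congr 1; ring
      rw [e]
      exact zpow_mem (by exact_mod_cast ht2) (m + 1)
  have hmemC : ∀ v, v ∈ centralizer (zpowers t : Set G) ↔ t * v * t⁻¹ = v := by
    intro v
    rw [mem_centralizer_iff]
    constructor
    · intro h
      rw [h t (mem_zpowers t)]; group
    · rintro h x hx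
      obtain ⟨n, rfl⟩ := mem_zpowers_iff.1 hx
      have h1 : Commute t v := by
        change t * v = v * t
        calc t * v = (t * v * t⁻¹) * t := by group
          _ = v * t := by rw [h]
      exact (h1.zpow_left n).eq
  have hV2 : ((centralizer (zpowers t : Set G) : Subgroup G)).relIndex V = 2 := by
    rw [relIndex_eq_two_iff_exists_notMem_and]
    refine ⟨a, ha, ?_, fun b hb => ?_⟩
    · rw [hmemC, hta]
      intro h
      exact hc1 (by simpa using h)
    · rw [hmemC, hmemC]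
      rcases hT b hb with h | h
      · exact Or.inr h
      · left
        calc t * (b * a) * t⁻¹ = (t * b * t⁻¹) * (t * a * t⁻¹) := by group
          _ = b * (c * a) * c := by rw [h, hta]; group
          _ = b * a := by rw [hcm c hc a ha, ← mul_assoc, mul_assoc, hcc, mul_one]
  have hcA := Cfsg.Agent.Lib.SylowNormalInf.card_inf_mul_relIndex (centralizer (V : Set G)) (zpowers t)
  have hcV := Cfsg.Agent.Lib.SylowNormalInf.card_inf_mul_relIndex (centralizer (zpowers t : Set G)) V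
  rw [hA2] at hcA
  rw [hV2] at hcV
  rw [inf_comm] at hcA hcV
  refine { sq := ?_, comm := ?_, pg := ?_, ne := ?_, exact := ?_, min := ?_ }
  · intro x hx
    obtain ⟨n, rfl⟩ := mem_zpowers_iff.1 hx
    have e : (t ^ n) ^ 2 = (t ^ 2) ^ n := by
      rw [← zpow_natCast, ← zpow_mul, ← zpow_natCast, ← zpow_mul, mul_comm]
    rw [e]
    exact zpow_mem ht2 n
  · intro x hx y hy
    obtain ⟨n, rfl⟩ := mem_zpowers_iff.1 hx
    obtain ⟨m, rfl⟩ := mem_zpowers_iff.1 hy
    have h1 : t ^ n * t ^ m = t ^ m * t ^ n := by rw [← zpow_add, ← zpow_add, add_comm]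
    have e : t ^ n * t ^ m * (t ^ n)⁻¹ * (t ^ m)⁻¹ = 1 := by rw [h1]; group
    rw [e]
    exact one_mem _
  · exact S.isPGroup'.to_le (by rwa [zpowers_le])
  · exact fun hle => hn (hle (mem_zpowers t))
  · rw [← hcA, ← hcV]; ring
  · intro D hD _ hCD
    by_cases hDC : D ≤ centralizer (V : Set G)
    · exact Or.inl hDC
    · right
      obtain ⟨d, hd, hdC⟩ := SetLike.not_le_iff_exists.1 hDC
      refine le_antisymm hD ?_
      rw [zpowers_le]
      obtain ⟨n, rfl⟩ := mem_zpowers_iff.1 (hD hd)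
      rcases Int.even_or_odd' n with ⟨m, rfl | rfl⟩
      · exfalso
        apply hdC
        rw [zpow_mul]
        exact zpow_mem (by exact_mod_cast ht2) m
      · have h1 : t ^ (2 * m) ∈ D := by
          refine hCD (mem_inf.2 ⟨zpow_mem (mem_zpowers t) _, ?_⟩)
          rw [zpow_mul]
          exact zpow_mem (by exact_mod_cast ht2) m
        have e : t = (t ^ (2 * m))⁻¹ * t ^ (2 * m + 1) := by
          rw [← zpow_neg, ← zpow_add]
          simp
        rw [e]
        exact mul_mem (inv_mem h1) hd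

theorem act_of_H [Finite G] {S : Sylow 2 G} (B : RB S) {z : G} (hz : z ∈ zc (S : Subgroup G)) {H : Subgroup G}
    (SH : (S : Subgroup G) ≤ H) (HM : H ≤ MZ (S : Subgroup G))
    (fix : ∀ h ∈ H, h * z * h⁻¹ ∈ zc (S : Subgroup G) → h * z * h⁻¹ = z) (mv : ∃ h ∈ H, h * z * h⁻¹ ≠ z)
    (tv : ∀ h ∈ H, h * z * h⁻¹ ≠ z → ∃ t ∈ (S : Subgroup G), ∃ c ∈ Wd (S : Subgroup G),
      TvV (Wd (S : Subgroup G)) c t ∧ t ∉ centralizer (Wd (S : Subgroup G) : Set G) ∧ h * t * h⁻¹ ∉ (S : Subgroup G)) :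
    ∃ P, Act (S : Subgroup G) P ∧ ¬ P ≤ centralizer ({z} : Set G) := by
  have hcz : ∀ g, g ∈ centralizer ({z} : Set G) ↔ g * z * g⁻¹ = z := by
    intro g
    rw [mem_centralizer_singleton_iff, mul_inv_eq_iff_eq_mul]
  have hL : IsLoc (S : Subgroup G) H :=
    (Merge.isLoc_MZ B.ctx B.full B.data.noff).of_le S SH HM
  obtain ⟨P, hP, hPH, hPz⟩ := hL.exists_not_le S (M := centralizer ({z} : Set G))
    (fun g hg => (hcz g).2 (fix g hg.1 (conj_zc hg.2 hz))) (by
      obtain ⟨h, hh, hm⟩ := mv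
      exact fun hle => hm ((hcz h).1 (hle hh)))
  have hPS : IsParS (S : Subgroup G) P := by
    refine ⟨hP, fun hn => hPz fun p hp => (hcz p).2 (fix p (hPH hp) ?_)⟩
    exact (mem_normalizer_iff.1 (hn hp) z).1 hz
  refine ⟨P, ⟨hPS, ?_⟩, hPz⟩
  obtain ⟨p, hp, hpz⟩ : ∃ p ∈ P, ¬ p * z * p⁻¹ = z := by
    by_contra hcon
    push Not at hcon
    exact hPz fun p hp => (hcz p).2 (hcon p hp)
  obtain ⟨t, ht, c, hc, hT, hn, hS⟩ := tv p (hPH hp) hpz
  refine ⟨zpowers t, by rwa [zpowers_le], mx_of_tv B ht hc hT hn, fun hle => hS ?_⟩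
  have h1 : t ∈ o2 P := hle (mem_zpowers t)
  have h2 : p * t * p⁻¹ ∈ o2 P := (mem_normalizer_iff.1 (le_normalizer_o2 P hp) t).1 h1
  exact hPS.isLoc.o2_le S h2

variable {I : Type u} {N E : I → Subgroup G} {R₀ : Subgroup G} {Om : I → Type u}
    [∀ i, Fintype (Om i)] [∀ i, DecidableEq (Om i)] {phi : ∀ i, Finset (Om i) → G}

/-- **(M3l)** : `z ∈ Z` with a non-trivial component in a letters block is moved by an active minimal parabolic
(given the fixed letters `oo`). -/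
theorem act_of [Finite G] [Finite I] {S : Sylow 2 G} (B : RB S)
    (F : Full (S : Subgroup G) (MZ (S : Subgroup G)) (Wd (S : Subgroup G)) N E R₀ Om phi) {oo : ∀ i, Om i}
    (hO : OO (S : Subgroup G) (Wd (S : Subgroup G)) E phi oo) {z : G} (hz : z ∈ zc (S : Subgroup G)) {b : I} {n : G}
    (hn : IsC N R₀ b z n) (hne : n ≠ 1) :
    ∃ P, Act (S : Subgroup G) P ∧ ¬ P ≤ centralizer ({z} : Set G) := by
  have hfx : ∀ g ∈ (S : Subgroup G), ∀ w ∈ zc (S : Subgroup G), g * w * g⁻¹ = w := fun g hg w hw => by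
    rw [(mem_zc.1 hw).2.1 g hg]; group
  obtain ⟨s, hs⟩ := exists_s F (zc_le_Wd _ hz)
  have hZ : ZS (S : Subgroup G) (Wd (S : Subgroup G)) N R₀ phi z s :=
    ⟨zc_le_Wd _ hz, fun g hg => hfx g hg z hz, fun b => (hs b).1, fun b => (hs b).2⟩
  have hb : (s b).Nonempty := by
    rw [Finset.nonempty_iff_ne_empty]
    intro h0
    apply hne
    rw [F.toDec.uniq hn (hZ.co b), h0, (F.lett b).phi_empty]
  have hSK := norm_KK F hO hZ
  have hmul : ∀ h ∈ (S : Subgroup G) ⊔ KK (MZ (S : Subgroup G)) R₀ phi (DD oo s), ∃ g ∈ (S : Subgroup G),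
      ∃ k ∈ KK (MZ (S : Subgroup G)) R₀ phi (DD oo s), h = g * k := fun h hh => Blk.mem_sup_of hSK hh
  refine act_of_H B hz (H := (S : Subgroup G) ⊔ KK (MZ (S : Subgroup G)) R₀ phi (DD oo s)) le_sup_left
    (sup_le F.toDec.SL fun k hk => (mem_KK.1 hk).1) ?_ ?_ ?_
  · intro h hh hhz
    obtain ⟨g, hg, k, hk, rfl⟩ := hmul h hh
    have e1 : g * k * z * (g * k)⁻¹ = g * (k * z * k⁻¹) * g⁻¹ := by group
    rw [e1] at hhz ⊢
    have e2 : k * z * k⁻¹ = g * (k * z * k⁻¹) * g⁻¹ := by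
      have := hfx g⁻¹ (inv_mem hg) _ hhz
      calc k * z * k⁻¹ = g⁻¹ * (g * (k * z * k⁻¹) * g⁻¹) * g⁻¹⁻¹ := by group
        _ = _ := this
    rw [← e2] at hhz ⊢
    exact fix_K F hO S.isPGroup' hZ hk fun g hg => hfx g hg _ hhz
  · obtain ⟨k, hk, h⟩ := exists_mv F hO S.isPGroup' hZ hb
    exact ⟨k, mem_sup_right hk, h⟩
  · intro h hh hhz
    obtain ⟨g, hg, k, hk, rfl⟩ := hmul h hh
    have hkz : k * z * k⁻¹ ≠ z := by
      intro e
      apply hhz
      calc g * k * z * (g * k)⁻¹ = g * (k * z * k⁻¹) * g⁻¹ := by group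
        _ = z := by rw [e, hfx g hg z hz]
    obtain ⟨t, ht, c, hc, hT, hn', hnS⟩ := tv_K F hO S.isPGroup' hZ hk hkz
    refine ⟨t, ht, c, hc, hT, hn', fun hcon => hnS ?_⟩
    have e : k * t * k⁻¹ = g⁻¹ * (g * k * t * (g * k)⁻¹) * g := by group
    rw [e]
    exact mul_mem (mul_mem (inv_mem hg) hcon) hg

end act

end Cfsg.Agent.Omega.NOThreeL.RRed.MvLet
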