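import Cfsg.Agent.Omega.KL.TwoZ.NF
import Cfsg.Agent.Omega.NOThreeL.RRed.InstZ

/-!
# NO-3L, box R: input of the instance of 401's frame `KL.TwoZ.NF` (definition only)

`Nat1 S V` : in coordinates, `V i = F²`, `V i ∩ Z = F × 0`, one `P ∈ P*(S)` in `C_G(Z_(i+1))` acts as `SL₂(F)`; every
`R ∈ P*(S)` which moves `Z_i` centralises no element of `Z_i#`; `N_G(S)` permutes the two blocks.
-/

set_option autoImplicit false

namespace Cfsg.Agent.Omega.NOThreeL.RRed.InstZ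

open Subgroup Cfsg Cfsg.Agent.ZN Cfsg.Agent.Omega.MinPar Cfsg.Agent.Omega.Frame Cfsg.Agent.Omega.FrameNOFF
open Cfsg.Agent.Omega.Node.NO3L Cfsg.Agent.Omega.NOThreeL.Basic
open Cfsg.Agent.Omega.KL.TwoZ (NatSL ActSL)
open scoped Pointwise

universe u

variable {G : Type u} [Group G]

/-- **both blocks natural `SL₂(q_i)`-modules**, in coordinates -/
structure Nat1 [Finite G] (S : Sylow 2 G) (V : Fin 2 → Subgroup G) : Prop where
  ex : ∀ i, ∃ (F : Type) (_ : Field F) (_ : Finite F) (e : (Fin 2 → F) → G) (P : Subgroup G),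
    NatSL F e (V i) (ZZ (S : Subgroup G) V i) ∧ IsParS (S : Subgroup G) P ∧
      P ≤ centralizer (ZZ (S : Subgroup G) V (i + 1) : Set G) ∧ ActSL F e P
  mvs : ∀ i, ∀ R, IsParS (S : Subgroup G) R → ¬ R ≤ centralizer (ZZ (S : Subgroup G) V i : Set G) →
    ∀ z ∈ ZZ (S : Subgroup G) V i, z ≠ 1 → ¬ R ≤ centralizer ({z} : Set G)
  nV : ∀ n ∈ normalizer ((S : Subgroup G) : Set G), (∀ i, MulAut.conj n • V i = V i) ∨
    ∀ i, MulAut.conj n • V i = V (i + 1)

end Cfsg.Agent.Omega.NOThreeL.RRed.InstZ
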