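import Cfsg.Agent.Omega.NOThreeL.RRed.Nat1Par
import Cfsg.Agent.Omega.NOThreeL.RRed.ClassMod

/-!
# NO-3L, box R: `InstZ.Nat1` from the `P`-local data (#25082)

* **`nat1_of`** : for each `i` one `P ∈ P*(S)` in `C_G(Z_(i+1))` with `V_P = V i × C_(V_P)(O²(P))`, `|V i| = |Z_i|²`, every
  `R ∈ P*(S)` which moves `Z_i` has `V i ∩ C_(V_R)(O²(R)) = 1`: then `Nat1 S V`;
* `splitBy_of` : `SplitBy` from `V i ≤ V_P`, `V i ∩ C(O²(P)) = 1`, `P` normalises `V i`, `Z = Z_i C_Z(P)`.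
-/

set_option autoImplicit false
set_option linter.unusedSectionVars false

namespace Cfsg.Agent.Omega.NOThreeL.RRed.Nat1Of

open Subgroup Cfsg Cfsg.Agent.ZN Cfsg.Agent.Omega.MinPar
open Cfsg.Agent.Omega.FFThm (ConclM)
open Cfsg.Agent.Omega.FrameFF (cv)
open Cfsg.Agent.Omega.KL.TwoZ (NatSL ActSL)
open Cfsg.Agent.Omega.NOThreeL.RRed.InstZ (Nat1 ZZ)
open Cfsg.Agent.Omega.NOThreeL.RTreeA (SplitBy)
open Cfsg.Agent.MinSimple.VModule (zc_le_zl oddGen)
open scoped Pointwise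

universe u

variable {G : Type u} [Group G]

/-- `C_Z(P) ≤ C_(V_P)(O²(P))` -/
theorem mem_cv_of [Finite G] {S R : Subgroup G} {z : G} (hz : z ∈ zc S) (hR : R ≤ centralizer ({z} : Set G)) :
    z ∈ cv S R := by
  refine mem_inf.2 ⟨zc_le_zl S R hz, mem_centralizer_iff.2 fun x hx => ?_⟩
  have h1 : oddGen R ≤ centralizer ({z} : Set G) := by
    rw [MinSimple.VModule.oddGen_def, closure_le]
    rintro g ⟨hg, -⟩
    exact hR hg
  exact (mem_centralizer_singleton_iff.1 (h1 hx))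

/-- `Z = (W ∩ Z) C_Z(P)` and `W ∩ C_(V_P)(O²(P)) = 1` give the splitting. -/
theorem splitBy_of [Finite G] {S P W : Subgroup G} (h1 : W ≤ zl S P) (h2 : P ≤ normalizer (W : Set G))
    (h3 : W ⊓ cv S P = ⊥)
    (h4 : ∀ z ∈ zc S, ∃ w ∈ W, ∃ y ∈ zc S, P ≤ centralizer ({y} : Set G) ∧ z = w * y) :
    SplitBy S P (cv S P) W := by
  refine ⟨h1, h2, h3, ?_⟩
  have hn : P ≤ normalizer ((W ⊔ cv S P : Subgroup G) : Set G) := by
    have h5 : P ≤ normalizer (cv S P : Set G) := by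
      intro g hg
      rw [mem_normalizer_iff]
      intro x
      constructor
      · intro hx
        exact RRed.Blk.SplitTwo.conj_cv hg hx
      · intro hx
        have h6 := RRed.Blk.SplitTwo.conj_cv (S := S) (P := P) (inv_mem hg) hx
        have e : g⁻¹ * (g * x * g⁻¹) * g⁻¹⁻¹ = x := by group
        rwa [e] at h6
    exact RRed.CM.norm_sup h2 h5
  refine MinSimple.VModule.zl_le (fun z hz => ?_) hn
  obtain ⟨w, hw, y, hy, hP, rfl⟩ := h4 z hz
  exact mul_mem (mem_sup_left hw) (mem_sup_right (mem_cv_of hy hP))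

/-- **`Nat1` from the `P`-local data.** -/
theorem nat1_of [Finite G] (hG : IsCharacteristicTwoType G) {S : Sylow 2 G} {V : Fin 2 → Subgroup G}
    (hex : ∀ i, ∃ P, IsParS (S : Subgroup G) P ∧ P ≤ centralizer (ZZ (S : Subgroup G) V (i + 1) : Set G) ∧
      ConclM (S : Subgroup G) P ∧ SplitBy (S : Subgroup G) P (cv (S : Subgroup G) P) (V i))
    (hc : ∀ i, Nat.card (V i) = Nat.card ↥(ZZ (S : Subgroup G) V i) * Nat.card ↥(ZZ (S : Subgroup G) V i))
    (hmv : ∀ i, ∀ R, IsParS (S : Subgroup G) R → ¬ R ≤ centralizer (ZZ (S : Subgroup G) V i : Set G) →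
      V i ⊓ cv (S : Subgroup G) R = ⊥)
    (nV : ∀ n ∈ normalizer ((S : Subgroup G) : Set G), (∀ i, MulAut.conj n • V i = V i) ∨
      ∀ i, MulAut.conj n • V i = V (i + 1)) : Nat1 S V where
  ex i := by
    obtain ⟨P, hP, hPC, hcon, hsp⟩ := hex i
    obtain ⟨F, i1, i2, e, h1, h2⟩ := Nat1Par.exists_nat hG hP hcon hsp (hc i)
    exact ⟨F, i1, i2, e, P, h1, hP, hPC, h2⟩
  mvs i R hR hRn z hz hz1 hRz := by
    have h1 : z ∈ V i ⊓ cv (S : Subgroup G) R := ⟨hz.1, mem_cv_of hz.2 hRz⟩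
    rw [hmv i R hR hRn, mem_bot] at h1
    exact hz1 h1
  nV := nV

end Cfsg.Agent.Omega.NOThreeL.RRed.Nat1Of
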