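import Cfsg.Agent.Omega.NOThreeL.RRed.Nat1Def
import Cfsg.Agent.Omega.NOThreeL.RRed.Blk.SplitAll
import Cfsg.Agent.Omega.IId.SwCv.Spl
import Cfsg.Agent.Omega.NOThreeL.VF.Nat

/-!
# NO-3L, box R: one natural block (the `P`-local part of `InstZ.Nat1`, #25082)

`P ∈ P*(S)` with the conclusion of the FF theorem, `V_P = W × C_(V_P)(O²(P))`, `|W| = |W ∩ Z|²`.

* `Nt.k_one`, `Nt.pt` : natural modules: one block, `W ∩ Z` is the line;
* `Nt.act` : `S` acts on `W` as the group of upper unitriangular matrices, `P` as `SL₂(F)`;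
* `not_sym` : `V_P / C_(V_P)(O²(P))` is not a sum of even-subset modules;
* **`exists_nat`** : coordinates `NatSL F e W (W ∩ Z)`, `ActSL F e P`.
-/

set_option autoImplicit false
set_option linter.unusedSectionVars false

namespace Cfsg.Agent.Omega.NOThreeL.RRed.Nat1Par

open Subgroup Cfsg Cfsg.Agent.ZN Cfsg.Agent.Omega.MinPar
open Cfsg.Agent.Omega.FFThm (NatKM SymKM NatK SymK ActsSL ActsSym ConclM)
open Cfsg.Agent.Omega.FrameFF (cv)
open Cfsg.Agent.Omega.NatPair (ap)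
open Cfsg.Agent.Omega.KL.TwoZ (NatSL ActSL)
open Cfsg.Agent.Omega.NOThreeL.VF.Nat (ap_up_0 ap_up_1 ext2')
open Cfsg.Agent.Lib.SL2Mat
open scoped Pointwise

universe u

variable {G : Type u} [Group G]

/-- `W` is a `P`-invariant complement of `D` in the abelian group `V`. -/
structure Cp (P V D W : Subgroup G) : Prop where
  le : W ≤ V
  nor : P ≤ normalizer (W : Set G)
  inf : W ⊓ D = ⊥
  sup : V ≤ W ⊔ D
  ab : ∀ x ∈ V, ∀ y ∈ V, x * y = y * x
  DV : D ≤ V

namespace Cp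

variable {P V D W : Subgroup G} (c : Cp P V D W)
include c

theorem dec {v : G} (hv : v ∈ V) : ∃ w ∈ W, ∃ d ∈ D, v = w * d := by
  have h1 : D ≤ normalizer (W : Set G) := fun d hd => by
    rw [mem_normalizer_iff]
    intro x
    constructor
    · intro hx
      rw [c.ab d (c.DV hd) x (c.le hx), mul_inv_cancel_right]; exact hx
    · intro hx
      have h2 := c.ab d (c.DV hd) _ (c.le hx)
      have h3 : x = d * x * d⁻¹ := by
        have e : d * (d * x * d⁻¹) = d * x := by rw [h2]; group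
        exact (mul_left_cancel e).symm
      rw [h3]; exact hx
  have h2 : v ∈ ((W ⊔ D : Subgroup G) : Set G) := c.sup hv
  rw [coe_mul_of_right_le_normalizer_left _ _ h1] at h2
  obtain ⟨w, hw, d, hd, e⟩ := h2
  exact ⟨w, hw, d, hd, e.symm⟩

theorem cj {g w : G} (hg : g ∈ P) (hw : w ∈ W) : g * w * g⁻¹ ∈ W := (mem_normalizer_iff.1 (c.nor hg) w).1 hw

end Cp

/-! ### Natural modules -/

section nat

variable {F : Type} [Field F] {T P V D W : Subgroup G} {k : ℕ}

theorem e_one (M : NatK F T P V D k) : M.e 1 = 0 := by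
  have h := M.mul 1 (one_mem _) 1 (one_mem _)
  rw [one_mul] at h
  exact left_eq_add.1 h

theorem e_inv (M : NatK F T P V D k) {v : G} (hv : v ∈ V) : M.e v⁻¹ = - M.e v := by
  have h := M.mul v⁻¹ (inv_mem hv) v hv
  rw [inv_mul_cancel, e_one] at h
  exact eq_neg_of_add_eq_zero_left h.symm

theorem e_inj (M : NatK F T P V D k) (c : Cp P V D W) {v w : G} (hv : v ∈ W) (hw : w ∈ W) (h : M.e v = M.e w) :
    v = w := by
  have h1 : M.e (v⁻¹ * w) = 0 := by
    rw [M.mul _ (V.inv_mem (c.le hv)) _ (c.le hw), e_inv M (c.le hv), h, neg_add_cancel]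
  have h2 := (M.ker _ (V.mul_mem (V.inv_mem (c.le hv)) (c.le hw))).1 h1
  have h3 : v⁻¹ * w ∈ W ⊓ D := ⟨W.mul_mem (W.inv_mem hv) hw, h2⟩
  rw [c.inf, mem_bot] at h3
  exact inv_mul_eq_one.1 h3

theorem e_surj (M : NatK F T P V D k) (c : Cp P V D W) (x : Fin k → Fin 2 → F) : ∃ w ∈ W, M.e w = x := by
  obtain ⟨v, hv, hx⟩ := M.surj x
  obtain ⟨w, hw, d, hd, rfl⟩ := c.dec hv
  refine ⟨w, hw, ?_⟩
  rw [M.mul w (c.le hw) d (c.DV hd), (M.ker d (c.DV hd)).2 hd, add_zero] at hx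
  exact hx

theorem card_W (M : NatK F T P V D k) (c : Cp P V D W) [Finite F] : Nat.card W = Nat.card F ^ (2 * k) := by
  have e1 : W ≃ (Fin k → Fin 2 → F) := Equiv.ofBijective (fun w => M.e w.1)
    ⟨fun v w h => Subtype.ext (e_inj M c v.2 w.2 h), fun x => by
      obtain ⟨w, hw, e⟩ := e_surj M c x
      exact ⟨⟨w, hw⟩, e⟩⟩
  rw [Nat.card_congr e1, Nat.card_fun, Nat.card_fun, Nat.card_eq_fintype_card (α := Fin 2),
    Nat.card_eq_fintype_card (α := Fin k), Fintype.card_fin, Fintype.card_fin, ← pow_mul]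

/-- the coordinates of a `T`-fixed vector -/
theorem fixed_line (M : NatK F T P V D k) {z : G} (hz : z ∈ V) (hT : ∀ t ∈ T, t * z = z * t) (i : Fin k) :
    M.e z i 1 = 0 := by
  obtain ⟨t, ht, h1, -⟩ := M.unip fun _ => 1
  have h2 := congrFun (h1 z hz i) 0
  rw [hT t ht, mul_inv_cancel_right, ap_up_0, one_mul] at h2
  exact left_eq_add.1 h2

/-- `Z` : the `T`-fixed vectors of `W`; `|W| = |Z|²` -/
theorem all_line (M : NatK F T P V D k) (c : Cp P V D W) [Finite F] {Z : Subgroup G} (hZW : Z ≤ W)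
    (hT : ∀ z ∈ Z, ∀ t ∈ T, t * z = z * t) (hc : Nat.card W = Nat.card Z * Nat.card Z) (a : Fin k → F) :
    ∃ z ∈ Z, ∀ i, M.e z i = ![a i, 0] := by
  let f : Z → (Fin k → F) := fun z i => M.e z.1 i 0
  have hf : Function.Injective f := by
    intro z z' h
    refine Subtype.ext (e_inj M c (hZW z.2) (hZW z'.2) ?_)
    funext i
    refine ext2' (congrFun h i) ?_
    rw [fixed_line M (c.le (hZW z.2)) (hT _ z.2) i, fixed_line M (c.le (hZW z'.2)) (hT _ z'.2) i]
  have hfin : Finite Z := Finite.of_injective f hf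
  have hcard : Nat.card Z = Nat.card (Fin k → F) := by
    rw [Nat.card_fun, Nat.card_eq_fintype_card (α := Fin k), Fintype.card_fin]
    rw [card_W M c, two_mul, pow_add] at hc
    exact (Nat.mul_self_inj.1 hc).symm
  have hb : Function.Bijective f := (Nat.bijective_iff_injective_and_card f).2 ⟨hf, hcard⟩
  obtain ⟨z, hz⟩ := hb.2 a
  refine ⟨z, z.2, fun i => ext2' ?_ ?_⟩
  · exact congrFun hz i
  · exact fixed_line M (c.le (hZW z.2)) (hT _ z.2) i

/-- **one block** -/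
theorem k_one (M : NatK F T P V D k) (c : Cp P V D W) [Finite F] (hk : 0 < k) {Z : Subgroup G} (hZW : Z ≤ W)
    (hT : ∀ z ∈ Z, ∀ t ∈ T, t * z = z * t) (hc : Nat.card W = Nat.card Z * Nat.card Z) : k = 1 := by
  classical
  by_contra hne
  have h2 : 2 ≤ k := by omega
  let i : Fin k := ⟨0, by omega⟩
  let j : Fin k := ⟨1, by omega⟩
  have hij : j ≠ i := by
    intro h
    have := congrArg Fin.val h
    simp [i, j] at this
  obtain ⟨t, ht, h1⟩ := M.trans i j
  obtain ⟨z, hz, hez⟩ := all_line M c hZW hT hc (Pi.single i 1)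
  have h3 := h1 z (c.le (hZW hz))
  rw [hT z hz t ht, mul_inv_cancel_right] at h3
  have h4 : M.e z j = 0 := by
    rw [hez, Pi.single_eq_of_ne hij]
    exact ext2' rfl rfl
  have h5 := h3.1 h4
  rw [hez, Pi.single_eq_same] at h5
  exact one_ne_zero (congrFun h5 0)

/-! #### One block -/

/-- `g` acts on `W` as `A ∈ SL₂(F)` -/
def AcW (M : NatK F T P V D 1) (W : Subgroup G) (g : G) (A : Matrix.SpecialLinearGroup (Fin 2) F) : Prop :=
  ∀ w ∈ W, M.e (g * w * g⁻¹) 0 = ap A (M.e w 0)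

theorem ap_eq_mulVec (A : Matrix.SpecialLinearGroup (Fin 2) F) (x : Fin 2 → F) : ap A x = Matrix.mulVec A.1 x := by
  rw [Cfsg.Agent.Omega.KL.TwoZ.mulVec_two]
  rfl

theorem eq_up_of_fix {A : Matrix.SpecialLinearGroup (Fin 2) F} (h : ap A ![1, 0] = ![1, 0]) (v : Fin 2 → F) :
    ap A v = ![v 0 + A.1 0 1 * v 1, v 1] := by
  rw [ap_eq_mulVec] at h ⊢
  exact Cfsg.Agent.Omega.KL.TwoZ.sl_fix h v

variable [Finite G] [Finite F] [CharP F 2]

/-- **`T` acts as the group of upper unitriangular matrices.** -/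
theorem act_T (M : NatK F T P V D 1) (c : Cp P V D W) (hTP : T ≤ P) (hT2 : IsPGroup 2 T) {Z : Subgroup G}
    (hZW : Z ≤ W) (hT : ∀ z ∈ Z, ∀ t ∈ T, t * z = z * t) (hl : ∀ a : F, ∃ z ∈ Z, M.e z 0 = ![a, 0]) {t : G}
    (ht : t ∈ T) : ∃ b : F, AcW M W t (up b) := by
  have htP := hTP ht
  have hfix : ∀ z ∈ Z, t * z * t⁻¹ = z := fun z hz => by rw [hT z hz t ht, mul_inv_cancel_right]
  have mulW : ∀ v ∈ W, ∀ w ∈ W, M.e (v * w) 0 = M.e v 0 + M.e w 0 := fun v hv w hw => by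
    rw [M.mul v (c.le hv) w (c.le hw)]; rfl
  -- conjugates of the lifts
  have hnorm : ∀ A : Matrix.SpecialLinearGroup (Fin 2) F, ∃ h ∈ P, AcW M W h A ∧
      ∃ B : Matrix.SpecialLinearGroup (Fin 2) F, AcW M W (t * h * t⁻¹) B := by
    intro A
    obtain ⟨h, hh, hact, -⟩ := M.lift fun _ => A
    obtain ⟨B, hB⟩ := M.norm t htP h hh (fun _ => A) fun v hv i => hact v hv i
    exact ⟨h, hh, fun w hw => hact w (c.le hw) 0, B 0, fun w hw => hB w (c.le hw) 0⟩
  -- the second coordinate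
  have key : ∀ b : F, ∃ b' : F, ∀ w ∈ W, b' * M.e (t * w * t⁻¹) 0 1 = b * M.e w 0 1 := by
    intro b
    obtain ⟨h, hh, hA, B, hB⟩ := hnorm (up b)
    have hthP : t * h * t⁻¹ ∈ P := mul_mem (mul_mem htP hh) (inv_mem htP)
    have hline : ∀ a : F, ap B ![a, 0] = ![a, 0] := by
      intro a
      obtain ⟨z, hz, hez⟩ := hl a
      have hzW := hZW hz
      have h1 := hB z hzW
      have h2 : h * z * h⁻¹ = z := by
        refine e_inj M c (c.cj hh hzW) hzW ?_
        funext i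
        rw [Subsingleton.elim i 0, hA z hzW, hez]
        refine ext2' ?_ ?_
        · rw [ap_up_0]; simp
        · rw [ap_up_1]
      have h3 : t * h * t⁻¹ * z * (t * h * t⁻¹)⁻¹ = z := by
        have e1 : t⁻¹ * z * t = z := by
          have h4 := hfix z hz
          have e2 : t⁻¹ * (t * z * t⁻¹) * t = z := by group
          rw [h4] at e2; exact e2
        calc t * h * t⁻¹ * z * (t * h * t⁻¹)⁻¹ = t * (h * (t⁻¹ * z * t) * h⁻¹) * t⁻¹ := by group
          _ = z := by rw [e1, h2, hfix z hz]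
      rw [h3, hez] at h1
      exact h1.symm
    refine ⟨B.1 0 1, fun w hw => ?_⟩
    have htw := c.cj htP hw
    -- `h w h⁻¹ = w z`
    obtain ⟨z, hz, hez⟩ := hl (b * M.e w 0 1)
    have hzW := hZW hz
    have h1 : h * w * h⁻¹ = w * z := by
      refine e_inj M c (c.cj hh hw) (mul_mem hw hzW) ?_
      funext i
      rw [Subsingleton.elim i 0, hA w hw, mulW w hw z hzW, hez]
      refine ext2' ?_ ?_
      · rw [ap_up_0]; rfl
      · rw [ap_up_1]; simp
    have h2 := hB (t * w * t⁻¹) htw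
    have h3 : t * h * t⁻¹ * (t * w * t⁻¹) * (t * h * t⁻¹)⁻¹ = (t * w * t⁻¹) * z := by
      calc t * h * t⁻¹ * (t * w * t⁻¹) * (t * h * t⁻¹)⁻¹ = t * (h * w * h⁻¹) * t⁻¹ := by group
        _ = (t * w * t⁻¹) * (t * z * t⁻¹) := by rw [h1]; group
        _ = _ := by rw [hfix z hz]
    rw [h3, mulW _ htw z hzW, hez, eq_up_of_fix (hline 1)] at h2
    have h4 := congrFun h2 0
    simp only [Pi.add_apply, Matrix.cons_val_zero] at h4
    exact (add_left_cancel h4).symm
  obtain ⟨w₁, hw₁, hew₁⟩ := e_surj M c fun _ => ![0, 1]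
  have hew₁' : M.e w₁ 0 = ![0, 1] := congrFun hew₁ 0
  set γ : F := M.e (t * w₁ * t⁻¹) 0 1 with hγ
  have hγ0 : γ ≠ 0 := by
    obtain ⟨b', hb'⟩ := key 1
    have h1 := hb' w₁ hw₁
    rw [hew₁', ← hγ] at h1
    intro h0
    rw [h0, mul_zero] at h1
    simp at h1
  have hsec : ∀ w ∈ W, M.e (t * w * t⁻¹) 0 1 = γ * M.e w 0 1 := by
    intro w hw
    obtain ⟨b', hb'⟩ := key 1
    have h1 := hb' w₁ hw₁
    rw [hew₁', ← hγ] at h1
    have h2 := hb' w hw
    have h3 : b' = γ⁻¹ := by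
      simp only [Matrix.cons_val_one, Matrix.cons_val_fin_one, mul_one] at h1
      exact eq_inv_of_mul_eq_one_left h1
    rw [h3, one_mul] at h2
    rw [← h2, mul_inv_cancel_left₀ hγ0]
  -- `γ = 1`
  have hpow : ∀ n : ℕ, ∀ w ∈ W, M.e (t ^ n * w * (t ^ n)⁻¹) 0 1 = γ ^ n * M.e w 0 1 := by
    intro n
    induction n with
    | zero => intro w _; simp
    | succ n ih =>
      intro w hw
      have e1 : t ^ (n + 1) * w * (t ^ (n + 1))⁻¹ = t * (t ^ n * w * (t ^ n)⁻¹) * t⁻¹ := by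
        rw [pow_succ']; group
      rw [e1, hsec _ (c.cj (pow_mem htP n) hw), ih w hw, pow_succ']
      ring
  have hγ1 : γ = 1 := by
    obtain ⟨m, hm⟩ := hT2 ⟨t, ht⟩
    have hm' : t ^ 2 ^ m = 1 := congrArg Subtype.val hm
    have h1 := hpow (2 ^ m) w₁ hw₁
    rw [hm', hew₁'] at h1
    simp only [one_mul, inv_one, mul_one, hew₁', Matrix.cons_val_one, Matrix.cons_val_fin_one] at h1
    have hp : Fact (Nat.Prime 2) := ⟨Nat.prime_two⟩
    have h2 : (γ - 1) ^ 2 ^ m = 0 := by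
      rw [sub_pow_char_pow, ← h1, one_pow, sub_self]
    exact sub_eq_zero.1 (pow_eq_zero_iff (by positivity) |>.1 h2)
  rw [hγ1] at hsec
  -- the first coordinate
  set b : F := M.e (t * w₁ * t⁻¹) 0 0 with hb
  -- additive part
  have hadd : ∀ w ∈ W, ∀ w' ∈ W, M.e w 0 1 = M.e w' 0 1 →
      M.e (t * w * t⁻¹) 0 0 - M.e w 0 0 = M.e (t * w' * t⁻¹) 0 0 - M.e w' 0 0 := by
    intro w hw w' hw' h1
    obtain ⟨z, hz, hez⟩ := hl (M.e w' 0 0 - M.e w 0 0)
    have hzW := hZW hz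
    have h2 : w' = w * z := by
      refine e_inj M c hw' (mul_mem hw hzW) ?_
      funext i
      rw [Subsingleton.elim i 0, mulW w hw z hzW, hez]
      refine ext2' ?_ ?_
      · simp
      · simp [h1]
    have h3 : t * w' * t⁻¹ = (t * w * t⁻¹) * z := by
      rw [h2]
      calc t * (w * z) * t⁻¹ = (t * w * t⁻¹) * (t * z * t⁻¹) := by group
        _ = _ := by rw [hfix z hz]
    rw [h3, mulW _ (c.cj htP hw) z hzW, hez]
    simp only [Pi.add_apply, Matrix.cons_val_zero]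
    ring
  have hlin : ∀ x : F, ∀ w ∈ W, M.e w 0 1 = x → M.e (t * w * t⁻¹) 0 0 - M.e w 0 0 = b * x := by
    obtain ⟨h, hh, hA, B, hB⟩ := hnorm (lo 1)
    -- for every `x`
    have main : ∀ x : F, ∃ w ∈ W, M.e w 0 1 = x ∧
        ap B ![x, 0] = ![x + (M.e (t * w * t⁻¹) 0 0 - M.e w 0 0), x] := by
      intro x
      obtain ⟨z, hz, hez⟩ := hl x
      have hzW := hZW hz
      refine ⟨h * z * h⁻¹, c.cj hh hzW, ?_, ?_⟩
      · rw [hA z hzW, hez, NatPair.ap_one', lo_10, lo_11]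
        simp
      · have h1 := hB z hzW
        have h3 : t * h * t⁻¹ * z * (t * h * t⁻¹)⁻¹ = t * (h * z * h⁻¹) * t⁻¹ := by
          have e1 : t⁻¹ * z * t = z := by
            have h4 := hfix z hz
            have e2 : t⁻¹ * (t * z * t⁻¹) * t = z := by group
            rw [h4] at e2; exact e2
          calc t * h * t⁻¹ * z * (t * h * t⁻¹)⁻¹ = t * (h * (t⁻¹ * z * t) * h⁻¹) * t⁻¹ := by group
            _ = _ := by rw [e1]
        rw [h3, hez] at h1
        rw [← h1]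
        have h5 : M.e (h * z * h⁻¹) 0 = ![x, x] := by
          rw [hA z hzW, hez]
          refine ext2' ?_ ?_
          · rw [NatPair.ap_zero', lo_00, lo_01]; simp
          · rw [NatPair.ap_one', lo_10, lo_11]; simp
        refine ext2' ?_ ?_
        · rw [h5]; simp
        · rw [hsec _ (c.cj hh hzW), h5]; simp
    intro x w hw hx
    obtain ⟨w', hw', hx', h1⟩ := main x
    rw [hadd w hw w' hw' (hx.trans hx'.symm)]
    obtain ⟨w'', hw'', hx'', h2⟩ := main 1
    have h3 : ap B ![x, 0] = x • ap B ![1, 0] := by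
      have e1 : (![x, 0] : Fin 2 → F) = x • ![1, 0] := by
        refine ext2' ?_ ?_ <;> simp
      rw [e1, NatPair.ap_smul]
    have h4 : M.e (t * w'' * t⁻¹) 0 0 - M.e w'' 0 0 = b := by
      rw [hadd w'' hw'' w₁ hw₁ (by rw [hx'', hew₁']; simp), ← hb, hew₁']
      simp
    rw [h1, h2, h4] at h3
    have h5 := congrFun h3 0
    simp only [Matrix.cons_val_zero, Pi.smul_apply, smul_eq_mul] at h5
    have h6 : x + (M.e (t * w' * t⁻¹) 0 0 - M.e w' 0 0) = x + b * x := by rw [h5]; ring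
    exact add_left_cancel h6
  refine ⟨b, fun w hw => ext2' ?_ ?_⟩
  · rw [ap_up_0]
    have h1 := hlin _ w hw rfl
    rw [← h1]; ring
  · rw [ap_up_1, hsec w hw, one_mul]

/-- **`P` acts as `SL₂(F)`.** -/
theorem act_P (M : NatK F T P V D 1) (c : Cp P V D W) (hTP : T ≤ P) (hT2 : IsPGroup 2 T) {Z : Subgroup G}
    (hZW : Z ≤ W) (hT : ∀ z ∈ Z, ∀ t ∈ T, t * z = z * t) (hl : ∀ a : F, ∃ z ∈ Z, M.e z 0 = ![a, 0]) {g : G}
    (hg : g ∈ P) : ∃ A, AcW M W g A := by
  let K : Subgroup G :=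
    { carrier := {g | g ∈ P ∧ ∃ A, AcW M W g A}
      mul_mem' := by
        rintro x y ⟨hx, A, hA⟩ ⟨hy, B, hB⟩
        refine ⟨mul_mem hx hy, A * B, fun w hw => ?_⟩
        have e1 : x * y * w * (x * y)⁻¹ = x * (y * w * y⁻¹) * x⁻¹ := by group
        rw [e1, hA _ (c.cj hy hw), hB w hw, NatPair.ap_mul]
      one_mem' := ⟨one_mem _, 1, fun w _ => by rw [NatPair.ap_one]; simp⟩
      inv_mem' := by
        rintro x ⟨hx, A, hA⟩
        refine ⟨inv_mem hx, A⁻¹, fun w hw => ?_⟩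
        have h1 := hA _ (c.cj (inv_mem hx) hw)
        have e1 : x * (x⁻¹ * w * x⁻¹⁻¹) * x⁻¹ = w := by group
        rw [e1] at h1
        rw [h1, ← NatPair.ap_mul, inv_mul_cancel, NatPair.ap_one] }
  have h1 : P ≤ K := by
    refine M.gen K ?_ ?_
    · intro t ht
      obtain ⟨b, hb⟩ := act_T M c hTP hT2 hZW hT hl ht
      exact ⟨hTP ht, up b, hb⟩
    · intro h hh A hA
      exact ⟨hh, A 0, fun w hw => hA.1 w (c.le hw) 0⟩
  exact (h1 hg).2

/-- **The coordinates.** -/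
theorem natSL (M : NatK F T P V D 1) (c : Cp P V D W) (hTP : T ≤ P) (hT2 : IsPGroup 2 T) {Z : Subgroup G}
    (hZW : Z ≤ W) (hT : ∀ z ∈ Z, ∀ t ∈ T, t * z = z * t) (hl : ∀ a : F, ∃ z ∈ Z, M.e z 0 = ![a, 0]) :
    ∃ e : (Fin 2 → F) → G, NatSL F e W Z ∧ ActSL F e P := by
  have hex : ∀ v : Fin 2 → F, ∃ w ∈ W, M.e w 0 = v := fun v => by
    obtain ⟨w, hw, h⟩ := e_surj M c fun _ => v
    exact ⟨w, hw, congrFun h 0⟩
  have inj : ∀ v ∈ W, ∀ w ∈ W, M.e v 0 = M.e w 0 → v = w := fun v hv w hw h =>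
    e_inj M c hv hw (funext fun i => by rw [Subsingleton.elim i 0]; exact h)
  have mulW : ∀ v ∈ W, ∀ w ∈ W, M.e (v * w) 0 = M.e v 0 + M.e w 0 := fun v hv w hw => by
    rw [M.mul v (c.le hv) w (c.le hw)]; rfl
  choose e heW he using hex
  have heq : ∀ w ∈ W, e (M.e w 0) = w := fun w hw => inj _ (heW _) _ hw (he _)
  have hconj : ∀ g ∈ P, ∀ A, AcW M W g A → ∀ v, g * e v * g⁻¹ = e (Matrix.mulVec A.1 v) := by
    intro g hg A hA v
    refine inj _ (c.cj hg (heW v)) _ (heW _) ?_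
    rw [hA _ (heW v), he, he, ap_eq_mulVec]
  refine ⟨e, ⟨fun v w => ?_, fun v w h => ?_, fun x => ⟨fun hx => ⟨M.e x 0, heq x hx⟩, ?_⟩,
    fun x => ⟨fun hx => ⟨M.e x 0 0, ?_⟩, ?_⟩⟩, ⟨fun r hr => ?_, fun A => ?_⟩⟩
  · exact inj _ (heW _) _ (mul_mem (heW v) (heW w)) (by rw [mulW _ (heW v) _ (heW w), he, he, he])
  · rw [← he v, ← he w, h]
  · rintro ⟨v, rfl⟩
    exact heW v
  · have h1 : M.e x 0 = ![M.e x 0 0, 0] := ext2' (by simp) (by
      rw [fixed_line M (c.le (hZW hx)) (hT x hx) 0]; simp)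
    rw [← h1]
    exact heq x (hZW hx)
  · rintro ⟨a, rfl⟩
    obtain ⟨z, hz, hez⟩ := hl a
    rw [← hez, heq z (hZW hz)]
    exact hz
  · obtain ⟨A, hA⟩ := act_P M c hTP hT2 hZW hT hl hr
    exact ⟨A, hconj r hr A hA⟩
  · obtain ⟨g, hg, hA, -⟩ := M.lift fun _ => A
    exact ⟨g, hg, hconj g hg A fun w hw => hA w (c.le hw) 0⟩

end nat

/-! ### Even-subset modules -/

section sym

variable {T P V D W : Subgroup G} {k m : ℕ}

theorem not_sym [Finite G] (M : SymK T P V D k m) (c : Cp P V D W) (hk : 0 < k) (hm : 2 ≤ m)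
    (hPV : P ≤ normalizer (V : Set G)) (hTP : T ≤ P) (hT2 : ¬ 2 ∣ T.relIndex P) {Z : Subgroup G} (hZW : Z ≤ W)
    (hT : ∀ z ∈ Z, ∀ t ∈ T, t * z = z * t) (hc : Nat.card W = Nat.card Z * Nat.card Z) : False := by
  classical
  have e_one : M.e 1 = 0 := by
    have h := M.mul 1 (one_mem _) 1 (one_mem _)
    rw [one_mul] at h
    exact left_eq_add.1 h
  have inj : ∀ v ∈ W, ∀ w ∈ W, M.e v = M.e w → v = w := by
    intro v hv w hw h
    have h0 : M.e v⁻¹ = - M.e v := by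
      have h := M.mul v⁻¹ (inv_mem (c.le hv)) v (c.le hv)
      rw [inv_mul_cancel, e_one] at h
      exact eq_neg_of_add_eq_zero_left h.symm
    have h1 : M.e (v⁻¹ * w) = 0 := by
      rw [M.mul _ (V.inv_mem (c.le hv)) _ (c.le hw), h0, h, neg_add_cancel]
    have h2 := (M.ker _ (V.mul_mem (V.inv_mem (c.le hv)) (c.le hw))).1 h1
    have h3 : v⁻¹ * w ∈ W ⊓ D := ⟨W.mul_mem (W.inv_mem hv) hw, h2⟩
    rw [c.inf, mem_bot] at h3
    exact inv_mul_eq_one.1 h3
  -- `|Z| ≤ 2^k`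
  have hZ : Nat.card Z ≤ 2 ^ k := by
    let f : Z → (Fin k → Bool) := fun z i => decide (M.e z.1 i = 0)
    have hf : Function.Injective f := by
      intro z z' h
      refine Subtype.ext (inj _ (hZW z.2) _ (hZW z'.2) ?_)
      funext i
      have h1 := congrFun h i
      have c1 := IId.SwCv.Spl.fixed_cases M hPV hTP hT2 (by omega) i (c.le (hZW z.2)) (fun t ht => hT _ z.2 t ht)
      have c2 := IId.SwCv.Spl.fixed_cases M hPV hTP hT2 (by omega) i (c.le (hZW z'.2)) (fun t ht => hT _ z'.2 t ht)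
      by_cases h0 : M.e z.1 i = 0
      · have h2 : M.e z'.1 i = 0 := by
          have : f z i = true := decide_eq_true h0
          rw [h1] at this
          exact of_decide_eq_true this
        rw [h0, h2]
      · have h2 : M.e z'.1 i ≠ 0 := by
          have : f z i = false := decide_eq_false h0
          rw [h1] at this
          exact of_decide_eq_false this
        rw [c1.resolve_left h0, c2.resolve_left h2]
    have h1 := Nat.card_le_card_of_injective f hf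
    rw [Nat.card_fun, Nat.card_eq_fintype_card (α := Fin k), Nat.card_eq_fintype_card (α := Bool), Fintype.card_fin,
      Fintype.card_bool] at h1
    exact h1
  -- `|W| ≥ 2^(2^m k)`
  have hW : 2 ^ (2 ^ m * k) ≤ Nat.card W := by
    have hex : ∀ y : Fin k → Fin (2 ^ m) → ZMod 2, ∃ w : W,
        M.e w = fun i => Fin.cons (∑ x, y i x) (y i) := by
      intro y
      obtain ⟨v, hv, hev⟩ := M.surj (fun i => Fin.cons (∑ x, y i x) (y i)) fun i => by
        rw [Fin.sum_univ_succ, Fin.cons_zero]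
        simp only [Fin.cons_succ]
        exact CharTwo.add_self_eq_zero _
      obtain ⟨w, hw, d, hd, rfl⟩ := c.dec hv
      refine ⟨⟨w, hw⟩, ?_⟩
      rw [M.mul w (c.le hw) d (c.DV hd), (M.ker d (c.DV hd)).2 hd, add_zero] at hev
      exact hev
    choose g hg using hex
    have hg' : Function.Injective g := by
      intro y y' h
      have h1 := hg y
      rw [h, hg y'] at h1
      funext i x
      have h2 := congrFun (congrFun h1 i) x.succ
      simpa using h2.symm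
    have h1 := Nat.card_le_card_of_injective g hg'
    rw [Nat.card_fun, Nat.card_fun, Nat.card_eq_fintype_card (α := Fin k), Nat.card_eq_fintype_card (α := Fin (2 ^ m)),
      Fintype.card_fin, Fintype.card_fin, Nat.card_eq_fintype_card (α := ZMod 2), ZMod.card, ← pow_mul] at h1
    exact h1
  have h1 : Nat.card Z * Nat.card Z ≤ 2 ^ k * 2 ^ k := Nat.mul_le_mul hZ hZ
  rw [← hc, ← pow_add] at h1
  have h2 := (Nat.pow_le_pow_iff_right (by norm_num : 1 < 2)).1 (hW.trans h1)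
  have h3 : 2 ^ 2 ≤ 2 ^ m := Nat.pow_le_pow_right (by norm_num) hm
  have h4 : 2 ^ 2 * k ≤ 2 ^ m * k := Nat.mul_le_mul_right _ h3
  omega

end sym

/-! ### `P ∈ P*(S)` -/

/-- **The `P`-local part of `Nat1`.** -/
theorem exists_nat [Finite G] (hG : IsCharacteristicTwoType G) {S : Sylow 2 G} {P W : Subgroup G}
    (hP : IsParS (S : Subgroup G) P) (hcon : ConclM (S : Subgroup G) P)
    (hsp : RTreeA.SplitBy (S : Subgroup G) P (cv (S : Subgroup G) P) W)
    (hc : Nat.card W = Nat.card ↥(W ⊓ zc (S : Subgroup G)) * Nat.card ↥(W ⊓ zc (S : Subgroup G))) :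
    ∃ (F : Type) (_ : Field F) (_ : Finite F) (e : (Fin 2 → F) → G),
      NatSL F e W (W ⊓ zc (S : Subgroup G)) ∧ ActSL F e P := by
  have hVc : ∀ x ∈ zl (S : Subgroup G) P, ∀ y ∈ zl (S : Subgroup G) P, x * y = y * x := fun x hx y hy =>
    MinSimple.VModule.zc_comm _ _ (hP.isLoc.zl_le S hG hx) _ (hP.isLoc.zl_le S hG hy)
  have c : Cp P (zl (S : Subgroup G) P) (cv (S : Subgroup G) P) W :=
    ⟨hsp.1, hsp.2.1, hsp.2.2.1, hsp.2.2.2, hVc, inf_le_left⟩
  have hfix : ∀ z ∈ W ⊓ zc (S : Subgroup G), ∀ t ∈ (S : Subgroup G), t * z = z * t := fun z hz t ht =>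
    (MinSimple.VModule.mem_zc.1 hz.2).2.1 t ht
  rcases hcon with ⟨F, _, _, _, k, hk, ⟨M⟩⟩ | ⟨k, m, hk, hm, ⟨M⟩⟩
  · have h1 := k_one M.toNatK c hk inf_le_left hfix hc
    subst h1
    obtain ⟨e, he⟩ := natSL M.toNatK c hP.le S.isPGroup' inf_le_left hfix (fun a => by
      obtain ⟨z, hz, h⟩ := all_line M.toNatK c inf_le_left hfix hc fun _ => a
      exact ⟨z, hz, h 0⟩)
    exact ⟨F, inferInstance, inferInstance, e, he⟩
  · exact (not_sym M.toSymK c hk hm (MinSimple.VModule.le_normalizer_zl _ _) hP.le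
      (MinSimple.Basic.not_dvd_relIndex S hP.le) inf_le_left hfix hc).elim

end Cfsg.Agent.Omega.NOThreeL.RRed.Nat1Par
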