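import Cfsg.Agent.Omega.NOThreeL.RRed.WideTree
import Cfsg.Agent.Omega.OM.Var.Spread

/-!
# Two natural `SL₂`-blocks with the same module and the same line, `q ≥ 8` (helper679, for helper548's DNorm)

`NatBlk S D N l F e`, `NatBlk S' D' N l F' e'`; `hX` : an element of `D D'` which is trivial on `l` and on `N / l` acts as an
`F`-root element.  Then `D` and `D'` induce the same group on `N` (`nat_uniq`).

`e' v = (α (x + f y), (b / a) α y)` for `e v = (x, y)`, `α (λ y) a = α λ α y` (composition of the root maps); the torus and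
`Spread.field_lemma` give `f y = c y`.
-/

set_option autoImplicit false
set_option linter.unusedSectionVars false

namespace Cfsg.Agent.Omega.NOThreeL.RRed.NatUniq

open Subgroup Cfsg
open Cfsg.Agent.Omega.NOThreeL.RRed.WideTree (NatBlk)

universe u

section crd

variable {G : Type u} [Group G] {S D N l : Subgroup G} {F : Type} [Field F] {e : G → Fin 2 → F}

theorem crd_one (h : NatBlk S D N l F e) : e 1 = 0 := by
  have h1 := h.mul 1 (one_mem _) 1 (one_mem _)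
  rw [mul_one] at h1
  simpa using h1

theorem crd_inv (h : NatBlk S D N l F e) {v : G} (hv : v ∈ N) : e v⁻¹ = - e v := by
  have h1 := h.mul v hv v⁻¹ (inv_mem hv)
  rw [mul_inv_cancel, crd_one h] at h1
  exact (neg_eq_of_add_eq_zero_right h1.symm).symm

theorem crd_inj (h : NatBlk S D N l F e) {v w : G} (hv : v ∈ N) (hw : w ∈ N) (he : e v = e w) : v = w := by
  have h1 := h.inj (v * w⁻¹) (mul_mem hv (inv_mem hw))
    (by rw [h.mul v hv _ (inv_mem hw), crd_inv h hw, he, add_neg_cancel])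
  exact mul_inv_eq_one.1 h1

end crd

section main

variable {G : Type u} [Group G] {S D S' D' N l : Subgroup G} {F F' : Type} [Field F] [Field F']
  {e : G → Fin 2 → F} {e' : G → Fin 2 → F'}

/-- the change of coordinates -/
theorem exists_change (h : NatBlk S D N l F e) (h' : NatBlk S' D' N l F' e') :
    ∃ (α β γ : F → F'), (∀ v ∈ N, e' v 0 = α (e v 0) + γ (e v 1) ∧ e' v 1 = β (e v 1)) ∧
      (∀ x y, α (x + y) = α x + α y) ∧ (∀ x y, β (x + y) = β x + β y) ∧ (∀ x y, γ (x + y) = γ x + γ y) ∧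
      Function.Bijective α ∧ β 1 ≠ 0 := by
  choose w hwN hw using h.sur
  have hmul : ∀ x y : Fin 2 → F, w (x + y) = w x * w y := fun x y =>
    crd_inj h (hwN _) (mul_mem (hwN _) (hwN _)) (by rw [hw, h.mul _ (hwN _) _ (hwN _), hw, hw])
  have hl0 : ∀ x : F, e' (w ![x, 0]) 1 = 0 := fun x =>
    ((h'.line _).1 ((h.line _).2 ⟨hwN _, by rw [hw]; rfl⟩)).2
  have hadd : ∀ x y : Fin 2 → F, e' (w (x + y)) = e' (w x) + e' (w y) := fun x y => by
    rw [hmul, h'.mul _ (hwN _) _ (hwN _)]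
  have hx2 : ∀ x y : F, (![x + y, 0] : Fin 2 → F) = ![x, 0] + ![y, 0] := fun x y => by
    ext i; fin_cases i <;> simp
  have hy2 : ∀ x y : F, (![0, x + y] : Fin 2 → F) = ![0, x] + ![0, y] := fun x y => by
    ext i; fin_cases i <;> simp
  have hsplit : ∀ v ∈ N, v = w (![e v 0, 0] + ![0, e v 1]) := fun v hv =>
    crd_inj h hv (hwN _) (by rw [hw]; ext i; fin_cases i <;> simp)
  have hform : ∀ v ∈ N, e' v 0 = e' (w ![e v 0, 0]) 0 + e' (w ![0, e v 1]) 0 ∧ e' v 1 = e' (w ![0, e v 1]) 1 := by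
    intro v hv
    have h1 : e' v = e' (w ![e v 0, 0]) + e' (w ![0, e v 1]) := by
      conv_lhs => rw [hsplit v hv]
      exact hadd _ _
    constructor
    · rw [h1]; rfl
    · rw [h1, Pi.add_apply, hl0, zero_add]
  refine ⟨fun x => e' (w ![x, 0]) 0, fun y => e' (w ![0, y]) 1, fun y => e' (w ![0, y]) 0, hform, ?_, ?_, ?_, ⟨?_, ?_⟩, ?_⟩
  · intro x y
    show e' (w ![x + y, 0]) 0 = _
    rw [hx2, hadd]; rfl
  · intro x y
    show e' (w ![0, x + y]) 1 = _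
    rw [hy2, hadd]; rfl
  · intro x y
    show e' (w ![0, x + y]) 0 = _
    rw [hy2, hadd]; rfl
  · intro x y hxy
    have h1 : w ![x, 0] = w ![y, 0] := by
      refine crd_inj h' (hwN _) (hwN _) ?_
      ext i
      fin_cases i
      · exact hxy
      · show e' (w ![x, 0]) 1 = e' (w ![y, 0]) 1
        rw [hl0, hl0]
    have h2 : e (w ![x, 0]) 0 = e (w ![y, 0]) 0 := by rw [h1]
    rw [hw, hw] at h2
    exact h2
  · intro x
    obtain ⟨v, hv, hve⟩ := h'.sur ![x, 0]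
    have hvl : v ∈ l := (h'.line v).2 ⟨hv, by rw [hve]; rfl⟩
    have h1 : e v 1 = 0 := ((h.line v).1 hvl).2
    refine ⟨e v 0, ?_⟩
    show e' (w ![e v 0, 0]) 0 = x
    have h2 : w ![e v 0, 0] = v := crd_inj h (hwN _) hv (by
      rw [hw]; ext i; fin_cases i
      · rfl
      · exact h1.symm)
    rw [h2, hve]; rfl
  · intro h1
    have h2 : w ![0, 1] ∈ l := (h'.line _).2 ⟨hwN _, h1⟩
    have h3 := ((h.line _).1 h2).2
    rw [hw] at h3
    exact one_ne_zero h3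

/-- **`e' v = (α (x + f y), (b / a) α y)`** -/
theorem exists_form (h : NatBlk S D N l F e) (h' : NatBlk S' D' N l F' e') (hN' : D' ≤ normalizer (N : Set G))
    (hX : ∀ g ∈ D', (∀ v ∈ l, g * v * g⁻¹ = v) → (∀ v ∈ N, g * v * g⁻¹ * v⁻¹ ∈ l) →
      ∃ c : F, ∀ v ∈ N, e (g * v * g⁻¹) = ![e v 0 + c * e v 1, e v 1]) :
    ∃ (α : F → F') (b : F') (f : F → F), Function.Bijective α ∧ (∀ x y, α (x + y) = α x + α y) ∧
      (∀ x y, α (x * y) * α 1 = α x * α y) ∧ α 1 ≠ 0 ∧ b ≠ 0 ∧ (∀ x y, f (x + y) = f x + f y) ∧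
      ∀ v ∈ N, e' v 0 = α (e v 0 + f (e v 1)) ∧ e' v 1 * α 1 = b * α (e v 1) := by
  obtain ⟨α, β, γ, hform, ha, hb, hg, hbij, hb1⟩ := exists_change h h'
  have hα0 : α 0 = 0 := by have := ha 0 0; rw [add_zero] at this; simpa using this
  -- composition of the root maps
  have hstar : ∀ x y, α (x * y) * β 1 = α x * β y := by
    intro x y
    obtain ⟨s, ⟨-, hsD⟩, hs⟩ := h'.sylow (α x / β 1)
    have hsN : ∀ v ∈ N, s * v * s⁻¹ ∈ N := fun v hv => (mem_normalizer_iff.1 (hN' hsD) v).1 hv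
    have h1 : ∀ v ∈ l, s * v * s⁻¹ = v := by
      intro v hv
      obtain ⟨hvN, hv1⟩ := (h'.line v).1 hv
      refine crd_inj h' (hsN v hvN) hvN ?_
      rw [hs v hvN]
      ext i
      fin_cases i
      · show e' v 0 + α x / β 1 * e' v 1 = e' v 0
        rw [hv1, mul_zero, add_zero]
      · rfl
    have h2 : ∀ v ∈ N, s * v * s⁻¹ * v⁻¹ ∈ l := by
      intro v hv
      refine (h'.line _).2 ⟨mul_mem (hsN v hv) (inv_mem hv), ?_⟩
      rw [h'.mul _ (hsN v hv) _ (inv_mem hv), crd_inv h' hv, hs v hv]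
      show e' v 1 + - e' v 1 = 0
      rw [add_neg_cancel]
    obtain ⟨c, hc⟩ := hX s hsD h1 h2
    have key : ∀ y, α (c * y) = α x / β 1 * β y := by
      intro y
      obtain ⟨v, hv, hve⟩ := h.sur ![0, y]
      have e1 := (hform _ (hsN v hv)).1
      rw [hs v hv, hc v hv] at e1
      have e2 := hform v hv
      have e3 : e' v 0 + α x / β 1 * e' v 1 = α (e v 0 + c * e v 1) + γ (e v 1) := e1
      rw [e2.1, e2.2, hve, ha] at e3
      have e4 : α 0 + γ y + α x / β 1 * β y = α 0 + α (c * y) + γ y := e3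
      rw [hα0, zero_add, zero_add] at e4
      linear_combination -e4
    have e5 := key 1
    rw [mul_one, div_mul_cancel₀ _ hb1] at e5
    have e6 := hbij.1 e5
    subst e6
    rw [key y]
    field_simp
  have ha1 : α 1 ≠ 0 := fun h0 => one_ne_zero (hbij.1 (h0.trans hα0.symm) : (1 : F) = 0)
  have hbe : ∀ y, β y * α 1 = β 1 * α y := by
    intro y
    have := hstar 1 y
    rw [one_mul] at this
    linear_combination -this
  choose f hf using fun y => hbij.2 (γ y)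
  refine ⟨α, β 1, f, hbij, ha, ?_, ha1, hb1, ?_, ?_⟩
  · intro x y
    have e1 := hstar x y
    have e2 := hbe y
    have e3 : α (x * y) * α 1 * β 1 = α x * α y * β 1 := by linear_combination α 1 * e1 + α x * e2
    exact mul_right_cancel₀ hb1 e3
  · intro x y
    apply hbij.1
    rw [ha, hf, hf, hf, hg]
  · intro v hv
    obtain ⟨e1, e2⟩ := hform v hv
    refine ⟨?_, ?_⟩
    · rw [e1, ha, hf]
    · rw [e2, hbe]

/-- an `SL₂(F')`-element is an `SL₂(F)`-element in the coordinates `(x + f y, y)` -/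
theorem act_to {α : F → F'} {b : F'} {f : F → F} (hbij : Function.Bijective α) (ha : ∀ x y, α (x + y) = α x + α y)
    (hm : ∀ x y, α (x * y) * α 1 = α x * α y) (ha1 : α 1 ≠ 0) (hb : b ≠ 0)
    (hform : ∀ v ∈ N, e' v 0 = α (e v 0 + f (e v 1)) ∧ e' v 1 * α 1 = b * α (e v 1)) {g : G}
    (hgN : ∀ v ∈ N, g * v * g⁻¹ ∈ N) {p q r s : F'}
    (hg : ∀ v ∈ N, e' (g * v * g⁻¹) 0 = p * e' v 0 + q * e' v 1 ∧ e' (g * v * g⁻¹) 1 = r * e' v 0 + s * e' v 1)
    {p₀ q₀ r₀ s₀ : F} (hp : α p₀ = p * α 1) (hq : α q₀ = q * b) (hr : α r₀ * b = r * (α 1 * α 1)) (hs : α s₀ = s * α 1) :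
    ∀ v ∈ N, e (g * v * g⁻¹) 0 + f (e (g * v * g⁻¹) 1) = p₀ * (e v 0 + f (e v 1)) + q₀ * e v 1 ∧
      e (g * v * g⁻¹) 1 = r₀ * (e v 0 + f (e v 1)) + s₀ * e v 1 := by
  intro v hv
  obtain ⟨a1, a2⟩ := hform v hv
  obtain ⟨b1, b2⟩ := hform _ (hgN v hv)
  obtain ⟨c1, c2⟩ := hg v hv
  constructor
  · apply hbij.1
    rw [← b1, c1, a1, ha (p₀ * (e v 0 + f (e v 1)))]
    have d1 := hm p₀ (e v 0 + f (e v 1))
    have d2 := hm q₀ (e v 1)
    apply mul_right_cancel₀ ha1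
    rw [add_mul, add_mul, d1, d2, hp, hq]
    linear_combination q * a2
  · apply hbij.1
    rw [ha (r₀ * (e v 0 + f (e v 1)))]
    have d1 := hm r₀ (e v 0 + f (e v 1))
    have d2 := hm s₀ (e v 1)
    rw [c2, a1] at b2
    apply mul_right_cancel₀ ha1
    apply mul_right_cancel₀ hb
    rw [add_mul, d1, d2, hs]
    linear_combination (-α 1) * b2 + s * α 1 * a2 - α (e v 0 + f (e v 1)) * hr

theorem sl_apply {R : Type} [CommRing R] (M : Matrix.SpecialLinearGroup (Fin 2) R) (x : Fin 2 → R) :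
    M.1.mulVec x 0 = M.1 0 0 * x 0 + M.1 0 1 * x 1 ∧ M.1.mulVec x 1 = M.1 1 0 * x 0 + M.1 1 1 * x 1 := by
  constructor <;> simp [Matrix.mulVec, dotProduct, Fin.sum_univ_two]

theorem exists_sl {R : Type} [CommRing R] {p q r s : R} (h : p * s - q * r = 1) :
    ∃ M : Matrix.SpecialLinearGroup (Fin 2) R, ∀ x : Fin 2 → R, M.1.mulVec x 0 = p * x 0 + q * x 1 ∧
      M.1.mulVec x 1 = r * x 0 + s * x 1 := by
  refine ⟨⟨!![p, q; r, s], by rw [Matrix.det_fin_two_of]; exact h⟩, fun x => ?_⟩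
  have := sl_apply (⟨!![p, q; r, s], by rw [Matrix.det_fin_two_of]; exact h⟩ : Matrix.SpecialLinearGroup (Fin 2) R) x
  simpa using this

theorem sl_det {R : Type} [CommRing R] (M : Matrix.SpecialLinearGroup (Fin 2) R) :
    M.1 0 0 * M.1 1 1 - M.1 0 1 * M.1 1 0 = 1 := by
  have := M.2
  rwa [Matrix.det_fin_two] at this

/-- **Two natural blocks with the same module and the same line induce the same group.** -/
theorem nat_uniq [Finite F] (h : NatBlk S D N l F e) (h' : NatBlk S' D' N l F' e') (h4 : 4 < Nat.card F)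
    (hN : D ≤ normalizer (N : Set G)) (hN' : D' ≤ normalizer (N : Set G))
    (hX : ∀ g ∈ D ⊔ D', (∀ v ∈ l, g * v * g⁻¹ = v) → (∀ v ∈ N, g * v * g⁻¹ * v⁻¹ ∈ l) →
      ∃ c : F, ∀ v ∈ N, e (g * v * g⁻¹) = ![e v 0 + c * e v 1, e v 1]) :
    (∀ g ∈ D', ∃ d ∈ D, ∀ v ∈ N, g * v * g⁻¹ = d * v * d⁻¹) ∧
      ∀ d ∈ D, ∃ g ∈ D', ∀ v ∈ N, g * v * g⁻¹ = d * v * d⁻¹ := by
  obtain ⟨α, b, f, hbij, ha, hm, ha1, hb, hf, hform⟩ := exists_form h h' hN' fun g hg => hX g (mem_sup_right hg)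
  have hcN : ∀ g ∈ D, ∀ v ∈ N, g * v * g⁻¹ ∈ N := fun g hg v hv => (mem_normalizer_iff.1 (hN hg) v).1 hv
  have hcN' : ∀ g ∈ D', ∀ v ∈ N, g * v * g⁻¹ ∈ N := fun g hg v hv => (mem_normalizer_iff.1 (hN' hg) v).1 hv
  -- from `F` to `F'`
  have hA : ∀ p₀ q₀ r₀ s₀ : F, p₀ * s₀ - q₀ * r₀ = 1 → ∃ g ∈ D', ∀ v ∈ N,
      e (g * v * g⁻¹) 0 + f (e (g * v * g⁻¹) 1) = p₀ * (e v 0 + f (e v 1)) + q₀ * e v 1 ∧
        e (g * v * g⁻¹) 1 = r₀ * (e v 0 + f (e v 1)) + s₀ * e v 1 := by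
    intro p₀ q₀ r₀ s₀ hdet
    have hd : (α p₀ / α 1) * (α s₀ / α 1) - (α q₀ / b) * (α r₀ * b / (α 1 * α 1)) = 1 := by
      have e1 := hm p₀ s₀
      have e2 := hm q₀ r₀
      have e3 : α (p₀ * s₀) = α (q₀ * r₀) + α 1 := by
        rw [← ha]; congr 1; linear_combination hdet
      field_simp
      linear_combination -e1 + e2 + α 1 * e3
    obtain ⟨M, hM⟩ := exists_sl hd
    obtain ⟨g, hg, hgM⟩ := h'.full M
    refine ⟨g, hg, act_to (α := α) (b := b) (f := f) hbij ha hm ha1 hb hform (hcN' g hg) (fun v hv => by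
      rw [hgM v hv]; exact hM (e' v)) ?_ ?_ ?_ ?_⟩
    · rw [div_mul_cancel₀ _ ha1]
    · rw [div_mul_cancel₀ _ hb]
    · rw [div_mul_cancel₀ _ (mul_ne_zero ha1 ha1)]
    · rw [div_mul_cancel₀ _ ha1]
  -- from `F'` to `F`
  have hB : ∀ g ∈ D', ∃ p₀ q₀ r₀ s₀ : F, p₀ * s₀ - q₀ * r₀ = 1 ∧ ∀ v ∈ N,
      e (g * v * g⁻¹) 0 + f (e (g * v * g⁻¹) 1) = p₀ * (e v 0 + f (e v 1)) + q₀ * e v 1 ∧
        e (g * v * g⁻¹) 1 = r₀ * (e v 0 + f (e v 1)) + s₀ * e v 1 := by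
    intro g hg
    obtain ⟨M, hM⟩ := h'.act g hg
    obtain ⟨p₀, hp⟩ := hbij.2 (M.1 0 0 * α 1)
    obtain ⟨q₀, hq⟩ := hbij.2 (M.1 0 1 * b)
    obtain ⟨r₀, hr⟩ := hbij.2 (M.1 1 0 * (α 1 * α 1) / b)
    obtain ⟨s₀, hs⟩ := hbij.2 (M.1 1 1 * α 1)
    have hr' : α r₀ * b = M.1 1 0 * (α 1 * α 1) := by rw [hr, div_mul_cancel₀ _ hb]
    refine ⟨p₀, q₀, r₀, s₀, ?_, act_to (α := α) (b := b) (f := f) hbij ha hm ha1 hb hform (hcN' g hg) (fun v hv => by
      rw [hM v hv]; exact sl_apply M (e' v)) hp hq hr' hs⟩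
    have e1 := hm p₀ s₀
    have e2 := hm q₀ r₀
    have e3 := sl_det M
    have e4 : α (p₀ * s₀) = α (1 + q₀ * r₀) := by
      rw [ha]
      apply mul_right_cancel₀ ha1
      rw [add_mul, e1, e2, hp, hs, hq]
      linear_combination (α 1 * α 1) * e3 - M.1 0 1 * hr'
    linear_combination hbij.1 e4
  -- the torus
  have hf0 : f 0 = 0 := by have := hf 0 0; rw [add_zero] at this; simpa using this
  obtain ⟨c, hc⟩ := OM.Var.Spread.field_lemma h4 f hf fun a ha0 => by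
    obtain ⟨t, ht, htv⟩ := hA a⁻¹ 0 0 a (by rw [inv_mul_cancel₀ ha0]; ring)
    obtain ⟨M, hM⟩ := exists_sl (p := a) (q := 0) (r := 0) (s := a⁻¹) (by rw [mul_inv_cancel₀ ha0]; ring)
    obtain ⟨d, hd, hdM⟩ := h.full M
    have htv' : ∀ v ∈ N, e (t * v * t⁻¹) 0 = a⁻¹ * (e v 0 + f (e v 1)) - f (a * e v 1) ∧
        e (t * v * t⁻¹) 1 = a * e v 1 := by
      intro v hv
      obtain ⟨e1, e2⟩ := htv v hv
      rw [zero_mul, zero_add] at e2
      rw [zero_mul, add_zero] at e1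
      refine ⟨?_, e2⟩
      rw [e2] at e1
      linear_combination e1
    have hgv : ∀ v ∈ N, e ((d * t) * v * (d * t)⁻¹) 0 = e v 0 + (f (e v 1) - a * f (a * e v 1)) ∧
        e ((d * t) * v * (d * t)⁻¹) 1 = e v 1 := by
      intro v hv
      have e0 : (d * t) * v * (d * t)⁻¹ = d * (t * v * t⁻¹) * d⁻¹ := by group
      obtain ⟨e1, e2⟩ := htv' v hv
      obtain ⟨e3, e4⟩ := hM (e (t * v * t⁻¹))
      rw [e0, hdM _ (hcN' t ht v hv), e3, e4, e1, e2]
      refine ⟨?_, ?_⟩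
      · field_simp
        ring
      · field_simp
        ring
    have hdt : d * t ∈ D ⊔ D' := mul_mem (mem_sup_left hd) (mem_sup_right ht)
    have hdtN : ∀ v ∈ N, (d * t) * v * (d * t)⁻¹ ∈ N := fun v hv => by
      have e0 : (d * t) * v * (d * t)⁻¹ = d * (t * v * t⁻¹) * d⁻¹ := by group
      rw [e0]
      exact hcN d hd _ (hcN' t ht v hv)
    obtain ⟨c, hc⟩ := hX (d * t) hdt (fun v hv => by
      obtain ⟨hvN, hv1⟩ := (h.line v).1 hv
      refine crd_inj h (hdtN v hvN) hvN ?_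
      obtain ⟨e1, e2⟩ := hgv v hvN
      ext i
      fin_cases i
      · show e _ 0 = e v 0
        rw [e1, hv1, mul_zero, hf0, mul_zero, sub_zero, add_zero]
      · exact e2) fun v hv => by
      refine (h.line _).2 ⟨mul_mem (hdtN v hv) (inv_mem hv), ?_⟩
      rw [h.mul _ (hdtN v hv) _ (inv_mem hv), crd_inv h hv, Pi.add_apply, (hgv v hv).2]
      show e v 1 + - e v 1 = 0
      rw [add_neg_cancel]
    refine ⟨c, fun Y => ?_⟩
    obtain ⟨v, hv, hve⟩ := h.sur ![0, Y]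
    have e1 := (hgv v hv).1
    rw [hc v hv, hve] at e1
    have e2 : (0 : F) + c * Y = 0 + (f Y - a * f (a * Y)) := e1
    linear_combination -e2
  constructor
  · intro g hg
    obtain ⟨p₀, q₀, r₀, s₀, hdet, hgv⟩ := hB g hg
    obtain ⟨M, hM⟩ := exists_sl (p := p₀ - c * r₀) (q := p₀ * c + q₀ - c * (r₀ * c + s₀)) (r := r₀) (s := r₀ * c + s₀)
      (by linear_combination hdet)
    obtain ⟨d, hd, hdM⟩ := h.full M
    refine ⟨d, hd, fun v hv => crd_inj h (hcN' g hg v hv) (hcN d hd v hv) ?_⟩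
    obtain ⟨e1, e2⟩ := hgv v hv
    rw [hc, hc] at e1
    rw [hc] at e2
    rw [hdM v hv]
    obtain ⟨e3, e4⟩ := hM (e v)
    ext i
    fin_cases i
    · show e (g * v * g⁻¹) 0 = M.1.mulVec (e v) 0
      rw [e3]
      linear_combination e1 - c * e2
    · show e (g * v * g⁻¹) 1 = M.1.mulVec (e v) 1
      rw [e4]
      linear_combination e2
  · intro d hd
    obtain ⟨M, hM⟩ := h.act d hd
    obtain ⟨g, hg, hgv⟩ := hA (M.1 0 0 + c * M.1 1 0) (M.1 0 1 - (M.1 0 0 + c * M.1 1 0) * c + c * M.1 1 1) (M.1 1 0)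
      (M.1 1 1 - c * M.1 1 0) (by linear_combination sl_det M)
    refine ⟨g, hg, fun v hv => crd_inj h (hcN' g hg v hv) (hcN d hd v hv) ?_⟩
    obtain ⟨e1, e2⟩ := hgv v hv
    rw [hc, hc] at e1
    rw [hc] at e2
    rw [hM v hv]
    obtain ⟨e3, e4⟩ := sl_apply M (e v)
    ext i
    fin_cases i
    · show e (g * v * g⁻¹) 0 = M.1.mulVec (e v) 0
      rw [e3]
      linear_combination e1 - c * e2
    · show e (g * v * g⁻¹) 1 = M.1.mulVec (e v) 1
      rw [e4]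
      linear_combination e2

end main

end Cfsg.Agent.Omega.NOThreeL.RRed.NatUniq
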