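import Cfsg.Agent.Omega.NOThreeL.RRed.NatUniq

/-!
# `M₀` normalises `⟨D b, C_G(Z_J)⟩`, `Z_J = ⟨l b⟩` (helper679; #27631, #27651, #27515)

Over `NBs` : if `y` permutes the groups `D b C(V*)` and the lines `l b` up to elements of `E c`, and every `x ∈ E c`
normalises `D c C(V*)`, then `l b ^ x = l b ^ d`, `d ∈ D b`, there is ONE `h ∈ ⟨D b⟩` with `Z_J ^ y = Z_J ^ h`, and `y`
normalises `⟨D b⟩ C_G(Z_J)`.

* `exists_d` : `l c ^ x = l c ^ d`; `exists_h` : one `h` for all lines; **`conj_ZJ`** : `Z_J ^ y = Z_J ^ h`;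
* **`norm_of`** : `y ∈ N(⟨D b⟩ C_G(Z_J))`; **`nY_of`** : `MZ S ≤ N(..)`; `nS_of` : `N(S) ≤ N(..)`.
-/

set_option autoImplicit false
set_option linter.unusedSectionVars false

namespace Cfsg.Agent.Omega.NOThreeL.RRed.NormD

open Subgroup Cfsg Cfsg.Agent.ZN Cfsg.Agent.Omega.MinPar Cfsg.Agent.Omega.Frame
open Cfsg.Agent.Omega.NOThreeL.Merge (MZ)
open Cfsg.Agent.Omega.NOThreeL.RRed.GlueSig
open Cfsg.Agent.Omega.NOThreeL.RRed.WideTree
open scoped Pointwise

universe u

/-! ### Conjugates -/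

section conj

variable {G : Type u} [Group G]

theorem mem_conj {K : Subgroup G} {g x : G} : x ∈ MulAut.conj g • K ↔ g⁻¹ * x * g ∈ K := by
  rw [Subgroup.mem_pointwise_smul_iff_inv_smul_mem, ← map_inv]
  show MulAut.conj g⁻¹ x ∈ K ↔ _
  rw [MulAut.conj_apply, inv_inv]

theorem conj_mem {K : Subgroup G} {g k : G} (hk : k ∈ K) : g * k * g⁻¹ ∈ MulAut.conj g • K :=
  mem_conj.2 (by
    have e : g⁻¹ * (g * k * g⁻¹) * g = k := by group
    rwa [e])

theorem conj_le_iff {K L : Subgroup G} {g : G} : MulAut.conj g • K ≤ L ↔ ∀ k ∈ K, g * k * g⁻¹ ∈ L := by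
  constructor
  · exact fun h k hk => h (conj_mem hk)
  · rintro h _ ⟨k, hk, rfl⟩
    exact h k hk

theorem card_conj (K : Subgroup G) (g : G) : Nat.card ↥(MulAut.conj g • K) = Nat.card K :=
  (Nat.card_congr (Subgroup.equivSMul (MulAut.conj g) K).toEquiv).symm

theorem mem_normalizer_of_conj_le [Finite G] {K : Subgroup G} {g : G} (h : MulAut.conj g • K ≤ K) :
    g ∈ normalizer (K : Set G) := by
  have e : MulAut.conj g • K = K := Subgroup.eq_of_le_of_card_ge h (card_conj K g).ge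
  rw [mem_normalizer_iff]
  intro x
  constructor
  · intro hx
    rw [← e]
    exact conj_mem hx
  · intro hx
    rw [← e, mem_conj] at hx
    have e2 : g⁻¹ * (g * x * g⁻¹) * g = x := by group
    rwa [e2] at hx

theorem conj_iSup {ι : Type u} (K : ι → Subgroup G) (g : G) :
    MulAut.conj g • (⨆ i, K i) = ⨆ i, MulAut.conj g • K i := by
  apply le_antisymm
  · have h1 : (⨆ i, K i) ≤ MulAut.conj g⁻¹ • ⨆ i, MulAut.conj g • K i := iSup_le fun i k hk => by
      rw [mem_conj, inv_inv]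
      exact le_iSup (fun i => MulAut.conj g • K i) i (conj_mem hk)
    rw [conj_le_iff]
    intro k hk
    have h2 := mem_conj.1 (h1 hk)
    rwa [inv_inv] at h2
  · exact iSup_le fun i => conj_le_iff.2 fun k hk => conj_mem (le_iSup K i hk)

end conj

/-- `SL₂` is transitive on the vectors `≠ 0` -/
theorem exists_M {F : Type} [Field F] {w : Fin 2 → F} (hw : w ≠ 0) :
    ∃ M : Matrix.SpecialLinearGroup (Fin 2) F, M.1.mulVec ![1, 0] = w := by
  by_cases h0 : w 0 = 0
  · have h1 : w 1 ≠ 0 := fun h1 => hw (by ext i; fin_cases i; exacts [h0, h1])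
    obtain ⟨M, hM⟩ := NatUniq.exists_sl (p := w 0) (q := -(w 1)⁻¹) (r := w 1) (s := 0)
      (by rw [mul_zero, neg_mul, inv_mul_cancel₀ h1]; ring)
    refine ⟨M, ?_⟩
    obtain ⟨e1, e2⟩ := hM ![1, 0]
    ext i
    fin_cases i
    · rw [show M.1.mulVec ![1, 0] ((fun i => i) ⟨0, by decide⟩) = M.1.mulVec ![1, 0] 0 from rfl, e1]; simp
    · rw [show M.1.mulVec ![1, 0] ((fun i => i) ⟨1, by decide⟩) = M.1.mulVec ![1, 0] 1 from rfl, e2]; simp
  · obtain ⟨M, hM⟩ := NatUniq.exists_sl (p := w 0) (q := 0) (r := w 1) (s := (w 0)⁻¹)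
      (by rw [mul_inv_cancel₀ h0]; ring)
    refine ⟨M, ?_⟩
    obtain ⟨e1, e2⟩ := hM ![1, 0]
    ext i
    fin_cases i
    · rw [show M.1.mulVec ![1, 0] ((fun i => i) ⟨0, by decide⟩) = M.1.mulVec ![1, 0] 0 from rfl, e1]; simp
    · rw [show M.1.mulVec ![1, 0] ((fun i => i) ⟨1, by decide⟩) = M.1.mulVec ![1, 0] 1 from rfl, e2]; simp

section main

variable {G : Type u} [Group G] {S : Subgroup G} {ι : Type u} {N E D l : ι → Subgroup G} {q : ι → ℕ}

theorem N_le_Wd (h : NBs S N E D l q) (b : ι) : N b ≤ Wd S := by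
  rw [← h.dec.sup]
  exact (le_iSup N b).trans le_sup_left

theorem l_le (h : NBs S N E D l q) (b : ι) : l b ≤ N b := by
  obtain ⟨F, _, _, _, e, -, hn⟩ := h.nat b
  exact fun v hv => ((hn.line v).1 hv).1

theorem E_nor (h : NBs S N E D l q) {b : ι} {x v : G} (hx : x ∈ E b) (hv : v ∈ N b) : x * v * x⁻¹ ∈ N b :=
  (mem_normalizer_iff.1 (h.dec.EN b hx) v).1 hv

theorem D_cent (h : NBs S N E D l q) {b c : ι} (hbc : b ≠ c) {d v : G} (hd : d ∈ D b) (hv : v ∈ N c) :
    d * v * d⁻¹ = v := by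
  have h1 := mem_centralizer_iff.1 (h.dec.EC b c hbc (h.DE b hd)) v hv
  rw [← h1]; group

/-- `D b` does not centralise `N b` -/
theorem D_mv (h : NBs S N E D l q) (b : ι) : ¬ D b ≤ centralizer (N b : Set G) := by
  intro hc
  obtain ⟨F, _, _, _, e, -, hn⟩ := h.nat b
  obtain ⟨s, ⟨-, hsD⟩, hs⟩ := hn.sylow 1
  obtain ⟨v, hv, hve⟩ := hn.sur ![0, 1]
  have h1 := mem_centralizer_iff.1 (hc hsD) v hv
  have h2 : s * v * s⁻¹ = v := by rw [← h1]; group
  have h3 := hs v hv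
  rw [h2, hve] at h3
  have h4 := congrFun h3 0
  simp at h4

theorem nor_cent : MZ S ≤ normalizer (centralizer (Wd S : Set G) : Set G) := by
  have hW : MZ S ≤ normalizer (Wd S : Set G) := MinSimple.VModule.le_normalizer_zl _ _
  intro g hg
  have key : ∀ g ∈ MZ S, ∀ k ∈ centralizer (Wd S : Set G), g * k * g⁻¹ ∈ centralizer (Wd S : Set G) := by
    intro g hg k hk
    refine mem_centralizer_iff.2 fun v hv => ?_
    have h1 : g⁻¹ * v * g ∈ Wd S := by
      have := (mem_normalizer_iff.1 (hW (inv_mem hg)) v).1 hv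
      rwa [inv_inv] at this
    have h2 := mem_centralizer_iff.1 hk _ h1
    calc v * (g * k * g⁻¹) = g * ((g⁻¹ * v * g) * k) * g⁻¹ := by group
      _ = g * (k * (g⁻¹ * v * g)) * g⁻¹ := by rw [h2]
      _ = g * k * g⁻¹ * v := by group
  rw [mem_normalizer_iff]
  refine fun k => ⟨key g hg k, fun hk => ?_⟩
  have := key g⁻¹ (inv_mem hg) _ hk
  rw [inv_inv] at this
  have e : g⁻¹ * (g * k * g⁻¹) * g = k := by group
  rwa [e] at this

theorem D_le (h : NBs S N E D l q) (b : ι) : D b ≤ MZ S := (h.DE b).trans (h.dec.EL b)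

/-- the elements of `D c C(V*)` act on `V*` as elements of `D c` -/
theorem exists_act (h : NBs S N E D l q) {c : ι} {g : G} (hg : g ∈ D c ⊔ centralizer (Wd S : Set G)) :
    ∃ d ∈ D c, ∀ v ∈ Wd S, g * v * g⁻¹ = d * v * d⁻¹ := by
  obtain ⟨d, hd, k, hk, rfl⟩ := Blk.mem_sup_of ((D_le h c).trans nor_cent) hg
  refine ⟨d, hd, fun v hv => ?_⟩
  have h1 := mem_centralizer_iff.1 hk v hv
  calc d * k * v * (d * k)⁻¹ = d * (k * v) * k⁻¹ * d⁻¹ := by group
    _ = d * (v * k) * k⁻¹ * d⁻¹ := by rw [h1]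
    _ = d * v * d⁻¹ := by group

/-- `l c ^ x = l c ^ d`, `d ∈ D c`, for `x ∈ E c` which normalises `D c C(V*)` -/
theorem exists_d [Finite G] (h : NBs S N E D l q) {c : ι} {x : G} (hx : x ∈ E c)
    (hD : MulAut.conj x • D c ≤ D c ⊔ centralizer (Wd S : Set G)) :
    ∃ d ∈ D c, MulAut.conj x • l c = MulAut.conj d • l c := by
  obtain ⟨F, _, _, _, e, -, hn⟩ := h.nat c
  have hNV := N_le_Wd h c
  have hDN : ∀ d ∈ D c, ∀ v ∈ N c, d * v * d⁻¹ ∈ N c := fun d hd v hv => E_nor h (h.DE c hd) hv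
  -- a vector of `l c` and its image
  obtain ⟨v₁, hv₁, he₁⟩ := hn.sur ![1, 0]
  have hl₁ : v₁ ∈ l c := (hn.line v₁).2 ⟨hv₁, by rw [he₁]; rfl⟩
  set w := x * v₁ * x⁻¹ with hw
  have hwN : w ∈ N c := E_nor h hx hv₁
  have hw1 : w ≠ 1 := by
    intro h1
    have h2 : v₁ = 1 := by
      have : x⁻¹ * w * x = v₁ := by rw [hw]; group
      rw [← this, h1]; group
    have h3 := NatUniq.crd_one hn
    rw [← h2, he₁] at h3
    have h4 := congrFun h3 0
    simp at h4
  have hew : e w ≠ 0 := fun h1 => hw1 (hn.inj w hwN h1)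
  obtain ⟨M, hM⟩ := exists_M hew
  obtain ⟨d, hd, hdM⟩ := hn.full M
  have hdw : d * v₁ * d⁻¹ = w := by
    refine NatUniq.crd_inj hn (hDN d hd v₁ hv₁) hwN ?_
    rw [hdM v₁ hv₁, he₁, hM]
  refine ⟨d, hd, ?_⟩
  -- `l c ^ d` is centralised by the conjugate of the root group
  symm
  refine Subgroup.eq_of_le_of_card_ge ?_ (by rw [card_conj, card_conj])
  rw [conj_le_iff]
  intro u hu
  rw [mem_conj]
  obtain ⟨huN, hu1⟩ := (hn.line u).1 hu
  have huw : d * u * d⁻¹ ∈ N c := hDN d hd u huN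
  set u' := x⁻¹ * (d * u * d⁻¹) * x with hu'
  have hu'N : u' ∈ N c := by
    have := E_nor h (inv_mem hx) huw
    rwa [inv_inv] at this
  refine (hn.line u').2 ⟨hu'N, ?_⟩
  obtain ⟨s, ⟨hsS, hsD⟩, hs⟩ := hn.sylow 1
  -- `x s x⁻¹` acts as an element of `D c`, so `F`-linearly
  obtain ⟨d', hd', hact⟩ := exists_act h (hD (conj_mem hsD))
  obtain ⟨M', hM'⟩ := hn.act d' hd'
  have hfix : M'.1.mulVec (e w) = e w := by
    rw [← hM' w hwN, ← hact w (hNV hwN)]
    congr 1
    rw [hw]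
    have h1 : s * v₁ * s⁻¹ = v₁ := by
      refine NatUniq.crd_inj hn (hDN s hsD v₁ hv₁) hv₁ ?_
      rw [hs v₁ hv₁, he₁]
      ext i
      fin_cases i <;> simp
    calc x * s * x⁻¹ * (x * v₁ * x⁻¹) * (x * s * x⁻¹)⁻¹ = x * (s * v₁ * s⁻¹) * x⁻¹ := by group
      _ = x * v₁ * x⁻¹ := by rw [h1]
  have hud : e (d * u * d⁻¹) = e u 0 • e w := by
    rw [hdM u huN]
    have h1 : e u = e u 0 • ![1, 0] := by
      ext i
      fin_cases i
      · simp
      · simpa using hu1
    conv_lhs => rw [h1]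
    rw [Matrix.mulVec_smul, hM]
  have hfix2 : x * s * x⁻¹ * (d * u * d⁻¹) * (x * s * x⁻¹)⁻¹ = d * u * d⁻¹ := by
    rw [hact _ (hNV huw)]
    refine NatUniq.crd_inj hn (hDN d' hd' _ huw) huw ?_
    rw [hM' _ huw, hud, Matrix.mulVec_smul, hfix]
  have hfix3 : s * u' * s⁻¹ = u' := by
    calc s * u' * s⁻¹ = x⁻¹ * (x * s * x⁻¹ * (d * u * d⁻¹) * (x * s * x⁻¹)⁻¹) * x := by rw [hu']; group
      _ = u' := by rw [hfix2]
  have h5 := hs u' hu'N
  rw [hfix3] at h5
  have h6 := congrFun h5 0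
  have h7 : e u' 0 = e u' 0 + 1 * e u' 1 := h6
  rw [one_mul] at h7
  exact left_eq_add.1 h7

/-- one `h` for all lines -/
theorem exists_h [Finite ι] (h : NBs S N E D l q) (d : ι → G) (hd : ∀ c, d c ∈ D c) :
    ∃ y ∈ ⨆ b, D b, ∀ c, MulAut.conj y • l c = MulAut.conj (d c) • l c := by
  classical
  have := Fintype.ofFinite ι
  have key : ∀ s : Finset ι, ∃ y ∈ ⨆ b, D b, (∀ c ∈ s, MulAut.conj y • l c = MulAut.conj (d c) • l c) ∧
      ∀ c, c ∉ s → ∀ v ∈ N c, y * v * y⁻¹ = v := by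
    intro s
    induction s using Finset.induction_on with
    | empty => exact ⟨1, one_mem _, fun c hc => absurd hc (Finset.notMem_empty c), fun c _ v _ => by group⟩
    | insert a s ha ih =>
      obtain ⟨y, hy, hy1, hy2⟩ := ih
      refine ⟨y * d a, mul_mem hy (le_iSup D a (hd a)), fun c hc => ?_, fun c hc v hv => ?_⟩
      · rw [map_mul, mul_smul]
        rcases Finset.mem_insert.1 hc with rfl | hcs
        · have hle : MulAut.conj (d c) • l c ≤ N c := conj_le_iff.2 fun k hk =>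
            E_nor h (h.DE c (hd c)) (l_le h c hk)
          refine le_antisymm (conj_le_iff.2 fun k hk => ?_) fun k hk => mem_conj.2 ?_
          · rwa [hy2 c ha k (hle hk)]
          · have h1 := hy2 c ha k (hle hk)
            have h2 : y⁻¹ * k * y = k := by
              calc y⁻¹ * k * y = y⁻¹ * (y * k * y⁻¹) * y := by rw [h1]
                _ = k := by group
            rwa [h2]
        · have hca : a ≠ c := fun h1 => ha (h1 ▸ hcs)
          have h1 : MulAut.conj (d a) • l c = l c := by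
            refine le_antisymm (conj_le_iff.2 fun k hk => ?_) fun k hk => mem_conj.2 ?_
            · rwa [D_cent h hca (hd a) (l_le h c hk)]
            · have h1 := D_cent h hca (inv_mem (hd a)) (l_le h c hk)
              rw [inv_inv] at h1
              rwa [h1]
          rw [h1, hy1 c hcs]
      · have hca : a ≠ c := fun h1 => hc (h1 ▸ Finset.mem_insert_self a s)
        have hcs : c ∉ s := fun h1 => hc (Finset.mem_insert_of_mem h1)
        calc y * d a * v * (y * d a)⁻¹ = y * (d a * v * (d a)⁻¹) * y⁻¹ := by group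
          _ = y * v * y⁻¹ := by rw [D_cent h hca (hd a) hv]
          _ = v := hy2 c hcs v hv
  obtain ⟨y, hy, h1, -⟩ := key Finset.univ
  exact ⟨y, hy, fun c => h1 c (Finset.mem_univ c)⟩

theorem N_inj (h : NBs S N E D l q) {a b : ι} (e : N a = N b) : a = b := by
  by_contra hab
  apply h.dec.ne a
  rw [eq_bot_iff, ← h.dec.ind b]
  refine le_inf e.le ((le_iSup (fun c : {c // c ≠ b} => N c) ⟨a, hab⟩).trans le_sup_left)

/-- **`Z_J ^ y = Z_J ^ k`, `k ∈ ⟨D b⟩`** -/
theorem conj_ZJ [Finite G] [Finite ι] (h : NBs S N E D l q)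
    (hE : ∀ c, ∀ x ∈ E c, MulAut.conj x • D c ≤ D c ⊔ centralizer (Wd S : Set G)) {y : G}
    (hl : ∀ b, ∃ c, ∃ x ∈ E c, MulAut.conj y • N b = N c ∧ MulAut.conj y • l b = MulAut.conj x • l c) :
    ∃ k ∈ ⨆ b, D b, MulAut.conj y • (⨆ b, l b) = MulAut.conj k • (⨆ b, l b) := by
  choose c x hx hxN hxl using hl
  choose d hd hdl using fun b => exists_d h (hx b) (hE (c b) (x b) (hx b))
  have hcinj : Function.Injective c := fun a b hab => N_inj h (by
    have h1 : MulAut.conj y • N a = MulAut.conj y • N b := by rw [hxN, hxN, hab]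
    exact smul_left_cancel _ h1)
  have hcb : Function.Bijective c := Finite.injective_iff_bijective.1 hcinj
  let e := Equiv.ofBijective c hcb
  have he : ∀ a, c (e.symm a) = a := fun a => e.apply_symm_apply a
  obtain ⟨k, hk, hkl⟩ := exists_h h (fun a => d (e.symm a)) fun a => by
    have := hd (e.symm a)
    rwa [he] at this
  refine ⟨k, hk, ?_⟩
  rw [conj_iSup, conj_iSup]
  apply le_antisymm
  · refine iSup_le fun b => ?_
    have h1 : e.symm (c b) = b := e.symm_apply_apply b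
    have h2 := hkl (c b)
    rw [h1] at h2
    rw [hxl, hdl, ← h2]
    exact le_iSup (fun a => MulAut.conj k • l a) (c b)
  · refine iSup_le fun a => ?_
    have h2 := hkl a
    have h3 := hdl (e.symm a)
    rw [he] at h3
    rw [h2, ← h3]
    have h4 := hxl (e.symm a)
    rw [he] at h4
    rw [← h4]
    exact le_iSup (fun b => MulAut.conj y • l b) (e.symm a)

theorem conj_centralizer (K : Subgroup G) (y : G) :
    MulAut.conj y • centralizer (K : Set G) = centralizer ((MulAut.conj y • K : Subgroup G) : Set G) := by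
  ext g
  rw [mem_conj, mem_centralizer_iff, mem_centralizer_iff]
  constructor
  · intro h k hk
    have h1 := h _ (mem_conj.1 hk)
    calc k * g = y * ((y⁻¹ * k * y) * (y⁻¹ * g * y)) * y⁻¹ := by group
      _ = y * ((y⁻¹ * g * y) * (y⁻¹ * k * y)) * y⁻¹ := by rw [h1]
      _ = g * k := by group
  · intro h k hk
    have h1 := h _ (conj_mem (g := y) hk)
    calc k * (y⁻¹ * g * y) = y⁻¹ * ((y * k * y⁻¹) * g) * y := by group
      _ = y⁻¹ * (g * (y * k * y⁻¹)) * y := by rw [h1]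
      _ = y⁻¹ * g * y * k := by group

/-- **`y` normalises `⟨D b⟩ C_G(Z_J)`** -/
theorem norm_of [Finite G] [Finite ι] (h : NBs S N E D l q)
    (hE : ∀ c, ∀ x ∈ E c, MulAut.conj x • D c ≤ D c ⊔ centralizer (Wd S : Set G)) {y : G}
    (hD : ∀ b, ∃ c, MulAut.conj y • D b ≤ D c ⊔ centralizer (Wd S : Set G))
    (hl : ∀ b, ∃ c, ∃ x ∈ E c, MulAut.conj y • N b = N c ∧ MulAut.conj y • l b = MulAut.conj x • l c) :
    y ∈ normalizer (((⨆ b, D b) ⊔ centralizer ((⨆ b, l b : Subgroup G) : Set G) : Subgroup G) : Set G) := by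
  have hC : centralizer (Wd S : Set G) ≤ centralizer ((⨆ b, l b : Subgroup G) : Set G) :=
    centralizer_le (iSup_le fun b => (l_le h b).trans (N_le_Wd h b) : (⨆ b, l b) ≤ Wd S)
  obtain ⟨k, hk, hky⟩ := conj_ZJ h hE hl
  refine mem_normalizer_of_conj_le ?_
  rw [Subgroup.smul_sup, conj_iSup]
  refine sup_le (iSup_le fun b => ?_) ?_
  · obtain ⟨c, hc⟩ := hD b
    exact hc.trans (sup_le_sup (le_iSup D c) hC)
  · rw [conj_centralizer, hky, ← conj_centralizer]
    refine conj_le_iff.2 fun g hg => ?_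
    exact mul_mem (mul_mem (mem_sup_left hk) (mem_sup_right hg)) (inv_mem (mem_sup_left hk))

/-- `x ∈ E c` normalises `D c C(V*)` -/
theorem hE_of (h : NBs S N E D l q)
    (hD : ∀ y ∈ MZ S, ∀ b, ∃ c, MulAut.conj y • D b ≤ D c ⊔ centralizer (Wd S : Set G)) :
    ∀ c, ∀ x ∈ E c, MulAut.conj x • D c ≤ D c ⊔ centralizer (Wd S : Set G) := by
  intro c x hx
  obtain ⟨c', hc'⟩ := hD x (h.dec.EL c hx) c
  by_cases e : c' = c
  · rwa [e] at hc'
  exfalso
  apply D_mv h c
  intro d hd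
  refine mem_centralizer_iff.2 fun v hv => ?_
  have hxv : x * v * x⁻¹ ∈ N c := E_nor h hx hv
  obtain ⟨d', hd', hact⟩ := exists_act h (hc' (conj_mem hd))
  have h1 := hact _ (N_le_Wd h c hxv)
  rw [D_cent h e hd' hxv] at h1
  have h2 : x * (d * v * d⁻¹) * x⁻¹ = x * v * x⁻¹ := by
    rw [← h1]; group
  have h3 : d * v * d⁻¹ = v := by
    have e1 : x⁻¹ * (x * (d * v * d⁻¹) * x⁻¹) * x = d * v * d⁻¹ := by group
    have e2 : x⁻¹ * (x * v * x⁻¹) * x = v := by group
    rw [← e1, h2, e2]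
  calc v * d = (d * v * d⁻¹) * d := by rw [h3]
    _ = d * v := by group

/-- **`M₀` normalises `⟨D b⟩ C_G(Z_J)`** -/
theorem nY_of [Finite G] [Finite ι] (h : NBs S N E D l q)
    (hn : ∀ y ∈ MZ S, ∀ b, ∃ c, MulAut.conj y • (D b ⊔ centralizer (Wd S : Set G)) =
      D c ⊔ centralizer (Wd S : Set G)) :
    MZ S ≤ normalizer (((⨆ b, D b) ⊔ centralizer ((⨆ b, l b : Subgroup G) : Set G) : Subgroup G) : Set G) := by
  have hD : ∀ y ∈ MZ S, ∀ b, ∃ c, MulAut.conj y • D b ≤ D c ⊔ centralizer (Wd S : Set G) := fun y hy b => by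
    obtain ⟨c, hc⟩ := hn y hy b
    refine ⟨c, ?_⟩
    rw [← hc]
    exact Subgroup.pointwise_smul_le_pointwise_smul_iff.2 le_sup_left
  have hE := hE_of h hD
  exact fun y hy => norm_of h hE (hD y hy) (h.lnY y hy)

/-- **`N_G(S)` normalises `⟨D b⟩ C_G(Z_J)`** -/
theorem nS_of [Finite G] [Finite ι] (h : NBs S N E D l q)
    (hn : ∀ y ∈ MZ S ⊔ normalizer (S : Set G), ∀ b, ∃ c,
      MulAut.conj y • (D b ⊔ centralizer (Wd S : Set G)) = D c ⊔ centralizer (Wd S : Set G)) :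
    normalizer (S : Set G) ≤
      normalizer (((⨆ b, D b) ⊔ centralizer ((⨆ b, l b : Subgroup G) : Set G) : Subgroup G) : Set G) := by
  have hD : ∀ y ∈ MZ S ⊔ normalizer (S : Set G), ∀ b, ∃ c,
      MulAut.conj y • D b ≤ D c ⊔ centralizer (Wd S : Set G) := fun y hy b => by
    obtain ⟨c, hc⟩ := hn y hy b
    refine ⟨c, ?_⟩
    rw [← hc]
    exact Subgroup.pointwise_smul_le_pointwise_smul_iff.2 le_sup_left
  have hE := hE_of h fun y hy => hD y (mem_sup_left hy)
  refine fun y hy => norm_of h hE (hD y (mem_sup_right hy)) fun b => ?_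
  obtain ⟨c, h1, h2⟩ := h.permN y hy b
  exact ⟨c, 1, one_mem _, h1, by rw [map_one, one_smul]; exact h2⟩

end main

end Cfsg.Agent.Omega.NOThreeL.RRed.NormD
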