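import Cfsg.Agent.Omega.NOThreeL.RRed.OneOrb
import Cfsg.Agent.Omega.NOThreeL.RRed.OneTwoFour
import Cfsg.Agent.Omega.NO3S.Level.Basic

/-!
# The socket `WOneTwo` (one class, two natural blocks) from the two level statements

One class, one `S`-orbit of at least two natural blocks, `q ≥ 8`:

* `StdD B` : `J(S)` or some `lev S (n+1)` moves `V*`, `lev S n` does not: `False` (standard levels);
* `TopD B` : `J(S)` and all `lev S n` centralise `V*`: `False` (level `(C_S(V*), V*)`);
* `NlTop B` : the same with the conclusion: no 2-group `≠ 1` is normalised by `C_G(Z)` and all `D b`; **`topD_of_nl`**;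
* `NlD B` : the nonlocality form without level hypothesis;
* `OrbD B` : one `S`-orbit of at least two natural blocks, `q ≥ 8`, is impossible;  **`orbD_of`** (from `StdD`, `TopD`),
  `orbD_of_nl` (from `NlD`), `orbD_of_two` (`J(S)` moves `V*` or not), `orb_false`;
* **`wOneTwo_of`** : `StdD B → TopD B → WOneTwo K B` (`q = 4` : `OneTwoFour.wOneTwo_four`).
-/

set_option autoImplicit false
set_option linter.unusedSectionVars false
set_option linter.unusedVariables false

namespace Cfsg.Agent.Omega.NOThreeL.RRed.OneTwoOf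

open Subgroup Cfsg Cfsg.Agent.ZN
open Cfsg.Agent.Omega.MinPar Cfsg.Agent.Omega.Frame Cfsg.Agent.Omega.FrameNOFF
open Cfsg.Agent.Omega.NO3S.Level (lev)
open Cfsg.Agent.Omega.NOThreeL.Merge (MZ)
open Cfsg.Agent.Omega.NOThreeL.RTree (RB)
open Cfsg.Agent.Omega.NOThreeL.RRed.GlueSig
open Cfsg.Agent.Omega.NOThreeL.RRed.WideTree
open scoped Pointwise

universe u

variable {G : Type u} [Group G]

/-- one `S`-orbit of at least two natural blocks `N b`, `q ≥ 8`, one class -/
structure OD (S : Subgroup G) {ι : Type u} (N E D l : ι → Subgroup G) (q : ℕ) : Prop where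
  cm : CM S (fun _ : PUnit.{u + 1} => Wd S)
  q8 : 8 ≤ q
  nb : NBs S N E D l (fun _ => q)
  src : Src S N l (fun _ => q)
  tr : ∀ a b, ∃ s ∈ S, MulAut.conj s • N a = N b
  two : 2 ≤ Nat.card ι

/-- **standard levels** : `J(S)` moves `V*`, or `lev S n` does not and `lev S (n+1)` does -/
def StdD (B : Fr.{u}) : Prop :=
  ∀ (G : Type u) [Group G] [Finite G] (S : Sylow 2 G), B G S → Wide S → MvAct (S : Subgroup G) →
    ∀ (ι : Type u) [Finite ι] (N E D l : ι → Subgroup G) (q : ℕ), OD (S : Subgroup G) N E D l q →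
      (¬ jj (S : Subgroup G) ≤ centralizer (Wd (S : Subgroup G) : Set G) ∨
        ∃ n, lev (S : Subgroup G) n ≤ centralizer (Wd (S : Subgroup G) : Set G) ∧
          ¬ lev (S : Subgroup G) (n + 1) ≤ centralizer (Wd (S : Subgroup G) : Set G)) → False

/-- **the top level** : `J(S)` and all `lev S n` centralise `V*` -/
def TopD (B : Fr.{u}) : Prop :=
  ∀ (G : Type u) [Group G] [Finite G] (S : Sylow 2 G), B G S → Wide S → MvAct (S : Subgroup G) →
    ∀ (ι : Type u) [Finite ι] (N E D l : ι → Subgroup G) (q : ℕ), OD (S : Subgroup G) N E D l q →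
      jj (S : Subgroup G) ≤ centralizer (Wd (S : Subgroup G) : Set G) →
      (∀ n, lev (S : Subgroup G) n ≤ centralizer (Wd (S : Subgroup G) : Set G)) → False

/-- the top level, nonlocality form: no 2-group `≠ 1` is normalised by `C_G(Z)` and all `D b` -/
def NlTop (B : Fr.{u}) : Prop :=
  ∀ (G : Type u) [Group G] [Finite G] (S : Sylow 2 G), B G S → Wide S → MvAct (S : Subgroup G) →
    ∀ (ι : Type u) [Finite ι] (N E D l : ι → Subgroup G) (q : ℕ), OD (S : Subgroup G) N E D l q →
      jj (S : Subgroup G) ≤ centralizer (Wd (S : Subgroup G) : Set G) →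
      (∀ n, lev (S : Subgroup G) n ≤ centralizer (Wd (S : Subgroup G) : Set G)) →
        ∀ U : Subgroup G, IsPGroup 2 U → CZ (S : Subgroup G) ≤ normalizer (U : Set G) →
          (∀ b, D b ≤ normalizer (U : Set G)) → U = ⊥

/-- no level hypothesis: no 2-group `≠ 1` is normalised by `C_G(Z)` and all `D b` -/
def NlD (B : Fr.{u}) : Prop :=
  ∀ (G : Type u) [Group G] [Finite G] (S : Sylow 2 G), B G S → Wide S → MvAct (S : Subgroup G) →
    ∀ (ι : Type u) [Finite ι] (N E D l : ι → Subgroup G) (q : ℕ), OD (S : Subgroup G) N E D l q →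
      ∀ U : Subgroup G, IsPGroup 2 U → CZ (S : Subgroup G) ≤ normalizer (U : Set G) →
        (∀ b, D b ≤ normalizer (U : Set G)) → U = ⊥

/-- no level hypothesis: impossible -/
def OrbD (B : Fr.{u}) : Prop :=
  ∀ (G : Type u) [Group G] [Finite G] (S : Sylow 2 G), B G S → Wide S → MvAct (S : Subgroup G) →
    ∀ (ι : Type u) [Finite ι] (N E D l : ι → Subgroup G) (q : ℕ), OD (S : Subgroup G) N E D l q → False

section grp

variable [Finite G] {S : Sylow 2 G} {ι : Type u} {N E D l : ι → Subgroup G} {q : ℕ}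

/-- `q` is a power of 2 -/
theorem eq_four_or (h : NBs (S : Subgroup G) N E D l (fun _ => q)) (hq : 4 ≤ q) (i : ι) : q = 4 ∨ 8 ≤ q := by
  obtain ⟨F, i1, i2, i3, e, hF, -⟩ := h.nat i
  have hF' : Nat.card F = q := hF
  have := Fintype.ofFinite F
  obtain ⟨n, -, hn⟩ := FiniteField.card F 2
  rw [Nat.card_eq_fintype_card, hn] at hF'
  by_cases h2 : (n : ℕ) ≤ 2
  · left
    have h3 : q ≤ 2 ^ 2 := by rw [← hF']; exact Nat.pow_le_pow_right (by norm_num) h2
    omega
  · right
    push Not at h2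
    rw [← hF']
    calc 8 = 2 ^ 3 := by norm_num
      _ ≤ 2 ^ (n : ℕ) := Nat.pow_le_pow_right (by norm_num) h2

/-- a level dichotomy -/
theorem std_or (S V : Subgroup G) : (¬ jj S ≤ centralizer (V : Set G) ∨
    ∃ n, lev S n ≤ centralizer (V : Set G) ∧ ¬ lev S (n + 1) ≤ centralizer (V : Set G)) ∨
    (jj S ≤ centralizer (V : Set G) ∧ ∀ n, lev S n ≤ centralizer (V : Set G)) := by
  by_cases h : ¬ jj S ≤ centralizer (V : Set G) ∨
    ∃ n, lev S n ≤ centralizer (V : Set G) ∧ ¬ lev S (n + 1) ≤ centralizer (V : Set G)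
  · exact Or.inl h
  right
  push Not at h
  refine ⟨h.1, fun n => ?_⟩
  induction n with
  | zero => exact h.1
  | succ n ih => exact h.2 n ih

/-- the top level from the nonlocality form -/
theorem topD_of_nl {B : Fr.{u}} (nl : NlTop B) : TopD B := fun G _ _ S hB W mv ι _ N E D l q h hj hl =>
  OneOrb.one_orb W.toRB h.nb h.src h.tr fun D' h' =>
    nl G S hB W mv ι N E D' l q ⟨h.cm, h.q8, h', h.src, h.tr, h.two⟩ hj hl

/-- from the nonlocality form without level hypothesis -/
theorem orbD_of_nl {B : Fr.{u}} (nl : NlD B) : OrbD B := fun G _ _ S hB W mv ι _ N E D l q h =>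
  OneOrb.one_orb W.toRB h.nb h.src h.tr fun D' h' =>
    nl G S hB W mv ι N E D' l q ⟨h.cm, h.q8, h', h.src, h.tr, h.two⟩

/-- **one `S`-orbit of at least two natural blocks, `q ≥ 8`, one class, is impossible** -/
theorem orbD_of {B : Fr.{u}} (std : StdD B) (top : TopD B) : OrbD B := by
  intro G _ _ S hB W mv ι _ N E D l q h
  rcases std_or (S : Subgroup G) (Wd (S : Subgroup G)) with h1 | ⟨h1, h2⟩
  · exact std G S hB W mv ι N E D l q h h1
  · exact top G S hB W mv ι N E D l q h h1 h2

/-- two cases only: `J(S)` moves `V*` or not -/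
theorem orbD_of_two {B : Fr.{u}}
    (h1 : ∀ (G : Type u) [Group G] [Finite G] (S : Sylow 2 G), B G S → Wide S → MvAct (S : Subgroup G) →
      ∀ (ι : Type u) [Finite ι] (N E D l : ι → Subgroup G) (q : ℕ), OD (S : Subgroup G) N E D l q →
        ¬ jj (S : Subgroup G) ≤ centralizer (Wd (S : Subgroup G) : Set G) → False)
    (h2 : ∀ (G : Type u) [Group G] [Finite G] (S : Sylow 2 G), B G S → Wide S → MvAct (S : Subgroup G) →
      ∀ (ι : Type u) [Finite ι] (N E D l : ι → Subgroup G) (q : ℕ), OD (S : Subgroup G) N E D l q →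
        jj (S : Subgroup G) ≤ centralizer (Wd (S : Subgroup G) : Set G) → False) : OrbD B := by
  intro G _ _ S hB W mv ι _ N E D l q h
  by_cases hj : jj (S : Subgroup G) ≤ centralizer (Wd (S : Subgroup G) : Set G)
  · exact h2 G S hB W mv ι N E D l q h hj
  · exact h1 G S hB W mv ι N E D l q h hj

theorem orb_false {B : Fr.{u}} (std : StdD B) (top : TopD B) (hB : B G S) (W : Wide S)
    (mv : MvAct (S : Subgroup G)) [Finite ι] (h : OD (S : Subgroup G) N E D l q) : False :=
  orbD_of std top G S hB W mv ι N E D l q h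

/-- `S` is transitive on two blocks of one class -/
theorem tr_two (W : Wide S) (hCM : CM (S : Subgroup G) (fun _ : PUnit.{u + 1} => Wd (S : Subgroup G)))
    (h : NBs (S : Subgroup G) N E D l (fun _ => q)) (hι : Nat.card ι = 2) :
    ∀ a b, ∃ s ∈ (S : Subgroup G), MulAut.conj s • N a = N b := by
  obtain ⟨b, c, hbc, hall⟩ := Nat.card_eq_two_iff.1 hι
  have hall' : ∀ d, d = b ∨ d = c := fun d => by
    have h1 : d ∈ ({b, c} : Set ι) := by rw [hall]; exact Set.mem_univ d
    simpa using h1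
  obtain ⟨s, hs, h1, h2⟩ := OneTwoFour.exists_swap h hbc hall' W.toRB (hCM.irr PUnit.unit)
  intro d e
  rcases hall' d with rfl | rfl <;> rcases hall' e with rfl | rfl
  · exact ⟨1, one_mem _, by rw [map_one, one_smul]⟩
  · exact ⟨s, hs, h1⟩
  · exact ⟨s, hs, h2⟩
  · exact ⟨1, one_mem _, by rw [map_one, one_smul]⟩

end grp

/-- **`WOneTwo` from `OrbD`.** -/
theorem wOneTwo_of_orbD {K : Cls.{u}} {B : Fr.{u}} (orb : OrbD B) : WOneTwo K B := by
  intro G _ _ _ S hB W mv hCM ι _ N E D l q hq h hs hι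
  exfalso
  have hne : Nonempty ι := (Nat.card_pos_iff.1 (by omega : 0 < Nat.card ι)).1
  obtain ⟨i⟩ := hne
  rcases eq_four_or h hq i with rfl | h8
  · exact OneTwoFour.wOneTwo_four W hCM h hι
  · exact orb G S hB W mv ι N E D l q ⟨hCM, h8, h, hs, tr_two W hCM h hι, hι.ge⟩

/-- **`WOneTwo` from its levels.** -/
theorem wOneTwo_of {K : Cls.{u}} {B : Fr.{u}} (std : StdD B) (top : TopD B) : WOneTwo K B :=
  wOneTwo_of_orbD (orbD_of std top)

/-- **`WOneTwo` from `NlD`.** -/
theorem wOneTwo_of_nl {K : Cls.{u}} {B : Fr.{u}} (nl : NlD B) : WOneTwo K B := wOneTwo_of_orbD (orbD_of_nl nl)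

end Cfsg.Agent.Omega.NOThreeL.RRed.OneTwoOf
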