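import Cfsg.Agent.Omega.NOThreeL.RRed.OneNon
import Cfsg.Agent.Omega.NOThreeL.RRed.FullSup
import Cfsg.Agent.Omega.NOThreeL.RRed.Blk.Dich

/-!
# NO-3L, box R, one class, at least two `S`-orbits of blocks (bb #27002, #27099 (I), ruling #27569 (NLP))

`V* = ∏ N b`, `Dec S (MZ S) (Wd S) N E ⊥`, `O b ⊆ N b` with `Orbs`; `J` an `S`-invariant set of blocks.

* `NLP S N O` : for `z₀`, `z₁ ∈ Z` of full support in `J`, `Jᶜ` the pair `C_G(z₀)`, `C_G(z₁)` is nonlocal;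
* `SBad S N O` : `BadG` for the vectors of `Z` of full support in `J`;
* `norm_sup` : `n` permutes the blocks and fixes a vector of full support in `J` ⟹ `n` normalises both products;
* `le_V` : `⨆_{b ∉ J} N b ≤ ⟨z₁ ^ C_G(z₀)⟩`;
* **`mv_set`** : some `A ∈ 𝒜(O₂(C_G(Z)))` moves `⨆_{b ∈ J} N b`;  **`allB`** : and every block, if no `S`-orbit is everything.
-/

set_option autoImplicit false
set_option linter.unusedSectionVars false

namespace Cfsg.Agent.Omega.NOThreeL.RRed.OneNon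

open Subgroup Cfsg Cfsg.Agent.ZN Cfsg.Agent.Omega.MinPar Cfsg.Agent.Omega.Frame Cfsg.Agent.Omega.FrameNOFF
open Cfsg.Agent.Omega.Node.NO3L Cfsg.Agent.Omega.NOThreeL.Basic
open Cfsg.Agent.Omega.NOThreeL.Merge (MZ le_MZ S_le_MZ)
open Cfsg.Agent.Omega.NOThreeL.RTree (RB)
open Cfsg.Agent.Omega.NOThreeL.RZ.TwoC (BadG QQ)
open Cfsg.Agent.Omega.NOThreeL.RRed.Blk
open Cfsg.Agent.Omega.NOThreeL.RZ.TwoC.DecE (Orbs PP)
open Cfsg.Agent.MinSimple.VModule (le_o2 o2_isPGroup o2_le le_normalizer_o2 zc_le_zl mem_zc)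
open Cfsg.Agent.Omega.NO3b.EndX (RedP)
open scoped Pointwise

universe u v w

section defs

variable {G : Type u} [Group G] {κ : Type v}

/-- **the pair form of `nl`** (889 #27569) -/
def NLP (S : Subgroup G) (N : κ → Subgroup G) (O : κ → Set G) : Prop :=
  ∀ J : Set κ, InvJ S N J → J.Nonempty → Jᶜ.Nonempty → ∀ z₀ ∈ FSup N ⊥ O J, z₀ ∈ zc S → ∀ z₁ ∈ FSup N ⊥ O Jᶜ, z₁ ∈ zc S →
    NonLoc (centralizer ({z₀} : Set G)) (centralizer ({z₁} : Set G))

/-- `bad` for the vectors of `Z` of full support in an `S`-invariant set of blocks -/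
def SBad (S : Subgroup G) (N : κ → Subgroup G) (O : κ → Set G) : Prop :=
  ∀ J : Set κ, InvJ S N J → ∀ z ∈ FSup N ⊥ O J, z ∈ zc S → ∀ R B : Subgroup G, R = (⨆ b : J, N b) →
    B = (⨆ b : {b // b ∉ J}, N b) →
    BadG (centralizer ({z} : Set G) ⊓ QQ S R B (S ⊓ centralizer (B : Set G))) (S ⊓ centralizer (B : Set G)) R

end defs

section perm

variable {G : Type u} [Group G] {κ : Type v} {N : κ → Subgroup G} {P : Subgroup G} {J : Set κ}

/-- `P` permutes the `N b` and fixes `z`, which has its full support in `J` -/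
theorem mem_of_perm (hP : ∀ n ∈ P, ∀ b, ∃ c, MulAut.conj n • N b = N c)
    (inj : ∀ b c, N b = N c → b = c) {z : G} (hz : z ∈ ⨆ b : J, N b)
    (hf : ∀ b ∈ J, z ∉ ⨆ m : {m // m ≠ b}, N m) {n : G} (hn : n ∈ P) (hnz : n * z * n⁻¹ = z) {b c : κ} (hb : b ∈ J)
    (hbc : MulAut.conj n • N b = N c) : c ∈ J := by
  by_contra hc
  apply hf b hb
  have h1 : z ∈ ⨆ m : {m // m ≠ c}, N m := by
    refine (iSup_le fun d : J => ?_ : (⨆ b : J, N b) ≤ _) hz
    exact le_iSup (fun m : {m // m ≠ c} => N m) ⟨d.1, fun e => hc (e ▸ d.2)⟩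
  have h2 : MulAut.conj n⁻¹ • (⨆ m : {m // m ≠ c}, N m) ≤ ⨆ m : {m // m ≠ b}, N m := by
    rw [show MulAut.conj n⁻¹ • (⨆ m : {m // m ≠ c}, N m) = ⨆ m : {m // m ≠ c}, MulAut.conj n⁻¹ • N m from
      Subgroup.map_iSup _ _]
    refine iSup_le fun m => ?_
    obtain ⟨d, hd⟩ := hP n⁻¹ (inv_mem hn) m
    rw [hd]
    refine le_iSup (fun m : {m // m ≠ b} => N m) ⟨d, fun e => m.2 ?_⟩
    subst e
    apply inj
    rw [← hbc, ← hd, map_inv, smul_inv_smul]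
  have h3 := h2 ((conj_smul rfl).1 h1)
  have e : n⁻¹ * z * n⁻¹⁻¹ = z := by
    have : z = n⁻¹ * (n * z * n⁻¹) * n := by group
    rw [hnz] at this
    rw [inv_inv]
    exact this.symm
  rwa [e] at h3

/-- **`n` normalises both products** -/
theorem norm_sup (hP : ∀ n ∈ P, ∀ b, ∃ c, MulAut.conj n • N b = N c)
    (inj : ∀ b c, N b = N c → b = c) {z : G} (hz : z ∈ ⨆ b : J, N b)
    (hf : ∀ b ∈ J, z ∉ ⨆ m : {m // m ≠ b}, N m) :
    centralizer ({z} : Set G) ⊓ P ≤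
      normalizer ((⨆ b : J, N b : Subgroup G) : Set G) ⊓ normalizer ((⨆ b : {b // b ∉ J}, N b : Subgroup G) : Set G) := by
  have hfix : ∀ n ∈ centralizer ({z} : Set G), n * z * n⁻¹ = z := fun n hn =>
    mul_inv_eq_iff_eq_mul.2 (mem_centralizer_singleton_iff.1 hn)
  have k1 : ∀ n ∈ centralizer ({z} : Set G) ⊓ P, ∀ x ∈ (⨆ b : J, N b), n * x * n⁻¹ ∈ ⨆ b : J, N b := by
    rintro n ⟨hnz, hn⟩ x hx
    have h1 : MulAut.conj n • (⨆ b : J, N b) ≤ ⨆ b : J, N b := by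
      rw [show MulAut.conj n • (⨆ b : J, N b) = ⨆ b : J, MulAut.conj n • N b from Subgroup.map_iSup _ _]
      refine iSup_le fun b => ?_
      obtain ⟨c, hc⟩ := hP n hn b
      rw [hc]
      exact le_iSup (fun b : J => N b) ⟨c, mem_of_perm hP inj hz hf hn (hfix n hnz) b.2 hc⟩
    exact h1 ((conj_smul rfl).1 hx)
  have k2 : ∀ n ∈ centralizer ({z} : Set G) ⊓ P, ∀ x ∈ (⨆ b : {b // b ∉ J}, N b), n * x * n⁻¹ ∈ ⨆ b : {b // b ∉ J}, N b := by
    rintro n ⟨hnz, hn⟩ x hx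
    have h1 : MulAut.conj n • (⨆ b : {b // b ∉ J}, N b) ≤ ⨆ b : {b // b ∉ J}, N b := by
      rw [show MulAut.conj n • (⨆ b : {b // b ∉ J}, N b) = ⨆ b : {b // b ∉ J}, MulAut.conj n • N b from
        Subgroup.map_iSup _ _]
      refine iSup_le fun b => ?_
      obtain ⟨c, hc⟩ := hP n hn b
      rw [hc]
      refine le_iSup (fun b : {b // b ∉ J} => N b) ⟨c, fun hcJ => b.2 ?_⟩
      refine mem_of_perm hP inj hz hf (inv_mem hn) (hfix _ (inv_mem hnz)) hcJ ?_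
      rw [← hc, map_inv, inv_smul_smul]
    exact h1 ((conj_smul rfl).1 hx)
  have key : ∀ {A : Subgroup G}, (∀ n ∈ centralizer ({z} : Set G) ⊓ P, ∀ x ∈ A, n * x * n⁻¹ ∈ A) →
      centralizer ({z} : Set G) ⊓ P ≤ normalizer (A : Set G) := by
    intro A hA n hn
    rw [mem_normalizer_iff]
    refine fun x => ⟨fun hx => hA n hn x hx, fun hx => ?_⟩
    have h1 := hA n⁻¹ (inv_mem hn) _ hx
    have e : n⁻¹ * (n * x * n⁻¹) * n⁻¹⁻¹ = x := by group
    rwa [e] at h1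
  exact le_inf (key k1) (key k2)

end perm

section dec

variable {G : Type u} [Group G] {κ : Type v} {S L U : Subgroup G} {N E : κ → Subgroup G} {O : κ → Set G}
  {J : Set κ}

theorem not_mem_of (h : Dec S L U N E ⊥) (o : Orbs L N E O) {z : G} (hz : z ∈ FSup N ⊥ O J) {b : κ} (hb : b ∈ J) :
    z ∉ ⨆ m : {m // m ≠ b}, N m := by
  intro h1
  obtain ⟨n, hn, hc⟩ := hz.2 b hb
  have h2 : z ∈ Blk.Co N ⊥ b := (le_sup_left : (⨆ m : {m // m ≠ b}, N m) ≤ Blk.Co N ⊥ b) h1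
  have h3 := h.uniq hc (h.comp_one h2)
  exact o.one b (h3 ▸ hn)

/-- `⨆_{b ∉ J} N b ≤ ⟨e ^ C_G(z)⟩` -/
theorem le_V (h : Dec S L U N E ⊥) (o : Orbs L N E O)
    (dif : ∀ b, N b ≤ closure {g | ∃ x ∈ O b, ∃ y ∈ O b, g = y * x⁻¹}) {z e : G} (hz : z ∈ ⨆ b : J, N b)
    (he : e ∈ FSup N ⊥ O Jᶜ) :
    (⨆ b : {b // b ∉ J}, N b) ≤ NoFF.Basic.V (zpowers e) (centralizer ({z} : Set G)) := by
  refine iSup_le fun b => (dif b).trans ?_
  rw [closure_le]
  rintro g ⟨x, hx, y, hy, rfl⟩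
  obtain ⟨n, hn, hc⟩ := he.2 b b.2
  have hEz : E b ≤ centralizer ({z} : Set G) := by
    have h1 : (⨆ b : J, N b) ≤ centralizer (E b : Set G) := iSup_le fun c => by
      rw [le_centralizer_iff]
      exact h.EC b c fun e => b.2 (e ▸ c.2)
    intro t ht
    rw [mem_centralizer_singleton_iff]
    exact mem_centralizer_iff.1 (h1 hz) t ht
  have hco : E b ≤ centralizer (Blk.Co N ⊥ b : Set G) := by
    rw [le_centralizer_iff]
    refine sup_le (iSup_le fun c => ?_) bot_le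
    rw [le_centralizer_iff]
    exact h.EC b c fun e => c.2 e.symm
  -- `t e t⁻¹ = (t n t⁻¹) (n⁻¹ e)`
  have key : ∀ t ∈ E b, t * e * t⁻¹ = (t * n * t⁻¹) * (n⁻¹ * e) := by
    intro t ht
    have h1 : t * (n⁻¹ * e) * t⁻¹ = n⁻¹ * e := Blk.cent (hco ht) hc.2
    calc t * e * t⁻¹ = (t * n * t⁻¹) * (t * (n⁻¹ * e) * t⁻¹) := by group
      _ = (t * n * t⁻¹) * (n⁻¹ * e) := by rw [h1]
  have mem : ∀ t ∈ E b, t * e * t⁻¹ ∈ NoFF.Basic.V (zpowers e) (centralizer ({z} : Set G)) := by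
    intro t ht
    have h1 : MulAut.conj t • zpowers e ≤ NoFF.Basic.V (zpowers e) (centralizer ({z} : Set G)) :=
      NoFF.Basic.Z_le_V (hEz ht)
    exact h1 ((conj_smul rfl).1 (mem_zpowers e))
  obtain ⟨s, hs, hs1⟩ := o.tr b n hn x hx
  obtain ⟨t, ht, ht1⟩ := o.tr b n hn y hy
  have h1 := mul_mem (mem t ht) (inv_mem (mem s hs))
  rw [key t ht, key s hs, hs1, ht1] at h1
  have e1 : y * (n⁻¹ * e) * (x * (n⁻¹ * e))⁻¹ = y * x⁻¹ := by group
  rwa [e1] at h1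

/-- restriction of `L` -/
theorem dec_mono {L' : Subgroup G} (h : Dec S L U N E ⊥) (h1 : L' ≤ L) (hS : S ≤ L') (hE : ∀ b, E b ≤ L')  :
    Dec S L' U N E ⊥ where
  SL := hS
  LU := h1.trans h.LU
  ab := h.ab
  sup := h.sup
  ind := h.ind
  ne := h.ne
  Rnor := h1.trans h.Rnor
  EL := hE
  CE b := (inf_le_inf_right _ h1).trans (h.CE b)
  perm g hg b := h.perm g (h1 hg) b
  EN := h.EN
  EC := h.EC
  ER := h.ER

theorem orbs_mono {L' : Subgroup G} (o : Orbs L N E O) (h1 : L' ≤ L) : Orbs L' N E O where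
  sub := o.sub
  one := o.one
  odd := o.odd
  tr := o.tr
  inv g hg := o.inv g (h1 hg)

end dec

section main

variable {G : Type u} [Group G] [Finite G] {S : Sylow 2 G} {κ : Type v} [Finite κ] {N E : κ → Subgroup G}
  {O : κ → Set G} {J : Set κ}

/-- a vector of `Z` of full support in the `S`-invariant set `J` -/
theorem exists_z (hB : RB S) (h : Dec (S : Subgroup G) (MZ (S : Subgroup G)) (Wd (S : Subgroup G)) N E ⊥)
    (o : Orbs (MZ (S : Subgroup G)) N E O) (hJ : InvJ (S : Subgroup G) N J) :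
    ∃ z ∈ FSup N ⊥ O J, z ∈ zc (S : Subgroup G) := by
  -- `L' = S (⨆ E b)`
  have hEn : ∀ b c, E b ≤ normalizer (N c : Set G) := fun b c => by
    by_cases e : b = c
    · rw [e]; exact h.EN c
    · exact (h.EC b c e).trans (centralizer_le_normalizer _)
  have hJE : ∀ g ∈ ⨆ b, E b, ∀ b c, MulAut.conj g • N b = N c → b = c := by
    intro g hg b c hbc
    have h1 : (⨆ b, E b) ≤ normalizer (N b : Set G) := iSup_le fun a => hEn a b
    rw [RZ.TwoC.DecE.smul_of_norm (h1 hg)] at hbc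
    exact h.Ninj hbc
  have hL : (S : Subgroup G) ⊔ (⨆ b, E b) ≤ MZ (S : Subgroup G) := sup_le h.SL (iSup_le h.EL)
  have h' := dec_mono h hL le_sup_left fun b => (le_iSup E b).trans le_sup_right
  have o' := orbs_mono o hL
  have hJ' : InvJ ((S : Subgroup G) ⊔ (⨆ b, E b)) N J := by
    intro g hg b hb c hbc
    have hn : (S : Subgroup G) ≤ normalizer ((⨆ b, E b : Subgroup G) : Set G) := h.SL.trans h.iSup_normal
    obtain ⟨s, hs, t, ht, rfl⟩ := mem_sup_of hn hg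
    have h1 : MulAut.conj t • N b = N b :=
      RZ.TwoC.DecE.smul_of_norm ((iSup_le fun a => hEn a b : (⨆ b, E b) ≤ normalizer (N b : Set G)) ht)
    rw [map_mul, mul_smul, h1] at hbc
    exact hJ s hs b hb c hbc
  obtain ⟨z, hz, hzS⟩ := exists_fsup h' o' S.isPGroup' hJ'
  have hW : z ∈ Wd (S : Subgroup G) := (iSup_le fun b : J => h.NU b : (⨆ b : J, N b) ≤ _) hz.1
  refine ⟨z, hz, zc_of_fix hB hW fun s hs => ?_⟩
  rw [mul_inv_eq_iff_eq_mul]
  exact (mem_centralizer_singleton_iff.1 (hzS hs))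

theorem compl_eq {J : Set κ} : (⨆ b : {b // b ∉ Jᶜ}, N b) = ⨆ b : J, N b := by
  apply le_antisymm
  · exact iSup_le fun b => le_iSup (fun b : J => N b) ⟨b.1, not_not.1 b.2⟩
  · exact iSup_le fun b => le_iSup (fun b : {b // b ∉ Jᶜ} => N b) ⟨b.1, fun h => h b.2⟩

/-- the two products are disjoint -/
theorem disj_J {J : Set κ} (h : Dec (S : Subgroup G) (MZ (S : Subgroup G)) (Wd (S : Subgroup G)) N E ⊥) :
    (⨆ b : J, N b) ⊓ (⨆ b : {b // b ∉ J}, N b) = ⊥ := by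
  rw [eq_bot_iff]
  rintro x ⟨h1, h2⟩
  rw [mem_bot]
  refine h.ext ((iSup_le fun b : J => le_iSup N b.1 : (⨆ b : J, N b) ≤ _) h1) (one_mem _) fun b => ?_
  refine ⟨1, ?_, h.comp_one (one_mem _)⟩
  by_cases hb : b ∈ J
  · refine h.comp_one ((iSup_le fun c => ?_ : (⨆ b : {b // b ∉ J}, N b) ≤ Blk.Co N ⊥ b) h2)
    exact h.N_le_Co fun e => c.2 (e ▸ hb)
  · refine h.comp_one ((iSup_le fun c => ?_ : (⨆ b : J, N b) ≤ Blk.Co N ⊥ b) h1)
    exact h.N_le_Co fun e => hb (e ▸ c.2)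

/-- an `S`-invariant set of blocks: `S` normalises the product -/
theorem S_le_norm (h : Dec (S : Subgroup G) (MZ (S : Subgroup G)) (Wd (S : Subgroup G)) N E ⊥)
    (hJ : InvJ (S : Subgroup G) N J) : (S : Subgroup G) ≤ normalizer ((⨆ b : J, N b : Subgroup G) : Set G) := by
  have key : ∀ g ∈ (S : Subgroup G), ∀ x ∈ (⨆ b : J, N b), g * x * g⁻¹ ∈ ⨆ b : J, N b := by
    intro g hg x hx
    have h1 : MulAut.conj g • (⨆ b : J, N b) ≤ ⨆ b : J, N b := by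
      rw [show MulAut.conj g • (⨆ b : J, N b) = ⨆ b : J, MulAut.conj g • N b from Subgroup.map_iSup _ _]
      refine iSup_le fun b => ?_
      obtain ⟨c, hc, -⟩ := h.perm g (h.SL hg) b
      rw [hc]
      exact le_iSup (fun b : J => N b) ⟨c, hJ g hg b b.2 c hc⟩
    exact h1 ((conj_smul rfl).1 hx)
  intro g hg
  rw [mem_normalizer_iff]
  refine fun x => ⟨fun hx => key g hg x hx, fun hx => ?_⟩
  have h1 := key g⁻¹ (inv_mem hg) _ hx
  have e : g⁻¹ * (g * x * g⁻¹) * g⁻¹⁻¹ = x := by group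
  rwa [e] at h1

/-- the frame for `J` -/
theorem pairW (hB : RB S) (h : Dec (S : Subgroup G) (MZ (S : Subgroup G)) (Wd (S : Subgroup G)) N E ⊥)
    (o : Orbs (MZ (S : Subgroup G)) N E O)
    (dif : ∀ b, N b ≤ closure {g | ∃ x ∈ O b, ∃ y ∈ O b, g = y * x⁻¹})
    (permN : ∀ g ∈ normalizer ((S : Subgroup G) : Set G), ∀ b, ∃ c, MulAut.conj g • N b = N c)
    (hwp : Wd (S : Subgroup G) ≤ WP (S : Subgroup G)) (hb : SBad (S : Subgroup G) N O)
    (hJ : InvJ (S : Subgroup G) N J) (hne : J.Nonempty) (hne' : Jᶜ.Nonempty) {z₀ z₁ : G} (hz : z₀ ∈ FSup N ⊥ O J)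
    (hzZ : z₀ ∈ zc (S : Subgroup G)) (hw : z₁ ∈ FSup N ⊥ O Jᶜ) (hwZ : z₁ ∈ zc (S : Subgroup G))
    (hn : NonLoc (centralizer ({z₀} : Set G)) (centralizer ({z₁} : Set G))) :
    PairW S ![⨆ b : J, N b, ⨆ b : {b // b ∉ J}, N b] ![z₀, z₁] := by
  have inj : ∀ b c, N b = N c → b = c := fun b c e => h.Ninj e
  have pM : ∀ n ∈ MZ (S : Subgroup G), ∀ b, ∃ c, MulAut.conj n • N b = N c := fun n hn b => by
    obtain ⟨c, hc, -⟩ := h.perm n hn b
    exact ⟨c, hc⟩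
  have f0 : ∀ b ∈ J, z₀ ∉ ⨆ m : {m // m ≠ b}, N m := fun b hb => not_mem_of h o hz hb
  have f1 : ∀ b ∈ Jᶜ, z₁ ∉ ⨆ m : {m // m ≠ b}, N m := fun b hb => not_mem_of h o hw hb
  have hce : (⨆ b : {b // b ∉ Jᶜ}, N b) = ⨆ b : J, N b := compl_eq
  have n0 : ∀ {P : Subgroup G}, (∀ n ∈ P, ∀ b, ∃ c, MulAut.conj n • N b = N c) →
      centralizer ({z₀} : Set G) ⊓ P ≤ normalizer ((⨆ b : J, N b : Subgroup G) : Set G) ⊓
        normalizer ((⨆ b : {b // b ∉ J}, N b : Subgroup G) : Set G) := fun hP => norm_sup hP inj hz.1 f0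
  have n1 : ∀ {P : Subgroup G}, (∀ n ∈ P, ∀ b, ∃ c, MulAut.conj n • N b = N c) →
      centralizer ({z₁} : Set G) ⊓ P ≤ normalizer ((⨆ b : J, N b : Subgroup G) : Set G) ⊓
        normalizer ((⨆ b : {b // b ∉ J}, N b : Subgroup G) : Set G) := fun hP => by
    have h1 := norm_sup hP inj hw.1 f1
    rw [hce] at h1
    exact h1.trans (le_inf inf_le_right inf_le_left)
  have lR : (⨆ b : J, N b) ≤ Wd (S : Subgroup G) := iSup_le fun b => h.NU b
  have lB : (⨆ b : {b // b ∉ J}, N b) ≤ Wd (S : Subgroup G) := iSup_le fun b => h.NU b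
  refine ⟨?_, ?_, ?_, ?_, ?_, ?_, ?_, ?_, disj_J h, hn, ?_⟩
  all_goals refine Fin.forall_fin_two.2 ⟨?_, ?_⟩
  · exact lR.trans hwp
  · exact lB.trans hwp
  · exact hz.1
  · exact hw.1
  · exact hzZ
  · exact hwZ
  · exact fsup_ne_one h o hz hne
  · exact fsup_ne_one h o hw hne'
  · exact S_le_norm h hJ
  · exact S_le_norm h hJ.compl
  · exact n0 permN
  · exact n1 permN
  · intro P hP hPz
    exact (le_inf hPz (le_MZ hP)).trans (n0 pM)
  · intro P hP hPz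
    exact (le_inf hPz (le_MZ hP)).trans (n1 pM)
  · exact le_V h o dif hz.1 hw
  · have h1 := le_V h o dif (J := Jᶜ) (z := z₁) (e := z₀) hw.1 (by rw [compl_compl]; exact hz)
    rw [hce] at h1
    exact h1
  · exact hb J hJ z₀ hz hzZ _ _ rfl rfl
  · exact hb Jᶜ hJ.compl z₁ hw hwZ _ _ rfl hce.symm

/-- **some `A ∈ 𝒜(O₂(C_G(Z)))` moves the product of the blocks of an `S`-invariant set** -/
theorem mv_set (hM : ML.Final.MLK.{u, u}) (hR : RedP.{u, u}) (hE : ML.Ex.Two.Ext.{u, u}) (hB : RB S)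
    (h : Dec (S : Subgroup G) (MZ (S : Subgroup G)) (Wd (S : Subgroup G)) N E ⊥)
    (o : Orbs (MZ (S : Subgroup G)) N E O)
    (dif : ∀ b, N b ≤ closure {g | ∃ x ∈ O b, ∃ y ∈ O b, g = y * x⁻¹})
    (permN : ∀ g ∈ normalizer ((S : Subgroup G) : Set G), ∀ b, ∃ c, MulAut.conj g • N b = N c)
    (hwp : Wd (S : Subgroup G) ≤ WP (S : Subgroup G)) (hb : SBad (S : Subgroup G) N O) (hn : NLP (S : Subgroup G) N O)
    (hJ : InvJ (S : Subgroup G) N J) (hne : J.Nonempty) (hne' : Jᶜ.Nonempty) :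
    ∃ A, KL.TwoS.Mx (o2 (CZ (S : Subgroup G))) A ∧ ¬ A ≤ centralizer ((⨆ b : J, N b : Subgroup G) : Set G) := by
  obtain ⟨z₀, hz, hzZ⟩ := exists_z hB h o hJ
  obtain ⟨z₁, hw, hwZ⟩ := exists_z hB h o hJ.compl
  exact (pairW hB h o dif permN hwp hb hJ hne hne' hz hzZ hw hwZ
    (hn J hJ hne hne' z₀ hz hzZ z₁ hw hwZ)).exists_mx hB hM hR hE 0

/-- **`𝒜(O₂(C_G(Z)))` moves every block** -/
theorem allB (hM : ML.Final.MLK.{u, u}) (hR : RedP.{u, u}) (hE : ML.Ex.Two.Ext.{u, u}) (hB : RB S)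
    (h : Dec (S : Subgroup G) (MZ (S : Subgroup G)) (Wd (S : Subgroup G)) N E ⊥)
    (o : Orbs (MZ (S : Subgroup G)) N E O)
    (dif : ∀ b, N b ≤ closure {g | ∃ x ∈ O b, ∃ y ∈ O b, g = y * x⁻¹})
    (permN : ∀ g ∈ normalizer ((S : Subgroup G) : Set G), ∀ b, ∃ c, MulAut.conj g • N b = N c)
    (hwp : Wd (S : Subgroup G) ≤ WP (S : Subgroup G)) (hb : SBad (S : Subgroup G) N O) (hn : NLP (S : Subgroup G) N O)
    (two : ∀ a : κ, ∃ b, ∀ s ∈ (S : Subgroup G), MulAut.conj s • N a ≠ N b) :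
    WideTree.AllB (S : Subgroup G) N := by
  intro a
  set J : Set κ := {c | ∃ s ∈ (S : Subgroup G), MulAut.conj s • N a = N c} with hJd
  have hJ : InvJ (S : Subgroup G) N J := by
    rintro g hg b ⟨s, hs, hsb⟩ c hc
    refine ⟨g * s, mul_mem hg hs, ?_⟩
    rw [map_mul, mul_smul, hsb, hc]
  have hne : J.Nonempty := ⟨a, 1, one_mem _, by rw [map_one, one_smul]⟩
  have hne' : Jᶜ.Nonempty := by
    obtain ⟨b, hb⟩ := two a
    exact ⟨b, fun ⟨s, hs, h1⟩ => hb s hs h1⟩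
  obtain ⟨A, hA, hAm⟩ := mv_set hM hR hE hB h o dif permN hwp hb hn hJ hne hne'
  -- some block of the orbit is moved
  obtain ⟨c, ⟨s, hs, hsc⟩, hc⟩ : ∃ c ∈ J, ¬ A ≤ centralizer (N c : Set G) := by
    by_contra hcon
    push Not at hcon
    apply hAm
    rw [le_centralizer_iff]
    refine iSup_le fun b => ?_
    rw [le_centralizer_iff]
    exact hcon b b.2
  have hsC : s⁻¹ ∈ CZ (S : Subgroup G) := le_CZ _ (inv_mem hs)
  refine ⟨MulAut.conj s⁻¹ • A, hA.conj ?_, fun h1 => hc ?_⟩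
  · rintro _ ⟨x, hx, rfl⟩
    exact conj_of (ZN.le_normalizer_o2 _ hsC) (hA.le hx)
  · intro x hx
    rw [mem_centralizer_iff]
    intro y hy
    have hy' : s⁻¹ * y * s ∈ N a := by
      have h2 := (conj_smul hsc (x := s⁻¹ * y * s)).2
      apply h2
      have e : s * (s⁻¹ * y * s) * s⁻¹ = y := by group
      rw [e]; exact hy
    have hx' : s⁻¹ * x * s ∈ MulAut.conj s⁻¹ • A := by
      have h2 := (conj_smul (rfl : MulAut.conj s⁻¹ • A = _) (x := x)).1 hx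
      rwa [inv_inv] at h2
    have h3 := mem_centralizer_iff.1 (h1 hx') _ hy'
    calc y * x = s * ((s⁻¹ * y * s) * (s⁻¹ * x * s)) * s⁻¹ := by group
      _ = s * ((s⁻¹ * x * s) * (s⁻¹ * y * s)) * s⁻¹ := by rw [h3]
      _ = x * y := by group

end main

end Cfsg.Agent.Omega.NOThreeL.RRed.OneNon
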