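import Cfsg.Agent.Omega.NOThreeL.RRed.HBadNat
import Cfsg.Agent.Omega.NOThreeL.RRed.OneNonB

/-!
# Box R: `SBad` for natural blocks, helper314

* **`sBad_nat`** : `OneNon.SBad S N {N b - 1}` over `NBs`, `Src` (helper391, helper739).
-/

set_option autoImplicit false

namespace Cfsg.Agent.Omega.NOThreeL.RRed.HBadNat

open Subgroup Cfsg
open Cfsg.Agent.Omega.NOThreeL.RRed.WideTree (NBs Src)
open Cfsg.Agent.Omega.NOThreeL.RTree (RB)

universe u

variable {G : Type u} [Group G] [Finite G] {S : Sylow 2 G} {ι : Type u} {N E D l : ι → Subgroup G} {q : ι → ℕ}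

/-- **`SBad` for natural blocks** -/
theorem sBad_nat (B : RB S) (hn : NBs (S : Subgroup G) N E D l q) (hs : Src (S : Subgroup G) N l q) :
    OneNon.SBad (S : Subgroup G) N (fun b => {x | x ∈ N b ∧ x ≠ 1}) :=
  fun _ _ _ hz hzc _ _ hR hC => bad_nat B hn hs hz hzc hR hC

end Cfsg.Agent.Omega.NOThreeL.RRed.HBadNat
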