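import Cfsg.Agent.Omega.NOThreeL.RRed.OneNonC
import Cfsg.Agent.Omega.NOThreeL.RRed.OneManyOf
import Cfsg.Agent.Omega.NOThreeL.RRed.SBadNat
import Cfsg.Agent.Omega.NOThreeL.RRed.QFr.NonY

/-!
# NO-3L, box R, one class, at least two `S`-orbits of blocks: the halves of `AllOrb`

* **`allNeg`** : `OneManyOf.AllNeg B` (`J(S)` moves `V*`; 461's `nlY`);
* `TopL B` : no local `L ≥ C_G(Z), C_G(z)` (some `z ∈ Z#`), all `C_G(l c : c ≠ b)`, `E b`, `D b`, if `J(S)` centralises `V*`;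
  **`allTop_of`** : `TopL B → AllTop B`;  `allOrb_of_top`.
-/

set_option autoImplicit false
set_option linter.unusedSectionVars false
set_option linter.unusedVariables false

namespace Cfsg.Agent.Omega.NOThreeL.RRed.OneNon

open Subgroup Cfsg Cfsg.Agent.ZN Cfsg.Agent.Omega.MinPar Cfsg.Agent.Omega.Frame Cfsg.Agent.Omega.FrameNOFF
open Cfsg.Agent.Omega.Node.NO3L Cfsg.Agent.Omega.NOThreeL.Basic
open Cfsg.Agent.Omega.NOThreeL.Merge (MZ le_MZ S_le_MZ)
open Cfsg.Agent.Omega.NOThreeL.RTree (RB)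
open Cfsg.Agent.Omega.NOThreeL.RRed.GlueSig
open Cfsg.Agent.Omega.NOThreeL.RRed.Blk
open Cfsg.Agent.Omega.NOThreeL.RRed.WideTree
open Cfsg.Agent.Omega.NOThreeL.RRed.OneManyOf (AllNeg AllTop AllOrb)
open Cfsg.Agent.Omega.NO3b.EndX (RedP)
open scoped Pointwise

universe u v w

/-- **the half of `AllOrb` with `J(S)` moving `V*`** -/
theorem allNeg (hM : ML.Final.MLK.{u, u}) (hR : RedP.{u, u}) (hE : ML.Ex.Two.Ext.{u, u}) (B : Fr.{u}) : AllNeg B := by
  intro G _ _ S hB hW hm hC ι _ N E D l q hq hN hs h3 two hj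
  refine allB_nbs hM hR hE hW.toRB hN hs (HBadNat.sBad_nat hW.toRB hN hs) (nlp_of_nly hN fun U hU hY => ?_) two
  exact QFr.NonY.nlY hW.toRB hN hs hq hC (by omega) (Or.inl hj) hU hY

/-- **the local case, `J(S)` centralises `V*`** -/
def TopL (B : Fr.{u}) : Prop :=
  ∀ (G : Type u) [Group G] [Finite G] (S : Sylow 2 G), B G S → Wide S → MvAct (S : Subgroup G) →
    CM (S : Subgroup G) (fun _ : PUnit.{u + 1} => Wd (S : Subgroup G)) →
      ∀ (ι : Type u) [Finite ι] (N E D l : ι → Subgroup G) (q : ℕ), 4 ≤ q →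
        NBs (S : Subgroup G) N E D l (fun _ => q) → Src (S : Subgroup G) N l (fun _ => q) →
            jj (S : Subgroup G) ≤ centralizer (Wd (S : Subgroup G) : Set G) →
              ∀ L : Subgroup G, IsLoc (S : Subgroup G) L → CZ (S : Subgroup G) ≤ L →
                (∀ b, centralizer ((⨆ c : {c // c ≠ b}, l c.1 : Subgroup G) : Set G) ≤ L) → (∀ b, E b ≤ L) →
                  (∀ b, D b ≤ L) → (∃ z ∈ zc (S : Subgroup G), z ≠ 1 ∧ centralizer ({z} : Set G) ≤ L) → False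

/-- **the half of `AllOrb` with `J(S)` centralising `V*`** -/
theorem allTop_of (hM : ML.Final.MLK.{u, u}) (hR : RedP.{u, u}) (hE : ML.Ex.Two.Ext.{u, u}) {B : Fr.{u}}
    (hT : TopL B) : AllTop B := by
  intro G _ _ S hB hW hm hC ι _ N E D l q hq hN hs h3 two hj
  refine allB_nbs hM hR hE hW.toRB hN hs (HBadNat.sBad_nat hW.toRB hN hs) ?_ two
  intro J hJ hne hne' z₀ hz hzZ z₁ hw hwZ U hU h0 h1
  by_contra hU1
  have hC0 : CZ (S : Subgroup G) ≤ normalizer (U : Set G) :=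
    (centralizer_le (Set.singleton_subset_iff.2 hzZ)).trans h0
  have hY : ∀ b, centralizer ((⨆ c : {c // c ≠ b}, l c.1 : Subgroup G) : Set G) ≤ normalizer (U : Set G) := by
    intro b
    by_cases hb : b ∈ J
    · refine le_trans (centralizer_le (Set.singleton_subset_iff.2 ?_)) h1
      have h2 := mem_lJ hN (J := Jᶜ) hw.1 hwZ
      exact (iSup_le fun c : (Jᶜ : Set ι) => le_iSup (fun c : {c // c ≠ b} => l c.1) ⟨c.1, fun e => c.2 (e ▸ hb)⟩ :
        (⨆ b : (Jᶜ : Set ι), l b) ≤ _) h2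
    · refine le_trans (centralizer_le (Set.singleton_subset_iff.2 ?_)) h0
      have h2 := mem_lJ hN (J := J) hz.1 hzZ
      exact (iSup_le fun c : J => le_iSup (fun c : {c // c ≠ b} => l c.1) ⟨c.1, fun e => hb (e ▸ c.2)⟩ :
        (⨆ b : J, l b) ≤ _) h2
  have hEY : ∀ b, E b ≤ centralizer ((⨆ c : {c // c ≠ b}, l c.1 : Subgroup G) : Set G) := fun b => by
    rw [le_centralizer_iff]
    refine iSup_le fun c => ?_
    rw [le_centralizer_iff]
    exact (hN.dec.EC b c.1 (Ne.symm c.2)).trans (centralizer_le (hN.bls.lN c.1))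
  exact hT G S hB hW hm hC ι N E D l q hq hN hs hj (normalizer (U : Set G))
    (isLoc_of_le_normalizer S ((le_CZ S).trans hC0) hU hU1 le_rfl) hC0 hY (fun b => (hEY b).trans (hY b))
    (fun b => (hN.DE b).trans ((hEY b).trans (hY b))) ⟨z₀, hzZ, fsup_ne_one hN.dec (FullSup.nbs_orbs hN) hz hne, h0⟩

/-- **`AllOrb`** -/
theorem allOrb_of_top (hM : ML.Final.MLK.{u, u}) (hR : RedP.{u, u}) (hE : ML.Ex.Two.Ext.{u, u}) {B : Fr.{u}}
    (hT : TopL B) : AllOrb B := OneManyOf.allOrb_of (allNeg hM hR hE B) (allTop_of hM hR hE hT)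

end Cfsg.Agent.Omega.NOThreeL.RRed.OneNon
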