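import Cfsg.Agent.Omega.NOThreeL.RRed.WideTree

/-!
# NO-3L, box R, one class: the `𝔽₂`-half of `OneBlk` (item 10 of 699's ledger)

* `bks_of_tvS` : `V*` irreducible for `M₀` and `TvS S` give `Bks S N E ⊥ Om phi`;
* `OneNat` : what is left (`¬ TvS S`, so `Fld S`): natural blocks, `q ≥ 4`;
* **`oneBlk_of : OneNat → OneBlk`**.
-/

set_option autoImplicit false
set_option linter.unusedSectionVars false

namespace Cfsg.Agent.Omega.NOThreeL.RRed.WideTree

open Subgroup Cfsg Cfsg.Agent.ZN Cfsg.Agent.Omega.MinPar Cfsg.Agent.Omega.Frame Cfsg.Agent.Omega.FrameNOFF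
open Cfsg.Agent.Omega.Node.NO3L Cfsg.Agent.Omega.NOThreeL.Basic Cfsg.Agent.Omega.NOThreeL.RTree
open Cfsg.Agent.Omega.NOThreeL.RTreeF
open Cfsg.Agent.Omega.NOThreeL.Merge (MZ)
open Cfsg.Agent.Omega.NOThreeL.RRed.GlueSig
open Cfsg.Agent.Omega.NOThreeL.RRed.FourTree (Bks TvS Fld tvS_or exists_bks)

universe u

section

variable {G : Type u} [Group G]

/-- `R₀ = 1` for an irreducible `V*` -/
theorem rest_eq_bot {ι : Type u} {S L U R₀ : Subgroup G} {N E : ι → Subgroup G} (h : Blk.Dec S L U N E R₀)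
    (hι : Nonempty ι) (hirr : ∀ W : Subgroup G, W ≤ U → L ≤ normalizer (W : Set G) → W ≠ ⊥ → U ≤ W) : R₀ = ⊥ := by
  by_contra hne
  obtain ⟨b⟩ := hι
  have h1 : R₀ ≤ U := by rw [← h.sup]; exact le_sup_right
  have h2 : U ≤ R₀ := hirr R₀ h1 h.Rnor hne
  have h3 : N b ≤ R₀ := ((le_iSup N b).trans (le_sup_left.trans h.sup.le)).trans h2
  apply h.ne b
  rw [eq_bot_iff, ← h.ind b]
  exact le_inf le_rfl (h3.trans le_sup_right)

/-- **`𝔽₂`-blocks for an irreducible `V*`** -/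
theorem bks_of_tvS [Finite G] {S : Sylow 2 G} (hW : Wide S)
    (hirr : ∀ W : Subgroup G, W ≤ Wd (S : Subgroup G) → MZ (S : Subgroup G) ≤ normalizer (W : Set G) → W ≠ ⊥ →
      Wd (S : Subgroup G) ≤ W) (ht : TvS (S : Subgroup G)) :
    ∃ (I : Type u) (_ : Fintype I) (_ : DecidableEq I) (N E : I → Subgroup G) (Om : I → Type u)
      (_ : ∀ i, Fintype (Om i)) (_ : ∀ i, DecidableEq (Om i)) (phi : ∀ i, Finset (Om i) → G), Bks S N E ⊥ Om phi := by
  obtain ⟨I, i1, i2, N, E, R₀, Om, i3, i4, phi, h⟩ := exists_bks hW.toRB hW.rr ht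
  obtain rfl := rest_eq_bot h.toDec h.nonempty hirr
  exact ⟨I, i1, i2, N, E, Om, i3, i4, phi, h⟩

end

/-- **The half `q ≥ 4` of `OneBlk`.** -/
def OneNat : Prop :=
  ∀ (G : Type u) [Group G] [Finite G] (S : Sylow 2 G), Wide S → MvAct (S : Subgroup G) →
    CM (S : Subgroup G) (fun _ : PUnit.{u + 1} => Wd (S : Subgroup G)) → Fld S → ¬ TvS (S : Subgroup G) →
      ∃ (ι : Type u) (_ : Finite ι) (N E D l : ι → Subgroup G) (q : ℕ), 4 ≤ q ∧ Nonempty ι ∧
        NBs (S : Subgroup G) N E D l (fun _ => q) ∧ Src (S : Subgroup G) N l (fun _ => q)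

/-- **`OneBlk` from its half `q ≥ 4`** -/
theorem oneBlk_of (h4 : OneNat.{u}) : OneBlk.{u} := by
  intro G _ _ S hW hm hCM
  by_cases ht : TvS (S : Subgroup G)
  · exact Or.inr (bks_of_tvS hW (fun W => hCM.irr PUnit.unit W) ht)
  · exact Or.inl (h4 G S hW hm hCM ((tvS_or hW.toRB hW.rr).resolve_left ht) ht)

end Cfsg.Agent.Omega.NOThreeL.RRed.WideTree
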