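import Cfsg.Agent.Omega.NOThreeL.RRed.Blk.AsmRR
import Cfsg.Agent.Omega.NOThreeL.RRed.Blk.AsmNBs
import Cfsg.Agent.Omega.NOThreeL.RRed.OneBlkS

/-!
# `WideTree.OneBlk` (socket of box R)

* **`oneNat : OneNat`** : one class, `Fld S`: natural blocks, `q ≥ 4`;
* **`oneBlk : OneBlk`**.
-/

set_option autoImplicit false
set_option linter.unusedSectionVars false

namespace Cfsg.Agent.Omega.NOThreeL.RRed.WideTree

open Subgroup Cfsg Cfsg.Agent.ZN Cfsg.Agent.Omega.MinPar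
open Cfsg.Agent.Omega.NOThreeL.RSplit (Nrm)
open Cfsg.Agent.Omega.NOThreeL.RRed.NS (brk un)
open Cfsg.Agent.Omega.NOThreeL.RRed.Blk.TypesNat (XH)
open Cfsg.Agent.Omega.NOThreeL.RRed.Blk.Asm
open Cfsg.Agent.Omega.NOThreeL.RRed.Blk.AsmOneBlk (EB one_fam src hn_of)
open Cfsg.Agent.Omega.NOThreeL.RRed.Blk.AsmInp (nrm_box)
open Cfsg.Agent.Omega.NOThreeL.RRed.Blk.AsmCore (im)
open Cfsg.Agent.Omega.NOThreeL.Merge (MZ le_MZ isLoc_MZ)
open Cfsg.Agent.Omega.NOThreeL.RRed.FourTree (Fld)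
open scoped Pointwise

universe u

theorem NBs.congr {G : Type u} [Group G] {S : Subgroup G} {ι : Type u} {N E D l : ι → Subgroup G} {q q' : ι → ℕ}
    (h : NBs S N E D l q) (e : ∀ b, q b = q' b) : NBs S N E D l q' := by
  obtain rfl := funext e
  exact h

theorem Src.congr {G : Type u} [Group G] {S : Subgroup G} {ι : Type u} {N l : ι → Subgroup G} {q q' : ι → ℕ}
    (h : Src S N l q) (e : ∀ b, q b = q' b) : Src S N l q' := by
  obtain rfl := funext e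
  exact h

/-- **Natural blocks for one class.** -/
theorem oneNat : OneNat.{u} := by
  intro G _ _ S hW hm hCM hF _
  have B := hW.toRB
  have Q : Nrm (MZ (S : Subgroup G)) (zl (S : Subgroup G) (MZ (S : Subgroup G))) := nrm_box B
  have hL := isLoc_MZ B.ctx B.full B.data.noff
  have hSL : (S : Subgroup G) ≤ MZ (S : Subgroup G) := hL.le
  obtain ⟨hI, hFam, hGB, ⟨D₀, hD₀⟩, ⟨q, hq, hcard⟩, hsup, hTD⟩ :=
    one_fam B hm (fun U => hCM.irr PUnit.unit U) hF Q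
  have h4 : ∀ D ∈ EB S Q, 4 ≤ Nat.card D := fun D hD => (hcard D hD).symm ▸ hq
  obtain ⟨E, D, h⟩ := Blk.AsmNBs.nbs_of_fam Q hSL hI.two hI.hno hFam hsup
    (fun D hD _ => ⟨D, hD, 1, by rw [map_one, one_smul], hTD D hD⟩)
    (fun g hg D hD => hn_of hg hD)
    (fun g D hD => Blk.Asm.Fam.ln (Blk.TypesNat.imS Q S hSL) hFam hGB le_rfl
      (fun A hA g => Blk.AsmG.EEc Q hSL A hA g) g hD)
  have hs := src B hm hI hFam hGB h4
  exact ⟨EB S Q, inferInstance, _, E, D, _, q, hq, ⟨⟨D₀, hD₀⟩⟩, h.congr fun b => hcard b.1 b.2,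
    hs.congr fun b => hcard b.1 b.2⟩

/-- **`OneBlk`.** -/
theorem oneBlk : OneBlk.{u} := oneBlk_of oneNat

end Cfsg.Agent.Omega.NOThreeL.RRed.WideTree
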