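import Cfsg.Agent.Omega.NOThreeL.RRed.UInstW
import Cfsg.Agent.Omega.NOThreeL.RZ.TwoC.Loc
import Cfsg.Agent.Omega.NOne.LemmaT

/-!
# NO-3L, box R: `Ω₁Z(B) ≤ O₂(C_G(X))` for `1 ≠ X ≤ Z`, and the `T`-frame (helper258; text helper644, helper230 #24393)

`B = C_S(⨆ l)`, `O = O₂(C_G(Z))`.
* `Z_le` : `Z ≤ ⨆ l`; `zcB_O` : `Ω₁Z(B) ≤ O` (`C_G(⨆ l)` has characteristic 2); `zcB_A` : `Ω₁Z(B) ≤ A` for `A ∈ 𝒜(O)`;
* `exists_A` : some `A ∈ 𝒜(O)` is in `O₂(C_G(X))` (MLK);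
* **`zcK`** : `Ω₁Z(B) ≤ O₂(C_G(X))`;  **`tfm_of`** : `TFm S (Wd S) N l E`;  **`instU`** : the socket `UMany.InstU`.
-/

set_option autoImplicit false
set_option linter.unusedSectionVars false

namespace Cfsg.Agent.Omega.NOThreeL.RRed.UInst

open Subgroup Cfsg Cfsg.Agent.ZN Cfsg.Agent.ZN.ChoiceBase Cfsg.Agent.Omega.MinPar Cfsg.Agent.Omega.Frame
open Cfsg.Agent.Omega.FrameNOFF Cfsg.Agent.Omega.Node.NO3L Cfsg.Agent.Omega.NOThreeL.Basic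
open Cfsg.Agent.Omega.NOThreeL.RTree (RB)
open Cfsg.Agent.Omega.NOThreeL.RRed.WideTree Cfsg.Agent.Omega.NOThreeL.RRed.GlueSig
open Cfsg.Agent.Omega.NOThreeL.RWide Cfsg.Agent.Omega.NOThreeL.RRed.ULb
open Cfsg.Agent.Omega.ML.Final (MLK)
open Cfsg.Agent.ZN.ChoiceSit (Syl o2_le_syl)

open scoped Pointwise

universe u

variable {G : Type u} [Group G] [Finite G] {S : Sylow 2 G} {ι : Type u} [Finite ι] {N E D l : ι → Subgroup G}
  {q : ι → ℕ}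

/-- `Z ≤ ⨆ l` -/
theorem Z_le (hN : NBs (S : Subgroup G) N E D l q) : zc (S : Subgroup G) ≤ ⨆ b, l b := by
  obtain ⟨F, i1, i2, i3, x, y, h⟩ := hN.bls.exists_kd
  intro z hz
  have hzV : z ∈ Wd (S : Subgroup G) := zc_le_Wd _ hz
  refine h.memZ.2 ⟨hzV, fun b => ?_⟩
  obtain ⟨s, hs, h1⟩ := h.root b 1
  have h2 := (h1 z hzV).1.1
  have h3 : s * z * s⁻¹ = z := by
    rw [(ChoiceBase.mem_zc.1 hz).2.2 s hs, mul_inv_cancel_right]
  rw [h3, one_mul] at h2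
  exact left_eq_add.1 h2

variable (hB : RB S) (hN : NBs (S : Subgroup G) N E D l q)
  (ln : ∀ c ∈ centralizer (zc (S : Subgroup G) : Set G), ∀ b, ∃ b', MulAut.conj c • l b = l b')
include hB hN ln

/-- `Ω₁Z(B) ≤ O` -/
theorem zcB_O : zc ((S : Subgroup G) ⊓ centralizer ((⨆ b, l b : Subgroup G) : Set G)) ≤ o2 (CZ (S : Subgroup G)) := by
  have hZ := Z_le hN
  have hJ := cz ln
  have hJS : (⨆ b, l b : Subgroup G) ≤ (S : Subgroup G) :=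
    (iSup_mono hN.bls.lN).trans ((sup_N hN).le.trans (WS hB))
  have hJ2 : IsPGroup 2 (⨆ b, l b : Subgroup G) := S.isPGroup'.to_le hJS
  have hJ1 : (⨆ b, l b : Subgroup G) ≠ ⊥ := fun h0 => zc_ne hB (le_bot_iff.1 (hZ.trans h0.le))
  have hsyl : Syl ((S : Subgroup G) ⊓ centralizer ((⨆ b, l b : Subgroup G) : Set G))
      (centralizer ((⨆ b, l b : Subgroup G) : Set G)) :=
    syl_inf ((le_CZ S).trans (hJ.trans (ML.GMod.nc _)))
  intro n hn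
  obtain ⟨h1, -, h2⟩ := ChoiceBase.mem_zc.1 hn
  have h3 : n ∈ o2 (centralizer ((⨆ b, l b : Subgroup G) : Set G)) := by
    refine NOne.LemmaT.char2_centralizer hB.ctx.char2 hJ2 hJ1 ⟨h1.2, ?_⟩
    exact mem_centralizer_iff.2 fun x hx => h2 x (o2_le_syl hsyl hx)
  have h4 : o2 (centralizer ((⨆ b, l b : Subgroup G) : Set G)) ≤ o2 (CZ (S : Subgroup G)) := by
    refine MinSimple.VModule.le_o2 ((MinSimple.VModule.o2_le _).trans (centralizer_le hZ))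
      (MinSimple.VModule.o2_isPGroup _) ?_
    exact (hJ.trans (ML.GMod.nc _)).trans (ML.GMod.normalizer_le_normalizer_o2 _)
  exact h4 h3

/-- `Ω₁Z(B) ≤ A` for `A ∈ 𝒜(O)` -/
theorem zcB_A (hs : Src (S : Subgroup G) N l q) {A : Subgroup G} (hA : KL.TwoS.Mx (o2 (CZ (S : Subgroup G))) A) :
    zc ((S : Subgroup G) ⊓ centralizer ((⨆ b, l b : Subgroup G) : Set G)) ≤ A := by
  refine hA.le_of_comm (zcB_O hB hN ln) (fun z hz => (ChoiceBase.mem_zc.1 hz).2.1) fun z hz => ?_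
  exact mem_centralizer_iff.2 fun a ha => (ChoiceBase.mem_zc.1 hz).2.2 a (AA_le_B hB hN hs hA ha)

omit hN ln in
/-- some `A ∈ 𝒜(O)` is in `O₂(C_G(X))` -/
theorem exists_A (hM : MLK.{u, u}) {X : Subgroup G} (hX : X ≤ zc (S : Subgroup G)) (hX1 : X ≠ ⊥) :
    ∃ A, KL.TwoS.Mx (o2 (CZ (S : Subgroup G))) A ∧ A ≤ o2 (centralizer (X : Set G)) := by
  have hlong := isLong_of (S := S) hX hX1
  have hU := hlong.zl_le_o2 hB.ctx.char2 S
  obtain ⟨A, hA⟩ := KL.TwoS.Mx.exists_mx (o2 (CZ (S : Subgroup G)))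
  have hkg : IsKGroup (centralizer (X : Set G)) :=
    ML.GNN.kgroup_of_isLoc hB.ctx hB.ctx.not_isPGroup hlong.loc
  have hsq : ∀ x ∈ zl (S : Subgroup G) (centralizer (X : Set G)), x ^ 2 = 1 := fun x hx =>
    MinSimple.VModule.zc_sq _ _ (hlong.loc.zl_le S hB.ctx.char2 hx)
  refine ⟨_, hA.sup (hU.trans (o2_le hX hX1)) hsq
    (RZ.TwoC.Loc.gml hM hB.ctx hlong.loc hkg hA.le hA.sq), sup_le ?_ hU⟩
  exact (inf_le_inf_right _ hA.le).trans (RZ.TwoC.Loc.inf_cent_le hlong.loc.le (MinSimple.VModule.zc_le_zl _ _)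
    (MinSimple.VModule.le_normalizer_zl _ _))

/-- **`Ω₁Z(B) ≤ O₂(C_G(X))`** -/
theorem zcK (hM : MLK.{u, u}) (hs : Src (S : Subgroup G) N l q) {X : Subgroup G} (hX : X ≤ zc (S : Subgroup G))
    (hX1 : X ≠ ⊥) :
    zc ((S : Subgroup G) ⊓ centralizer ((⨆ b, l b : Subgroup G) : Set G)) ≤ o2 (centralizer (X : Set G)) := by
  obtain ⟨A, hA, h1⟩ := exists_A hB hM hX hX1
  exact (zcB_A hB hN ln hs hA).trans h1

/-- **the `T`-frame** -/
theorem tfm_of (hM : MLK.{u, u}) (hs : Src (S : Subgroup G) N l q) (hall : AllB (S : Subgroup G) N)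
    (two : ∀ b, ∃ c, ∀ s ∈ (S : Subgroup G), MulAut.conj s • N b ≠ N c) : TFm S (Wd (S : Subgroup G)) N l E := by
  refine tfm_of' hB hN hs hall ln two fun b => ?_
  obtain ⟨c, hc⟩ := two b
  exact zcK hB hN ln hM hs (UX_le b) (UX_ne hB hN hc)

omit hB hN ln in
/-- **the socket `UMany.InstU`** -/
theorem instU (hM : MLK.{u, u}) (B : Fr.{u}) : UMany.InstU B :=
  instU' (fun _ _ _ _ hB _ _ _ _ _ _ _ hN hs ln _ hX hX1 => zcK hB hN ln hM hs hX hX1) B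

end Cfsg.Agent.Omega.NOThreeL.RRed.UInst
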