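import Cfsg.Agent.Omega.NOThreeL.RRed.LeftData
import Cfsg.Agent.Omega.NOThreeL.RWide.DPNat

/-!
# One `S`-orbit of natural blocks (helper540; text: 475 #27002 (1), #27342 (C), 483 #26191 (I))

`S` transitive on the blocks: an active `P` has all blocks `N b`, `V_P = V*`.

* **`one_data`** : `P`, and `D' b ≤ P` such that `NBs S N E D' l q`;
* **`one_orb`** : no 2-group `≠ 1` is normalised by `C_G(Z)` and all `D' b` (`nl`, for every choice of `D'`) ⟹ `False`.
-/

set_option autoImplicit false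
set_option linter.unusedSectionVars false

namespace Cfsg.Agent.Omega.NOThreeL.RRed.OneOrb

open Subgroup Cfsg Cfsg.Agent.ZN
open Cfsg.Agent.ZN.ChoiceBase (cj mem_cj)
open Cfsg.Agent.Omega.MinPar Cfsg.Agent.Omega.FrameNOFF
open Cfsg.Agent.Omega.FFThm (NatKM)
open Cfsg.Agent.Omega.FrameFF (cv)
open Cfsg.Agent.Omega.NO3S.ThmB (Nb)
open Cfsg.Agent.Omega.NO3S.KeyRad (blk)
open Cfsg.Agent.Omega.NOThreeL.Merge (MZ)
open Cfsg.Agent.Omega.NOThreeL.RTree (RB)
open Cfsg.Agent.Omega.NOThreeL.RRed.GlueSig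
open Cfsg.Agent.Omega.NOThreeL.RRed.WideTree
open Cfsg.Agent.Omega.NOThreeL.RWide
open scoped Pointwise

universe u

variable {G : Type u} [Group G] [Finite G] {S : Sylow 2 G} {ι : Type u} {N E D l : ι → Subgroup G} {q : ι → ℕ}

theorem N_inj (h : NBs (S : Subgroup G) N E D l q) : Function.Injective N :=
  (LeftData.dec_indep h.dec).injective h.dec.ne

theorem sup_eq (h : NBs (S : Subgroup G) N E D l q) : (⨆ b, N b) = Wd (S : Subgroup G) := by
  rw [← h.dec.sup, sup_bot_eq]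

/-- the data of an active `P` if `S` is transitive on the blocks -/
theorem exists_P [Nonempty ι] (h : NBs (S : Subgroup G) N E D l q) (hs : Src (S : Subgroup G) N l q)
    (tr : ∀ a b, ∃ s ∈ (S : Subgroup G), MulAut.conj s • N a = N b) :
    ∃ P, Act (S : Subgroup G) P ∧ ∃ (F : Type) (_ : Field F) (_ : Finite F) (_ : CharP F 2) (k : ℕ) (_ : 0 < k)
      (M : NatKM F (S : Subgroup G) P (zl (S : Subgroup G) P) (cv (S : Subgroup G) P) k) (h : Nb M),
      (∀ i, NS.DD M i = ⊥) ∧ (∀ j, ∃ b, N b = blk M j ∧ l b = NS.YY h j ∧ q b = Nat.card F) ∧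
        ∀ b, ∃ j, N b = blk M j ∧ l b = NS.YY h j ∧ q b = Nat.card F := by
  obtain ⟨b₀⟩ := ‹Nonempty ι›
  obtain ⟨P, hP, F, i1, i2, i3, k, hk, M, h', spl, ⟨j, h1, h2, h3⟩, h4⟩ := hs.mov b₀
  refine ⟨P, hP, F, i1, i2, i3, k, hk, M, h', spl, h4, fun b => ?_⟩
  obtain ⟨s, hs, hsb⟩ := tr b₀ b
  obtain ⟨σ, hσ⟩ := M.perm s (h'.SP' hs)
  have h5 := PNat.cj_blk h' spl (h'.SP' hs) hσ j
  obtain ⟨c, h6, h7, h8⟩ := h4 (σ j)
  have h9 : N c = N b := by
    rw [h6, ← h5, ← h1, ← hsb]; rfl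
  have h10 : c = b := N_inj h h9
  subst h10
  exact ⟨σ j, h6, h7, h8⟩

theorem one_data [Nonempty ι] (h : NBs (S : Subgroup G) N E D l q) (hs : Src (S : Subgroup G) N l q)
    (tr : ∀ a b, ∃ s ∈ (S : Subgroup G), MulAut.conj s • N a = N b) :
    ∃ P, Act (S : Subgroup G) P ∧ zl (S : Subgroup G) P = Wd (S : Subgroup G) ∧ cv (S : Subgroup G) P = ⊥ ∧
      ∃ D' : ι → Subgroup G, NBs (S : Subgroup G) N E D' l q ∧ ∀ b, D' b ≤ P := by
  obtain ⟨P, hP, F, _, _, _, k, hk, M, h', spl, h1, h2⟩ := exists_P h hs tr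
  choose J hJN hJl hJq using h2
  have hPM : P ≤ MZ (S : Subgroup G) := le_sSup hP.1
  have hle : Wd (S : Subgroup G) ≤ ⨆ j, blk M j := by
    rw [← sup_eq h]
    exact iSup_le fun b => by
      rw [hJN b]; exact le_iSup (blk M) (J b)
  have hV : zl (S : Subgroup G) P = Wd (S : Subgroup G) :=
    le_antisymm (MinSimple.VModule.zl_le (MinSimple.VModule.zc_le_zl _ _)
      (hPM.trans (MinSimple.VModule.le_normalizer_zl _ _))) (hle.trans (PNat.sup_le_V h'))
  have hcv : cv (S : Subgroup G) P = ⊥ := by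
    rw [eq_bot_iff]
    intro x hx
    exact mem_bot.2 (PNat.eq_one h' spl (hle (hV ▸ hx.1)) hx)
  have hJ : ∀ b c, b ≠ c → J b ≠ J c := fun b c hbc hJbc => hbc (N_inj h (by rw [hJN b, hJN c, hJbc]))
  refine ⟨P, hP, hV, hcv, fun b => PNat.DP h' (J b), ⟨h.dec, h.memE, fun b g hg => ?_, fun b => ?_, h.perm, h.ln,
    fun s hs b => ?_, h.permN, h.lnY⟩, fun b => PNat.DP_le h' (J b)⟩
  · refine (h.memE b g).2 ⟨hPM hg.1, fun c hc => mem_centralizer_iff.2 fun v hv => ?_⟩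
    rw [hJN c] at hv
    exact (PNat.DP_cent h' spl (hJ c b hc) hg hv).symm
  · refine ⟨F, inferInstance, inferInstance, inferInstance, fun g => M.e g (J b), (hJq b).symm, ?_⟩
    rw [hJN b, hJl b]
    exact PNat.natBlk h' spl S.isPGroup' (J b)
  · obtain ⟨c, h3, -, h4⟩ := h.sD s hs b
    refine ⟨c, h3, ?_, h4⟩
    have h5 : cj s (blk M (J b)) = blk M (J c) := by
      rw [← hJN b, ← hJN c, ← h3]; rfl
    exact PNat.cj_DP h' spl (h'.SP' hs) h5

/-- **one `S`-orbit of blocks** -/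
theorem one_orb (B : RB S) (h : NBs (S : Subgroup G) N E D l q) (hs : Src (S : Subgroup G) N l q)
    (tr : ∀ a b, ∃ s ∈ (S : Subgroup G), MulAut.conj s • N a = N b)
    (nl : ∀ D' : ι → Subgroup G, NBs (S : Subgroup G) N E D' l q → ∀ U : Subgroup G, IsPGroup 2 U →
      CZ (S : Subgroup G) ≤ normalizer (U : Set G) → (∀ b, D' b ≤ normalizer (U : Set G)) → U = ⊥) : False := by
  have hne : Nonempty ι := by
    by_contra hemp
    rw [not_nonempty_iff] at hemp
    have h1 := sup_eq h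
    rw [iSup_of_empty] at h1
    have h2 : zc (S : Subgroup G) ≤ ⊥ := by
      rw [h1]
      exact MinSimple.VModule.zc_le_zl _ _
    obtain ⟨P, hP⟩ := B.ctx.exists_isParS B.full
    refine hP.not_zc fun g _ => mem_normalizer_iff.2 fun x => ?_
    rw [le_bot_iff.1 h2, mem_bot, mem_bot, conj_eq_one_iff]
  obtain ⟨P, hP, -, -, D', hD', hDP⟩ := one_data h hs tr
  have h1 := B.data.loc P hP.1
  refine h1.loc.o2_ne (nl D' hD' _ (MinSimple.VModule.o2_isPGroup _) ?_ fun b => ?_)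
  · exact le_sup_right.trans (MinSimple.VModule.le_normalizer_o2 _)
  · exact (hDP b).trans (le_sup_left.trans (MinSimple.VModule.le_normalizer_o2 _))

end Cfsg.Agent.Omega.NOThreeL.RRed.OneOrb
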