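import Cfsg.Agent.Omega.NOThreeL.RRed.OneTwoFour

/-!
# WideAll, natural blocks with `q = 4`, `S` transitive on the blocks: void (any number of blocks)

The argument of `OneTwoFour` with "`S` transitive on the blocks" for "two blocks": `z ∈ Z` is determined by one component,
so `l b` is the set of the `b`-components of `Z` (`|Z| ≥ 4`) and `S ⊓ N(N b)` centralises `l b`; `P ∈ P*(S)` with
`1 ≠ v ∈ C_Z(P)` (`RB.ex`): `P ⊓ N(N b)` fixes `v b`, so it centralises `l b` (`OneTwoFour.core`), and `P` centralises `Z`.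

* `ext_of` : an element of `V*` without components is `1`;
* `cent_line` : `P ⊓ N(N b)` centralises `l b`;
* **`one_orb_four`** : `RB S`, `|Z| ≥ 4`, natural blocks with `q b = 4`, `S` transitive on the blocks: `False`.
-/

set_option autoImplicit false
set_option linter.unusedSectionVars false

namespace Cfsg.Agent.Omega.NOThreeL.RRed.OneOrbFour

open Subgroup Cfsg Cfsg.Agent.ZN Cfsg.Agent.Omega.MinPar Cfsg.Agent.Omega.Frame Cfsg.Agent.Omega.FrameNOFF
open Cfsg.Agent.Omega.Node.NO3L Cfsg.Agent.Omega.NOThreeL.Basic Cfsg.Agent.Omega.NOThreeL.RTree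
open Cfsg.Agent.Omega.NOThreeL.Merge (MZ)
open Cfsg.Agent.Omega.NOThreeL.RRed.WideTree
open Cfsg.Agent.Omega.NOThreeL.RRed.Blk
open Cfsg.Agent.Omega.NOThreeL.RRed.OneTwoFour (core conj_into smul_eq_iff)
open scoped Pointwise

universe u

variable {G : Type u} [Group G] [Finite G] {S : Sylow 2 G} {ι : Type u} {N E D l : ι → Subgroup G} {q : ι → ℕ}

section orb

variable [Finite ι] (h : NBs (S : Subgroup G) N E D l q)
  (htr : ∀ b c, ∃ s ∈ (S : Subgroup G), MulAut.conj s • N b = N c)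
include h

/-- an element of `V*` without components is `1` -/
theorem ext_of {x : G} (hx : x ∈ Wd (S : Subgroup G)) (h1 : ∀ b, IsC N ⊥ b x 1) : x = 1 := by
  have h3 := h.dec.mem_R hx h1
  rwa [mem_bot] at h3

include htr

theorem eq_one_of {b : ι} {x : G} (hS : ∀ s ∈ (S : Subgroup G), s * x * s⁻¹ = x) (hx : x ∈ Wd (S : Subgroup G))
    (h1 : IsC N ⊥ b x 1) : x = 1 := by
  refine ext_of h hx fun c => ?_
  obtain ⟨s, hs, hsb⟩ := htr b c
  have h2 := h.dec.comp_conj (h.dec.SL hs) hsb h1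
  rwa [hS s hs, mul_one, mul_inv_cancel] at h2

/-- `P ⊓ N(N b)` centralises the line `l b` if `P` fixes some `v ∈ Z`, `v ≠ 1`, `q b = 4`, `|Z| ≥ 4`. -/
theorem cent_line (B : RB S) {b : ι} (hq : q b = 4) (hZ : 4 ≤ Nat.card (zc (S : Subgroup G))) {P : Subgroup G}
    (hP : IsParS (S : Subgroup G) P) {v : G} (hv : v ∈ zc (S : Subgroup G)) (hv1 : v ≠ 1)
    (hvP : ∀ g ∈ P, g * v * g⁻¹ = v) :
    (∀ z ∈ zc (S : Subgroup G), ∀ n, IsC N ⊥ b z n → n ∈ l b) ∧
      ∀ g ∈ P, MulAut.conj g • N b = N b → ∀ x ∈ l b, g * x = x * g := by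
  classical
  have hSM : (S : Subgroup G) ≤ MZ (S : Subgroup G) := SM B
  have hPM : P ≤ MZ (S : Subgroup G) := le_MZ hP
  have hSP : (S : Subgroup G) ≤ P := hP.isLoc.le
  have hzS : ∀ z ∈ zc (S : Subgroup G), ∀ s ∈ (S : Subgroup G), s * z * s⁻¹ = z := fun z hz s hs => by
    rw [(mem_zc.1 hz).2.1 s hs, mul_inv_cancel_right]
  obtain ⟨F, _, _, _, e, hF, hN⟩ := h.nat b
  have hEn : ∀ g ∈ D b, MulAut.conj g • N b = N b := fun g hg =>
    smul_eq_iff.2 (h.dec.EN b (h.DE b hg))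
  have hnN : ∀ {g : G}, MulAut.conj g • N b = N b → ∀ x ∈ N b, g * x * g⁻¹ ∈ N b := fun hg x hx =>
    (conj_smul hg).1 hx
  have hchar : ∀ x : F, x + x = 0 := fun x => CharTwo.add_self_eq_zero x
  have he1 : e 1 = 0 := by
    have := hN.mul 1 (one_mem _) 1 (one_mem _)
    rw [one_mul] at this
    exact left_eq_add.1 this
  have hN2 : ∀ x ∈ N b, x * x = 1 := fun x hx => hN.inj _ (mul_mem hx hx) (by
    rw [hN.mul x hx x hx]
    funext i
    exact hchar _)
  have hinv : ∀ x ∈ N b, x⁻¹ = x := fun x hx => inv_eq_of_mul_eq_one_right (hN2 x hx)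
  have hein : ∀ x ∈ N b, ∀ y ∈ N b, e x = e y → x = y := fun x hx y hy hxy => by
    have h1 : x * y = 1 := hN.inj _ (mul_mem hx hy) (by
      rw [hN.mul x hx y hy, hxy]
      funext i
      exact hchar _)
    rw [eq_comm, ← hinv x hx]
    exact (eq_inv_of_mul_eq_one_right h1)
  have hlN : l b ≤ N b := fun x hx => ((hN.line x).1 hx).1
  -- `|l b| = 4`
  have hcard : Nat.card (l b) = 4 := by
    rw [← hq, ← hF]
    refine Nat.card_congr (Equiv.ofBijective (fun x : l b => e (x : G) 0) ⟨?_, ?_⟩)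
    · intro x y hxy
      obtain ⟨hx, hx1⟩ := (hN.line _).1 x.2
      obtain ⟨hy, hy1⟩ := (hN.line _).1 y.2
      refine Subtype.ext (hein _ hx _ hy ?_)
      funext i
      fin_cases i
      · exact hxy
      · exact hx1.trans hy1.symm
    · intro a
      obtain ⟨x, hx, hxe⟩ := hN.sur ![a, 0]
      refine ⟨⟨x, (hN.line x).2 ⟨hx, by rw [hxe]; rfl⟩⟩, ?_⟩
      change e x 0 = a
      rw [hxe]; rfl
  -- commutators with the root elements
  have hcomm : ∀ s : G, MulAut.conj s • N b = N b → ∀ a : F,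
      (∀ x ∈ N b, e (s * x * s⁻¹) = ![e x 0 + a * e x 1, e x 1]) → ∀ x ∈ N b,
      e (s * x * s⁻¹ * x⁻¹) = ![a * e x 1, 0] := by
    intro s hs a hsa x hx
    rw [hinv x hx, hN.mul _ (hnN hs x hx) x hx, hsa x hx]
    funext i
    fin_cases i
    · change e x 0 + a * e x 1 + e x 0 = a * e x 1
      rw [add_comm (e x 0), add_assoc, hchar, add_zero]
    · change e x 1 + e x 1 = 0
      exact hchar _
  -- the `b`-components of `Z` are in `l b`
  have hcl : ∀ z ∈ zc (S : Subgroup G), ∀ n, IsC N ⊥ b z n → n ∈ l b := by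
    intro z hz n hn
    obtain ⟨s, hs, hse⟩ := hN.sylow 1
    have h1 := h.dec.comp_conj (hSM hs.1) (hEn s hs.2) hn
    rw [hzS z hz s hs.1] at h1
    have h2 := h.dec.uniq h1 hn
    refine (hN.line n).2 ⟨hn.1, ?_⟩
    have h3 := hse n hn.1
    rw [h2] at h3
    have h4 := congrFun h3 0
    change e n 0 = e n 0 + 1 * e n 1 at h4
    rw [one_mul] at h4
    exact left_eq_add.1 h4
  refine ⟨hcl, ?_⟩
  -- every element of `l b` is a component
  have hzW : ∀ z ∈ zc (S : Subgroup G), z ∈ Wd (S : Subgroup G) := fun z hz => zc_le_Wd _ hz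
  have hsurj : ∀ n ∈ l b, ∃ z ∈ zc (S : Subgroup G), IsC N ⊥ b z n := by
    choose f hf using fun z : zc (S : Subgroup G) => h.dec.ex_comp b (hzW z z.2)
    let φ : zc (S : Subgroup G) → l b := fun z => ⟨f z, hcl z z.2 _ (hf z)⟩
    have hφ : Function.Injective φ := by
      intro z z' hzz
      have h1 : f z = f z' := congrArg Subtype.val hzz
      have h2 := h.dec.comp_mul (h.dec.comp_inv (hf z)) (hf z')
      rw [h1, inv_mul_cancel] at h2
      have h3 : ((z : G))⁻¹ * (z' : G) = 1 :=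
        eq_one_of h htr (hzS _ (mul_mem (inv_mem z.2) z'.2)) (hzW _ (mul_mem (inv_mem z.2) z'.2)) h2
      exact Subtype.ext (inv_mul_eq_one.1 h3)
    have hb : Function.Bijective φ := hφ.bijective_of_nat_card_le (by rw [hcard]; exact hZ)
    intro n hn
    obtain ⟨z, hz⟩ := hb.2 ⟨n, hn⟩
    have h1 : f z = n := congrArg Subtype.val hz
    exact ⟨z, z.2, h1 ▸ hf z⟩
  -- `v b`
  obtain ⟨v₀, hv₀⟩ := h.dec.ex_comp b (hzW v hv)
  have hv01 : v₀ ≠ 1 := by
    rintro rfl
    exact hv1 (eq_one_of h htr (hzS v hv) (hzW v hv) hv₀)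
  have key := core (T := (S : Subgroup G) ⊓ normalizer (N b : Set G)) (P₀ := P ⊓ normalizer (N b : Set G))
    (N := N b) (l := l b) (R := (S : Subgroup G) ⊓ D b) (v₀ := v₀) (S.isPGroup'.to_le inf_le_left) ?_
    (inf_le_inf_right _ hSP) (fun g hg x hx => (mem_normalizer_iff.1 hg.2 x).1 hx) hN2 hlN hcard ?_
    (inf_le_inf_left _ ((h.DE b).trans (h.dec.EN b))) ?_ (hcl v hv _ hv₀) hv01 ?_
  · intro g hg hgn x hx
    exact key g ⟨hg, smul_eq_iff.1 hgn⟩ x hx
  · -- Sylow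
    intro W hW hW2
    obtain ⟨p, hp, hpW⟩ := conj_into hSP (hW.trans inf_le_left) hW2
    obtain ⟨c, hpc, -⟩ := h.dec.perm p (hPM hp) b
    obtain ⟨s, hs, hsc⟩ := htr c b
    have hgn : MulAut.conj (s * p) • N b = N b := by rw [map_mul, mul_smul, hpc, hsc]
    refine ⟨s * p, ⟨mul_mem (hSP hs) hp, smul_eq_iff.1 hgn⟩, fun w hw => mem_inf.2 ⟨?_, ?_⟩⟩
    · have e3 : s * p * w * (s * p)⁻¹ = s * (p * w * p⁻¹) * s⁻¹ := by group
      rw [e3]
      exact mul_mem (mul_mem hs (hpW w hw)) (inv_mem hs)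
    · exact mul_mem (mul_mem (smul_eq_iff.1 hgn) (hW hw).2) (inv_mem (smul_eq_iff.1 hgn))
  · -- `T` centralises `l b`
    intro t ht x hx
    obtain ⟨z, hz, hzx⟩ := hsurj x hx
    have h1 := h.dec.comp_conj (hSM ht.1) (smul_eq_iff.2 ht.2) hzx
    rw [hzS z hz t ht.1] at h1
    exact mul_inv_eq_iff_eq_mul.1 (h.dec.uniq h1 hzx)
  · -- the root group
    intro x hx hxl z hz
    have hx1 : e x 1 ≠ 0 := fun h0 => hxl ((hN.line x).2 ⟨hx, h0⟩)
    obtain ⟨hzN, hz1⟩ := (hN.line z).1 hz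
    obtain ⟨s, hs, hse⟩ := hN.sylow (e z 0 / e x 1)
    refine ⟨s, hs, hein _ (mul_mem (hnN (hEn s hs.2) x hx) (inv_mem hx)) _ hzN ?_⟩
    rw [hcomm s (hEn s hs.2) _ hse x hx]
    funext i
    fin_cases i
    · change e z 0 / e x 1 * e x 1 = e z 0
      exact div_mul_cancel₀ _ hx1
    · exact hz1.symm
  · intro g hg
    have h1 := h.dec.comp_conj (hPM hg.1) (smul_eq_iff.2 hg.2) hv₀
    rw [hvP g hg.1] at h1
    exact mul_inv_eq_iff_eq_mul.1 (h.dec.uniq h1 hv₀)

/-- **Natural blocks with `q = 4` and `S` transitive on the blocks are impossible** (any number of blocks). -/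
theorem one_orb_four [Nonempty ι] (B : RB S) (hZ : 4 ≤ Nat.card (zc (S : Subgroup G))) (hq : ∀ b, q b = 4) : False := by
  obtain ⟨P, hP, hne⟩ := B.ex
  obtain ⟨v, hv, hv1⟩ : ∃ v ∈ zc (S : Subgroup G) ⊓ centralizer (P : Set G), v ≠ 1 := by
    by_contra hcon
    push Not at hcon
    exact hne ((eq_bot_iff_forall _).2 hcon)
  have hvP : ∀ g ∈ P, g * v * g⁻¹ = v := fun g hg => by
    rw [mem_centralizer_iff.1 hv.2 g hg, mul_inv_cancel_right]
  have hcl := fun b => cent_line h htr B (hq b) hZ hP hv.1 hv1 hvP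
  have hPM : P ≤ MZ (S : Subgroup G) := le_MZ hP
  have hSP : (S : Subgroup G) ≤ P := hP.isLoc.le
  -- `P` centralises `Z`
  refine hP.not_zc ((le_trans ?_ (centralizer_le_normalizer _)))
  intro p hp
  rw [mem_centralizer_iff]
  intro z hz
  have hzW : z ∈ Wd (S : Subgroup G) := zc_le_Wd _ hz
  have key : z⁻¹ * (p * z * p⁻¹) = 1 := by
    refine ext_of h (mul_mem (inv_mem hzW) (nor p (hPM hp) z hzW)) fun c => ?_
    -- the `c`-component
    obtain ⟨n, hn⟩ := h.dec.ex_comp c hzW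
    obtain ⟨b, hb, -⟩ := h.dec.perm p⁻¹ (inv_mem (hPM hp)) c
    have hb' : MulAut.conj p • N b = N c := by rw [← hb, map_inv, smul_inv_smul]
    obtain ⟨s, hs, hsc⟩ := htr c b
    have hg : MulAut.conj (p * s) • N c = N c := by rw [map_mul, mul_smul, hsc, hb']
    have hgP : p * s ∈ P := mul_mem hp (hSP hs)
    have h1 := h.dec.comp_conj (hPM hgP) hg hn
    rw [(hcl c).2 _ hgP hg n ((hcl c).1 z hz n hn), mul_inv_cancel_right] at h1
    have h2 : p * s * z * (p * s)⁻¹ = p * z * p⁻¹ := by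
      have h3 : s * z * s⁻¹ = z := by rw [(mem_zc.1 hz).2.1 s hs, mul_inv_cancel_right]
      calc p * s * z * (p * s)⁻¹ = p * (s * z * s⁻¹) * p⁻¹ := by group
        _ = p * z * p⁻¹ := by rw [h3]
    rw [h2] at h1
    have h4 := h.dec.comp_mul (h.dec.comp_inv hn) h1
    rwa [inv_mul_cancel] at h4
  have key' : p * z * p⁻¹ = z := (inv_mul_eq_one.1 key).symm
  exact (mul_inv_eq_iff_eq_mul.1 key').symm

end orb

/-- The same over `Wide`. -/
theorem wide_orb_four [Finite ι] [Nonempty ι] (W : Wide S) (h : NBs (S : Subgroup G) N E D l (fun _ => 4))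
    (htr : ∀ b c, ∃ s ∈ (S : Subgroup G), MulAut.conj s • N b = N c) : False :=
  one_orb_four h htr W.toRB W.four_le fun _ => rfl

end Cfsg.Agent.Omega.NOThreeL.RRed.OneOrbFour
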