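import Cfsg.Agent.Omega.SQT.OneS

/-!
# NO-3L, box R: one class of `𝔽₂`-blocks, `|Z| ≥ 4`: at least three light pairs

* **`five_le`** : `V*` irreducible for `M₀`, `4 ≤ |Z|`: `|I| + 5 ≤ ∑ |Om i|` (not one block with 3 or 5 letters, not two
  blocks with 3 letters; the argument of helper949's `SQT/OneS.lean`, without any hypothesis on ranks).
-/

set_option autoImplicit false
set_option linter.unusedSectionVars false

namespace Cfsg.Agent.Omega.NOThreeL.RRed.OneS

open Subgroup Cfsg
open Cfsg.Agent.Omega.SQT.LettQ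
open Cfsg.Agent.Omega.SQT.WideS
open Cfsg.Agent.Omega.NOThreeL.RRed.Blk
open Cfsg.Agent.Omega.NOThreeL.RRed.TvFin (Full)

universe u

variable {G : Type u} [Group G] [Finite G] {S : Sylow 2 G} {M V : Subgroup G} {I : Type u} {N E : I → Subgroup G}
  [Fintype I] {Om : I → Type u} [∀ i, Fintype (Om i)] [∀ i, DecidableEq (Om i)] {phi : ∀ i, Finset (Om i) → G}

/-- **`|Z| ≥ 4`, `V` irreducible: at least three light pairs.** -/
theorem five_le (F : Full (S : Subgroup G) M V N E ⊥ Om phi) (hne : Nonempty I)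
    (hirr : ∀ b, M ≤ normalizer (N b : Set G) → V ≤ N b) {Z : Subgroup G} (hZV : Z ≤ V)
    (hZS : ∀ z ∈ Z, ∀ s ∈ (S : Subgroup G), s * z * s⁻¹ = z) (h4 : 4 ≤ Nat.card Z) :
    Fintype.card I + 5 ≤ ∑ i, Fintype.card (Om i) := by
  classical
  have hD := F.toDec
  have hodd : ∀ i, Odd (Fintype.card (Om i)) := fun i => (F.lett i).odd
  have h3 : ∀ i, 3 ≤ Fintype.card (Om i) := F.three
  by_contra hcon
  push Not at hcon
  obtain ⟨b⟩ := hne
  -- at most two blocks
  have hsum : ∀ t : Finset I, 3 * (Finset.univ \ t).card + ∑ i ∈ t, Fintype.card (Om i) ≤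
      ∑ i, Fintype.card (Om i) := by
    intro t
    have h5 := Finset.sum_sdiff (f := fun i => Fintype.card (Om i)) (Finset.subset_univ t)
    rw [← h5]
    refine Nat.add_le_add_right ?_ _
    rw [mul_comm, ← smul_eq_mul]
    exact Finset.card_nsmul_le_sum _ _ _ fun i _ => h3 i
  by_cases hI : ∀ x, x = b
  · have h5 := hsum {b}
    have h6 : Fintype.card I = 1 := Fintype.card_eq_one_iff.2 ⟨b, hI⟩
    rw [Finset.sum_singleton] at h5
    have h7 := hodd b
    have h8 := h3 b
    have h9 : Fintype.card (Om b) = 3 ∨ Fintype.card (Om b) = 5 := by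
      obtain ⟨k, hk⟩ := h7
      omega
    have hZN : Z ≤ N b := hZV.trans (eq_of_one hD hI).le
    obtain ⟨z, hz⟩ := two (F.lett b) (sylR hD b) h9
    have := card_le_two (Z := Z) (z0 := z) fun x hx => hz x (hZN hx) fun t ht => hZS x hx t (mem_inf.1 ht).1
    omega
  · push Not at hI
    obtain ⟨c, hcb⟩ := hI
    have h5 := hsum {b, c}
    rw [Finset.sum_pair hcb.symm] at h5
    have h6 : (Finset.univ \ {b, c} : Finset I).card + 2 = Fintype.card I := by
      have h7 := Finset.card_sdiff_add_card_eq_card (Finset.subset_univ ({b, c} : Finset I))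
      rw [Finset.card_pair hcb.symm, Finset.card_univ] at h7
      exact h7
    have hb3 := h3 b
    have hc3 := h3 c
    have h7 : (Finset.univ \ {b, c} : Finset I).card = 0 := by omega
    have hall : ∀ x, x = b ∨ x = c := by
      intro x
      by_contra hx
      push Not at hx
      have h8 : x ∈ (Finset.univ \ {b, c} : Finset I) := by
        rw [Finset.mem_sdiff, Finset.mem_insert, Finset.mem_singleton]
        exact ⟨Finset.mem_univ _, fun h => h.elim hx.1 hx.2⟩
      rw [Finset.card_eq_zero.1 h7] at h8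
      simp at h8
    have hmv : ∃ g ∈ M, g ∉ KK M N b := by
      by_contra hno
      push Not at hno
      have h1 : M ≤ normalizer (N b : Set G) := fun g hg => (mem_inf.1 (hno g hg)).2
      have h2 := hirr b h1
      apply hD.ne c
      rw [eq_bot_iff, ← hD.ind c]
      exact le_inf le_rfl (((hD.NU c).trans h2).trans (hD.N_le_Co hcb.symm))
    obtain ⟨s, hs, hsK⟩ := exists_swap_blocks hD hcb.symm hall hmv
    obtain ⟨z0, hz0⟩ := two (F.lett b) (sylR hD b) (by
      obtain ⟨k, hk⟩ := hodd b
      omega)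
    have h2 : Nat.card Z ≤ 2 := by
      by_cases hZ1 : ∃ x ∈ Z, x ≠ 1
      · obtain ⟨x, hx, x1⟩ := hZ1
        refine card_le_two (z0 := x) fun y hy => ?_
        by_cases hy1 : y = 1
        · exact Or.inl hy1
        · exact Or.inr (eq_of_two hD hcb.symm hall rfl hs hsK hz0 (hZV hy) (hZV hx) (hZS y hy) (hZS x hx) hy1 x1)
      · push Not at hZ1
        exact card_le_two (z0 := 1) fun y hy => Or.inl (hZ1 y hy)
    omega

end Cfsg.Agent.Omega.NOThreeL.RRed.OneS
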