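import Cfsg.Agent.Omega.NOThreeL.RRed.OneSTop
import Cfsg.Agent.Omega.NOThreeL.QWR.OffTop
import Cfsg.Agent.Omega.NOThreeL.QWR.RQOf
import Cfsg.Agent.Omega.NOThreeL.RLev.TopBks

/-!
# NO-3L, box R, one class of `𝔽₂`-blocks: the socket `WideTree.TopS` is a theorem

* **`topS`** : `TopS K B` for every frame `B` with `B G S → RBF S`;
* **`wOneS`** : `WOneS K B` for the same frames.

Inputs: `OneSTop.false_topT` (THEOREM S''T), helper743's `QWR.OffTop.offR_top` (THEOREM QW), helper281's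
`QWR.RQOf.rq_bks`, helper319's `RLev.top_bks'`.
-/

set_option autoImplicit false
set_option linter.unusedSectionVars false

namespace Cfsg.Agent.Omega.NOThreeL.RRed.OneSDone

open Subgroup Cfsg Cfsg.Agent.Omega.MinPar Cfsg.Agent.Omega.Frame Cfsg.Agent.Omega.FrameNOFF
open Cfsg.Agent.ZN (jj zc zl o2)
open Cfsg.Agent.Omega.NOThreeL.Merge (MZ)
open Cfsg.Agent.Omega.NOThreeL.RTree (RB)
open Cfsg.Agent.Omega.NOThreeL.RTreeF (RBF)
open Cfsg.Agent.Omega.NO3S.Level (lev)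
open Cfsg.Agent.Omega.NO3b.EndX (AbsP)
open Cfsg.Agent.Omega.OM.SwapK (WL)
open Cfsg.Agent.Omega.NOThreeL.RRed (Wd)
open Cfsg.Agent.Omega.NOThreeL.RRed.WideTree
open Cfsg.Agent.Omega.NOThreeL.RRed.GlueSig
open Cfsg.Agent.Omega.NOThreeL.QWR.FrTop (QT)

universe u

variable {K : Cls.{u}} {B : Fr.{u}}

/-- **The socket `TopS`.** -/
theorem topS (hML : ML.Final.MLK.{u, u}) (ha : AbsP.{u, u})
    (hB : ∀ (G : Type u) [Group G] [Finite G] (S : Sylow 2 G), B G S → RBF S) : TopS K B := by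
  intro G _ _ _ S h hW _ hCM I _ _ N E Om _ _ phi hN _ _ hlev
  have irr : ∀ U : Subgroup G, U ≤ Wd (S : Subgroup G) → MZ (S : Subgroup G) ≤ normalizer (U : Set G) → U ≠ ⊥ →
      Wd (S : Subgroup G) ≤ U := fun U h1 h2 h3 => hCM.irr PUnit.unit U h1 h2 h3
  have hj : jj (S : Subgroup G) ≤ centralizer (Wd (S : Subgroup G) : Set G) := hlev 0
  have T : RLev.Top S := RLev.top_bks' hML ha (hB G S h) hj hN irr
  have rq := QWR.RQOf.rq_bks hML ha hW hCM hN hj T.wc T.zcQ.le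
  have wl : WL S (QT (S : Subgroup G)) := ⟨T.wc, T.lev⟩
  exact OneSTop.false_topT hML hW.toRB hW.rr hN hW.four_le irr T
    (fun hL fr M hM hD _ hP => QWR.OffTop.offR_top hW.toRB hML hW.four_le rq wl T.zcQ rfl fr hL hM hD hP)

/-- **`WOneS`.** -/
theorem wOneS (hML : ML.Final.MLK.{u, u}) (hE : ML.Ex.Two.Ext.{u, u}) (ha : AbsP.{u, u})
    (hB : ∀ (G : Type u) [Group G] [Finite G] (S : Sylow 2 G), B G S → RBF S) : WOneS K B :=
  wOneS_of hML hE (topS hML ha hB)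

end Cfsg.Agent.Omega.NOThreeL.RRed.OneSDone
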