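import Cfsg.Agent.Omega.NOThreeL.RRed.OneSCount
import Cfsg.Agent.Omega.NOThreeL.RRed.BFr.PlugLev
import Cfsg.Agent.Omega.NOThreeL.RRed.BFr.Top

/-!
# NO-3L, box R: one class of `𝔽₂`-blocks, the standard levels

`RB S`, `Bks S N E ⊥ Om phi`, `V* = Wd S` irreducible for `M₀`, `|Z| ≥ 4`.

* `five_le_bks` : at least three light pairs;
* `jj_all_blocks` : if `J(S)` moves `V*` then it moves all blocks; `lev_all_blocks` : the same for `lev S (n + 1)`;
* **`std`** : `J(S)` and all `lev S n` centralise `V*` (THEOREM U at the stages `-1` and `n ≥ 0`).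
-/

set_option autoImplicit false
set_option linter.unusedSectionVars false

namespace Cfsg.Agent.Omega.NOThreeL.RRed.OneS

open Subgroup Cfsg Cfsg.Agent.Omega.MinPar Cfsg.Agent.Omega.Frame Cfsg.Agent.Omega.FrameNOFF
open Cfsg.Agent.ZN (jj zc o2)
open Cfsg.Agent.ZN.ChoiceBase (AA mem_zc normalizer_le_jj)
open Cfsg.Agent.Omega.NOThreeL.Merge (MZ le_MZ S_le_MZ isLoc_MZ zl_MZ_comm zl_MZ_isPGroup)
open Cfsg.Agent.Omega.NOThreeL.RTree (RB)
open Cfsg.Agent.Omega.NO3S.Level (lev Lev lev_isLev)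
open Cfsg.Agent.Omega.NOThreeL.RRed (Wd wcomm zl_MZ_sq)
open Cfsg.Agent.Omega.NOThreeL.RRed.FourTree (Bks nxtX)
open Cfsg.Agent.Omega.NOThreeL.RRed.HypJOf (Fx mem_fx best_le_fx par_move norm_jj trans_of_irr ofd_of wd_le best_of_AA)
open scoped Pointwise

universe u

variable {G : Type u} [Group G] [Finite G] {S : Sylow 2 G}

theorem wd_sq (B : RB S) : ∀ x ∈ Wd (S : Subgroup G), x ^ 2 = 1 := zl_MZ_sq B.ctx.char2 B.data.noff

/-- `V* ≤ Ω₁Z(J(S))` if `J(S)` centralises `V*` -/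
theorem wd_le_zj (B : RB S) (hj : jj (S : Subgroup G) ≤ centralizer (Wd (S : Subgroup G) : Set G)) :
    Wd (S : Subgroup G) ≤ zc (jj (S : Subgroup G)) := fun v hv =>
  ZN.mem_zj_of_comm (wd_le B hv) (wd_sq B v hv) fun y hy => (mem_centralizer_iff.1 (hj hy) v hv).symm

/-- `V* ≤ Ω₁Z(lev S (n + 1))` -/
theorem wd_le_succ {n : ℕ} (h : Wd (S : Subgroup G) ≤ zc (lev (S : Subgroup G) n))
    (hj : lev (S : Subgroup G) (n + 1) ≤ centralizer (Wd (S : Subgroup G) : Set G)) :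
    Wd (S : Subgroup G) ≤ zc (lev (S : Subgroup G) (n + 1)) := fun v hv => by
  have h1 := mem_zc.1 (h hv)
  exact mem_zc.2 ⟨NO3S.Level.lev_le_succ _ _ h1.1, h1.2.1, fun y hy => (mem_centralizer_iff.1 (hj hy) v hv).symm⟩

variable {I : Type u} [Fintype I] [DecidableEq I] {N E : I → Subgroup G} {Om : I → Type u}
  [∀ i, Fintype (Om i)] [∀ i, DecidableEq (Om i)] {phi : ∀ i, Finset (Om i) → G}

/-- **At least three light pairs.** -/
theorem five_le_bks (hB : Bks S N E ⊥ Om phi)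
    (irr : ∀ U : Subgroup G, U ≤ Wd (S : Subgroup G) → MZ (S : Subgroup G) ≤ normalizer (U : Set G) → U ≠ ⊥ →
      Wd (S : Subgroup G) ≤ U) (hz : 4 ≤ Nat.card (zc (S : Subgroup G))) :
    Fintype.card I + 5 ≤ ∑ i, Fintype.card (Om i) :=
  five_le hB.toFull hB.nonempty (fun b hb => irr (N b) (hB.toDec.NU b) hb (hB.toDec.ne b))
    (MinSimple.VModule.zc_le_zl _ _) (fun z hz' s hs => mul_inv_eq_iff_eq_mul.2 ((mem_zc.1 hz').2.2 s hs)) hz

/-- if `J(S)` moves `V*` then it moves all blocks -/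
theorem jj_all_blocks (B : RB S) (hB : Bks S N E ⊥ Om phi)
    (irr : ∀ U : Subgroup G, U ≤ Wd (S : Subgroup G) → MZ (S : Subgroup G) ≤ normalizer (U : Set G) → U ≠ ⊥ →
      Wd (S : Subgroup G) ≤ U)
    (hj : ¬ jj (S : Subgroup G) ≤ centralizer (Wd (S : Subgroup G) : Set G)) :
    ∀ b, ¬ jj (S : Subgroup G) ≤ centralizer (N b : Set G) := by
  have hSM := S_le_MZ B.ctx B.full
  have tr := trans_of_irr hB.toDec irr
  have hperm : ∀ g ∈ MZ (S : Subgroup G), ∀ b, ∃ c, MulAut.conj g • N b = N c := fun g hg b => by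
    obtain ⟨c, hc, -⟩ := hB.toDec.perm g hg b
    exact ⟨c, hc⟩
  have hsup : (⨆ b, N b) = Wd (S : Subgroup G) := by
    have := hB.toDec.sup
    rwa [sup_bot_eq] at this
  have hmv : ∃ b, ¬ jj (S : Subgroup G) ≤ centralizer (N b : Set G) := by
    by_contra hcon
    push Not at hcon
    apply hj
    rw [le_centralizer_iff, ← hsup]
    exact iSup_le fun b => le_centralizer_iff.1 (hcon b)
  refine RWide.LemM.mv_all (PP := {P | IsParS (S : Subgroup G) P}) hperm ?_ tr hmv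
  intro P hP
  refine par_move hperm hP (le_MZ hP) ?_ (ZN.ChoiceBase.jj_le _) (le_normalizer.trans (normalizer_le_jj _))
    fun h => norm_jj hP h
  rw [ZN.ChoiceBase.jj_eq]
  refine sSup_le fun A hA => ?_
  exact best_le_fx hB.toFull (ofd_of hA.2.1 hSM (best_of_AA (wcomm B) (wd_sq B) (wd_le B) hA)) le_rfl (wcomm B)

/-- if `lev S (n + 1)` moves `V*` then it moves all blocks -/
theorem lev_all_blocks (B : RB S) (hB : Bks S N E ⊥ Om phi)
    (irr : ∀ U : Subgroup G, U ≤ Wd (S : Subgroup G) → MZ (S : Subgroup G) ≤ normalizer (U : Set G) → U ≠ ⊥ →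
      Wd (S : Subgroup G) ≤ U) {n : ℕ} (hX : Wd (S : Subgroup G) ≤ zc (lev (S : Subgroup G) n))
    (hj : ¬ lev (S : Subgroup G) (n + 1) ≤ centralizer (Wd (S : Subgroup G) : Set G)) :
    ∀ b, ¬ lev (S : Subgroup G) (n + 1) ≤ centralizer (N b : Set G) :=
  BFr.all_blocks B hB irr (X := zc (lev (S : Subgroup G) n))
    (fun x hx y hy => MinSimple.VModule.zc_comm _ _ hx _ hy) hX
    ((BFr.MZ_norm_lev B hX).trans (NO3S.Level.normalizer_le_zc _)) hj

/-- **The standard levels centralise `V*`.** -/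
theorem std (hML : ML.Final.MLK.{u, u}) (hE : ML.Ex.Two.Ext.{u, u}) (B : RB S) (hB : Bks S N E ⊥ Om phi)
    (irr : ∀ U : Subgroup G, U ≤ Wd (S : Subgroup G) → MZ (S : Subgroup G) ≤ normalizer (U : Set G) → U ≠ ⊥ →
      Wd (S : Subgroup G) ≤ U) (hz : 4 ≤ Nat.card (zc (S : Subgroup G))) :
    jj (S : Subgroup G) ≤ centralizer (Wd (S : Subgroup G) : Set G) ∧
      ∀ n, lev (S : Subgroup G) n ≤ centralizer (Wd (S : Subgroup G) : Set G) ∧
        Wd (S : Subgroup G) ≤ zc (lev (S : Subgroup G) n) := by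
  have h5 := five_le_bks hB irr hz
  have hj : jj (S : Subgroup G) ≤ centralizer (Wd (S : Subgroup G) : Set G) := by
    by_contra hj
    exact BFr.false_neg hML hE B hB (jj_all_blocks B hB irr hj) h5
  refine ⟨hj, fun n => ?_⟩
  induction n with
  | zero => exact ⟨hj, wd_le_zj B hj⟩
  | succ n ih =>
    have h1 : lev (S : Subgroup G) (n + 1) ≤ centralizer (Wd (S : Subgroup G) : Set G) := by
      by_contra h1
      exact BFr.false_lev hML hE B hB ih.2 (lev_all_blocks B hB irr ih.2 h1) h5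
    exact ⟨h1, wd_le_succ ih.2 h1⟩

end Cfsg.Agent.Omega.NOThreeL.RRed.OneS
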