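import Cfsg.Agent.Omega.NOThreeL.RRed.WOneS
import Cfsg.Agent.Omega.NOThreeL.RRed.BFr.LevTn
import Cfsg.Agent.Omega.NOThreeL.QWR.NlLt
import Cfsg.Agent.Omega.NOThreeL.QWR.LtVOf
import Cfsg.Agent.Omega.NOThreeL.RLev.TopEnd

/-!
# NO-3L, box R, one class of `𝔽₂`-blocks: the top level `(Q, V*)` (#27334, #27462; assembly of `WideTree.TopS`)

* `uni_topT` : UNI+ for `N_G(B)` at a weakly closed level `Q`;
* **`false_topT`** : `RLev.Top S`, `𝔽₂`-blocks, `V*` irreducible, `|Z| ≥ 4` and THEOREM QW (`OffR S V* Q` for the local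
  groups `M ≥ C_G(Z_J), N_G(B), M₀`): contradiction (THEOREM S''T);
* **`topS_of`** : the socket `WideTree.TopS K B` from `RLev.Top` and THEOREM QW.
-/

set_option autoImplicit false
set_option linter.unusedSectionVars false

namespace Cfsg.Agent.Omega.NOThreeL.RRed.OneSTop

open Subgroup Cfsg Cfsg.Agent.ZN.ChoiceBase Cfsg.Agent.Omega.MinPar Cfsg.Agent.Omega.Frame Cfsg.Agent.Omega.FrameNOFF
open Cfsg.Agent.ZN (jj zj bau zc zl o2)
open Cfsg.Agent.Omega.NOThreeL.Merge (MZ le_MZ S_le_MZ)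
open Cfsg.Agent.Omega.NOThreeL.RTree (RB)
open Cfsg.Agent.Omega.NOThreeL.RTreeF
open Cfsg.Agent.Omega.NOThreeL.RZ (RR)
open Cfsg.Agent.Omega.NO3S.Level (lev Lev lev_isLev nxt BO)
open Cfsg.Agent.Omega.OM.SwapK (BK ZK WL)
open Cfsg.Agent.Omega.OM.Lev.Uni (FrL)
open Cfsg.Agent.Omega.NOThreeL.RRed (Wd zl_le_Wd)
open Cfsg.Agent.Omega.NOThreeL.RRed.FourTree (Bks nxtX)
open Cfsg.Agent.Omega.NOThreeL.RRed.BFr
open Cfsg.Agent.Omega.NOThreeL.RRed.WideTree
open Cfsg.Agent.Omega.NOThreeL.RRed.GlueSig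
open Cfsg.Agent.Omega.NOThreeL.QWR.FrTop (QT zv_eq bv_eq ltV_of hall)
open Cfsg.Agent.Omega.NOThreeL.QWR.Sw (OffR LtV)
open Cfsg.Agent.Omega.Node.MultiOf (FBl)
open Cfsg.Agent.Omega.Node.MulX (uniTwoX)
open Cfsg.Agent.Omega.EDel (YL le_YL_of)

universe u

section box

variable {G : Type u} [Group G] [Finite G] {S : Sylow 2 G}

/-- UNI+ for `N_G(B)` at a weakly closed level `K₀` -/
theorem uni_topT {ι : Type} [Finite ι] {K₀ Q V X : Subgroup G} {L W Z C A : ι → Subgroup G} (wl : WL S K₀)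
    (eX : X = zc K₀) (fr : FrL (BK (S : Subgroup G) K₀) Q V X (ZK (S : Subgroup G) K₀) L W Z C A 2)
    {g : G} (hg : g ∈ normalizer (BK (S : Subgroup G) K₀ : Set G)) (i : ι) :
    ∃ j, cj g (W i) = W j ∧ cj g (L i) ≤ YL (ZK (S : Subgroup G) K₀) L j := by
  have hX : g ∈ normalizer (X : Set G) := by
    rw [eX]
    exact NO3S.Level.normalizer_le_zc _ (wl.norm_B hg)
  have hb : FBl (BK (S : Subgroup G) K₀) (L i) (W i) :=
    ⟨⟨_, _, fr.blk i⟩, (fr.blk i).toBlock (fr.cardZ i) wl.lb.Bp wl.lb.weakNormal⟩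
  obtain ⟨j, h1, h2⟩ := uniTwoX S wl.lev eX rfl fr (L' := cj g (L i)) (V' := cj g (W i)) ⟨hb.conj hg, by
    rw [← cj_eq_of_mem_normalizer hX]
    exact cj_mono g ((fr.WV i).trans fr.VX)⟩
  exact ⟨j, h1, le_YL_of h2⟩

variable {I : Type u} [Fintype I] [DecidableEq I] {N E : I → Subgroup G} {Om : I → Type u}
  [∀ i, Fintype (Om i)] [∀ i, DecidableEq (Om i)] {phi : ∀ i, Finset (Om i) → G}

/-- **`𝔽₂`-blocks, one class, the level `(Q, V*)`.** -/
theorem false_topT (hML : ML.Final.MLK.{u, u}) (B : RB S) (hr : RR (S : Subgroup G) = ⊥) (hB : Bks S N E ⊥ Om phi)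
    (h4 : 4 ≤ Nat.card (zc (S : Subgroup G)))
    (irr : ∀ U : Subgroup G, U ≤ Wd (S : Subgroup G) → MZ (S : Subgroup G) ≤ normalizer (U : Set G) → U ≠ ⊥ →
      Wd (S : Subgroup G) ≤ U) (T : RLev.Top S)
    (off : ∀ {ι : Type} [Finite ι] {L W Z C A : ι → Subgroup G}, (∀ i, L i ≤ MZ (S : Subgroup G)) →
      FrL (BK (S : Subgroup G) (QT (S : Subgroup G))) (QT (S : Subgroup G)) (Wd (S : Subgroup G)) (Wd (S : Subgroup G))
        (ZK (S : Subgroup G) (QT (S : Subgroup G))) L W Z C A 2 →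
      ∀ M : Subgroup G, IsLoc (S : Subgroup G) M →
        centralizer (ZK (S : Subgroup G) (QT (S : Subgroup G)) : Set G) ≤ M →
        normalizer (BK (S : Subgroup G) (QT (S : Subgroup G)) : Set G) ≤ M → MZ (S : Subgroup G) ≤ M →
          OffR S (Wd (S : Subgroup G)) (QT (S : Subgroup G))) : False := by
  have hG := B.ctx.char2
  have wl : WL S (QT (S : Subgroup G)) := ⟨T.wc, T.lev⟩
  have hbd := bd_of B hB
  have elX : IsElementaryAbelian 2 (Wd (S : Subgroup G)) := by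
    have h2 : IsElementaryAbelian 2 (zc (QT (S : Subgroup G))) := ZN.isElementaryAbelian_zc _
    rwa [T.zcQ] at h2
  have hXc : ∀ x ∈ Wd (S : Subgroup G), ∀ y ∈ Wd (S : Subgroup G), x * y = y * x := SQ1.Bau.elem_comm elX
  have hm := mvb_of hB ((HypJOf.nxtX_le _ _).trans (S_le_MZ B.ctx B.full))
    (all_blocks B hB irr hXc le_rfl le_norm_Wd (nxtX_Wd B hr))
  have hl := hbd.lvX elX le_rfl le_norm_Wd hm
  have hzq : Lv.ZcQ (S : Subgroup G) (Wd (S : Subgroup G)) := fun x h1 h2 h3 =>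
    T.zcQ.le (mem_zc.2 ⟨h1, h2, fun y hy => (h3 y hy).symm⟩)
  obtain ⟨Lb, A, h1, -, -, h2⟩ := hl.exists_frL hzq
  have hLM : ∀ i, Lb i ≤ MZ (S : Subgroup G) := fun i => (h1 i).trans (hl.XX_le_M i)
  have eZ : ZJ (Wd (S : Subgroup G)) (nxtX (S : Subgroup G) (Wd (S : Subgroup G))) =
      ZK (S : Subgroup G) (QT (S : Subgroup G)) := (zv_eq T.lev T.zcQ).symm
  have eB : BB (S : Subgroup G) (Wd (S : Subgroup G)) (nxtX (S : Subgroup G) (Wd (S : Subgroup G))) =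
      BK (S : Subgroup G) (QT (S : Subgroup G)) := (bv_eq T.lev T.zcQ).symm
  have h2' := h2
  rw [eB, eZ] at h2'
  obtain ⟨b⟩ := hB.nonempty
  have hPt : Nonempty (Fin (Fintype.card (Σ i, Om i))) := by
    have h3 := hB.toFull.three b
    obtain ⟨a⟩ : Nonempty (Om b) := Fintype.card_pos_iff.1 (by omega)
    exact ⟨(fP Om).symm ⟨b, a⟩⟩
  have hlt := ltV_of B wl T.zcQ h2' hLM
  refine hl.false_T h2 hML hG B.ctx.kproper ?_ ?_ ?_ ((ofFull hB.toFull).tr_of_irr irr) MZ_le_sSup ?_ h4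
  · rw [eB, eZ]
    exact fun R hR hR2 hBR => (wl.lb.syl.2.2 R hR hR2 hBR).le
  · rw [eB, eZ]
    exact fun g hg i => uni_topT wl T.zcQ.symm h2' hg i
  · rw [eZ]
    exact fun U hU hD hLU => QWR.NlLt.nl_lt hlt h2' B (hall wl.lev.le T.zcQ.ge)
      (fun M a b _ c d => off hLM h2' M a b c d) hU hD hLU
  · rw [eZ]
    exact wl.lev.next.zc_le

end box

section socket

variable {K : Cls.{u}} {B : Fr.{u}}

/-- **The socket `TopS`** from the level theorem and THEOREM QW. -/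
theorem topS_of (hML : ML.Final.MLK.{u, u})
    (top : ∀ (G : Type u) [Group G] [Finite G] (S : Sylow 2 G), B G S → Wide S →
      CM (S : Subgroup G) (fun _ : PUnit.{u + 1} => Wd (S : Subgroup G)) →
      ∀ (I : Type u) [Fintype I] [DecidableEq I] (N E : I → Subgroup G) (Om : I → Type u)
        [∀ i, Fintype (Om i)] [∀ i, DecidableEq (Om i)] (phi : ∀ i, Finset (Om i) → G), Bks S N E ⊥ Om phi →
        jj (S : Subgroup G) ≤ centralizer (Wd (S : Subgroup G) : Set G) → RLev.Top S)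
    (off : ∀ (G : Type u) [Group G] [Finite G] (S : Sylow 2 G), B G S → Wide S →
      CM (S : Subgroup G) (fun _ : PUnit.{u + 1} => Wd (S : Subgroup G)) → RLev.Top S →
      ∀ {ι : Type} [Finite ι] {L W Z C A : ι → Subgroup G}, (∀ i, L i ≤ MZ (S : Subgroup G)) →
      FrL (BK (S : Subgroup G) (QT (S : Subgroup G))) (QT (S : Subgroup G)) (Wd (S : Subgroup G)) (Wd (S : Subgroup G))
        (ZK (S : Subgroup G) (QT (S : Subgroup G))) L W Z C A 2 →
      ∀ M : Subgroup G, IsLoc (S : Subgroup G) M →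
        centralizer (ZK (S : Subgroup G) (QT (S : Subgroup G)) : Set G) ≤ M →
        normalizer (BK (S : Subgroup G) (QT (S : Subgroup G)) : Set G) ≤ M → MZ (S : Subgroup G) ≤ M →
          OffR S (Wd (S : Subgroup G)) (QT (S : Subgroup G))) : TopS K B := by
  intro G _ _ _ S hB hW _ hCM I _ _ N E Om _ _ phi hN _ _ hlev
  have T := top G S hB hW hCM I N E Om phi hN (hlev 0)
  exact false_topT hML hW.toRB hW.rr hN hW.four_le (fun U h1 h2 h3 => hCM.irr PUnit.unit U h1 h2 h3) T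
    (fun hL fr M a b c d => off G S hB hW hCM T hL fr M a b c d)

end socket

end Cfsg.Agent.Omega.NOThreeL.RRed.OneSTop
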