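import Cfsg.Agent.Omega.NOThreeL.RRed.OneOrb
import Cfsg.Agent.Omega.NOThreeL.RRed.OneTwoOf
import Cfsg.Agent.Omega.NOThreeL.RRed.BFr.NlQ8
import Cfsg.Agent.Omega.NOThreeL.RRed.BFr.NlNeg8
import Cfsg.Agent.Omega.OM.SwapV.Q.OfNat

/-!
# Box R, one `S`-orbit of natural blocks, `q ≥ 8`: the standard levels (helper49; text: 483 #26191, #26256, T4)

`S` is transitive on the blocks `N b`; an active `P` has `V_P = V*`, `C_Z(P) = 1`; `⟨P, C_G(Z)⟩` is local (NO-2L), so
its `O₂` is normalised by `C_G(Z_J)` and all `L i ≤ P`: against `nlQ8`.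

* `lev_false` : some `lev S n ≤ C(V*)`, `lev S (n + 1) ≰ C(V*)` ⟹ `False`;
* `neg_false` : `J(S)` moves `V*` ⟹ `False` (`nlNeg8`);
* `exists_lev` : some `lev S n` moves `V*` ⟹ `J(S)` does or there is such an `n`;
* **`false_std`**, `stdD` (= `OneTwoOf.StdD`), `orbD_of_top`, `wOneTwo_of_top` : only the top level is left.
-/

set_option autoImplicit false
set_option linter.unusedSectionVars false

namespace Cfsg.Agent.Omega.NOThreeL.RRed.OneStd

open Subgroup Cfsg Cfsg.Agent.ZN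
open Cfsg.Agent.ZN.ChoiceBase (cj mem_cj)
open Cfsg.Agent.Omega.MinPar Cfsg.Agent.Omega.Frame Cfsg.Agent.Omega.FrameNOFF
open Cfsg.Agent.Omega.FFThm (NatKM)
open Cfsg.Agent.Omega.FrameFF (cv)
open Cfsg.Agent.Omega.NO3S.ThmB (Nb)
open Cfsg.Agent.Omega.NO3S.KeyRad (blk)
open Cfsg.Agent.Omega.NO3S.Level (lev)
open Cfsg.Agent.Omega.NOThreeL.Merge (MZ)
open Cfsg.Agent.Omega.NOThreeL.RTree (RB)
open Cfsg.Agent.Omega.NOThreeL.RRed.GlueSig
open Cfsg.Agent.Omega.NOThreeL.RRed.WideTree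
open Cfsg.Agent.Omega.NOThreeL.RWide
open Cfsg.Agent.Omega.OM.SwapL (ZL)
open Cfsg.Agent.Omega.OM.SwapV.Q
open scoped Pointwise

universe u

variable {G : Type u} [Group G] [Finite G] {S : Sylow 2 G} {ι : Type u} {N E D l : ι → Subgroup G} {q : ι → ℕ}

/-- the data of an active `P` if `S` is transitive on the blocks -/
theorem exists_data [Nonempty ι] (h : NBs (S : Subgroup G) N E D l q) (hs : Src (S : Subgroup G) N l q)
    (tr : ∀ a b, ∃ s ∈ (S : Subgroup G), MulAut.conj s • N a = N b) :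
    ∃ P, Act (S : Subgroup G) P ∧ zl (S : Subgroup G) P = Wd (S : Subgroup G) ∧ cv (S : Subgroup G) P = ⊥ ∧
      zc (S : Subgroup G) ⊓ centralizer (P : Set G) = ⊥ ∧
      ∃ (F : Type) (_ : Field F) (_ : Finite F) (_ : CharP F 2) (k : ℕ) (_ : 0 < k)
        (_ : NatKM F (S : Subgroup G) P (zl (S : Subgroup G) P) (cv (S : Subgroup G) P) k),
        (∀ b, q b = Nat.card F) ∧ Nat.card ι ≤ k := by
  obtain ⟨P, hP, F, i1, i2, i3, k, hk, M, h', spl, -, h2⟩ := OneOrb.exists_P h hs tr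
  choose J hJN hJl hJq using h2
  have hPM : P ≤ MZ (S : Subgroup G) := le_sSup hP.1
  have hle : Wd (S : Subgroup G) ≤ ⨆ j, blk M j := by
    rw [← OneOrb.sup_eq h]
    exact iSup_le fun b => by
      rw [hJN b]; exact le_iSup (blk M) (J b)
  have hV : zl (S : Subgroup G) P = Wd (S : Subgroup G) :=
    le_antisymm (MinSimple.VModule.zl_le (MinSimple.VModule.zc_le_zl _ _)
      (hPM.trans (MinSimple.VModule.le_normalizer_zl _ _))) (hle.trans (PNat.sup_le_V h'))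
  have hcv : cv (S : Subgroup G) P = ⊥ := by
    rw [eq_bot_iff]
    intro x hx
    exact mem_bot.2 (PNat.eq_one h' spl (hle (hV ▸ hx.1)) hx)
  refine ⟨P, hP, hV, hcv, ?_, F, i1, i2, i3, k, hk, M, hJq, ?_⟩
  · rw [eq_bot_iff, ← hcv]
    exact le_inf (inf_le_left.trans (MinSimple.VModule.zc_le_zl _ _))
      (inf_le_right.trans (centralizer_le (by exact_mod_cast MinSimple.VModule.oddGen_le P)))
  · have hJ : Function.Injective J := fun b c hbc => OneOrb.N_inj h (by rw [hJN b, hJN c, hbc])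
    have h1 := Nat.card_le_card_of_injective J hJ
    rwa [Nat.card_fin] at h1

/-- `A ≤ S`: `A ≤ O₂(P) ↔ A ≤ C(V*)` -/
theorem le_o2_iff (B : RB S) {P A : Subgroup G} (hP : IsParS (S : Subgroup G) P)
    (hV : zl (S : Subgroup G) P = Wd (S : Subgroup G)) (hA : A ≤ (S : Subgroup G)) :
    A ≤ o2 P ↔ A ≤ centralizer (Wd (S : Subgroup G) : Set G) := by
  rw [← hP.inf_centralizer S B.ctx.char2, hV, le_inf_iff]
  exact ⟨fun h => h.2, fun h => ⟨hA, h⟩⟩

/-- `Z ≤ Z_J`, so `C_G(Z_J) ≤ C_G(Z)` -/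
theorem cent_ZL_le (n : ℕ) : centralizer (ZL (S : Subgroup G) n : Set G) ≤ CZ (S : Subgroup G) :=
  centralizer_le (by exact_mod_cast (NO3S.Level.lev_isLev (S : Subgroup G) (n + 1)).zc_le)

/-- **A standard level moves `V*`.** -/
theorem lev_false (B : RB S) (h : NBs (S : Subgroup G) N E D l q) (hs : Src (S : Subgroup G) N l q)
    (tr : ∀ a b, ∃ s ∈ (S : Subgroup G), MulAut.conj s • N a = N b) (hne : Nonempty ι) (hq : ∀ b, 8 ≤ q b) {n : ℕ}
    (hn : lev (S : Subgroup G) n ≤ centralizer (Wd (S : Subgroup G) : Set G))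
    (hn1 : ¬ lev (S : Subgroup G) (n + 1) ≤ centralizer (Wd (S : Subgroup G) : Set G)) : False := by
  obtain ⟨P, hP, hV, -, hcen, F, _, _, _, k, hk, M, hqF, -⟩ := exists_data h hs tr
  have hlS := fun m => NO3S.Level.lev_le (S : Subgroup G) m
  obtain ⟨L, W, Z, C, A, hL, hLP, -⟩ := OfNat.lnQ_of B.ctx.char2 B.data.toLow hP.1 hcen
    ((le_o2_iff B hP.1 hV (hlS n)).2 hn) (fun h1 => hn1 ((le_o2_iff B hP.1 hV (hlS (n + 1))).1 h1)) hk M
  have hne' : Nonempty (Fin k) := ⟨⟨0, hk⟩⟩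
  obtain ⟨b⟩ := hne
  have h1 := B.data.loc P hP.1
  refine h1.loc.o2_ne (BFr.NlLev.nlQ8 B (hqF b ▸ hq b) hL (MinSimple.VModule.o2_isPGroup _) ?_ fun i => ?_)
  · exact (cent_ZL_le n).trans (le_sup_right.trans (MinSimple.VModule.le_normalizer_o2 _))
  · exact (hLP i).trans (le_sup_left.trans (MinSimple.VModule.le_normalizer_o2 _))

/-- **`J(S)` moves `V*`.** -/
theorem neg_false (B : RB S) (h : NBs (S : Subgroup G) N E D l q) (hs : Src (S : Subgroup G) N l q)
    (tr : ∀ a b, ∃ s ∈ (S : Subgroup G), MulAut.conj s • N a = N b) (hi : 2 ≤ Nat.card ι) (hq : ∀ b, 8 ≤ q b)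
    (hJ : ¬ jj (S : Subgroup G) ≤ centralizer (Wd (S : Subgroup G) : Set G)) : False := by
  have hne : Nonempty ι := by
    by_contra hemp
    rw [not_nonempty_iff] at hemp
    rw [Nat.card_of_isEmpty] at hi
    omega
  obtain ⟨P, hP, hV, hcv, -, F, _, _, _, k, hk, M, hqF, hk2⟩ := exists_data h hs tr
  have hjS : jj (S : Subgroup G) ≤ (S : Subgroup G) := NO3S.Level.lev_le (S : Subgroup G) 0
  obtain ⟨L, W, Z, C, A, hL, hLP, -⟩ := OfNat.negQ_of B.ctx.char2 B.data.toLow hP.1 hcv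
    (fun h1 => hJ ((le_o2_iff B hP.1 hV hjS).1 h1)) hk M
  have hne' : Nonempty (Fin k) := ⟨⟨0, hk⟩⟩
  have h2 : ∀ i : Fin k, ∃ j, j ≠ i := fun i => by
    have : Nontrivial (Fin k) := Fin.nontrivial_iff_two_le.2 (hi.trans hk2)
    exact exists_ne i
  obtain ⟨b⟩ := hne
  have h1 := B.data.loc P hP.1
  refine h1.loc.o2_ne (BFr.NlNeg8.nlNeg8 B (hqF b ▸ hq b) hL h2 (MinSimple.VModule.o2_isPGroup _) ?_ fun i => ?_)
  · exact (centralizer_le (by exact_mod_cast ZN.ChoiceBase.zc_le_zj (S : Subgroup G))).trans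
      (le_sup_right.trans (MinSimple.VModule.le_normalizer_o2 _))
  · exact (hLP i).trans (le_sup_left.trans (MinSimple.VModule.le_normalizer_o2 _))

/-- if some `lev S n` moves `V*` then `J(S)` does or there is a first one -/
theorem exists_lev {X : Subgroup G} {n : ℕ} (hn : ¬ lev (S : Subgroup G) n ≤ X) :
    ¬ jj (S : Subgroup G) ≤ X ∨ ∃ m, lev (S : Subgroup G) m ≤ X ∧ ¬ lev (S : Subgroup G) (m + 1) ≤ X := by
  induction n with
  | zero => exact Or.inl hn
  | succ n ih =>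
    by_cases h1 : lev (S : Subgroup G) n ≤ X
    · exact Or.inr ⟨n, h1, hn⟩
    · exact ih h1

/-- **A standard level moves `V*`: impossible.** -/
theorem false_std (B : RB S) (h : NBs (S : Subgroup G) N E D l q) (hs : Src (S : Subgroup G) N l q)
    (tr : ∀ a b, ∃ s ∈ (S : Subgroup G), MulAut.conj s • N a = N b) (hi : 2 ≤ Nat.card ι) (hq : ∀ b, 8 ≤ q b)
    (hlv : ¬ jj (S : Subgroup G) ≤ centralizer (Wd (S : Subgroup G) : Set G) ∨
      ∃ n, lev (S : Subgroup G) n ≤ centralizer (Wd (S : Subgroup G) : Set G) ∧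
        ¬ lev (S : Subgroup G) (n + 1) ≤ centralizer (Wd (S : Subgroup G) : Set G)) : False := by
  rcases hlv with hJ | ⟨n, h1, h2⟩
  · exact neg_false B h hs tr hi hq hJ
  · refine lev_false B h hs tr ?_ hq h1 h2
    by_contra hemp
    rw [not_nonempty_iff] at hemp
    rw [Nat.card_of_isEmpty] at hi
    omega

/-- **The standard levels** (helper776's `StdD`). -/
theorem stdD (B : Fr.{u}) : OneTwoOf.StdD B := fun _ _ _ _ _ W _ _ _ _ _ _ _ _ h hlv =>
  false_std W.toRB h.nb h.src h.tr h.two (fun _ => h.q8) hlv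

/-- so only the top level is left -/
theorem orbD_of_top {B : Fr.{u}} (top : OneTwoOf.TopD B) : OneTwoOf.OrbD B := OneTwoOf.orbD_of (stdD B) top

theorem wOneTwo_of_top {K : Cls.{u}} {B : Fr.{u}} (top : OneTwoOf.TopD B) : WOneTwo K B :=
  OneTwoOf.wOneTwo_of_orbD (orbD_of_top top)

end Cfsg.Agent.Omega.NOThreeL.RRed.OneStd
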