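import Cfsg.Agent.Omega.NOThreeL.RRed.GOne

/-!
# NO-3L, box R: the normaliser of `SL₂(F)` acts semilinearly on a natural block

* `semi_abs` : an additive bijection of `F²` which normalises the set of maps `SL₂(F)` is semilinear (`F` finite,
  `|F| = 2` allowed) [it normalises the ring `M₂(F)` generated by `SL₂(F)`, so its centre];
* `natblk_semi` : `s ∈ N(N) ∩ N(D)` is semilinear on the natural block `N` of `D`;
* **`natblk_semi'`** : if moreover `s ∈ N(l)`: `e (s v s⁻¹) = ![a σ(e v 0) + b σ(e v 1), d σ(e v 1)]` (655's `semi`).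
-/

set_option autoImplicit false
set_option linter.unusedSectionVars false

namespace Cfsg.Agent.Omega.NOThreeL.RRed.Semi

open Subgroup Cfsg Cfsg.Agent.Omega.NOThreeL.RRed.WideTree Cfsg.Agent.Omega.NOThreeL.RRed.GOne
open Matrix

section abs

variable {F : Type*} [Field F]

/-- every matrix is transported, given the elements of `SL₂(F)` -/
theorem all_matrix (g : (Fin 2 → F) → (Fin 2 → F)) (hadd : ∀ x y, g (x + y) = g x + g y)
    (H : ∀ M : Matrix.SpecialLinearGroup (Fin 2) F, ∃ M' : Matrix.SpecialLinearGroup (Fin 2) F,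
      ∀ x, g (M.1 *ᵥ x) = M'.1 *ᵥ g x) :
    ∀ M : Matrix (Fin 2) (Fin 2) F, ∃ M' : Matrix (Fin 2) (Fin 2) F, ∀ x, g (M *ᵥ x) = M' *ᵥ g x := by
  have hneg : ∀ x, g (-x) = - g x := by
    intro x
    have h0 : g 0 = 0 := by
      have h1 := hadd 0 0
      rw [add_zero] at h1
      exact left_eq_add.1 h1
    have h2 := hadd x (-x)
    rw [add_neg_cancel, h0] at h2
    exact (neg_eq_of_add_eq_zero_right h2.symm).symm
  let P : Matrix (Fin 2) (Fin 2) F → Prop := fun M => ∃ M' : Matrix (Fin 2) (Fin 2) F, ∀ x, g (M *ᵥ x) = M' *ᵥ g x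
  have hA : ∀ M N, P M → P N → P (M + N) := by
    rintro M N ⟨M', hM⟩ ⟨N', hN⟩
    exact ⟨M' + N', fun x => by rw [add_mulVec, hadd, hM, hN, add_mulVec]⟩
  have hS : ∀ M N, P M → P N → P (M - N) := by
    rintro M N ⟨M', hM⟩ ⟨N', hN⟩
    exact ⟨M' - N', fun x => by rw [sub_mulVec, sub_eq_add_neg, hadd, hneg, hM, hN, sub_mulVec, sub_eq_add_neg]⟩
  have hP : ∀ M N, P M → P N → P (M * N) := by
    rintro M N ⟨M', hM⟩ ⟨N', hN⟩
    exact ⟨M' * N', fun x => by rw [← mulVec_mulVec, hM, hN, mulVec_mulVec]⟩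
  have hSL : ∀ M : Matrix.SpecialLinearGroup (Fin 2) F, P M.1 := fun M => by
    obtain ⟨M', hM⟩ := H M
    exact ⟨M'.1, hM⟩
  have h1 : P 1 := ⟨1, fun x => by rw [one_mulVec, one_mulVec]⟩
  have h01 : ∀ c : F, P !![0, c; 0, 0] := by
    intro c
    have h2 := hS _ _ (hSL ⟨!![1, c; 0, 1], by simp [det_fin_two]⟩) h1
    have e : (!![1, c; 0, 1] : Matrix (Fin 2) (Fin 2) F) - 1 = !![0, c; 0, 0] := by
      ext i j
      fin_cases i <;> fin_cases j <;> simp
    rwa [show ((⟨!![1, c; 0, 1], by simp [det_fin_two]⟩ : Matrix.SpecialLinearGroup (Fin 2) F).1 - 1) =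
      !![0, c; 0, 0] from e] at h2
  have h10 : ∀ c : F, P !![0, 0; c, 0] := by
    intro c
    have h2 := hS _ _ (hSL ⟨!![1, 0; c, 1], by simp [det_fin_two]⟩) h1
    have e : (!![1, 0; c, 1] : Matrix (Fin 2) (Fin 2) F) - 1 = !![0, 0; c, 0] := by
      ext i j
      fin_cases i <;> fin_cases j <;> simp
    rwa [show ((⟨!![1, 0; c, 1], by simp [det_fin_two]⟩ : Matrix.SpecialLinearGroup (Fin 2) F).1 - 1) =
      !![0, 0; c, 0] from e] at h2
  have h00 : ∀ c : F, P !![c, 0; 0, 0] := by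
    intro c
    have h2 := hP _ _ (h01 c) (h10 1)
    have e : (!![0, c; 0, 0] : Matrix (Fin 2) (Fin 2) F) * !![0, 0; 1, 0] = !![c, 0; 0, 0] := by
      ext i j
      fin_cases i <;> fin_cases j <;> simp [Matrix.mul_apply]
    rwa [e] at h2
  have h11 : ∀ c : F, P !![0, 0; 0, c] := by
    intro c
    have h2 := hP _ _ (h10 1) (h01 c)
    have e : (!![0, 0; 1, 0] : Matrix (Fin 2) (Fin 2) F) * !![0, c; 0, 0] = !![0, 0; 0, c] := by
      ext i j
      fin_cases i <;> fin_cases j <;> simp [Matrix.mul_apply]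
    rwa [e] at h2
  intro M
  have e : M = (!![M 0 0, 0; 0, 0] + !![0, M 0 1; 0, 0]) + (!![0, 0; M 1 0, 0] + !![0, 0; 0, M 1 1]) := by
    ext i j
    fin_cases i <;> fin_cases j <;> simp
  rw [e]
  exact hA _ _ (hA _ _ (h00 _) (h01 _)) (hA _ _ (h10 _) (h11 _))

/-- **An additive bijection of `F²` which normalises `SL₂(F)` is semilinear.** -/
theorem semi_abs [Finite F] (g : (Fin 2 → F) → (Fin 2 → F)) (hadd : ∀ x y, g (x + y) = g x + g y)
    (hbij : Function.Bijective g)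
    (H : ∀ M : Matrix.SpecialLinearGroup (Fin 2) F, ∃ M' : Matrix.SpecialLinearGroup (Fin 2) F,
      ∀ x, g (M.1 *ᵥ x) = M'.1 *ᵥ g x) :
    ∃ σ : F ≃+* F, ∀ x i, g x i = σ (x 0) * g ![1, 0] i + σ (x 1) * g ![0, 1] i := by
  classical
  choose φ hφ using all_matrix g hadd H
  have hφi : Function.Injective φ := by
    intro M N hMN
    have h1 : ∀ x, M *ᵥ x = N *ᵥ x := fun x => hbij.1 (by rw [hφ, hφ, hMN])
    exact Matrix.mulVec_injective (funext h1)
  have hφs : Function.Surjective φ := Finite.surjective_of_injective hφi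
  have hsc : ∀ c : F, ∃ d : F, ∀ x, g (c • x) = d • g x := by
    intro c
    have h1 : ∀ N : Matrix (Fin 2) (Fin 2) F, φ (c • 1) * N = N * φ (c • 1) := by
      intro N
      obtain ⟨M, rfl⟩ := hφs N
      refine Matrix.mulVec_injective (funext fun y => ?_)
      obtain ⟨x, rfl⟩ := hbij.2 y
      show (φ (c • 1) * φ M) *ᵥ g x = (φ M * φ (c • 1)) *ᵥ g x
      rw [← mulVec_mulVec, ← mulVec_mulVec, ← hφ, ← hφ, ← hφ, ← hφ]
      congr 1
      rw [mulVec_mulVec, mulVec_mulVec]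
      congr 1
      rw [Matrix.smul_mul, Matrix.one_mul, Matrix.mul_smul, Matrix.mul_one]
    have h2 : φ (c • 1) ∈ Set.range (Matrix.scalar (Fin 2)) :=
      Matrix.mem_range_scalar_of_commute_single fun i j _ => (h1 _).symm
    obtain ⟨d, hd⟩ := h2
    refine ⟨d, fun x => ?_⟩
    have h3 := hφ (c • 1) x
    rw [smul_mulVec, one_mulVec, ← hd] at h3
    rw [h3]
    ext i
    simp [Matrix.scalar_apply, Matrix.mulVec_diagonal]
  choose σ hσ using hsc
  have h0 : g 0 = 0 := by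
    have h1 := hadd 0 0
    rw [add_zero] at h1
    exact left_eq_add.1 h1
  have hne : g ![1, 0] ≠ 0 := by
    intro h1
    have h2 : (![1, 0] : Fin 2 → F) = 0 := hbij.1 (by rw [h1, h0])
    exact one_ne_zero (congrFun h2 0)
  have hcan : ∀ c d : F, c • g ![1, 0] = d • g ![1, 0] → c = d := fun c d h1 => smul_left_injective F hne h1
  have hs1 : σ 1 = 1 := hcan _ _ (by rw [← hσ, one_smul, one_smul])
  have hsm : ∀ c d, σ (c * d) = σ c * σ d := fun c d => hcan _ _ (by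
    rw [← hσ, mul_smul, hσ, hσ, ← mul_smul])
  have hsa : ∀ c d, σ (c + d) = σ c + σ d := fun c d => hcan _ _ (by
    rw [← hσ, add_smul, hadd, hσ, hσ, ← add_smul])
  have hs0 : σ 0 = 0 := hcan _ _ (by rw [← hσ, zero_smul, zero_smul, h0])
  let τ : F →+* F := { toFun := σ, map_one' := hs1, map_mul' := hsm, map_zero' := hs0, map_add' := hsa }
  have hτ : Function.Bijective τ := ⟨τ.injective, Finite.surjective_of_injective τ.injective⟩
  refine ⟨RingEquiv.ofBijective τ hτ, fun x i => ?_⟩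
  have e : x = x 0 • ![1, 0] + x 1 • ![0, 1] := by
    ext j
    fin_cases j <;> simp
  have h3 : g x = σ (x 0) • g ![1, 0] + σ (x 1) • g ![0, 1] := by
    conv_lhs => rw [e]
    rw [hadd, hσ, hσ]
  rw [h3]
  rfl

end abs

section blk

universe u

variable {G : Type u} [Group G] {S D N l : Subgroup G} {F : Type} [Field F] [Finite F] {e : G → Fin 2 → F}

/-- `s ∈ N(N) ∩ N(D)` is semilinear on the natural block. -/
theorem natblk_semi (h : NatBlk S D N l F e) {s : G} (hs : s ∈ normalizer (N : Set G))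
    (hD : ∀ d ∈ D, s * d * s⁻¹ ∈ D) (hDN : D ≤ normalizer (N : Set G)) :
    ∃ (σ : F ≃+* F) (A : Fin 2 → Fin 2 → F), ∀ v ∈ N, ∀ i,
      e (s * v * s⁻¹) i = σ (e v 0) * A 0 i + σ (e v 1) * A 1 i := by
  choose w hwN hwe using h.sur
  have hwv : ∀ v ∈ N, w (e v) = v := fun v hv => natblk_inj h (hwN _) hv (hwe _)
  have hN : ∀ v ∈ N, s * v * s⁻¹ ∈ N := fun v hv => (mem_normalizer_iff.1 hs v).1 hv
  let g : (Fin 2 → F) → (Fin 2 → F) := fun x => e (s * w x * s⁻¹)
  have hg : ∀ v ∈ N, g (e v) = e (s * v * s⁻¹) := fun v hv => by show e (s * w (e v) * s⁻¹) = _; rw [hwv v hv]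
  have hadd : ∀ x y, g (x + y) = g x + g y := by
    intro x y
    have h1 : x + y = e (w x * w y) := by rw [h.mul _ (hwN x) _ (hwN y), hwe, hwe]
    rw [h1, hg _ (mul_mem (hwN x) (hwN y))]
    have e1 : s * (w x * w y) * s⁻¹ = (s * w x * s⁻¹) * (s * w y * s⁻¹) := by group
    rw [e1, h.mul _ (hN _ (hwN x)) _ (hN _ (hwN y))]
  have hinj : Function.Injective g := by
    intro x y hxy
    have h1 := natblk_inj h (hN _ (hwN x)) (hN _ (hwN y)) hxy
    have h2 : w x = w y := by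
      have h3 := congrArg (fun z => s⁻¹ * z * s) h1
      simpa [mul_assoc] using h3
    rw [← hwe x, ← hwe y, h2]
  have hbij : Function.Bijective g := ⟨hinj, Finite.surjective_of_injective hinj⟩
  obtain ⟨σ, hσ⟩ := semi_abs g hadd hbij (by
    intro M
    obtain ⟨d, hd, hdM⟩ := h.full M
    obtain ⟨M', hM'⟩ := h.act _ (hD d hd)
    refine ⟨M', fun x => ?_⟩
    have h1 : M.1 *ᵥ x = e (d * w x * d⁻¹) := by rw [hdM _ (hwN x), hwe]
    have h2 : d * w x * d⁻¹ ∈ N := (mem_normalizer_iff.1 (hDN hd) _).1 (hwN x)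
    rw [h1, hg _ h2]
    have e1 : s * (d * w x * d⁻¹) * s⁻¹ = (s * d * s⁻¹) * (s * w x * s⁻¹) * (s * d * s⁻¹)⁻¹ := by group
    rw [e1, hM' _ (hN _ (hwN x))])
  refine ⟨σ, ![g ![1, 0], g ![0, 1]], fun v hv i => ?_⟩
  rw [← hg v hv, hσ]
  rfl

/-- **655's `semi`.** -/
theorem natblk_semi' (h : NatBlk S D N l F e) {s : G} (hs : s ∈ normalizer (N : Set G))
    (hD : ∀ d ∈ D, s * d * s⁻¹ ∈ D) (hDN : D ≤ normalizer (N : Set G)) (hl : ∀ v ∈ l, s * v * s⁻¹ ∈ l) :
    ∃ (σ : F ≃+* F) (a b d : F), ∀ v ∈ N,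
      e (s * v * s⁻¹) = ![a * σ (e v 0) + b * σ (e v 1), d * σ (e v 1)] := by
  obtain ⟨σ, A, hA⟩ := natblk_semi h hs hD hDN
  have h1 : A 0 1 = 0 := by
    obtain ⟨v, hv, hv1⟩ := h.sur ![1, 0]
    have hvl : v ∈ l := (h.line v).2 ⟨hv, by rw [hv1]; rfl⟩
    have h2 := ((h.line _).1 (hl v hvl)).2
    rw [hA v hv, hv1] at h2
    simpa using h2
  refine ⟨σ, A 0 0, A 1 0, A 1 1, fun v hv => ?_⟩
  funext i
  rw [hA v hv]
  fin_cases i
  · simp [mul_comm]
  · simp [mul_comm, h1]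

end blk

end Cfsg.Agent.Omega.NOThreeL.RRed.Semi
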