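import Cfsg.Agent.Omega.NOThreeL.RRed.LTwo
import Cfsg.Agent.Omega.NOThreeL.RRed.LMain
import Cfsg.Agent.Omega.NOThreeL.RRed.L3

/-!
# NO-3L, box R, the smallest shape: side 1 ([R-red], #21468)

`Sd.cn` : every `R ∈ P*(S)` centralises `v₁` or `v₂` and normalises `⟨v₁, a⟩` (L0 as the hypothesis `hl`).
-/

set_option autoImplicit false
set_option linter.unusedSectionVars false

namespace Cfsg.Agent.Omega.NOThreeL.RRed

open Subgroup Cfsg Cfsg.Agent.ZN Cfsg.Agent.Omega.MinPar Cfsg.Agent.Omega.Frame Cfsg.Agent.Omega.FrameNOFF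
open Cfsg.Agent.Omega.Node.NO3L Cfsg.Agent.Omega.NOThreeL.Basic Cfsg.Agent.Omega.NOThreeL.RTree
open Cfsg.Agent.Omega.NOThreeL.Merge (MZ le_MZ S_le_MZ isLoc_MZ)
open Cfsg.Agent.Omega.TV

universe u

variable {G : Type u} [Group G] [Finite G] {S : Sylow 2 G}

/-- `s ∈ S` fixing `u` centralises `V_R`. -/
theorem Ln.cent_of {R : Subgroup G} {z u c : G} (hLn : Ln (S : Subgroup G) R z u c) {s : G}
    (hs : s ∈ (S : Subgroup G)) (hsu : s * u * s⁻¹ = u) : s ∈ centralizer (zl (S : Subgroup G) R : Set G) := by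
  have hsu' : u * s = s * u := by
    calc u * s = s * u * s⁻¹ * s := by rw [hsu]
      _ = s * u := by group
  rw [mem_centralizer_iff]
  have hy : ∀ y, (y = 1 ∨ y = z ∨ y = u ∨ y = u * z) → y * s = s * y := by
    rintro y (rfl | rfl | rfl | rfl)
    · rw [one_mul, mul_one]
    · exact (hLn.zs hs).symm
    · exact hsu'
    · calc u * z * s = u * (z * s) := by group
        _ = (u * s) * z := by rw [← hLn.zs hs]; group
        _ = s * (u * z) := by rw [hsu']; group
  intro x hx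
  obtain ⟨y, hy1, hxy | hxy⟩ := hLn.all x hx
  · rw [hxy]; exact hy y hy1
  · rw [hxy]
    calc y * c * s = y * (c * s) := by group
      _ = (y * s) * c := by rw [← hLn.cs hs]; group
      _ = s * (y * c) := by rw [hy y hy1]; group

/-- The line of `R`, linear. -/
theorem Ln.lnV (hm : Sm S) {R : Subgroup G} (hR : IsParS (S : Subgroup G) R) {z u c : G}
    (hLn : Ln (S : Subgroup G) R z u c) {z' u' c' : EA (Ws S) hm.sqW} (ez : z'.val = z) (eu : u'.val = u)
    (ec : c'.val = c) : LnV (rp hm) ((S : Subgroup G).subgroupOf (MZ (S : Subgroup G)))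
      (R.subgroupOf (MZ (S : Subgroup G))) z' u' c' where
  le := fun s hs => mem_subgroupOf.2 (hR.le (mem_subgroupOf.1 hs))
  z0 := fun e => hLn.z1 (by rw [← ez]; exact EA.val_eq_one.2 e)
  c0 := fun e => hLn.c1 (by rw [← ec]; exact EA.val_eq_one.2 e)
  ne := fun e => hLn.ne (by rw [← ez, ← ec, e])
  zS := fun s hs => EA.ext (by rw [val_rp, ez, hLn.zs (mem_subgroupOf.1 hs)]; group)
  cR := fun r hr => EA.ext (by rw [val_rp, ec]; exact hLn.cP _ (mem_subgroupOf.1 hr))
  us := fun s hs => by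
    rcases hLn.us _ (mem_subgroupOf.1 hs) with e | e
    · left; exact EA.ext (by rw [val_rp, eu]; exact e)
    · right; exact EA.ext (by rw [val_rp, EA.val_add, eu, ez]; exact e)
  mv := by
    obtain ⟨s, hs, h1⟩ := hLn.mv
    refine ⟨⟨s, hR.le.trans (le_MZ hR) hs⟩, mem_subgroupOf.2 hs, fun e => h1 ?_⟩
    have := congrArg EA.val e
    rwa [val_rp, eu] at this
  orb := fun r hr => by
    rcases hLn.orb _ (mem_subgroupOf.1 hr) with e | e | e
    · left; exact EA.ext (by rw [val_rp, ez]; exact e)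
    · right; left; exact EA.ext (by rw [val_rp, eu, ez]; exact e)
    · right; right; exact EA.ext (by rw [val_rp, EA.val_add, eu, ez]; exact e)
  tr := by
    obtain ⟨p, hp, h1⟩ := hLn.tr
    exact ⟨⟨p, le_MZ hR hp⟩, mem_subgroupOf.2 hp, EA.ext (by rw [val_rp, eu, ez]; exact h1)⟩
  o2 := fun s hs hsu r hr => by
    have h1 : (s : G) * u * (s : G)⁻¹ = u := by
      have := congrArg EA.val hsu
      rwa [val_rp, eu] at this
    exact mem_subgroupOf.2 (conj_mem_S hm.ctx.char2 hR (mem_subgroupOf.1 hs)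
      (hLn.cent_of (mem_subgroupOf.1 hs) h1) (mem_subgroupOf.1 hr)).1

namespace Sd

variable {P₀ : Subgroup G} {v₁ v₂ a t : G} (h : Sd S P₀ v₁ v₂ a t)
include h

/-- **Side 1.** -/
theorem cn (hl : ∀ P, IsParS (S : Subgroup G) P → ∃ z u c, Ln (S : Subgroup G) P z u c) {R : Subgroup G}
    (hR : IsParS (S : Subgroup G) R) :
    (R ≤ centralizer ({v₁} : Set G) ∨ R ≤ centralizer ({v₂} : Set G)) ∧ R ≤ normalizer (li v₁ a : Set G) := by
  classical
  obtain ⟨x, y, z, f₁, k, ex, ey, ez, T, hti⟩ := h.tf h.l2 h.l3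
  have hUq : ∀ c ∈ Om (rp h.sm) x, ∃ φ, Uq (rp h.sm) c φ := by
    rintro c ⟨g, rfl⟩
    exact ⟨_, T.u1.conj g⟩
  let f : EA (Ws S) h.sm.sqW → Module.Dual (ZMod 2) (EA (Ws S) h.sm.sqW) := fun c =>
    if hc : c ∈ Om (rp h.sm) x then (hUq c hc).choose else 0
  have hf : ∀ c ∈ Om (rp h.sm) x, Uq (rp h.sm) c (f c) := by
    intro c hc
    have : f c = (hUq c hc).choose := dif_pos hc
    rw [this]
    exact (hUq c hc).choose_spec
  have hfx : f x = f₁ := (hf x T.v1_mem).eq T.u1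
  set M := MZ (S : Subgroup G) with hM
  have hSM : (S : Subgroup G) ≤ M := h.SM
  have F : LFr (rp h.sm) ((S : Subgroup G).subgroupOf M) (Om (rp h.sm) x) f
      {X | ∃ R, IsParS (S : Subgroup G) R ∧ X = R.subgroupOf M} x y z (P₀.subgroupOf M) :=
    { zero := fun h0 => Om.ne_zero T.ne1 h0 rfl
      inv := fun g c hc => Om.conj hc g
      fn := fun c hc => (hf c hc).fn
      ne := fun c hc => (hf c hc).ne
      uni := fun c hc φ hφ => (hf c hc).uq φ hφ
      m1 := T.v1_mem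
      fix := T.fix
      s2 := T.s2
      mem0 := ⟨P₀, h.par, rfl⟩
      ln0 := h.ln.lnV h.sm h.par ex ez ey
      par := by
        rintro _ ⟨R', hR', rfl⟩
        obtain ⟨z', u', c', hLn⟩ := hl R' hR'
        have hVW := h.sm.VR_le hR'
        have hzV : z' ∈ zl (S : Subgroup G) R' := MinSimple.VModule.zc_le_zl _ _ hLn.zS
        have hcV : c' ∈ zl (S : Subgroup G) R' := MinSimple.VModule.zc_le_zl _ _ hLn.cS
        exact ⟨EA.mk h.sm.sqW z' (hVW hzV), EA.mk h.sm.sqW u' (hVW hLn.uV), EA.mk h.sm.sqW c' (hVW hcV),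
          hLn.lnV h.sm hR' (EA.val_mk _) (EA.val_mk _) (EA.val_mk _)⟩
      t := ⟨⟨t, hSM h.tS⟩, mem_subgroupOf.2 h.tS, by rw [hfx]; exact hti⟩
      ta := by rw [hfx]; exact T.one
      l2 := T.L2
      l3 := fun g hg => by
        rcases T.L3 g hg x (Or.inl rfl) with e | e | e
        · exact Or.inl e
        · exact Or.inr (Or.inl e)
        · exact Or.inr (Or.inr (by rw [e, add_comm]))
      gen := by
        intro X hSX hX1 hX2
        have hSX' : (S : Subgroup G) ≤ X.map M.subtype := fun s hs =>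
          ⟨⟨s, hSM hs⟩, hSX (mem_subgroupOf.2 hs), rfl⟩
        have hXM : X.map M.subtype ≤ M := by
          rintro _ ⟨q, _, rfl⟩
          exact q.2
        obtain ⟨R', hR', hRX, r, hr, hr2⟩ := h.exists_par (h.sm.loc.of_le S hSX' hXM) (by
            rintro _ ⟨q, hq, rfl⟩
            have := congrArg EA.val (hX1 q hq)
            rwa [val_rp, ex] at this) (by
            obtain ⟨q, hq, hq2⟩ := hX2
            refine ⟨q, ⟨q, hq, rfl⟩, fun e => hq2 (EA.ext ?_)⟩
            rw [val_rp, ey]; exact e)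
        refine ⟨_, ⟨R', hR', rfl⟩, fun q hq => ?_, ⟨r, hXM (hRX hr)⟩, mem_subgroupOf.2 hr, fun e => hr2 ?_⟩
        · obtain ⟨q', hq', e⟩ := hRX (mem_subgroupOf.1 hq)
          have : q' = q := Subtype.ext e
          rwa [← this]
        · have := congrArg EA.val e
          rwa [val_rp, ey] at this }
  have hRM : R ≤ M := le_MZ hR
  obtain ⟨h1, h2⟩ := F.main (R := R.subgroupOf M) ⟨R, hR, rfl⟩
  have cen : ∀ {w : G} {w' : EA (Ws S) h.sm.sqW}, w'.val = w → (∀ r ∈ R.subgroupOf M, rp h.sm r w' = w') →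
      R ≤ centralizer ({w} : Set G) := by
    intro w w' e hw r hr
    have h3 := congrArg EA.val (hw ⟨r, hRM hr⟩ (mem_subgroupOf.2 hr))
    rw [val_rp, e] at h3
    rw [mem_centralizer_singleton_iff]
    calc r * w = r * w * r⁻¹ * r := by group
      _ = w * r := by rw [show r * w * r⁻¹ = w from h3]
  refine ⟨h1.imp (cen ex) (cen ey), ?_⟩
  have key : ∀ r ∈ R, ∀ w ∈ li v₁ a, r * w * r⁻¹ ∈ li v₁ a := by
    intro r hr
    obtain ⟨h3, h4⟩ := h2 ⟨r, hRM hr⟩ (mem_subgroupOf.2 hr)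
    have hmem : ∀ {w' : EA (Ws S) h.sm.sqW}, (w' = x ∨ w' = z ∨ w' = z + x) → w'.val ∈ li v₁ a := by
      rintro w' (rfl | rfl | rfl)
      · rw [ex]; exact h.ln.z_mem
      · rw [ez]; exact h.ln.u_mem
      · rw [EA.val_add, ex, ez]; exact mul_mem h.ln.u_mem h.ln.z_mem
    have h5 : r * v₁ * r⁻¹ ∈ li v₁ a := by
      have := hmem h3
      rwa [val_rp, ex] at this
    have h6 : r * a * r⁻¹ ∈ li v₁ a := by
      have := hmem h4
      rwa [val_rp, ez] at this
    intro w hw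
    rcases h.ln.mem_li.1 hw with e | e | e | e
    · rw [e, mul_one, mul_inv_cancel]; exact one_mem _
    · rw [e]; exact h5
    · rw [e]; exact h6
    · have e3 : r * (a * v₁) * r⁻¹ = (r * a * r⁻¹) * (r * v₁ * r⁻¹) := by group
      rw [e, e3]
      exact mul_mem h6 h5
  intro r hr
  rw [mem_normalizer_iff]
  intro w
  refine ⟨key r hr w, fun hw => ?_⟩
  have h5 := key r⁻¹ (inv_mem hr) _ hw
  have e : r⁻¹ * (r * w * r⁻¹) * r⁻¹⁻¹ = w := by group
  rwa [e] at h5

end Sd

end Cfsg.Agent.Omega.NOThreeL.RRed
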