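import Cfsg.Agent.Omega.NOThreeL.RRed.GlueSig
import Cfsg.Agent.Omega.NOThreeL.RRed.LinePlug
import Cfsg.Agent.Omega.NOThreeL.RRed.Side

/-!
# NO-3L, box R, the smallest shape: the sockets `SideS`, `SmOf`

* `sideS : SideS` (L1 of #21468);
* `GlueSig.smOf`, `GlueSig.rsm` : `GlueSig.SmOf K FB`, `GlueSig.RSm K` from `TCR K`.
-/

set_option autoImplicit false

namespace Cfsg.Agent.Omega.NOThreeL.RRed

open Cfsg.Agent.Omega.Frame

universe u

theorem sideS : SideS.{u} := fun _ _ _ _ h => h.side_of fun _ hP => h.line hP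

namespace GlueSig

/-- **The smallest shape, from the card.** -/
theorem smOf {K : Cls.{u}} (hT : TCR K) : SmOf K FB.{u} := smOf_of lineS sideS hT

theorem rsm {K : Cls.{u}} (hT : TCR K) : RSm K := rsm_of lineS sideS hT

end GlueSig

end Cfsg.Agent.Omega.NOThreeL.RRed
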