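import Cfsg.Agent.Omega.NOThreeL.RRed.TCR
import Cfsg.Agent.Omega.NOThreeL.RRed.SmPlug
import Cfsg.Agent.Omega.KL.NoInp

/-!
# NO-3L, box R: the smallest shape, closed form

* `tcr : TCR K`, `smOf : SmOf K FB`, `smOfF : SmOf K FBF` for every `K` (MLK: `ML.KnownAll.mlk`; THEOREM KL:
  `KL.NoInp.noInp`).
-/

set_option autoImplicit false

namespace Cfsg.Agent.Omega.NOThreeL.RRed.TCRDone

open Cfsg.Agent.Omega.Frame
open Cfsg.Agent.Omega.NOThreeL.RRed.GlueSig

universe u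

variable (K : Cls.{u})

theorem tcr : TCR K := tcr_of ML.KnownAll.mlk KL.NoInp.noInp

theorem smOf : SmOf K FB.{u} := GlueSig.smOf (tcr K)

theorem smOfF : SmOf K FBF.{u} := SmOf.mono toRB (smOf K)

end Cfsg.Agent.Omega.NOThreeL.RRed.TCRDone
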