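import Cfsg.Agent.Omega.NOThreeL.RLev.LowZc
import Cfsg.Agent.Omega.NOThreeL.RRed.QFr.Top

/-!
# NO-3L, box R, one class: `TopH S` (helper461) from the top level `RLev.Top S` (helper319)

* `topH_of : RLev.Top S → TopH S`; `topH_of_vx : RBF S → J(S) ≤ C(V*) → VX S → TopH S`.
-/

set_option autoImplicit false
set_option linter.unusedSectionVars false

namespace Cfsg.Agent.Omega.NOThreeL.RRed.TopHOf

open Subgroup Cfsg
open Cfsg.Agent.ZN (jj)
open Cfsg.Agent.Omega.NOThreeL.RTreeF (RBF)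
open Cfsg.Agent.Omega.NOThreeL.RRed.QFr.Top (TopH)
open Cfsg.Agent.Omega.NO3b.EndX (AbsP)
open Cfsg.Agent.Omega.ML.Final (MLK)

universe u

variable {G : Type u} [Group G] [Finite G] {S : Sylow 2 G}

/-- `TopH S` from helper319's `Top S` -/
theorem topH_of (t : RLev.Top S) : TopH S := ⟨t.wc, t.zcQ⟩

/-- `TopH S` from `VX S` -/
theorem topH_of_vx (ml : MLK.{u, u}) (ha : AbsP.{u, u}) (h : RBF S)
    (hj : jj (S : Subgroup G) ≤ centralizer (Wd (S : Subgroup G) : Set G)) (vx : RLev.VX S) : TopH S :=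
  topH_of (RLev.LowZc.top_of_vx ml ha h hj vx)

end Cfsg.Agent.Omega.NOThreeL.RRed.TopHOf
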