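import Cfsg.Agent.Omega.NOThreeL.RLev.LowZc
import Cfsg.Agent.Omega.NOThreeL.RLev.VXStep
import Cfsg.Agent.Omega.NOThreeL.QWR.TopQOf
import Cfsg.Agent.Omega.NOThreeL.RRed.OneAllNeg
import Cfsg.Agent.Omega.NOThreeL.RRed.OneStd

/-!
# NO-3L, box R, one class of natural blocks, the top level `(Q, V*)`: the sockets `TopD B` and `AllOrb B`

* `topH_of` : `TopH S`;
* **`topD_of`** : `TopD B`; **`topL_of`** : `OneNon.TopL B`; **`orbD_of`**, **`allOrb_of`**.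
-/

set_option autoImplicit false
set_option linter.unusedSectionVars false
set_option linter.unusedVariables false

namespace Cfsg.Agent.Omega.NOThreeL.RRed.TopQEnd

open Subgroup Cfsg Cfsg.Agent.ZN Cfsg.Agent.Omega.MinPar Cfsg.Agent.Omega.Frame Cfsg.Agent.Omega.FrameNOFF
open Cfsg.Agent.Omega.Node.NO3L Cfsg.Agent.Omega.NOThreeL.Basic
open Cfsg.Agent.Omega.NOThreeL.Merge (MZ le_MZ S_le_MZ)
open Cfsg.Agent.Omega.NOThreeL.RTree (RB)
open Cfsg.Agent.Omega.NOThreeL.RTreeF (RBF)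
open Cfsg.Agent.Omega.NOThreeL.RLev (VX)
open Cfsg.Agent.Omega.NOThreeL.RRed.GlueSig
open Cfsg.Agent.Omega.NOThreeL.RRed.Blk
open Cfsg.Agent.Omega.NOThreeL.RRed.WideTree
open Cfsg.Agent.Omega.NOThreeL.RRed.QFr.Top (TopH)
open Cfsg.Agent.Omega.NOThreeL.RRed.OneTwoOf (OD TopD NlTop OrbD)
open Cfsg.Agent.Omega.NOThreeL.RRed.OneManyOf (AllOrb)
open Cfsg.Agent.Omega.NOThreeL.RRed.OneNon (TopL)
open Cfsg.Agent.Omega.NO3b.EndX (RedP AbsP)

universe u

/-- `B` has the fields of box R -/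
def IsR (B : Fr.{u}) : Prop := ∀ (G : Type u) [Group G] [Finite G] (S : Sylow 2 G), B G S → RBF S

variable {G : Type u} [Group G] [Finite G] {S : Sylow 2 G}

theorem topH_of_top (t : RLev.Top S) : TopH S := ⟨t.wc, t.zcQ⟩

/-- `TopH S` for one class of natural blocks, `q ≥ 4` -/
theorem topH_of (ml : ML.Final.MLK.{u, u}) (ha : AbsP.{u, u}) (h : RBF S)
    (hj : jj (S : Subgroup G) ≤ centralizer (Wd (S : Subgroup G) : Set G)) {ι : Type u} [Finite ι]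
    {N E D l : ι → Subgroup G} {q : ℕ} (hN : NBs (S : Subgroup G) N E D l (fun _ => q))
    (hs : Src (S : Subgroup G) N l (fun _ => q)) (hq : 4 ≤ q)
    (hc : CM (S : Subgroup G) (fun _ : PUnit.{u + 1} => Wd (S : Subgroup G))) : TopH S :=
  topH_of_top (RLev.LowZc.top_of_vx ml ha h hj (RLev.VXStep.vx h.toRB hN hs hq hc))

/-- **`TopD B`** -/
theorem topD_of {B : Fr.{u}} (hB : IsR B) (ml : ML.Final.MLK.{u, u}) (ha : AbsP.{u, u}) : TopD B :=
  OneTwoOf.topD_of_nl fun G _ _ S hS W mv ι _ N E D l q h hj hl U hU hC hD => by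
    by_contra hU1
    have h4 : 4 ≤ q := le_trans (by norm_num) h.q8
    exact QWR.TopQOf.topQ_false ml ha W h.cm h.nb h.src h4 hj
      (topH_of ml ha (hB G S hS) hj h.nb h.src h4 h.cm) (X := normalizer (U : Set G))
      (isLoc_of_le_normalizer S ((le_CZ S).trans hC) hU hU1 le_rfl) hC (Or.inr ⟨h.q8, hD⟩)

/-- **`TopL B`** -/
theorem topL_of {B : Fr.{u}} (hB : IsR B) (ml : ML.Final.MLK.{u, u}) (ha : AbsP.{u, u}) : TopL B := by
  intro G _ _ S hS W mv hC ι _ N E D l q h4 hN hs hj L hL hCL hY hE hD hz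
  exact QWR.TopQOf.topQ_false ml ha W hC hN hs h4 hj
    (topH_of ml ha (hB G S hS) hj hN hs h4 hC) hL hCL (Or.inl hY)

/-- **`OrbD B`** -/
theorem orbD_of {B : Fr.{u}} (hB : IsR B) (ml : ML.Final.MLK.{u, u}) (ha : AbsP.{u, u}) : OrbD B :=
  OneStd.orbD_of_top (topD_of hB ml ha)

/-- **`AllOrb B`** -/
theorem allOrb_of {B : Fr.{u}} (hB : IsR B) (ml : ML.Final.MLK.{u, u}) (hR : RedP.{u, u}) (hE : ML.Ex.Two.Ext.{u, u})
    (ha : AbsP.{u, u}) : AllOrb B := OneNon.allOrb_of_top ml hR hE (topL_of hB ml ha)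

end Cfsg.Agent.Omega.NOThreeL.RRed.TopQEnd
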