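import Cfsg.Agent.Omega.NOThreeL.RRed.TvG2
import Cfsg.Agent.Omega.NOThreeL.RZ.TwoE.Tv
import Cfsg.Agent.Omega.NOThreeL.RRed.Blk.AsmInact

/-!
# NO-3L, box R: `z ∈ Z` which is not fixed by all transvections of `M₀` is moved by an active `P` (#27180 (B2))

`Pts M V R₀ blk w pr` : the letters of all blocks, in the group.

* `pr_union` : a union of blocks has product `1`; `exists_even` : `v = pr F * r` with `F` even in every block;
* `map_eq` : `g ∈ M` which fixes `v` preserves `F` and fixes `r`;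
* `exists_sw_mem` : an `S`-invariant set `F` with two letters of one block: some `s ∈ S` is a transposition of `F`;
* `exists_fix` : a letter outside `F` which is fixed by all `s ∈ S` fixing its block;
* **`core`** : `M₁ = ⟨S, t'⟩` moves `z`; every `g ∈ M₁` which maps the transpositions of `S` to elements of `S` fixes `z`;
* **`act_or_fix`**, **`act_of`**.
-/

set_option autoImplicit false
set_option linter.unusedSectionVars false

namespace Cfsg.Agent.Omega.NOThreeL.RRed.TvAct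

open Subgroup Cfsg Cfsg.Agent.ZN Cfsg.Agent.Omega.MinPar Cfsg.Agent.Omega.Frame Cfsg.Agent.Omega.FrameNOFF
open Cfsg.Agent.Omega.NOThreeL.RRed.TvG2 (Pts)
open Cfsg.Agent.Omega.NOThreeL.RRed.TvFin (TvV)
open Cfsg.Agent.Omega.KL.TwoS (even_symmDiff)

universe u

variable {G : Type u} [Group G]

section pts

variable {M V R₀ : Subgroup G} {Pt I : Type u} [Fintype Pt] [DecidableEq Pt] [DecidableEq I] {blk : Pt → I}
  {w : Pt → G} {pr : Finset Pt → G} (h : Pts M V R₀ blk w pr)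

/-- the letters of the block of `x` -/
def bl (blk : Pt → I) (x : Pt) : Finset Pt := Finset.univ.filter fun y => blk y = blk x

theorem mem_bl {x y : Pt} : y ∈ bl blk x ↔ blk y = blk x := by
  rw [bl, Finset.mem_filter]; exact ⟨fun h => h.2, fun h => ⟨Finset.mem_univ _, h⟩⟩

include h

/-- a union of blocks -/
theorem pr_union : ∀ (n : ℕ) (D : Finset Pt), D.card ≤ n → (∀ x y, blk x = blk y → (x ∈ D ↔ y ∈ D)) → pr D = 1 := by
  intro n
  induction n with
  | zero =>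
    intro D hD _
    rw [Finset.card_eq_zero.1 (Nat.le_zero.1 hD)]
    exact h.pr_empty
  | succ n ih =>
    intro D hD hu
    by_cases h0 : D = ∅
    · rw [h0]; exact h.pr_empty
    obtain ⟨x, hx⟩ := Finset.nonempty_iff_ne_empty.2 h0
    have hB : bl blk x ⊆ D := fun y hy => (hu x y (mem_bl.1 hy).symm).1 hx
    have e1 : symmDiff D (bl blk x) = D \ bl blk x := by
      ext y
      rw [Finset.mem_symmDiff, Finset.mem_sdiff]
      exact ⟨fun hy => hy.elim id fun hy => absurd (hB hy.1) hy.2, Or.inl⟩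
    have h1 : (D \ bl blk x).card ≤ n := by
      have : (D \ bl blk x) ⊂ D := by
        refine Finset.ssubset_iff_subset_ne.2 ⟨Finset.sdiff_subset, fun e => ?_⟩
        have h2 : x ∈ D \ bl blk x := by rw [e]; exact hx
        exact (Finset.mem_sdiff.1 h2).2 (mem_bl.2 rfl)
      have := Finset.card_lt_card this
      omega
    have h2 := ih _ h1 (by
      intro y z hyz
      rw [Finset.mem_sdiff, Finset.mem_sdiff, mem_bl, mem_bl, hyz, hu y z hyz])
    have h3 := h.pr_symm D (bl blk x)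
    rw [e1, h2, show pr (bl blk x) = 1 from h.sum x, mul_one] at h3
    exact h3.symm

theorem even_bl_symm {A B : Finset Pt} (x : Pt) (hA : Even (A.filter fun y => blk y = blk x).card)
    (hB : Even (B.filter fun y => blk y = blk x).card) :
    Even ((symmDiff A B).filter fun y => blk y = blk x).card := by
  have e : (symmDiff A B).filter (fun y => blk y = blk x) =
      symmDiff (A.filter fun y => blk y = blk x) (B.filter fun y => blk y = blk x) := by
    ext y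
    simp only [Finset.mem_filter, Finset.mem_symmDiff]
    tauto
  rw [e]
  exact even_symmDiff hA hB

/-- **the even representative** -/
theorem exists_even {v : G} (hv : v ∈ V) : ∃ F : Finset Pt, ∃ r ∈ R₀, v = pr F * r ∧
    ∀ x, Even (F.filter fun y => blk y = blk x).card := by
  classical
  obtain ⟨F₀, r, hr, rfl⟩ := h.mem v hv
  obtain ⟨F, hF⟩ : ∃ F : Finset Pt, ∀ x, x ∈ F ↔ (x ∈ F₀ ↔ Even (F₀.filter fun y => blk y = blk x).card) :=
    ⟨Finset.univ.filter fun x => (x ∈ F₀ ↔ Even (F₀.filter fun y => blk y = blk x).card), fun x => by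
      rw [Finset.mem_filter]; exact ⟨fun h => h.2, fun h => ⟨Finset.mem_univ _, h⟩⟩⟩
  have hD : ∀ x, x ∈ symmDiff F F₀ ↔ ¬ Even (F₀.filter fun y => blk y = blk x).card := by
    intro x
    rw [Finset.mem_symmDiff, hF]
    tauto
  have h1 : pr (symmDiff F F₀) = 1 := by
    refine pr_union h _ _ le_rfl fun x y hxy => ?_
    rw [hD, hD, hxy]
  rw [h.pr_symm] at h1
  have h2 : pr F = pr F₀ := by
    rw [← h.pr_sq F₀] at h1
    exact mul_right_cancel h1
  refine ⟨F, r, hr, by rw [h2], fun x => ?_⟩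
  by_cases he : Even (F₀.filter fun y => blk y = blk x).card
  · have e : F.filter (fun y => blk y = blk x) = F₀.filter fun y => blk y = blk x := by
      ext y
      rw [Finset.mem_filter, Finset.mem_filter, hF]
      constructor
      · rintro ⟨h3, h4⟩
        rw [h4] at h3
        exact ⟨h3.2 he, h4⟩
      · rintro ⟨h3, h4⟩
        rw [h4]
        exact ⟨⟨fun _ => he, fun _ => h3⟩, rfl⟩
    rw [e]; exact he
  · have e : F.filter (fun y => blk y = blk x) = (bl blk x) \ (F₀.filter fun y => blk y = blk x) := by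
      ext y
      rw [Finset.mem_filter, Finset.mem_sdiff, mem_bl, Finset.mem_filter, hF]
      constructor
      · rintro ⟨h3, h4⟩
        rw [h4] at h3
        exact ⟨h4, fun h5 => he (h3.1 h5.1)⟩
      · rintro ⟨h3, h4⟩
        rw [h3]
        exact ⟨⟨fun h5 => absurd ⟨h5, h3⟩ h4, fun h5 => absurd h5 he⟩, rfl⟩
    have h3 := Finset.card_sdiff_add_card_eq_card (s := F₀.filter fun y => blk y = blk x) (t := bl blk x)
      fun y hy => mem_bl.2 (Finset.mem_filter.1 hy).2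
    rw [e]
    have h4 : Odd (bl blk x).card := h.odd x
    rw [← h3] at h4
    rw [Nat.odd_add] at h4
    by_contra h5
    exact he (h4.1 (Nat.not_even_iff_odd.1 h5))

/-- the permutation of letters -/
theorem perm_iff {g : G} {σ : Equiv.Perm Pt} (h1 : ∀ x, g * w x * g⁻¹ = w (σ x)) {x y : Pt}
    (e : g * w x * g⁻¹ = w y) : y = σ x := h.inj (by rw [← e, h1])

/-- **`g ∈ M` which fixes `pr F * r`, `F` even in every block, preserves `F` and fixes `r`.** -/
theorem map_eq {g : G} {σ : Equiv.Perm Pt} (hM : g ∈ M) (h1 : ∀ x, g * w x * g⁻¹ = w (σ x))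
    (h2 : ∀ x y, blk x = blk y ↔ blk (σ x) = blk (σ y)) {F : Finset Pt} {r : G} (hr : r ∈ R₀)
    (hF : ∀ x, Even (F.filter fun y => blk y = blk x).card) (hg : g * (pr F * r) * g⁻¹ = pr F * r) :
    F.map σ.toEmbedding = F ∧ g * r * g⁻¹ = r := by
  have hrV := h.R₀V hr
  have hgr : g * r * g⁻¹ ∈ R₀ := (mem_normalizer_iff.1 (h.R₀M hM) r).1 hr
  have e1 : g * (pr F * r) * g⁻¹ = pr (F.map σ.toEmbedding) * (g * r * g⁻¹) := by
    rw [← h.conj h1]; group
  have e2 : pr (symmDiff (F.map σ.toEmbedding) F) = r * (g * r * g⁻¹)⁻¹ := by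
    have h3 : pr (F.map σ.toEmbedding) * (g * r * g⁻¹) = pr F * r := by rw [← e1, hg]
    have h4 : pr (F.map σ.toEmbedding) = pr F * r * (g * r * g⁻¹)⁻¹ := by rw [← h3]; group
    rw [h.pr_symm, h4, h.comm (mul_mem (mul_mem (h.pr_mem F) hrV) (inv_mem (h.R₀V hgr))) (h.pr_mem F)]
    have h5 := h.pr_sq F
    calc pr F * (pr F * r * (g * r * g⁻¹)⁻¹) = (pr F * pr F) * (r * (g * r * g⁻¹)⁻¹) := by group
      _ = _ := by rw [h5, one_mul]
  have e3 : pr (symmDiff (F.map σ.toEmbedding) F) = 1 := h.disj _ (e2 ▸ mul_mem hr (inv_mem hgr))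
  have hD : symmDiff (F.map σ.toEmbedding) F = ∅ := by
    by_contra h0
    obtain ⟨x, hx⟩ := Finset.nonempty_iff_ne_empty.2 h0
    have h3 : (symmDiff (F.map σ.toEmbedding) F).filter (fun y => blk y = blk x) = bl blk x := by
      ext y
      rw [Finset.mem_filter, mem_bl]
      exact ⟨fun h4 => h4.2, fun h4 => ⟨(h.rel _ e3 y x h4).2 hx, h4⟩⟩
    have h4 : Even ((F.map σ.toEmbedding).filter fun y => blk y = blk x).card := by
      have h5 := hF (σ.symm x)
      have e : (F.map σ.toEmbedding).filter (fun y => blk y = blk x) =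
          (F.filter fun y => blk y = blk (σ.symm x)).map σ.toEmbedding := by
        ext y
        rw [Finset.mem_filter, Finset.mem_map, Finset.mem_map]
        constructor
        · rintro ⟨⟨z, hz, rfl⟩, h6⟩
          refine ⟨z, Finset.mem_filter.2 ⟨hz, (h2 _ _).2 ?_⟩, rfl⟩
          rw [Equiv.apply_symm_apply]
          exact h6
        · rintro ⟨z, hz, rfl⟩
          obtain ⟨h6, h7⟩ := Finset.mem_filter.1 hz
          refine ⟨⟨z, h6, rfl⟩, ?_⟩
          have h8 := (h2 _ _).1 h7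
          rw [Equiv.apply_symm_apply] at h8
          exact h8
      rw [e, Finset.card_map]
      exact h5
    have h5 := even_bl_symm h x h4 (hF x)
    rw [h3] at h5
    exact (Nat.not_even_iff_odd.2 (h.odd x)) h5
  refine ⟨symmDiff_eq_bot.1 hD, ?_⟩
  rw [e3] at e2
  have h3 := mul_inv_eq_one.1 e2.symm
  exact h3.symm

/-! ### Transpositions -/

omit h in
/-- `s` is the transposition of `x` and `y` -/
structure Sw (V : Subgroup G) (blk : Pt → I) (w : Pt → G) (s : G) (x y : Pt) : Prop where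
  ne : x ≠ y
  b : blk x = blk y
  act : ∀ u, s * w u * s⁻¹ = w (Equiv.swap x y u)
  tv : TvV V (w x * w y) s

theorem Sw.not_cent {s : G} {x y : Pt} (t : Sw V blk w s x y) : s ∉ centralizer (V : Set G) := by
  intro hs
  have h1 := mem_centralizer_iff.1 hs _ (h.wV x)
  have h2 := t.act x
  rw [← h1, mul_inv_cancel_right, Equiv.swap_apply_left] at h2
  exact t.ne (h.inj h2)

theorem Sw.conj {s g : G} {x y : Pt} (t : Sw V blk w s x y) (hM : g ∈ M) {σ : Equiv.Perm Pt}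
    (h1 : ∀ x, g * w x * g⁻¹ = w (σ x)) (h2 : ∀ x y, blk x = blk y ↔ blk (σ x) = blk (σ y)) :
    Sw V blk w (g * s * g⁻¹) (σ x) (σ y) where
  ne e := t.ne (σ.injective e)
  b := (h2 _ _).1 t.b
  act u := by
    have e1 : g * s * g⁻¹ * w u * (g * s * g⁻¹)⁻¹ = g * (s * (g⁻¹ * w u * g) * s⁻¹) * g⁻¹ := by group
    have e2 : g⁻¹ * w u * g = w (σ.symm u) := by
      have := h1 (σ.symm u)
      rw [Equiv.apply_symm_apply] at this
      rw [← this]; group
    rw [e1, e2, t.act, h1]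
    have e3 := σ.injective.swap_apply x y (σ.symm u)
    rw [Equiv.apply_symm_apply] at e3
    rw [e3]
  tv := by
    intro v hv
    have hn := h.MV hM
    have hv' : g⁻¹ * v * g ∈ V := (mem_normalizer_iff''.1 hn v).1 hv
    have e0 : w (σ x) * w (σ y) = g * (w x * w y) * g⁻¹ := by
      rw [← h1, ← h1]; group
    have e1 : g * s * g⁻¹ * v * (g * s * g⁻¹)⁻¹ = g * (s * (g⁻¹ * v * g) * s⁻¹) * g⁻¹ := by group
    rw [e1, e0]
    rcases t.tv _ hv' with h3 | h3
    · left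
      rw [h3]; group
    · right
      rw [h3]; group

/-- the elements of `M` which preserve `F` -/
def StF (F : Finset Pt) : Subgroup G where
  carrier := {g | g ∈ M ∧ ∀ x x', g * w x * g⁻¹ = w x' → (x ∈ F ↔ x' ∈ F)}
  mul_mem' := by
    rintro g k ⟨hg, h1⟩ ⟨hk, h2⟩
    refine ⟨mul_mem hg hk, fun x x' e => ?_⟩
    obtain ⟨σ, h3, -⟩ := h.perm k hk
    rw [h2 x _ (h3 x)]
    refine h1 _ _ ?_
    rw [← h3, ← e]; group
  one_mem' := ⟨one_mem _, fun x x' e => by
    rw [one_mul, inv_one, mul_one] at e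
    rw [h.inj e]⟩
  inv_mem' := by
    rintro g ⟨hg, h1⟩
    refine ⟨inv_mem hg, fun x x' e => ?_⟩
    refine (h1 x' x ?_).symm
    rw [← e]; group

theorem mem_StF {F : Finset Pt} {g : G} : g ∈ StF h F ↔ g ∈ M ∧ ∀ x x', g * w x * g⁻¹ = w x' → (x ∈ F ↔ x' ∈ F) :=
  Iff.rfl

theorem StF_of_map {F : Finset Pt} {g : G} (hg : g ∈ M) {σ : Equiv.Perm Pt} (h1 : ∀ x, g * w x * g⁻¹ = w (σ x))
    (e : F.map σ.toEmbedding = F) : g ∈ StF h F := by
  refine ⟨hg, fun x x' hx => ?_⟩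
  rw [perm_iff h h1 hx]
  constructor
  · intro h2
    rw [← e]
    exact Finset.mem_map_of_mem _ h2
  · intro h2
    rw [← e] at h2
    obtain ⟨y, hy, hyx⟩ := Finset.mem_map.1 h2
    have : y = x := σ.injective hyx
    exact this ▸ hy

theorem map_of_StF {F : Finset Pt} {g : G} (hg : g ∈ StF h F) {σ : Equiv.Perm Pt} (h1 : ∀ x, g * w x * g⁻¹ = w (σ x)) :
    F.map σ.toEmbedding = F := by
  ext y
  rw [Finset.mem_map]
  constructor
  · rintro ⟨x, hx, rfl⟩
    exact (hg.2 x _ (h1 x)).1 hx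
  · intro hy
    refine ⟨σ.symm y, ?_, Equiv.apply_symm_apply σ y⟩
    have h2 := h1 (σ.symm y)
    rw [Equiv.apply_symm_apply] at h2
    exact (hg.2 _ _ h2).2 hy

/-- a group of `g` which fixes `pr F * r` -/
theorem cent_of_StF {F : Finset Pt} {r g : G} (hg : g ∈ StF h F) (hr : g * r * g⁻¹ = r) :
    g ∈ centralizer ({pr F * r} : Set G) := by
  obtain ⟨σ, h1, -⟩ := h.perm g hg.1
  rw [mem_centralizer_singleton_iff]
  have e : g * (pr F * r) * g⁻¹ = pr F * r := by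
    calc g * (pr F * r) * g⁻¹ = (g * pr F * g⁻¹) * (g * r * g⁻¹) := by group
      _ = _ := by rw [h.conj h1, map_of_StF h hg h1, hr]
  exact mul_inv_eq_iff_eq_mul.1 e

/-! ### Elements of 2-power order -/

omit h in
theorem exists_two [Finite G] {t : G} (h2 : t ^ 2 ∈ centralizer (V : Set G)) : ∃ k : ℕ,
    IsPGroup 2 (zpowers (t ^ (2 * k + 1))) ∧ ∀ v ∈ V, t ^ (2 * k + 1) * v * (t ^ (2 * k + 1))⁻¹ = t * v * t⁻¹ := by
  obtain ⟨a, m, hm, hn⟩ := Nat.exists_eq_two_pow_mul_odd (n := orderOf t) (orderOf_pos t).ne'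
  obtain ⟨k, rfl⟩ := hm
  refine ⟨k, ?_, fun v hv => ?_⟩
  · have hf : Fact (Nat.Prime 2) := ⟨Nat.prime_two⟩
    refine IsPGroup.of_card (n := a) ?_
    rw [Nat.card_zpowers, orderOf_pow' t (by omega), hn]
    have e : Nat.gcd (2 ^ a * (2 * k + 1)) (2 * k + 1) = 2 * k + 1 := Nat.gcd_eq_right (Dvd.intro_left _ rfl)
    rw [e]
    exact Nat.mul_div_cancel _ (by omega)
  · have h3 : (t ^ 2) ^ k ∈ centralizer (V : Set G) := pow_mem h2 k
    have h4 := mem_centralizer_iff.1 h3 v hv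
    have e : t ^ (2 * k + 1) = t * (t ^ 2) ^ k := by rw [← pow_mul, pow_succ']
    rw [e]
    calc t * (t ^ 2) ^ k * v * (t * (t ^ 2) ^ k)⁻¹ = t * ((t ^ 2) ^ k * v) * ((t ^ 2) ^ k)⁻¹ * t⁻¹ := by group
      _ = t * (v * (t ^ 2) ^ k) * ((t ^ 2) ^ k)⁻¹ * t⁻¹ := by rw [h4]
      _ = _ := by group

theorem exists_sw [Finite G] {x y : Pt} (hne : x ≠ y) (hb : blk x = blk y) : ∃ t ∈ M, Sw V blk w t x y ∧
    (∀ r ∈ R₀, t * r * t⁻¹ = r) ∧ IsPGroup 2 (zpowers t) := by
  obtain ⟨t, ht, h1, h2, h3⟩ := h.full x y hne hb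
  have h4 : t ^ 2 ∈ centralizer (V : Set G) := RZ.TwoE.Tv.tv_two (c := w x * w y) (mul_mem (h.wV x) (h.wV y))
    (fun v hv => by rw [pow_two]; exact h.sq v hv) h3
  obtain ⟨k, hk, h5⟩ := exists_two h4
  refine ⟨_, pow_mem ht (2 * k + 1), ⟨hne, hb, fun u => by rw [h5 _ (h.wV u), h1], fun v hv => ?_⟩,
    fun r hr => by rw [h5 _ (h.R₀V hr), h2 r hr], hk⟩
  rw [h5 v hv]
  exact h3 v hv

theorem Sw.mem_StF {t : G} {x y : Pt} (hM : t ∈ M) (s : Sw V blk w t x y) {F : Finset Pt} (hF : x ∈ F ↔ y ∈ F) :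
    t ∈ StF h F := by
  refine ⟨hM, fun u u' e => ?_⟩
  rw [s.act] at e
  have e1 := h.inj e
  rw [← e1]
  by_cases hx : u = x
  · rw [hx, Equiv.swap_apply_left]; exact hF
  by_cases hy : u = y
  · rw [hy, Equiv.swap_apply_right]; exact hF.symm
  rw [Equiv.swap_apply_of_ne_of_ne hx hy]

/-- the action on the letters -/
noncomputable def rho : M →* Equiv.Perm Pt where
  toFun g := (h.perm g g.2).choose
  map_one' := by
    ext x
    have h1 := (h.perm _ (1 : M).2).choose_spec.1 x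
    have h2 : w x = ((1 : M) : G) * w x * ((1 : M) : G)⁻¹ := by simp
    exact (h.inj (h2.trans h1)).symm
  map_mul' g k := by
    ext x
    have h1 := (h.perm _ (g * k).2).choose_spec.1 x
    have h2 := (h.perm _ k.2).choose_spec.1 x
    have h3 := (h.perm _ g.2).choose_spec.1 ((h.perm _ k.2).choose x)
    refine (h.inj ?_)
    rw [← h1]
    change _ = w ((h.perm _ g.2).choose ((h.perm _ k.2).choose x))
    rw [← h3, ← h2, Subgroup.coe_mul]
    group

theorem rho_spec (g : M) (x : Pt) : (g : G) * w x * (g : G)⁻¹ = w (rho h g x) := (h.perm g g.2).choose_spec.1 x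

theorem rho_blk (g : M) (x y : Pt) : blk x = blk y ↔ blk (rho h g x) = blk (rho h g y) :=
  (h.perm g g.2).choose_spec.2 x y

section syl

variable [Finite G] {S : Sylow 2 G} (hSM : (S : Subgroup G) ≤ M)
include hSM

/-- **an `S`-invariant set `F` with two letters of one block: some `s ∈ S` is a transposition of `F`** -/
theorem exists_sw_mem {F : Finset Pt} (hS : (S : Subgroup G) ≤ StF h F) {x y : Pt} (hne : x ≠ y)
    (hb : blk x = blk y) (hx : x ∈ F) (hy : y ∈ F) : ∃ x' ∈ F, ∃ y' ∈ F, ∃ s ∈ (S : Subgroup G), Sw V blk w s x' y' := by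
  obtain ⟨t, ht, st, -, h2⟩ := exists_sw h hne hb
  have htF : t ∈ StF h F := st.mem_StF h ht ⟨fun _ => hy, fun _ => hx⟩
  have hZ : zpowers t ≤ StF h F := zpowers_le.2 htF
  obtain ⟨l, hl, hle⟩ : ∃ l ∈ StF h F, ∀ z ∈ zpowers t, l * z * l⁻¹ ∈ (S : Subgroup G) := by
    have hf : Fact (Nat.Prime 2) := ⟨Nat.prime_two⟩
    have h3 : IsPGroup 2 ((zpowers t).subgroupOf (StF h F)) := h2.comap_subtype
    obtain ⟨Q, hQ⟩ := h3.exists_le_sylow
    obtain ⟨l, hl⟩ := MulAction.exists_smul_eq (StF h F) Q (S.subtype hS)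
    refine ⟨l, l.2, fun z hz => ?_⟩
    have h4 : (⟨z, hZ hz⟩ : StF h F) ∈ Q := hQ hz
    have h5 : l * ⟨z, hZ hz⟩ * l⁻¹ ∈ ((l • Q : Sylow 2 (StF h F)) : Subgroup (StF h F)) :=
      ⟨⟨z, hZ hz⟩, h4, rfl⟩
    rw [hl] at h5
    exact h5
  have h3 : l * t * l⁻¹ ∈ (S : Subgroup G) := hle t (mem_zpowers t)
  obtain ⟨σ, h4, h5⟩ := h.perm l hl.1
  exact ⟨σ x, (hl.2 x _ (h4 x)).1 hx, σ y, (hl.2 y _ (h4 y)).1 hy, _, h3, st.conj h hl.1 h4 h5⟩

/-- **a letter of the block of `x` outside `F` which is fixed by all `s ∈ S` fixing the block** -/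
theorem exists_fix {F : Finset Pt} (hS : (S : Subgroup G) ≤ StF h F)
    (hF : ∀ x, Even (F.filter fun y => blk y = blk x).card) (x : Pt) : ∃ p, blk p = blk x ∧ p ∉ F ∧
      ∀ s ∈ (S : Subgroup G), (∀ y, s * w x * s⁻¹ = w y → blk y = blk x) → s * w p * s⁻¹ = w p := by
  have hf : Fact (Nat.Prime 2) := ⟨Nat.prime_two⟩
  let T : Subgroup M :=
    { carrier := {g | (g : G) ∈ (S : Subgroup G) ∧ blk (rho h g x) = blk x}
      mul_mem' := by
        rintro g k ⟨h1, h2⟩ ⟨h3, h4⟩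
        refine ⟨mul_mem h1 h3, ?_⟩
        rw [map_mul, Equiv.Perm.mul_apply, (rho_blk h g _ _).1 h4, h2]
      one_mem' := ⟨one_mem _, by rw [map_one, Equiv.Perm.one_apply]⟩
      inv_mem' := by
        rintro g ⟨h1, h2⟩
        refine ⟨inv_mem h1, ?_⟩
        rw [rho_blk h g, ← Equiv.Perm.mul_apply, ← map_mul, mul_inv_cancel, map_one, Equiv.Perm.one_apply, h2] }
  have hT : ∀ g : T, ∀ y : Pt, (blk y = blk x ∧ y ∉ F) → (blk (rho h g.1 y) = blk x ∧ rho h g.1 y ∉ F) := by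
    intro g y hy
    refine ⟨by rw [(rho_blk h g.1 _ _).1 hy.1, g.2.2], fun hc => hy.2 ?_⟩
    exact ((hS g.2.1).2 y _ (rho_spec h g.1 y)).2 hc
  let X := {y : Pt // blk y = blk x ∧ y ∉ F}
  let act : MulAction T X :=
    { smul := fun g y => ⟨rho h g.1 y.1, hT g y.1 y.2⟩
      one_smul := fun y => Subtype.ext (by
        change rho h (1 : M) y.1 = y.1
        rw [map_one, Equiv.Perm.one_apply])
      mul_smul := fun g k y => Subtype.ext (by
        change rho h (g.1 * k.1) y.1 = rho h g.1 (rho h k.1 y.1)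
        rw [map_mul, Equiv.Perm.mul_apply]) }
  have h2T : IsPGroup 2 T := by
    have h1 : IsPGroup 2 ((S : Subgroup G).subgroupOf M) := S.isPGroup'.comap_subtype
    exact h1.to_le fun g hg => mem_subgroupOf.2 hg.1
  have hX : ¬ 2 ∣ Nat.card X := by
    have e : Nat.card X = (bl blk x \ (F.filter fun y => blk y = blk x)).card := by
      rw [Nat.card_eq_fintype_card, Fintype.card_subtype]
      congr 1
      ext y
      rw [Finset.mem_filter, Finset.mem_sdiff, mem_bl, Finset.mem_filter]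
      constructor
      · rintro ⟨-, h1, h2⟩
        exact ⟨h1, fun h3 => h2 h3.1⟩
      · rintro ⟨h1, h2⟩
        exact ⟨Finset.mem_univ _, h1, fun h3 => h2 ⟨h3, h1⟩⟩
    have h3 := Finset.card_sdiff_add_card_eq_card (s := F.filter fun y => blk y = blk x) (t := bl blk x)
      fun y hy => mem_bl.2 (Finset.mem_filter.1 hy).2
    have h4 : Odd (bl blk x).card := h.odd x
    have h5 := hF x
    rw [e]
    intro h6
    rw [← h3, Nat.odd_add] at h4
    have h7 := h4.2 h5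
    exact (Nat.not_even_iff_odd.2 h7) (even_iff_two_dvd.2 h6)
  obtain ⟨p, hp⟩ := h2T.nonempty_fixed_point_of_prime_not_dvd_card X hX
  refine ⟨p.1, p.2.1, p.2.2, fun s hs hsx => ?_⟩
  have h1 : blk (rho h ⟨s, hSM hs⟩ x) = blk x := hsx _ (rho_spec h ⟨s, hSM hs⟩ x)
  have h2 := hp (⟨⟨s, hSM hs⟩, hs, h1⟩ : T)
  have h3 : rho h ⟨s, hSM hs⟩ p.1 = p.1 := congrArg Subtype.val h2
  have h4 := rho_spec h ⟨s, hSM hs⟩ p.1
  rw [h3] at h4
  exact h4

open Classical in
/-- **The group `M₁ = ⟨S, t'⟩`.** -/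
theorem core {z : G} (hz : z ∈ V) (zS : ∀ s ∈ (S : Subgroup G), s * z * s⁻¹ = z) (hR : z ∉ R₀) :
    ∃ M₁ ≤ M, (S : Subgroup G) ≤ M₁ ∧ ¬ M₁ ≤ centralizer ({z} : Set G) ∧
      ∀ g ∈ M₁, (∀ s ∈ (S : Subgroup G), ∀ x y, Sw V blk w s x y → g * s * g⁻¹ ∈ (S : Subgroup G)) →
        (∀ s ∈ (S : Subgroup G), ∀ x y, Sw V blk w s x y → g⁻¹ * s * g ∈ (S : Subgroup G)) →
          g ∈ centralizer ({z} : Set G) := by
  obtain ⟨F, r, hr, rfl, hF⟩ := exists_even h hz
  have hS : ∀ s ∈ (S : Subgroup G), s ∈ StF h F ∧ s * r * s⁻¹ = r := by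
    intro s hs
    obtain ⟨σ, h1, h2⟩ := h.perm s (hSM hs)
    obtain ⟨h3, h4⟩ := map_eq h (hSM hs) h1 h2 hr hF (zS s hs)
    exact ⟨StF_of_map h (hSM hs) h1 h3, h4⟩
  have hSF : (S : Subgroup G) ≤ StF h F := fun s hs => (hS s hs).1
  have hne : F ≠ ∅ := by
    rintro rfl
    rw [h.pr_empty, one_mul] at hR
    exact hR hr
  obtain ⟨x₀, hx₀⟩ := Finset.nonempty_iff_ne_empty.2 hne
  have hx₀' : x₀ ∈ F.filter fun y => blk y = blk x₀ := Finset.mem_filter.2 ⟨hx₀, rfl⟩
  have hc : 1 < (F.filter fun y => blk y = blk x₀).card := by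
    have h1 := Finset.card_pos.2 ⟨x₀, hx₀'⟩
    obtain ⟨k, hk⟩ := hF x₀
    omega
  obtain ⟨y₀, hy₀, hyne⟩ := Finset.exists_mem_ne hc x₀
  obtain ⟨hy₀F, hy₀b⟩ := Finset.mem_filter.1 hy₀
  obtain ⟨x, hxF, y, hyF, s₀, hs₀, st⟩ := exists_sw_mem h hSM hSF (Ne.symm hyne) hy₀b.symm hx₀ hy₀F
  obtain ⟨p, hpb, hpF, hfix⟩ := exists_fix h hSM hSF hF x
  have hxp : x ≠ p := fun e => hpF (e ▸ hxF)
  obtain ⟨t, htM, stt, htr, -⟩ := exists_sw h hxp hpb.symm
  -- the letters
  let LL : Finset Pt := Finset.univ.filter fun u =>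
    (∃ s ∈ (S : Subgroup G), s * w x * s⁻¹ = w u) ∨ ∃ s ∈ (S : Subgroup G), s * w p * s⁻¹ = w u
  have hLL : ∀ u, u ∈ LL ↔ (∃ s ∈ (S : Subgroup G), s * w x * s⁻¹ = w u) ∨
      ∃ s ∈ (S : Subgroup G), s * w p * s⁻¹ = w u := fun u => by
    rw [Finset.mem_filter]; exact ⟨fun h => h.2, fun h => ⟨Finset.mem_univ _, h⟩⟩
  have hxL : x ∈ LL := (hLL x).2 (Or.inl ⟨1, one_mem _, by group⟩)
  have hpL : p ∈ LL := (hLL p).2 (Or.inr ⟨1, one_mem _, by group⟩)
  have hSLL : (S : Subgroup G) ≤ StF h LL := by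
    intro s hs
    refine ⟨hSM hs, fun u u' e => ?_⟩
    have key : ∀ {s : G}, s ∈ (S : Subgroup G) → ∀ {u u' : Pt}, s * w u * s⁻¹ = w u' → u ∈ LL → u' ∈ LL := by
      intro s hs u u' e hu
      rw [hLL] at hu ⊢
      rcases hu with ⟨a, ha, h1⟩ | ⟨a, ha, h1⟩
      · exact Or.inl ⟨s * a, mul_mem hs ha, by rw [← e, ← h1]; group⟩
      · exact Or.inr ⟨s * a, mul_mem hs ha, by rw [← e, ← h1]; group⟩
    refine ⟨key hs e, key (inv_mem hs) ?_⟩
    rw [← e]; group
  have hSD : (S : Subgroup G) ≤ StF h (F \ LL) := by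
    intro s hs
    refine ⟨hSM hs, fun u u' e => ?_⟩
    rw [Finset.mem_sdiff, Finset.mem_sdiff, (hSF hs).2 u u' e, (hSLL hs).2 u u' e]
  have htL : t ∈ StF h LL := stt.mem_StF h htM ⟨fun _ => hpL, fun _ => hxL⟩
  have htD : t ∈ StF h (F \ LL) := stt.mem_StF h htM
    ⟨fun h1 => absurd hxL (Finset.mem_sdiff.1 h1).2, fun h1 => absurd hpL (Finset.mem_sdiff.1 h1).2⟩
  have hML : (S : Subgroup G) ⊔ zpowers t ≤ StF h LL := sup_le hSLL (zpowers_le.2 htL)
  have hMD : (S : Subgroup G) ⊔ zpowers t ≤ StF h (F \ LL) := sup_le hSD (zpowers_le.2 htD)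
  have hMr : (S : Subgroup G) ⊔ zpowers t ≤ centralizer ({r} : Set G) := by
    refine sup_le (fun s hs => ?_) (zpowers_le.2 ?_)
    · rw [mem_centralizer_singleton_iff]
      exact mul_inv_eq_iff_eq_mul.1 (hS s hs).2
    · rw [mem_centralizer_singleton_iff]
      exact mul_inv_eq_iff_eq_mul.1 (htr r hr)
  refine ⟨(S : Subgroup G) ⊔ zpowers t, sup_le hSM (zpowers_le.2 htM), le_sup_left, fun hle => ?_,
    fun g hg h1 h2 => ?_⟩
  · have h1 := hle (le_sup_right (a := (S : Subgroup G)) (mem_zpowers t))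
    rw [mem_centralizer_singleton_iff] at h1
    obtain ⟨σ, h2, h3⟩ := h.perm t htM
    obtain ⟨h4, -⟩ := map_eq h htM h2 h3 hr hF (mul_inv_eq_iff_eq_mul.2 h1)
    have h5 := StF_of_map h htM h2 h4
    have h6 : t * w x * t⁻¹ = w p := by rw [stt.act, Equiv.swap_apply_left]
    exact hpF ((h5.2 _ _ h6).1 hxF)
  · have hgM : g ∈ M := (hML hg).1
    -- letters moved by transpositions of `S`
    have hU : ∀ {g : G}, g ∈ M →
        (∀ s ∈ (S : Subgroup G), ∀ x y, Sw V blk w s x y → g * s * g⁻¹ ∈ (S : Subgroup G)) → ∀ u u',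
          g * w u * g⁻¹ = w u' → (∃ v, ∃ s ∈ (S : Subgroup G), Sw V blk w s u v) →
            ∃ v, ∃ s ∈ (S : Subgroup G), Sw V blk w s u' v := by
      rintro g hgM h1 u u' e ⟨v, s, hs, hsw⟩
      obtain ⟨σ, h3, h4⟩ := h.perm g hgM
      rw [perm_iff h h3 e]
      exact ⟨σ v, _, h1 s hs _ _ hsw, hsw.conj h hgM h3 h4⟩
    have hSS : ∀ {a : G}, a ∈ (S : Subgroup G) → ∀ s ∈ (S : Subgroup G), ∀ x y, Sw V blk w s x y →
        a * s * a⁻¹ ∈ (S : Subgroup G) := fun ha s hs _ _ _ => mul_mem (mul_mem ha hs) (inv_mem ha)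
    have hC : ∀ u ∈ LL, (u ∈ F ↔ ∃ v, ∃ s ∈ (S : Subgroup G), Sw V blk w s u v) := by
      intro u hu
      rcases (hLL u).1 hu with ⟨a, ha, e⟩ | ⟨a, ha, e⟩
      · exact ⟨fun _ => hU (hSM ha) (hSS ha) x u e ⟨y, s₀, hs₀, st⟩, fun _ => ((hSF ha).2 _ _ e).1 hxF⟩
      · refine ⟨fun h3 => absurd (((hSF ha).2 _ _ e).2 h3) hpF, fun h3 => ?_⟩
        have e' : a⁻¹ * w u * a⁻¹⁻¹ = w p := by rw [← e]; group
        obtain ⟨v, s, hs, hsw⟩ := hU (hSM (inv_mem ha)) (hSS (inv_mem ha)) u p e' h3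
        exfalso
        obtain ⟨σ, h4, h5⟩ := h.perm s (hSM hs)
        have h6 : s * w p * s⁻¹ = w v := by rw [hsw.act, Equiv.swap_apply_left]
        have h7 := hfix s hs fun q hq => by
          rw [perm_iff h h4 hq]
          have h8 := (h5 p x).1 hpb
          rw [← perm_iff h h4 h6] at h8
          rw [← h8, ← hsw.b, hpb]
        rw [h6] at h7
        exact hsw.ne (h.inj h7).symm
    have hgF : g ∈ StF h F := by
      refine ⟨hgM, fun u u' e => ?_⟩
      have e1 := (hML hg).2 u u' e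
      have e2 := (hMD hg).2 u u' e
      rw [Finset.mem_sdiff, Finset.mem_sdiff] at e2
      by_cases hu : u ∈ LL
      · have hu' := e1.1 hu
        rw [hC u hu, hC u' hu']
        refine ⟨hU hgM h1 u u' e, hU (inv_mem hgM) (fun s hs x y hsw => ?_) u' u (by rw [← e]; group)⟩
        rw [inv_inv]
        exact h2 s hs x y hsw
      · have hu' : u' ∉ LL := fun h3 => hu (e1.2 h3)
        constructor
        · exact fun h3 => (e2.1 ⟨h3, hu⟩).1
        · exact fun h3 => (e2.2 ⟨h3, hu'⟩).1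
    refine cent_of_StF h hgF ?_
    have h3 := hMr hg
    rw [mem_centralizer_singleton_iff] at h3
    rw [h3, mul_inv_cancel_right]

end syl

end pts

/-! ### Box R -/

section main

open Cfsg.Agent.Omega.NOThreeL.RTree (RB)
open Cfsg.Agent.Omega.NOThreeL.Merge (MZ le_MZ isLoc_MZ)
open Cfsg.Agent.Omega.FFThm (NoOverM)
open Cfsg.Agent.Omega.NOThreeL.RRed.WideTree (Act)

variable [Finite G] {S : Sylow 2 G}

/-- **(B2) of #27180** : a vector of `Z` which is moved by a transvection of `M₀` on `V*` is moved by an active `P`. -/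
theorem act_or_fix (B : RB S) (no : NoOverM (Wd (S : Subgroup G)) (MZ (S : Subgroup G))) {z : G}
    (hz : z ∈ zc (S : Subgroup G)) {t c : G} (ht : t ∈ MZ (S : Subgroup G)) (hc : c ∈ Wd (S : Subgroup G))
    (htv : TvV (Wd (S : Subgroup G)) c t) (hm : t * z * t⁻¹ ≠ z) :
    ∃ P, Act (S : Subgroup G) P ∧ ¬ P ≤ centralizer ({z} : Set G) := by
  have hSM : (S : Subgroup G) ≤ MZ (S : Subgroup G) := (isLoc_MZ B.ctx B.full B.data.noff).le
  have H : TvG.GHyp (S : Subgroup G) (Wd (S : Subgroup G)) (MZ (S : Subgroup G)) :=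
    TvFin.of_zl hSM (Star.zl_sq B.ctx.char2 B.data.noff) no
  obtain ⟨Pt, I, i1, i2, i3, i4, blk, w, tr, b⟩ := TvBlk.exists_blk (TvFin.sys H)
  have h := TvG2.pts H.sq H.norm b
  have hzV : z ∈ Wd (S : Subgroup G) := MinSimple.VModule.zc_le_zl _ _ hz
  have hR : z ∉ TvDec.R₀ H.sq H.norm := fun h1 => hm ((TvFin.fixR H.sq H.norm b hzV).1 h1 t ht c hc htv)
  have zS : ∀ s ∈ (S : Subgroup G), s * z * s⁻¹ = z := fun s hs => by
    rw [(MinSimple.VModule.mem_zc.1 hz).2.1 s hs, mul_inv_cancel_right]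
  obtain ⟨M₁, hM, hS, hn, hall⟩ := core h hSM hzV zS hR
  have hloc : IsLoc (S : Subgroup G) M₁ := (isLoc_MZ B.ctx B.full B.data.noff).of_le S hS hM
  have hN : M₁ ⊓ normalizer ((S : Subgroup G) : Set G) ≤ centralizer ({z} : Set G) := by
    rintro g ⟨hg, hgn⟩
    refine hall g hg (fun s hs _ _ _ => (mem_normalizer_iff.1 hgn s).1 hs) fun s hs _ _ _ => ?_
    exact (mem_normalizer_iff''.1 hgn s).1 hs
  obtain ⟨P, hP, hPM, hPz⟩ := hloc.exists_not_le S hN hn
  have hPS : IsParS (S : Subgroup G) P := by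
    refine ⟨hP, fun h1 => hPz ?_⟩
    exact (RZ.Nz.le_centralizer_of hP h1).trans (centralizer_le (Set.singleton_subset_iff.2 hz))
  refine ⟨P, ?_, hPz⟩
  by_contra hA
  have hin := Blk.AsmInact.inact_of hPS hA
  apply hPz
  have key : ∀ g ∈ P, ∀ s ∈ (S : Subgroup G), ∀ x y, Sw (Wd (S : Subgroup G)) blk (fun x => (w x).val) s x y →
      g * s * g⁻¹ ∈ (S : Subgroup G) := by
    intro g hg s hs x y hsw
    have h1 : Mx (Wd (S : Subgroup G)) (zpowers s) :=
      RZ.TwoE.Tv.tv_mx no (hSM hs) (S.isPGroup'.to_le (zpowers_le.2 hs)) (mul_mem (h.wV x) (h.wV y))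
        (fun v hv => by rw [pow_two]; exact h.sq v hv) hsw.tv (hsw.not_cent h)
    have h2 : s ∈ o2 P := hin _ (zpowers_le.2 hs) h1 (mem_zpowers s)
    exact hP.isLoc.o2_le S ((mem_normalizer_iff.1 (MinSimple.VModule.le_normalizer_o2 P hg) s).1 h2)
  intro g hg
  refine hall g (hPM hg) (key g hg) fun s hs x y hsw => ?_
  have h1 := key g⁻¹ (inv_mem hg) s hs x y hsw
  rwa [inv_inv] at h1

/-- over the blocks of letters -/
theorem act_of (B : RB S) (no : NoOverM (Wd (S : Subgroup G)) (MZ (S : Subgroup G))) {I : Type u}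
    {N E : I → Subgroup G} {R₀ : Subgroup G} {Om : I → Type u} [∀ i, Fintype (Om i)] [∀ i, DecidableEq (Om i)]
    {phi : ∀ i, Finset (Om i) → G}
    (F : TvFin.Full (S : Subgroup G) (MZ (S : Subgroup G)) (Wd (S : Subgroup G)) N E R₀ Om phi) {z : G}
    (hz : z ∈ zc (S : Subgroup G)) (hR : z ∉ R₀) :
    ∃ P, IsParS (S : Subgroup G) P ∧ ¬ P ≤ centralizer ({z} : Set G) ∧
      ∃ A ≤ (S : Subgroup G), Mx (Wd (S : Subgroup G)) A ∧ ¬ A ≤ o2 P := by
  have hzV : z ∈ Wd (S : Subgroup G) := MinSimple.VModule.zc_le_zl _ _ hz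
  rw [F.fixR z hzV] at hR
  push Not at hR
  obtain ⟨t, ht, c, hc, htv, hm⟩ := hR
  obtain ⟨P, ⟨h1, h2⟩, h3⟩ := act_or_fix B no hz ht hc htv hm
  exact ⟨P, h1, h3, h2⟩

end main

end Cfsg.Agent.Omega.NOThreeL.RRed.TvAct
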