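import Cfsg.Agent.Omega.NOThreeL.RRed.TvFin
import Cfsg.Agent.Omega.NOThreeL.RZ.TwoC.DecE

/-!
# NO-3L, box R: the orbits `O i = {phi i (Om i ∖ {p})}` of the blocks of letters

`Full S M V N E R₀ Om phi` (block theorem for transvections): `orbs : DecE.Orbs M N E (O phi)`.
-/

set_option autoImplicit false
set_option linter.unusedSectionVars false

namespace Cfsg.Agent.Omega.NOThreeL.RRed.TvOrb

open Subgroup Cfsg.Agent.Omega.NOThreeL.RRed.Blk
open Cfsg.Agent.Omega.KL.TwoS (Rel Lett)
open Cfsg.Agent.Omega.NOThreeL.RZ.TwoC.DecE (Orbs)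
open scoped Pointwise

universe u

variable {G : Type u} [Group G] {I : Type u} {Om : I → Type u} [∀ i, Fintype (Om i)] [∀ i, DecidableEq (Om i)]

/-- The elements `phi i (Om i ∖ {p})` of `N i`. -/
def O (phi : ∀ i, Finset (Om i) → G) (i : I) : Set G := {x | ∃ p : Om i, x = phi i (Finset.univ.erase p)}

variable {S M V : Subgroup G} {N E : I → Subgroup G} {R₀ : Subgroup G} {phi : ∀ i, Finset (Om i) → G}

theorem even_erase {i : I} (h : Lett (N i) (E i) (phi i)) (p : Om i) :
    Even ((Finset.univ : Finset (Om i)).erase p).card := by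
  rw [Finset.card_erase_of_mem (Finset.mem_univ p), Finset.card_univ]
  obtain ⟨k, hk⟩ := h.odd
  rw [hk]
  exact ⟨k, by omega⟩

theorem map_erase {i j : I} (σ : Om i ≃ Om j) (p : Om i) :
    (Finset.univ.erase p).map σ.toEmbedding = (Finset.univ : Finset (Om j)).erase (σ p) := by
  rw [Finset.map_erase, Finset.map_univ_equiv]
  rfl

theorem lett_inj {i : I} (h : Lett (N i) (E i) (phi i)) {s t : Finset (Om i)} (hs : Even s.card) (ht : Even t.card)
    (e : phi i s = phi i t) : s = t := by
  have h1 : phi i (symmDiff s t) = 1 := by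
    rw [h.mul, e, ← h.mul, symmDiff_self]
    have h2 := h.mul ∅ ∅
    rw [symmDiff_self] at h2
    exact left_eq_mul.1 h2
  exact symmDiff_eq_bot.1 (h.inj _ (Cfsg.Agent.Omega.KL.TwoS.even_symmDiff hs ht) h1)

/-- **The orbits.** -/
theorem orbs (F : TvFin.Full S M V N E R₀ Om phi) : Orbs M N E (O phi) where
  sub i := by
    rintro x ⟨p, rfl⟩
    exact ((F.lett i).mem _).2 ⟨_, even_erase (F.lett i) p, rfl⟩
  one i := by
    rintro ⟨p, hp⟩
    have h1 := (F.lett i).inj _ (even_erase (F.lett i) p) hp.symm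
    have h2 := congrArg Finset.card h1
    rw [Finset.card_erase_of_mem (Finset.mem_univ p), Finset.card_univ, Finset.card_empty] at h2
    have := F.three i
    omega
  odd i := by
    have e : Nat.card (O phi i) = Fintype.card (Om i) := by
      rw [← Nat.card_eq_fintype_card]
      refine (Nat.card_congr (Equiv.ofBijective
        (fun p : Om i => (⟨phi i (Finset.univ.erase p), p, rfl⟩ : O phi i)) ⟨?_, ?_⟩)).symm
      · intro p q hpq
        have h1 := lett_inj (F.lett i) (even_erase (F.lett i) p) (even_erase (F.lett i) q) (congrArg Subtype.val hpq)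
        by_contra hne
        have h2 : q ∈ (Finset.univ : Finset (Om i)).erase p := Finset.mem_erase.2 ⟨Ne.symm hne, Finset.mem_univ _⟩
        rw [h1] at h2
        exact Finset.notMem_erase q _ h2
      · rintro ⟨x, p, rfl⟩
        exact ⟨p, rfl⟩
    rw [e]
    exact (F.lett i).odd
  tr i := by
    rintro x ⟨p, rfl⟩ y ⟨q, rfl⟩
    obtain ⟨g, hg, h⟩ := (F.lett i).all (Equiv.swap p q)
    refine ⟨g, hg, ?_⟩
    rw [h _ (even_erase (F.lett i) p), map_erase, Equiv.swap_apply_left]
  inv g hg b c hbc x := by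
    rintro ⟨p, rfl⟩
    obtain ⟨τ, σ, h1, -, h3⟩ := F.letters g hg
    have hτ : τ b = c := F.toDec.Ninj (by rw [← h1 b, hbc])
    subst hτ
    exact ⟨σ b p, by rw [h3, map_erase]⟩

end Cfsg.Agent.Omega.NOThreeL.RRed.TvOrb
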