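import Cfsg.Agent.Omega.NOThreeL.RRed.TvKind
import Cfsg.Agent.Omega.NOThreeL.RRed.TvKindT
import Cfsg.Agent.Omega.NOThreeL.RRed.TvOrb
import Cfsg.Agent.Omega.NOThreeL.RRed.ClassMod
import Cfsg.Agent.Omega.NOThreeL.RZ.TwoE.Tv

/-!
# NO-3L, box R: an active `P` moves `z ∈ Z`, `z ∉ R₀` ((B2) of #27180, helper811)

`F : TvFin.Full S M V N E R₀ Om phi`, `S` a Sylow 2-subgroup of `G`. Letters: the vectors `lt phi b a = phi b (Om b ∖ {a})`.

* `Trs S V t` : `t ∈ S` acts on `V` as a (non-trivial) transvection; `Fre S V w` : no such `t` moves `w`;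
* `exists_p` : exactly one letter of each block is free;
* `cent_of_inact` : `P ≤ ⟨S, t⟩`, `t` = the swap of the letters `x`, `p` (`p` free, `x` not), `P` permutes the
  transvections in `S`: `P` fixes every `z ∈ C_V(S)`;
* `exists_par` : `⟨S, t⟩` contains a member of `P*(S)` which moves `z`, if `t` does;
* **`act_of`** : `z ∈ Z`, `z ∉ R₀`: some active `P ∈ P*(S)` moves `z`.
-/

set_option autoImplicit false
set_option linter.unusedSectionVars false

namespace Cfsg.Agent.Omega.NOThreeL.RRed.TvActP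

open Subgroup Cfsg
open Cfsg.Agent.ZN (o2 zc zl)
open Cfsg.Agent.Omega.MinPar
open Cfsg.Agent.Omega.NOThreeL.RRed
open Cfsg.Agent.Omega.NOThreeL.RRed.Blk
open Cfsg.Agent.Omega.NOThreeL.RRed.TvFin (TvV)
open Cfsg.Agent.Omega.KL.TwoS (Rel Lett)
open scoped Pointwise

universe u

variable {G : Type u} [Group G]

/-- the letters -/
def lt {I : Type u} {Om : I → Type u} [∀ i, Fintype (Om i)] [∀ i, DecidableEq (Om i)]
    (phi : ∀ i, Finset (Om i) → G) (b : I) (a : Om b) : G := phi b (Finset.univ.erase a)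

/-- transvections in `S` -/
def Trs (S V : Subgroup G) (t : G) : Prop := t ∈ S ∧ t ∉ centralizer (V : Set G) ∧ ∃ c ∈ V, TvV V c t

/-- `w` is not moved by the transvections in `S` -/
def Fre (S V : Subgroup G) (w : G) : Prop := ∀ t, Trs S V t → t * w * t⁻¹ = w

theorem tvV_conj {V : Subgroup G} {c t g : G} (hg : g ∈ normalizer (V : Set G)) (h : TvV V c t) :
    TvV V (g * c * g⁻¹) (g * t * g⁻¹) := by
  intro w hw
  have hw' : g⁻¹ * w * g ∈ V := TvKind.conj_mem' hg hw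
  rcases h _ hw' with e | e
  · left
    calc g * t * g⁻¹ * w * (g * t * g⁻¹)⁻¹ = g * (t * (g⁻¹ * w * g) * t⁻¹) * g⁻¹ := by group
      _ = w := by rw [e]; group
  · right
    calc g * t * g⁻¹ * w * (g * t * g⁻¹)⁻¹ = g * (t * (g⁻¹ * w * g) * t⁻¹) * g⁻¹ := by group
      _ = w * (g * c * g⁻¹) := by rw [e]; group

theorem cent_conj {V : Subgroup G} {t g : G} (hg : g ∈ normalizer (V : Set G))
    (h : g * t * g⁻¹ ∈ centralizer (V : Set G)) : t ∈ centralizer (V : Set G) := by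
  rw [mem_centralizer_iff]
  intro v hv
  have h8 := mem_centralizer_iff.1 h _ ((mem_normalizer_iff.1 hg v).1 hv)
  have h9 : g * (v * t) * g⁻¹ = g * (t * v) * g⁻¹ := by
    calc g * (v * t) * g⁻¹ = g * v * g⁻¹ * (g * t * g⁻¹) := by group
      _ = g * t * g⁻¹ * (g * v * g⁻¹) := h8
      _ = _ := by group
  exact mul_left_cancel (mul_right_cancel h9)

/-- conjugates of transvections in `S` which lie in `S` -/
theorem trs_conj {S V : Subgroup G} {t g : G} (hg : g ∈ normalizer (V : Set G)) (h : Trs S V t)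
    (hS : g * t * g⁻¹ ∈ S) : Trs S V (g * t * g⁻¹) := by
  obtain ⟨_, h2, c, hc, h3⟩ := h
  exact ⟨hS, fun h4 => h2 (cent_conj hg h4), g * c * g⁻¹, (mem_normalizer_iff.1 hg c).1 hc, tvV_conj hg h3⟩

section full

variable {M V : Subgroup G} {I : Type u} {N E : I → Subgroup G} {R₀ : Subgroup G}
  {Om : I → Type u} [∀ i, Fintype (Om i)] [∀ i, DecidableEq (Om i)] {phi : ∀ i, Finset (Om i) → G}

section any

variable {S : Subgroup G} (F : TvFin.Full S M V N E R₀ Om phi)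
include F

theorem lt_mem (b : I) (a : Om b) : lt phi b a ∈ N b :=
  ((F.lett b).mem _).2 ⟨_, (F.lett b).even_erase a, rfl⟩

theorem lt_inj {b : I} {a a' : Om b} (h : lt phi b a = lt phi b a') : a = a' := by
  by_contra hne
  have h4 := (F.lett b).phi_inj ((F.lett b).even_erase a) ((F.lett b).even_erase a') h
  have h5 : a' ∈ (Finset.univ : Finset (Om b)).erase a := Finset.mem_erase.2 ⟨Ne.symm hne, Finset.mem_univ _⟩
  rw [h4] at h5
  exact (Finset.mem_erase.1 h5).1 rfl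

theorem lt_ne (b : I) (a : Om b) : lt phi b a ≠ 1 := by
  intro h
  have h1 := (F.lett b).inj _ ((F.lett b).even_erase a) h
  have h2 := congrArg Finset.card h1
  rw [Finset.card_erase_of_mem (Finset.mem_univ a), Finset.card_univ, Finset.card_empty] at h2
  have := F.three b
  omega

theorem blk_eq {b c : I} {x : G} (h1 : x ∈ N b) (h2 : x ∈ N c) (hx : x ≠ 1) : b = c := by
  by_contra hne
  have h3 : x ∈ N b ⊓ Co N R₀ b := mem_inf.2 ⟨h1, F.toDec.N_le_Co (Ne.symm hne) h2⟩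
  rw [show N b ⊓ Co N R₀ b = ⊥ from F.toDec.ind b, mem_bot] at h3
  exact hx h3

/-- an element of `E b` fixes the letters of the other blocks -/
theorem fix_other {b c : I} (hbc : b ≠ c) {t : G} (ht : t ∈ E b) (a : Om c) : t * lt phi c a * t⁻¹ = lt phi c a :=
  cent (F.EC b c hbc ht) (lt_mem F c a)

/-- a swap on the letters of its block -/
theorem lt_rel {b : I} {t : G} {σ : Equiv.Perm (Om b)} (h : Rel (phi b) t σ) (a : Om b) :
    t * lt phi b a * t⁻¹ = lt phi b (σ a) := by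
  rw [lt, h _ ((F.lett b).even_erase a), TvOrb.map_erase]
  rfl

end any

variable [Finite G] {S : Sylow 2 G} (F : TvFin.Full (S : Subgroup G) M V N E R₀ Om phi)
include F

theorem S_norm : (S : Subgroup G) ≤ normalizer (V : Set G) := F.toDec.SL.trans F.toDec.LU

theorem trs_S {s t : G} (hs : s ∈ (S : Subgroup G)) (h : Trs (S : Subgroup G) V t) :
    Trs (S : Subgroup G) V (s * t * s⁻¹) :=
  trs_conj (S_norm F hs) h (mul_mem (mul_mem hs h.1) (inv_mem hs))

theorem fre_S {s w : G} (hs : s ∈ (S : Subgroup G)) (h : Fre (S : Subgroup G) V w) :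
    Fre (S : Subgroup G) V (s * w * s⁻¹) := by
  intro t ht
  have h1 := h _ (trs_S F (inv_mem hs) ht)
  calc t * (s * w * s⁻¹) * t⁻¹ = s * (s⁻¹ * t * s⁻¹⁻¹ * w * (s⁻¹ * t * s⁻¹⁻¹)⁻¹) * s⁻¹ := by group
    _ = s * w * s⁻¹ := by rw [h1]

/-- **Exactly one letter of each block is free.** -/
theorem exists_p (b : I) : ∃ p : Om b, Fre (S : Subgroup G) V (lt phi b p) ∧
    ∀ a, a ≠ p → ¬ Fre (S : Subgroup G) V (lt phi b a) := by
  classical
  obtain ⟨P, hP⟩ := TvKind.exists_img (F.lett b) (F.three b) (TvKind.syl F b)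
  obtain ⟨r, hr⟩ := (F.lett b).odd
  obtain ⟨x, y, p, hp⟩ := TvKindT.exists_pairs P hr
  have hno : ∀ a, a ≠ p → Equiv.swap a p ∉ (P : Subgroup (Equiv.Perm (Om b))) := by
    intro a ha hs
    -- another swap with the letter `a`
    obtain ⟨a', h1, h2, h3⟩ : ∃ a', a' ≠ a ∧ a' ≠ p ∧ Equiv.swap a a' ∈ (P : Subgroup (Equiv.Perm (Om b))) := by
      obtain ⟨i, hi | hi⟩ := hp.cov a ha
      · exact ⟨y i, hi ▸ (hp.ne i).symm, hp.yp i, hi ▸ hp.sw i⟩
      · refine ⟨x i, hi ▸ hp.ne i, hp.xp i, ?_⟩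
        rw [hi, Equiv.swap_comm]
        exact hp.sw i
    have h4 : (Equiv.swap a p * Equiv.swap a a').IsThreeCycle :=
      Equiv.Perm.isThreeCycle_swap_mul_swap_same ha (Ne.symm h1) (Ne.symm h2)
    obtain ⟨n, hn⟩ := P.isPGroup' ⟨_, mul_mem hs h3⟩
    have h5 : (Equiv.swap a p * Equiv.swap a a') ^ 2 ^ n = 1 := congrArg Subtype.val hn
    have h6 := orderOf_dvd_of_pow_eq_one h5
    rw [h4.orderOf] at h6
    have h7 := Nat.Prime.dvd_of_dvd_pow Nat.prime_three h6
    omega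
  refine ⟨p, ?_, ?_⟩
  · rintro t ⟨htS, htn, c, hc, hT⟩
    obtain ⟨i, hi, a, a', haa, _, hrel⟩ := F.tvs t (F.toDec.SL htS) c hc hT htn
    by_cases hib : i = b
    · subst hib
      rw [lt_rel F hrel]
      have h1 : Equiv.swap a a' ∈ (P : Subgroup (Equiv.Perm (Om i))) := by
        rw [hP]
        exact ⟨t, mem_inf.2 ⟨htS, hi⟩, hrel⟩
      have h2 : p ≠ a := by
        rintro rfl
        exact hno a' (Ne.symm haa) (by rw [Equiv.swap_comm]; exact h1)
      have h3 : p ≠ a' := by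
        rintro rfl
        exact hno a haa h1
      rw [Equiv.swap_apply_of_ne_of_ne h2 h3]
    · exact fix_other F hib hi p
  · intro a ha hf
    obtain ⟨a', h1, h3⟩ : ∃ a', a' ≠ a ∧ Equiv.swap a a' ∈ (P : Subgroup (Equiv.Perm (Om b))) := by
      obtain ⟨i, hi | hi⟩ := hp.cov a ha
      · exact ⟨y i, hi ▸ (hp.ne i).symm, hi ▸ hp.sw i⟩
      · refine ⟨x i, hi ▸ hp.ne i, ?_⟩
        rw [hi, Equiv.swap_comm]
        exact hp.sw i
    rw [hP] at h3
    obtain ⟨t, ht, hrel⟩ := h3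
    have h4 : t * lt phi b a * t⁻¹ = lt phi b a' := by rw [lt_rel F hrel, Equiv.swap_apply_left]
    have h5 : t ∉ centralizer (V : Set G) := by
      intro h6
      rw [cent h6 (F.toDec.NU b (lt_mem F b a))] at h4
      exact h1 (lt_inj F h4).symm
    have hc : phi b {a, a'} ∈ N b :=
      ((F.lett b).mem _).2 ⟨_, by rw [Finset.card_pair (Ne.symm h1)]; exact even_two, rfl⟩
    have h6 : Trs (S : Subgroup G) V t := ⟨ht.1, h5, phi b {a, a'}, F.toDec.NU b hc,
      TvKind.tvV_of F ht.2 (fun w hw => TvKind.tv_swap (F.lett b) (Ne.symm h1) hrel hw) hc⟩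
    rw [hf t h6] at h4
    exact h1 (lt_inj F h4).symm

/-! ### An inactive `P ≤ ⟨S, t⟩` -/

/-- the letters conjugate under `S` to the letters `x`, `p` of the block `b` -/
def XX (S : Subgroup G) (phi : ∀ i, Finset (Om i) → G) (b : I) (x p : Om b) (w : G) : Prop :=
  ∃ s ∈ S, w = s * lt phi b x * s⁻¹ ∨ w = s * lt phi b p * s⁻¹

omit F [Finite G] in
theorem XX_S {S : Subgroup G} {b : I} {x p : Om b} {s w : G} (hs : s ∈ S) (h : XX S phi b x p w) :
    XX S phi b x p (s * w * s⁻¹) := by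
  obtain ⟨s', hs', h⟩ := h
  refine ⟨s * s', mul_mem hs hs', ?_⟩
  rcases h with rfl | rfl
  · left; group
  · right; group

omit F [Finite G] in
theorem XX_S' {S : Subgroup G} {b : I} {x p : Om b} {s w : G} (hs : s ∈ S) (h : XX S phi b x p (s * w * s⁻¹)) :
    XX S phi b x p w := by
  have h1 := XX_S (inv_mem hs) h
  have e : s⁻¹ * (s * w * s⁻¹) * s⁻¹⁻¹ = w := by group
  rwa [e] at h1

/-- letters are mapped to letters -/
theorem let_conj {g : G} (hg : g ∈ M) {w : G} (hw : ∃ (c : I) (a : Om c), w = lt phi c a) :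
    ∃ (c : I) (a : Om c), g * w * g⁻¹ = lt phi c a := by
  obtain ⟨c, a, rfl⟩ := hw
  obtain ⟨τ, σ, _, _, h3⟩ := F.letters g hg
  exact ⟨τ c, σ c a, by rw [lt, h3, TvOrb.map_erase]; rfl⟩

/-- **`⟨S, t⟩` on the letters.** -/
theorem letters_of {b : I} {x p : Om b} {t : G} (ht : t ∈ E b) (hrel : Rel (phi b) t (Equiv.swap x p))
    {g : G} (hg : g ∈ (S : Subgroup G) ⊔ zpowers t) :
    (∀ w, (∃ (c : I) (a : Om c), w = lt phi c a) → XX (S : Subgroup G) phi b x p w →
      XX (S : Subgroup G) phi b x p (g * w * g⁻¹)) ∧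
    ∀ w, (∃ (c : I) (a : Om c), w = lt phi c a) → ¬ XX (S : Subgroup G) phi b x p w →
      ∃ s ∈ (S : Subgroup G), g * w * g⁻¹ = s * w * s⁻¹ := by
  let K : Subgroup G :=
    { carrier := {g | g ∈ M ∧ (∀ w, (∃ (c : I) (a : Om c), w = lt phi c a) → XX (S : Subgroup G) phi b x p w →
        XX (S : Subgroup G) phi b x p (g * w * g⁻¹)) ∧
        ∀ w, (∃ (c : I) (a : Om c), w = lt phi c a) → ¬ XX (S : Subgroup G) phi b x p w →
          ∃ s ∈ (S : Subgroup G), g * w * g⁻¹ = s * w * s⁻¹}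
      one_mem' := ⟨one_mem _, fun w _ hX => by simpa using hX, fun w _ _ => ⟨1, one_mem _, rfl⟩⟩
      mul_mem' := by
        rintro g h ⟨hg, h1, h2⟩ ⟨hh, h3, h4⟩
        have e : ∀ w, g * h * w * (g * h)⁻¹ = g * (h * w * h⁻¹) * g⁻¹ := fun w => by group
        refine ⟨mul_mem hg hh, fun w hw hX => ?_, fun w hw hX => ?_⟩
        · rw [e]
          exact h1 _ (let_conj F hh hw) (h3 w hw hX)
        · rw [e]
          obtain ⟨s, hs, h5⟩ := h4 w hw hX
          have h6 : ¬ XX (S : Subgroup G) phi b x p (h * w * h⁻¹) := by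
            rw [h5]
            exact fun h7 => hX (XX_S' hs h7)
          obtain ⟨s', hs', h7⟩ := h2 _ (let_conj F hh hw) h6
          exact ⟨s' * s, mul_mem hs' hs, by rw [h7, h5]; group⟩
      inv_mem' := by
        rintro g ⟨hg, h1, h2⟩
        have e : ∀ w, g * (g⁻¹ * w * g⁻¹⁻¹) * g⁻¹ = w := fun w => by group
        refine ⟨inv_mem hg, fun w hw hX => ?_, fun w hw hX => ?_⟩
        · by_contra hn
          obtain ⟨s, hs, h3⟩ := h2 _ (let_conj F (inv_mem hg) hw) hn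
          rw [e] at h3
          rw [h3] at hX
          exact hn (XX_S' hs hX)
        · have hn : ¬ XX (S : Subgroup G) phi b x p (g⁻¹ * w * g⁻¹⁻¹) := by
            intro h3
            have h4 := h1 _ (let_conj F (inv_mem hg) hw) h3
            rw [e] at h4
            exact hX h4
          obtain ⟨s, hs, h3⟩ := h2 _ (let_conj F (inv_mem hg) hw) hn
          rw [e] at h3
          refine ⟨s⁻¹, inv_mem hs, ?_⟩
          calc g⁻¹ * w * g⁻¹⁻¹ = s⁻¹ * (s * (g⁻¹ * w * g⁻¹⁻¹) * s⁻¹) * s⁻¹⁻¹ := by group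
            _ = s⁻¹ * w * s⁻¹⁻¹ := by rw [← h3] }
  have hSK : (S : Subgroup G) ≤ K := fun s hs =>
    ⟨F.toDec.SL hs, fun w _ hX => XX_S hs hX, fun w _ _ => ⟨s, hs, rfl⟩⟩
  have htK : t ∈ K := by
    refine ⟨F.toDec.EL b ht, ?_, ?_⟩
    · rintro w ⟨c, a, rfl⟩ hX
      by_cases hbc : b = c
      · subst hbc
        rw [lt_rel F hrel]
        rcases eq_or_ne a x with rfl | hax
        · rw [Equiv.swap_apply_left]
          exact ⟨1, one_mem _, Or.inr (by group)⟩
        · rcases eq_or_ne a p with rfl | hap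
          · rw [Equiv.swap_apply_right]
            exact ⟨1, one_mem _, Or.inl (by group)⟩
          · rw [Equiv.swap_apply_of_ne_of_ne hax hap]
            exact hX
      · rw [fix_other F hbc ht]
        exact hX
    · rintro w ⟨c, a, rfl⟩ hX
      refine ⟨1, one_mem _, ?_⟩
      rw [one_mul, inv_one, mul_one]
      by_cases hbc : b = c
      · subst hbc
        have hax : a ≠ x := by
          rintro rfl
          exact hX ⟨1, one_mem _, Or.inl (by group)⟩
        have hap : a ≠ p := by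
          rintro rfl
          exact hX ⟨1, one_mem _, Or.inr (by group)⟩
        rw [lt_rel F hrel, Equiv.swap_apply_of_ne_of_ne hax hap]
      · exact fix_other F hbc ht a
  have h1 : (S : Subgroup G) ⊔ zpowers t ≤ K := sup_le hSK (zpowers_le.2 htK)
  exact (h1 hg).2

/-- **An inactive `P` on the letters.** -/
theorem inact_letters {b : I} {x p : Om b} (hp : Fre (S : Subgroup G) V (lt phi b p))
    (hx : ¬ Fre (S : Subgroup G) V (lt phi b x)) {t : G} (ht : t ∈ E b) (hrel : Rel (phi b) t (Equiv.swap x p))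
    {P : Subgroup G} (hPL : P ≤ (S : Subgroup G) ⊔ zpowers t)
    (hPT : ∀ g ∈ P, ∀ t, Trs (S : Subgroup G) V t → Trs (S : Subgroup G) V (g * t * g⁻¹)) {g : G} (hg : g ∈ P)
    {w : G} (hw : ∃ (c : I) (a : Om c), w = lt phi c a) : ∃ s ∈ (S : Subgroup G), g * w * g⁻¹ = s * w * s⁻¹ := by
  obtain ⟨h1, h2⟩ := letters_of F ht hrel (hPL hg)
  by_cases hX : XX (S : Subgroup G) phi b x p w
  · -- free letters are mapped to free letters
    have key : ∀ g ∈ P, ∀ w, Fre (S : Subgroup G) V w → Fre (S : Subgroup G) V (g * w * g⁻¹) := by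
      intro g hg w hw t ht
      have h3 := hw _ (hPT g⁻¹ (inv_mem hg) t ht)
      calc t * (g * w * g⁻¹) * t⁻¹ = g * (g⁻¹ * t * g⁻¹⁻¹ * w * (g⁻¹ * t * g⁻¹⁻¹)⁻¹) * g⁻¹ := by group
        _ = g * w * g⁻¹ := by rw [h3]
    obtain ⟨s', hs', h3⟩ := h1 w hw hX
    obtain ⟨s, hs, h4⟩ := hX
    rcases h4 with rfl | rfl
    · rcases h3 with h3 | h3
      · exact ⟨s' * s⁻¹, mul_mem hs' (inv_mem hs), by rw [h3]; group⟩
      · exfalso
        apply hx
        have h5 : Fre (S : Subgroup G) V (g * (s * lt phi b x * s⁻¹) * g⁻¹) := by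
          rw [h3]
          exact fre_S F hs' hp
        have h6 := key g⁻¹ (inv_mem hg) _ h5
        have h7 := fre_S F (inv_mem hs) h6
        have e : s⁻¹ * (g⁻¹ * (g * (s * lt phi b x * s⁻¹) * g⁻¹) * g⁻¹⁻¹) * s⁻¹⁻¹ = lt phi b x := by group
        rwa [e] at h7
    · rcases h3 with h3 | h3
      · exfalso
        apply hx
        have h5 : Fre (S : Subgroup G) V (g * (s * lt phi b p * s⁻¹) * g⁻¹) := key g hg _ (fre_S F hs hp)
        rw [h3] at h5
        have h7 := fre_S F (inv_mem hs') h5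
        have e : s'⁻¹ * (s' * lt phi b x * s'⁻¹) * s'⁻¹⁻¹ = lt phi b x := by group
        rwa [e] at h7
      · exact ⟨s' * s⁻¹, mul_mem hs' (inv_mem hs), by rw [h3]; group⟩
  · exact h2 w hw hX

/-- a letter in the support of `y` -/
def InZ (N : I → Subgroup G) (R₀ : Subgroup G) (phi : ∀ i, Finset (Om i) → G) (y w : G) : Prop :=
  ∃ (c : I) (a : Om c) (s : Finset (Om c)), w = lt phi c a ∧ Even s.card ∧ IsC N R₀ c y (phi c s) ∧ a ∈ s

theorem inZ_S {y : G} {s : G} (hs : s ∈ (S : Subgroup G)) (hy : s * y * s⁻¹ = y) {w : G}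
    (h : InZ N R₀ phi y w) : InZ N R₀ phi y (s * w * s⁻¹) := by
  obtain ⟨c, a, u, rfl, hu, hc, ha⟩ := h
  obtain ⟨τ, σ, h1, _, h3⟩ := F.letters s (F.toDec.SL hs)
  refine ⟨τ c, σ c a, u.map (σ c).toEmbedding, ?_, by rw [Finset.card_map]; exact hu, ?_, Finset.mem_map_of_mem _ ha⟩
  · rw [lt, h3, TvOrb.map_erase]; rfl
  · have h4 := F.toDec.comp_conj (F.toDec.SL hs) (h1 c) hc
    rwa [hy, h3] at h4

theorem inZ_iff {y : G} {c : I} {a : Om c} {s : Finset (Om c)} (hs : Even s.card) (hc : IsC N R₀ c y (phi c s)) :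
    InZ N R₀ phi y (lt phi c a) ↔ a ∈ s := by
  constructor
  · rintro ⟨d, a', u, e, hu, hd, ha⟩
    have h1 : c = d := by
      refine blk_eq F (lt_mem F c a) ?_ (lt_ne F c a)
      rw [e]
      exact lt_mem F d a'
    subst h1
    have h2 : a = a' := lt_inj F e
    have h3 : s = u := (F.lett c).phi_inj hs hu (F.toDec.uniq hc hd)
    rw [h2, h3]
    exact ha
  · intro ha
    exact ⟨c, a, s, rfl, hs, hc, ha⟩

/-- **An inactive `P` fixes `z`.** -/
theorem cent_of_inact [Finite I] {b : I} {x p : Om b} (hp : Fre (S : Subgroup G) V (lt phi b p))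
    (hx : ¬ Fre (S : Subgroup G) V (lt phi b x)) {t : G} (ht : t ∈ E b) (hrel : Rel (phi b) t (Equiv.swap x p))
    {P : Subgroup G} (hPL : P ≤ (S : Subgroup G) ⊔ zpowers t)
    (hPT : ∀ g ∈ P, ∀ t, Trs (S : Subgroup G) V t → Trs (S : Subgroup G) V (g * t * g⁻¹)) {z : G} (hz : z ∈ V)
    (hzS : ∀ s ∈ (S : Subgroup G), s * z * s⁻¹ = z) {g : G} (hg : g ∈ P) : g * z * g⁻¹ = z := by
  obtain ⟨y, hy, r, hr, rfl⟩ := RZ.TwoC.DecE.ex_mul F.toDec hz
  have hyS : ∀ s ∈ (S : Subgroup G), s * y * s⁻¹ = y := fun s hs =>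
    (RZ.TwoC.DecE.sep F.toDec (F.toDec.SL hs) hy hr (hzS s hs)).1
  have hrS : ∀ s ∈ (S : Subgroup G), s * r * s⁻¹ = r := fun s hs =>
    (RZ.TwoC.DecE.sep F.toDec (F.toDec.SL hs) hy hr (hzS s hs)).2
  have hLM : (S : Subgroup G) ⊔ zpowers t ≤ M := sup_le F.toDec.SL (zpowers_le.2 (F.toDec.EL b ht))
  -- `r`
  have hgr : g * r * g⁻¹ = r := by
    have h1 : (S : Subgroup G) ⊔ zpowers t ≤ centralizer ({r} : Set G) := by
      refine sup_le (fun s hs => ?_) (zpowers_le.2 ?_)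
      · rw [mem_centralizer_singleton_iff]
        exact mul_inv_eq_iff_eq_mul.1 (hrS s hs)
      · rw [mem_centralizer_singleton_iff]
        exact mul_inv_eq_iff_eq_mul.1 (cent (F.toDec.ER b ht) hr)
    have h2 := mem_centralizer_singleton_iff.1 (h1 (hPL hg))
    rw [h2]; group
  -- `y`
  have hin : ∀ g ∈ P, ∀ w, InZ N R₀ phi y w → InZ N R₀ phi y (g * w * g⁻¹) := by
    intro g hg w hw
    have hl : ∃ (c : I) (a : Om c), w = lt phi c a := by
      obtain ⟨c, a, s, e, _⟩ := hw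
      exact ⟨c, a, e⟩
    obtain ⟨s, hs, e⟩ := inact_letters F hp hx ht hrel hPL hPT hg hl
    rw [e]
    exact inZ_S F hs (hyS s hs) hw
  have hgM : g ∈ M := hLM (hPL hg)
  have hgy : g * y * g⁻¹ = y := by
    refine F.toDec.ext (RZ.TwoC.DecE.norm_B F.toDec hgM hy) hy fun c => ?_
    obtain ⟨τ, σ, h1, _, h3⟩ := F.letters g hgM
    obtain ⟨d, rfl⟩ := τ.surjective c
    obtain ⟨n, hn⟩ := F.toDec.ex_comp d (RZ.TwoC.DecE.B_le F.toDec hy)
    obtain ⟨s, hs, rfl⟩ := ((F.lett d).mem n).1 hn.1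
    obtain ⟨n', hn'⟩ := F.toDec.ex_comp (τ d) (RZ.TwoC.DecE.B_le F.toDec hy)
    obtain ⟨s', hs', rfl⟩ := ((F.lett (τ d)).mem n').1 hn'.1
    have h4 := F.toDec.comp_conj hgM (h1 d) hn
    rw [h3] at h4
    have hlt : ∀ a : Om d, g * lt phi d a * g⁻¹ = lt phi (τ d) (σ d a) := fun a => by
      rw [lt, h3, TvOrb.map_erase]; rfl
    have h5 : s.map (σ d).toEmbedding = s' := by
      ext a'
      obtain ⟨a, rfl⟩ := (σ d).surjective a'
      have e1 : σ d a ∈ s.map (σ d).toEmbedding ↔ a ∈ s := Finset.mem_map' (σ d).toEmbedding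
      rw [e1, ← inZ_iff F hs hn, ← inZ_iff F hs' hn', ← hlt]
      constructor
      · exact hin g hg _
      · intro h6
        have h7 := hin g⁻¹ (inv_mem hg) _ h6
        have e : g⁻¹ * (g * lt phi d a * g⁻¹) * g⁻¹⁻¹ = lt phi d a := by group
        rwa [e] at h7
    rw [h5] at h4
    exact ⟨_, h4, hn'⟩
  calc g * (y * r) * g⁻¹ = (g * y * g⁻¹) * (g * r * g⁻¹) := by group
    _ = y * r := by rw [hgy, hgr]

end full

/-! ### A member of `P*(S)` in `⟨S, t⟩` which moves `z` -/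

theorem isPar_conj {S : Subgroup G} {P : Subgroup G} (h : IsPar S P) {n : G} (hn : n ∈ normalizer (S : Set G)) :
    IsPar S (P.map (MulAut.conj n).toMonoidHom) := by
  have h1 := IsPar.map (e := MulAut.conj n) h
  have h2 : S.map (MulAut.conj n).toMonoidHom = S := by
    have := RZ.TwoC.DecE.smul_of_norm hn
    exact this
  rwa [h2] at h1

/-- **`⟨S, t⟩`, `t` a 2-element, contains a member of `P*(S)` which moves `z ∈ C_Z(S)`, if `t` moves `z`.** -/
theorem exists_par [Finite G] {S : Sylow 2 G} {M : Subgroup G} (hM : IsLoc (S : Subgroup G) M) {t z : G} (htM : t ∈ M)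
    (h2 : IsPGroup 2 (zpowers t)) (hz : z ∈ zc (S : Subgroup G)) (ht : t * z ≠ z * t) :
    ∃ P, IsParS (S : Subgroup G) P ∧ P ≤ (S : Subgroup G) ⊔ zpowers t ∧ ¬ P ≤ centralizer ({z} : Set G) := by
  set L : Subgroup G := (S : Subgroup G) ⊔ zpowers t with hL
  have hLM : L ≤ M := sup_le hM.le (zpowers_le.2 htM)
  have hSL : (S : Subgroup G) ≤ L := le_sup_left
  have htL : t ∈ L := (le_sup_right : zpowers t ≤ L) (mem_zpowers t)
  have hl : IsLoc (S : Subgroup G) L := hM.of_le S hSL hLM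
  have hSz : (S : Subgroup G) ≤ centralizer ({z} : Set G) := fun s hs => by
    rw [mem_centralizer_singleton_iff]
    exact (MinSimple.VModule.mem_zc.1 hz).2.1 s hs
  -- `K = ⟨P(L, S)⟩`
  set K : Subgroup G := (S : Subgroup G) ⊔ sSup {P : Subgroup G | IsPar (S : Subgroup G) P ∧ P ≤ L} with hK
  have hKn : L ≤ normalizer (K : Set G) := by
    refine hl.le_of_forall S ?_ fun P hP hPL => ?_
    · have key : ∀ n ∈ L ⊓ normalizer ((S : Subgroup G) : Set G), ∀ k ∈ K, n * k * n⁻¹ ∈ K := by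
        intro n hn
        have h1 : K ≤ K.comap (MulAut.conj n).toMonoidHom := by
          refine sup_le (fun s hs => ?_) (sSup_le fun P hP x hx => ?_)
          · exact (le_sup_left : (S : Subgroup G) ≤ K) ((mem_normalizer_iff.1 hn.2 s).1 hs)
          · have h3 : P.map (MulAut.conj n).toMonoidHom ≤ L := by
              rintro _ ⟨y, hy, rfl⟩
              exact mul_mem (mul_mem hn.1 (hP.2 hy)) (inv_mem hn.1)
            have h4 : P.map (MulAut.conj n).toMonoidHom ≤ K :=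
              (le_sSup (show P.map (MulAut.conj n).toMonoidHom ∈
                {P : Subgroup G | IsPar (S : Subgroup G) P ∧ P ≤ L} from ⟨isPar_conj hP.1 hn.2, h3⟩)).trans le_sup_right
            exact h4 ⟨x, hx, rfl⟩
        exact fun k hk => h1 hk
      intro n hn
      rw [mem_normalizer_iff]
      refine fun k => ⟨key n hn k, fun hk => ?_⟩
      have h1 := key n⁻¹ (inv_mem hn) _ hk
      have e : n⁻¹ * (n * k * n⁻¹) * n⁻¹⁻¹ = k := by group
      rwa [e] at h1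
    · exact ((le_sSup (show P ∈ {P : Subgroup G | IsPar (S : Subgroup G) P ∧ P ≤ L} from ⟨hP, hPL⟩)).trans
        le_sup_right).trans le_normalizer
  have htK : t ∈ K := by
    obtain ⟨m, hm, h1⟩ := CM.exists_conj_le S.isPGroup' (MinSimple.Basic.not_dvd_relIndex S hSL) h2
      (le_sup_right : zpowers t ≤ L)
    have h3 : m * t * m⁻¹ ∈ K := (le_sup_left : (S : Subgroup G) ≤ K) (h1 t (mem_zpowers t))
    exact (mem_normalizer_iff.1 (hKn hm) t).2 h3
  -- some `P ∈ P(S)` in `L` moves `z`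
  obtain ⟨P, hP, hPL, hPz⟩ : ∃ P : Subgroup G, IsPar (S : Subgroup G) P ∧ P ≤ L ∧ ¬ P ≤ centralizer ({z} : Set G) := by
    by_contra hcon
    push Not at hcon
    have h1 : K ≤ centralizer ({z} : Set G) := sup_le hSz (sSup_le fun P hP => hcon P hP.1 hP.2)
    exact ht (mem_centralizer_singleton_iff.1 (h1 htK))
  refine ⟨P, ⟨hP, fun hn => hPz ?_⟩, hPL, hPz⟩
  -- `P ≤ N(Z)` implies `P ≤ C(Z)`
  have hzc : (S : Subgroup G) ≤ centralizer (zc (S : Subgroup G) : Set G) := fun s hs => by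
    rw [mem_centralizer_iff]
    intro y hy
    exact ((MinSimple.VModule.mem_zc.1 hy).2.1 s hs).symm
  have hNn : P ≤ normalizer ((P ⊓ centralizer (zc (S : Subgroup G) : Set G) : Subgroup G) : Set G) := by
    have key : ∀ g ∈ P, ∀ x ∈ P ⊓ centralizer (zc (S : Subgroup G) : Set G),
        g * x * g⁻¹ ∈ P ⊓ centralizer (zc (S : Subgroup G) : Set G) := by
      intro g hg x hx
      refine mem_inf.2 ⟨mul_mem (mul_mem hg hx.1) (inv_mem hg), ?_⟩
      rw [mem_centralizer_iff]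
      intro v hv
      have h3 := mem_centralizer_iff.1 hx.2 _ (TvKind.conj_mem' (hn hg) hv)
      calc v * (g * x * g⁻¹) = g * ((g⁻¹ * v * g) * x) * g⁻¹ := by group
        _ = g * x * g⁻¹ * v := by rw [h3]; group
    intro g hg
    rw [mem_normalizer_iff]
    refine fun x => ⟨key g hg x, fun hx => ?_⟩
    have h1 := key g⁻¹ (inv_mem hg) _ hx
    have e : g⁻¹ * (g * x * g⁻¹) * g⁻¹⁻¹ = x := by group
    rwa [e] at h1
  rcases hP.sup_eq_or_inf_le S inf_le_left hNn with h1 | h1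
  · rw [← h1]
    refine sup_le (inf_le_right.trans (centralizer_le ?_)) hSz
    exact Set.singleton_subset_iff.2 hz
  · exfalso
    apply hP.toIsMinPar.not_le
    have h3 : (S : Subgroup G) ≤ o2 P := (le_inf le_rfl (le_inf hP.le hzc)).trans h1
    have h4 : o2 P ≤ (S : Subgroup G) := hP.isLoc.o2_le S
    have h5 : o2 P = (S : Subgroup G) := le_antisymm h4 h3
    rw [← h5]
    exact Cfsg.Agent.ZN.le_normalizer_o2 P

/-! ### The theorem -/

/-- the 2-part of an element which acts as a swap -/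
theorem exists_two_part [Finite G] {Ω : Type*} [Fintype Ω] [DecidableEq Ω] {φ : Finset Ω → G} {t : G} {x p : Ω}
    (h : Rel φ t (Equiv.swap x p)) : ∃ m : ℕ, IsPGroup 2 (zpowers (t ^ m)) ∧ Rel φ (t ^ m) (Equiv.swap x p) := by
  obtain ⟨k, m, hm, hk⟩ := Nat.exists_eq_two_pow_mul_odd (orderOf_pos t).ne'
  refine ⟨m, ?_, ?_⟩
  · refine IsPGroup.iff_card.2 ⟨k, ?_⟩
    rw [Nat.card_zpowers, orderOf_pow' t hm.pos.ne', hk, Nat.gcd_mul_left_left]
    exact Nat.mul_div_cancel _ hm.pos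
  · have h1 := h.pow m
    obtain ⟨j, rfl⟩ := hm
    have h2 : Equiv.swap x p ^ (2 * j + 1) = Equiv.swap x p := by
      rw [pow_succ, pow_mul, pow_two, Equiv.swap_mul_self, one_pow, one_mul]
    rwa [h2] at h1

variable {I : Type u} {N E : I → Subgroup G} {R₀ : Subgroup G}
  {Om : I → Type u} [∀ i, Fintype (Om i)] [∀ i, DecidableEq (Om i)] {phi : ∀ i, Finset (Om i) → G}

/-- a component `≠ 1` -/
theorem exists_comp [Finite I] {S M V : Subgroup G} (F : TvFin.Full S M V N E R₀ Om phi) {z : G} (hz : z ∈ V)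
    (hzR : z ∉ R₀) : ∃ (b : I) (s : Finset (Om b)), Even s.card ∧ s ≠ ∅ ∧ IsC N R₀ b z (phi b s) := by
  by_contra hcon
  push Not at hcon
  apply hzR
  obtain ⟨y, hy, r, hr, rfl⟩ := RZ.TwoC.DecE.ex_mul F.toDec hz
  have h1 : y = 1 := by
    refine F.toDec.ext hy (one_mem _) fun b => ?_
    obtain ⟨n, hn⟩ := F.toDec.ex_comp b (RZ.TwoC.DecE.B_le F.toDec hy)
    obtain ⟨s, hs, rfl⟩ := ((F.lett b).mem n).1 hn.1
    have h2 : IsC N R₀ b (y * r) (phi b s) := by
      have h3 := F.toDec.comp_mul hn (F.toDec.comp_one (F.toDec.R_le_Co b hr))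
      rwa [mul_one] at h3
    have h3 : s = ∅ := by
      by_contra h4
      exact hcon b s hs (Finset.nonempty_iff_ne_empty.2 h4) h2
    subst h3
    rw [(F.lett b).phi_empty] at hn
    exact ⟨1, hn, F.toDec.comp_one (one_mem _)⟩
  rw [h1, one_mul]
  exact hr

/-- **`z ∈ C_V(S)`, `z ∉ R₀`: some `P ∈ P*(S)` in `M` moves `z` and does not permute the transvections in `S`.** -/
theorem exists_move [Finite G] [Finite I] {S : Sylow 2 G} {M V : Subgroup G}
    (F : TvFin.Full (S : Subgroup G) M V N E R₀ Om phi) (hM : IsLoc (S : Subgroup G) M) {z : G}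
    (hz : z ∈ zc (S : Subgroup G)) (hzV : z ∈ V) (hzR : z ∉ R₀) :
    ∃ P, IsParS (S : Subgroup G) P ∧ P ≤ M ∧ ¬ P ≤ centralizer ({z} : Set G) ∧
      ¬ ∀ g ∈ P, ∀ t, Trs (S : Subgroup G) V t → Trs (S : Subgroup G) V (g * t * g⁻¹) := by
  obtain ⟨b, s, hs, hs0, hc⟩ := exists_comp F hzV hzR
  obtain ⟨p, hp, hnp⟩ := exists_p F b
  have hsu : s ≠ Finset.univ := by
    rintro rfl
    rw [Finset.card_univ] at hs
    exact (Nat.not_even_iff_odd.2 (F.lett b).odd) hs
  obtain ⟨x, hxp, hx⟩ : ∃ x, x ≠ p ∧ ¬ (x ∈ s ↔ p ∈ s) := by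
    by_cases hps : p ∈ s
    · obtain ⟨x, hx⟩ : ∃ x, x ∉ s := by
        by_contra hcon
        push Not at hcon
        exact hsu (Finset.eq_univ_of_forall hcon)
      exact ⟨x, fun e => hx (e ▸ hps), by tauto⟩
    · obtain ⟨x, hx⟩ := Finset.nonempty_iff_ne_empty.2 hs0
      exact ⟨x, fun e => hps (e ▸ hx), by tauto⟩
  obtain ⟨t₀, ht₀, hrel₀⟩ := (F.lett b).all (Equiv.swap x p)
  obtain ⟨m, h2, hrel⟩ := exists_two_part hrel₀
  set t := t₀ ^ m with ht
  have htE : t ∈ E b := pow_mem ht₀ m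
  -- `t` moves `z`
  have htz : t * z ≠ z * t := by
    intro h1
    have h3 := F.toDec.comp_conj (F.toDec.EL b htE) (RZ.TwoC.DecE.smul_of_norm (F.toDec.EN b htE)) hc
    have h4 : t * z * t⁻¹ = z := by rw [h1]; group
    rw [h4, hrel s hs] at h3
    have h5 := (F.lett b).phi_inj (by rw [Finset.card_map]; exact hs) hs (F.toDec.uniq h3 hc)
    exact hx ((TvKind.map_swap_eq_iff hxp).1 h5)
  obtain ⟨P, hP, hPL, hPz⟩ := exists_par hM (F.toDec.EL b htE) h2 hz htz
  refine ⟨P, hP, hPL.trans (sup_le hM.le (zpowers_le.2 (F.toDec.EL b htE))), hPz, fun hcon => hPz fun g hg => ?_⟩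
  rw [mem_centralizer_singleton_iff]
  refine mul_inv_eq_iff_eq_mul.1 (cent_of_inact F hp (hnp x hxp) htE hrel hPL hcon hzV (fun s hs => ?_) hg)
  rw [(MinSimple.VModule.mem_zc.1 hz).2.1 s hs, mul_inv_cancel_right]

open Cfsg.Agent.Omega.NOThreeL.Merge (MZ S_le_MZ isLoc_MZ)
open Cfsg.Agent.Omega.NOThreeL.RTree (RB)
open Cfsg.Agent.Omega.NOThreeL.RRed.FourTree (Bks)

/-- **(B2)**: `z ∈ Z`, `z ∉ R₀`: some active `P ∈ P*(S)` moves `z`. -/
theorem act_of [Finite G] [Finite I] {S : Sylow 2 G} (h : RB S) (hB : Bks S N E R₀ Om phi) {z : G}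
    (hz : z ∈ zc (S : Subgroup G)) (hzR : z ∉ R₀) :
    ∃ P, IsParS (S : Subgroup G) P ∧ ¬ P ≤ centralizer ({z} : Set G) ∧
      ∃ A ≤ (S : Subgroup G), Mx (Wd (S : Subgroup G)) A ∧ ¬ A ≤ o2 P := by
  have F := hB.toFull
  obtain ⟨P, hP, hPM, hPz, hn⟩ := exists_move F (isLoc_MZ h.ctx h.full h.data.noff) hz
    (MinSimple.VModule.zc_le_zl _ _ hz) hzR
  refine ⟨P, hP, hPz, ?_⟩
  by_contra hcon
  push Not at hcon
  refine hn fun g hg t ht => ?_
  obtain ⟨htS, htn, c, hc, hT⟩ := ht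
  have hMV : MZ (S : Subgroup G) ≤ normalizer (Wd (S : Subgroup G) : Set G) :=
    MinSimple.VModule.le_normalizer_zl _ _
  have hno := RZ.TwoE.Tv.no_of_tvS h htS hc hT htn
  have h1 : Mx (Wd (S : Subgroup G)) (zpowers t) := RZ.TwoE.Tv.tv_mx hno (S_le_MZ h.ctx h.full htS)
    (S.isPGroup'.to_le (zpowers_le.2 htS)) hc (EOne.Vsq h) hT htn
  have h2 : t ∈ o2 P := hcon _ (zpowers_le.2 htS) h1 (mem_zpowers t)
  have h3 : g * t * g⁻¹ ∈ o2 P := (mem_normalizer_iff.1 (Cfsg.Agent.ZN.le_normalizer_o2 P hg) t).1 h2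
  exact trs_conj (hMV (hPM hg)) ⟨htS, htn, c, hc, hT⟩ (hP.isLoc.o2_le S h3)

end Cfsg.Agent.Omega.NOThreeL.RRed.TvActP
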