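import Cfsg.Agent.Omega.Transv.Basic

/-!
# The block theorem for transvections over `𝔽₂` (#18552 (c), helper930): combinatorial part

`V` an `𝔽₂`-space, `R` a set of pairs `p = (c, f)`, `f c = 0` (think of the transvections `x ↦ x + f x • c` of a
group), `B p q = p.2 q.1`.

* `Sys0 R` : `R` is closed under conjugation and a commuting family of independent members of `R` has independent
  axes (no over-offenders); `Sys0.sym` : `B p q = B q p`;
* `Sys R` : moreover members with the same centre are equal, no member commutes with all others, and a functional which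
  vanishes on the centres and on `C_V(F)` for a commuting family `F` is zero;
* `Star R K` : a maximal set of pairwise non-commuting members of `R` which does not contain the sum of two of its
  members; `cl K = K ∪ {k + k'}`; `Star.closed` : `cl K` is a connected component; `Star.even` : `|K|` is even.
-/

set_option autoImplicit false

namespace Cfsg.Agent.Omega.NOThreeL.RRed.TvBlk

open Cfsg.Agent.Omega.Transv

variable {V : Type*} [AddCommGroup V] [Module (ZMod 2) V]

/-- pairs (centre, axis) -/
abbrev W (V : Type*) [AddCommGroup V] [Module (ZMod 2) V] : Type _ := V × Du V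

/-- the pairing -/
def B (p q : W V) : ZMod 2 := p.2 q.1

theorem B_add_left (p p' q : W V) : B (p + p') q = B p q + B p' q := rfl

theorem B_add_right (p q q' : W V) : B p (q + q') = B p q + B p q' := by
  simp [B]

theorem W_add_self (p : W V) : p + p = 0 := add_self p

theorem W_add_cancel {p q r : W V} (h : p + q = r) : p = r + q := by
  rw [← h, add_assoc, add_self, add_zero]

/-- The combinatorial hypotheses, first part. -/
structure Sys0 (R : Set (W V)) : Prop where
  ne1 : ∀ p ∈ R, p.1 ≠ 0
  ne2 : ∀ p ∈ R, p.2 ≠ 0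
  self : ∀ p ∈ R, B p p = 0
  conj : ∀ p ∈ R, ∀ q ∈ R, (q.1 + B p q • p.1, q.2 + B q p • p.2) ∈ R
  ex : ∀ (n : ℕ) (p : Fin n → W V), (∀ i, p i ∈ R) → (∀ i j, B (p i) (p j) = 0) →
    (∀ a : Fin n → ZMod 2, (∀ x, ∑ i, a i • (p i).2 x • (p i).1 = 0) → a = 0) →
    ∀ a : Fin n → ZMod 2, ∑ i, a i • (p i).2 = 0 → a = 0

/-- The combinatorial hypotheses. -/
structure Sys (R : Set (W V)) : Prop extends Sys0 R where
  uf : ∀ p ∈ R, ∀ q ∈ R, p.1 = q.1 → p = q
  nd : ∀ p ∈ R, ∃ q ∈ R, B p q ≠ 0
  gen : ∀ (n : ℕ) (p : Fin n → W V), (∀ i, p i ∈ R) → (∀ i j, B (p i) (p j) = 0) →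
    ∀ h : Du V, (∀ q ∈ R, h q.1 = 0) → (∀ v, (∀ i, (p i).2 v = 0) → h v = 0) → h = 0

namespace Sys0

variable {R : Set (W V)} (h : Sys0 R)
include h

/-- two members with the same axis are equal -/
theorem axis {p q : W V} (hp : p ∈ R) (hq : q ∈ R) (he : p.2 = q.2) : p = q := by
  by_contra hne
  have hc : p.1 ≠ q.1 := fun hc => hne (Prod.ext hc he)
  have hpq : B p q = 0 := by
    show p.2 q.1 = 0
    rw [he]; exact h.self q hq
  have hqp : B q p = 0 := by
    show q.2 p.1 = 0
    rw [← he]; exact h.self p hp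
  obtain ⟨x, hx⟩ := exists_one (h.ne2 p hp)
  have hx' : q.2 x = 1 := by rw [← he]; exact hx
  have key := h.ex 2 ![p, q] (by intro i; fin_cases i <;> simp [hp, hq])
    (by intro i j; fin_cases i <;> fin_cases j <;> simp [hpq, hqp, h.self p hp, h.self q hq]) (by
      intro a ha
      have h1 := ha x
      rw [Fin.sum_univ_two] at h1
      simp only [Matrix.cons_val_zero, Matrix.cons_val_one, hx, hx', one_smul] at h1
      rcases zmod_cases (a 0) with h0 | h0 <;> rcases zmod_cases (a 1) with h2 | h2
      · ext i; fin_cases i <;> simp [h0, h2]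
      · rw [h0, h2, zero_smul, one_smul, zero_add] at h1; exact absurd h1 (h.ne1 q hq)
      · rw [h0, h2, zero_smul, one_smul, add_zero] at h1; exact absurd h1 (h.ne1 p hp)
      · rw [h0, h2, one_smul, one_smul] at h1; exact absurd (eq_of_add h1) hc)
    (fun _ => 1) (by
      rw [Fin.sum_univ_two]
      simp only [Matrix.cons_val_zero, Matrix.cons_val_one, one_smul, he]
      exact add_self _)
  have := congrFun key 0
  exact one_ne this

theorem sym_aux {p q : W V} (hp : p ∈ R) (hq : q ∈ R) (h1 : B p q = 1) : B q p = 1 := by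
  by_contra hne
  have h0 : B q p = 0 := eq_zero_of_ne hne
  have h2 := h.conj p hp q hq
  rw [h1, h0, one_smul, zero_smul, add_zero] at h2
  have h3 := h.axis hq h2 rfl
  have h4 : q.1 = q.1 + p.1 := congrArg Prod.fst h3
  exact h.ne1 p hp (by simpa using h4)

/-- the pairing is symmetric -/
theorem sym {p q : W V} (hp : p ∈ R) (hq : q ∈ R) : B p q = B q p := by
  rcases zmod_cases (B p q) with h0 | h1
  · rcases zmod_cases (B q p) with h2 | h2
    · rw [h0, h2]
    · have := h.sym_aux hq hp h2
      rw [h0] at this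
      exact absurd this.symm one_ne
  · rw [h1, h.sym_aux hp hq h1]

theorem add_mem {p q : W V} (hp : p ∈ R) (hq : q ∈ R) (h1 : B p q ≠ 0) : p + q ∈ R := by
  have h1' : B p q = 1 := eq_one_of_ne h1
  have h2 : B q p = 1 := h.sym_aux hp hq h1'
  have h3 := h.conj q hq p hp
  rw [h1', h2, one_smul, one_smul] at h3
  exact h3

theorem ne_zero {p : W V} (hp : p ∈ R) : p ≠ 0 := fun h0 => h.ne1 p hp (by rw [h0]; rfl)

theorem ne_of_B {p q : W V} (hp : p ∈ R) (h1 : B p q ≠ 0) : p ≠ q := by
  rintro rfl
  exact h1 (h.self p hp)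

end Sys0

namespace Sys

variable {R : Set (W V)} (h : Sys R)
include h

/-- three different pairwise commuting members do not all fail to commute with `b` -/
theorem no_triple {b p q r : W V} (hb : b ∈ R) (hp : p ∈ R) (hq : q ∈ R) (hr : r ∈ R) (bp : B b p = 1)
    (bq : B b q = 1) (br : B b r = 1) (pq : B p q = 0) (pr : B p r = 0) (qr : B q r = 0) (npq : p ≠ q) (npr : p ≠ r)
    (nqr : q ≠ r) : False := by
  have pb : B p b = 1 := h.sym_aux hb hp bp
  have qb : B q b = 1 := h.sym_aux hb hq bq
  have rb : B r b = 1 := h.sym_aux hb hr br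
  have qp : B q p = 0 := by rw [← h.sym hp hq]; exact pq
  have rp : B r p = 0 := by rw [← h.sym hp hr]; exact pr
  have rq : B r q = 0 := by rw [← h.sym hq hr]; exact qr
  have bb := h.self b hb
  have pp := h.self p hp
  have qq := h.self q hq
  have rr := h.self r hr
  have s1 : b + p ∈ R := h.add_mem hb hp (by rw [bp]; exact one_ne)
  have s2 : b + p + q ∈ R := h.add_mem s1 hq (by rw [B_add_left, bq, pq, add_zero]; exact one_ne)
  have s3 : b + p + q + r ∈ R :=
    h.add_mem s2 hr (by rw [B_add_left, B_add_left, br, pr, qr, add_zero, add_zero]; exact one_ne)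
  have s4 : b + (b + p + q + r) ∈ R := h.add_mem hb s3 (by
    rw [B_add_right, B_add_right, B_add_right, bb, bp, bq, br]; decide)
  have e4 : b + (b + p + q + r) = p + q + r := by
    have : b + (b + p + q + r) = (b + b) + (p + q + r) := by abel
    rw [this, W_add_self, zero_add]
  rw [e4] at s4
  set s := p + q + r with hs
  -- a vector with prescribed values of three functionals
  have dual : ∀ p q r : W V, p ∈ R → q ∈ R → r ∈ R → B p b = 1 → B q b = 1 → B r b = 1 → p ≠ q → p ≠ r →
      ∃ x, p.2 x = 1 ∧ q.2 x = 0 ∧ r.2 x = 0 := by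
    intro p q r hp hq hr pb qb rb npq npr
    by_contra hc
    push Not at hc
    have h1 : ⨅ i, LinearMap.ker ((![q.2, r.2] : Fin 2 → Du V) i) ≤ LinearMap.ker p.2 := by
      intro x hx
      rw [Submodule.mem_iInf] at hx
      have hx0 : q.2 x = 0 := hx 0
      have hx1 : r.2 x = 0 := hx 1
      rw [LinearMap.mem_ker]
      by_contra hne
      exact hc x (eq_one_of_ne hne) hx0 hx1
    have h2 := mem_span_of_iInf_ker_le_ker h1
    rw [Submodule.mem_span_range_iff_exists_fun] at h2
    obtain ⟨c, hc2⟩ := h2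
    rw [Fin.sum_univ_two] at hc2
    simp only [Matrix.cons_val_zero, Matrix.cons_val_one] at hc2
    have h3 : c 0 + c 1 = 1 := by
      have := congrArg (fun f : Du V => f b.1) hc2
      simp only [LinearMap.add_apply, LinearMap.smul_apply, smul_eq_mul] at this
      have e1 : q.2 b.1 = 1 := qb
      have e2 : r.2 b.1 = 1 := rb
      have e3 : p.2 b.1 = 1 := pb
      rw [e1, e2, e3, mul_one, mul_one] at this
      exact this
    rcases zmod_cases (c 0) with h0 | h0
    · rw [h0, zero_add] at h3
      rw [h0, h3, zero_smul, one_smul, zero_add] at hc2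
      exact npr (h.axis hr hp hc2).symm
    · have h4 : c 1 = 0 := by
        rw [h0] at h3
        simpa using h3
      rw [h0, h4, zero_smul, one_smul, add_zero] at hc2
      exact npq (h.axis hq hp hc2).symm
  obtain ⟨x1, x1p, x1q, x1r⟩ := dual p q r hp hq hr pb qb rb npq npr
  obtain ⟨x2, x2q, x2p, x2r⟩ := dual q p r hq hp hr qb pb rb npq.symm nqr
  obtain ⟨x3, x3r, x3p, x3q⟩ := dual r p q hr hp hq rb pb qb npr.symm nqr.symm
  have hs2 : ∀ x, s.2 x = p.2 x + q.2 x + r.2 x := fun x => rfl
  have hs1 : s.1 = p.1 + q.1 + r.1 := rfl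
  have key := h.ex 4 ![p, q, r, s] (by intro i; fin_cases i <;> simp [hp, hq, hr, s4])
    (by
      intro i j
      fin_cases i <;> fin_cases j <;>
        simp [hs, B_add_left, B_add_right, pq, pr, qr, qp, rp, rq, pp, qq, rr]) (by
      intro a ha
      have e1 := ha x1
      have e2 := ha x2
      have e3 := ha x3
      simp only [Fin.sum_univ_four, Matrix.cons_val_zero, Matrix.cons_val_one, Matrix.cons_val, hs2, x1p, x1q, x1r,
        x2p, x2q, x2r, x3p, x3q, x3r, add_zero, zero_add, one_smul, zero_smul, smul_zero] at e1 e2 e3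
      have hs0 : s.1 ≠ 0 := h.ne1 s s4
      have a3 : a 3 = 0 := by
        by_contra hne
        have h3 := eq_one_of_ne hne
        rw [h3, one_smul] at e1
        have c0 : a 0 = 1 := by
          refine eq_one_of_ne fun h0 => hs0 ?_
          rw [h0, zero_smul, zero_add] at e1
          exact e1
        rw [c0, one_smul] at e1
        have e4 : p = s := h.uf p hp s s4 (eq_of_add e1)
        have e5 : q + r = 0 := by
          have : p = p + (q + r) := by rw [← add_assoc]; exact e4
          simpa using this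
        exact nqr (eq_of_add e5)
      rw [a3, zero_smul, add_zero] at e1 e2 e3
      have c0 : a 0 = 0 := by
        by_contra hne
        rw [eq_one_of_ne hne, one_smul] at e1
        exact h.ne1 p hp e1
      have c1 : a 1 = 0 := by
        by_contra hne
        rw [eq_one_of_ne hne, one_smul] at e2
        exact h.ne1 q hq e2
      have c2 : a 2 = 0 := by
        by_contra hne
        rw [eq_one_of_ne hne, one_smul] at e3
        exact h.ne1 r hr e3
      ext i
      fin_cases i <;> simp [c0, c1, c2, a3])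
    (fun _ => 1) (by
      rw [Fin.sum_univ_four]
      simp only [Matrix.cons_val_zero, Matrix.cons_val_one, Matrix.cons_val, one_smul]
      exact add_self _)
  have := congrFun key 0
  exact one_ne this

end Sys

/-- pairwise non-commuting members, no sum of two of them -/
structure Pre (R K : Set (W V)) : Prop where
  sub : K ⊆ R
  one : ∀ k ∈ K, ∀ k' ∈ K, k ≠ k' → B k k' = 1
  sum : ∀ k ∈ K, ∀ k' ∈ K, k ≠ k' → k + k' ∉ K

/-- a maximal such set -/
structure Star (R K : Set (W V)) : Prop extends Pre R K where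
  ne : K.Nonempty
  max : ∀ L, Pre R L → K ⊆ L → L ⊆ K

/-- the transpositions on the letters `none`, `some k` (`k ∈ K`) -/
def cl (K : Set (W V)) : Set (W V) := {x | x ∈ K ∨ ∃ k ∈ K, ∃ k' ∈ K, k ≠ k' ∧ x = k + k'}

theorem exists_star [Finite V] {R : Set (W V)} {p : W V} (hp : p ∈ R) : ∃ K, Star R K ∧ p ∈ K := by
  have : Finite (Du V) := Finite.of_injective (fun f : Du V => (f : V → ZMod 2)) DFunLike.coe_injective
  have hpre : Pre R ({p} : Set (W V)) := by
    refine ⟨by simpa using hp, ?_, ?_⟩
    · intro k hk k' hk' hne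
      exact absurd (hk.trans hk'.symm) hne
    · intro k hk k' hk' hne
      exact absurd (hk.trans hk'.symm) hne
  obtain ⟨K, hK, hmax⟩ := Set.exists_max_image {L : Set (W V) | Pre R L ∧ p ∈ L} Set.ncard (Set.toFinite _)
    ⟨{p}, hpre, rfl⟩
  refine ⟨K, ⟨hK.1, ⟨p, hK.2⟩, fun L hL hKL => ?_⟩, hK.2⟩
  have h1 := hmax L ⟨hL, hKL hK.2⟩
  exact (Set.eq_of_subset_of_ncard_le hKL h1 (Set.toFinite _)).symm.le

namespace Star

variable {R K : Set (W V)} (h : Sys R) (hK : Star R K)
include h hK

theorem cl_sub : cl K ⊆ R := by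
  rintro x (hx | ⟨k, hk, k', hk', hne, rfl⟩)
  · exact hK.sub hx
  · exact h.add_mem (hK.sub hk) (hK.sub hk') (by rw [hK.one k hk k' hk' hne]; exact one_ne)

/-- a member which commutes with no member of `K` -/
theorem all {q : W V} (hq : q ∈ R) (h1 : ∀ k ∈ K, B k q = 1) : q ∈ cl K := by
  by_contra hcl
  have hqK : q ∉ K := fun hc => hcl (Or.inl hc)
  have h2 : ∀ k ∈ K, B q k = 1 := fun k hk => by rw [h.sym hq (hK.sub hk)]; exact h1 k hk
  have key : Pre R (insert q K) := by
    refine ⟨Set.insert_subset hq hK.sub, ?_, ?_⟩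
    · rintro k (rfl | hk) k' (rfl | hk') hne
      · exact absurd rfl hne
      · exact h2 k' hk'
      · exact h1 k hk
      · exact hK.one k hk k' hk' hne
    · rintro k (rfl | hk) k' (rfl | hk') hne
      · exact absurd rfl hne
      · rintro (hc | hc)
        · have : k' = 0 := by simpa using hc
          exact h.ne_zero (hK.sub hk') this
        · apply hcl
          refine Or.inr ⟨k + k', hc, k', hk', ?_, ?_⟩
          · intro he
            have : k = 0 := by simpa using he
            exact h.ne_zero hq this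
          · rw [add_assoc, W_add_self, add_zero]
      · rintro (hc | hc)
        · have : k = 0 := by simpa using hc
          exact h.ne_zero (hK.sub hk) this
        · apply hcl
          refine Or.inr ⟨k + k', hc, k, hk, ?_, ?_⟩
          · intro he
            have : k' = 0 := by simpa using he
            exact h.ne_zero hq this
          · rw [add_comm k k', add_assoc, W_add_self, add_zero]
      · rintro (hc | hc)
        · exact hcl (Or.inr ⟨k, hk, k', hk', hne, hc.symm⟩)
        · exact hK.sum k hk k' hk' hne hc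
  exact hqK (hK.max _ key (Set.subset_insert _ _) (Set.mem_insert _ _))

/-- `cl K` is closed under 'does not commute' -/
theorem closed {x q : W V} (hx : x ∈ cl K) (hq : q ∈ R) (hxq : B x q ≠ 0) : q ∈ cl K := by
  obtain ⟨k0, hk0, h0⟩ : ∃ k ∈ K, B k q = 1 := by
    rcases hx with hx | ⟨k, hk, k', hk', -, rfl⟩
    · exact ⟨x, hx, eq_one_of_ne hxq⟩
    · rw [B_add_left] at hxq
      rcases zmod_cases (B k q) with h1 | h1
      · rw [h1, zero_add] at hxq
        exact ⟨k', hk', eq_one_of_ne hxq⟩
      · exact ⟨k, hk, h1⟩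
  by_cases hall : ∀ k ∈ K, B k q = 1
  · exact hK.all h hq hall
  push Not at hall
  obtain ⟨k1, hk1, h1⟩ := hall
  have h1 : B k1 q = 0 := eq_zero_of_ne h1
  by_cases hqK : q ∈ K
  · exact Or.inl hqK
  have n01 : k0 ≠ k1 := by
    rintro rfl
    rw [h0] at h1
    exact one_ne h1
  have b01 : B k0 k1 = 1 := hK.one k0 hk0 k1 hk1 n01
  have b10 : B k1 k0 = 1 := hK.one k1 hk1 k0 hk0 n01.symm
  by_cases h2 : ∃ k2 ∈ K, k2 ≠ k0 ∧ B k2 q = 1
  · obtain ⟨k2, hk2, n20, h2⟩ := h2
    have n21 : k2 ≠ k1 := by
      rintro rfl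
      rw [h2] at h1
      exact one_ne h1
    by_cases he : q = k2 + k0
    · exact Or.inr ⟨k2, hk2, k0, hk0, n20, he⟩
    exfalso
    have b02 : B k0 k2 = 1 := hK.one k0 hk0 k2 hk2 n20.symm
    have b12 : B k1 k2 = 1 := hK.one k1 hk1 k2 hk2 n21.symm
    have b20 : B k2 k0 = 1 := hK.one k2 hk2 k0 hk0 n20
    have hs : k2 + k0 ∈ R := h.add_mem (hK.sub hk2) (hK.sub hk0) (by rw [b20]; exact one_ne)
    refine h.no_triple (b := k0) (p := q) (q := k1) (r := k2 + k0) (hK.sub hk0) hq (hK.sub hk1) hs h0 b01 ?_ ?_ ?_ ?_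
      ?_ he ?_
    · rw [B_add_right, b02, h.self k0 (hK.sub hk0), add_zero]
    · rw [h.sym hq (hK.sub hk1)]; exact h1
    · rw [B_add_right, h.sym hq (hK.sub hk2), h.sym hq (hK.sub hk0), h2, h0]; decide
    · rw [B_add_right, b12, b10]; decide
    · rintro rfl; exact hqK hk1
    · intro hc
      exact hK.sum k2 hk2 k0 hk0 n20 (hc ▸ hk1)
  · exfalso
    push Not at h2
    have h2' : ∀ k ∈ K, k ≠ k0 → B k q = 0 := fun k hk hne => eq_zero_of_ne (h2 k hk hne)
    have hb : B q k0 = 1 := by rw [h.sym hq (hK.sub hk0)]; exact h0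
    have hs : q + k0 ∈ R := h.add_mem hq (hK.sub hk0) (by rw [hb]; exact one_ne)
    have hone : ∀ k ∈ K, B k (q + k0) = 1 := by
      intro k hk
      rw [B_add_right]
      by_cases hkk : k = k0
      · rw [hkk, h0, h.self k0 (hK.sub hk0), add_zero]
      · rw [h2' k hk hkk, hK.one k hk k0 hk0 hkk, zero_add]
    rcases hK.all h hs hone with hc | ⟨k, hk, k', hk', hne, he⟩
    · have h3 := hone _ hc
      rw [h.self _ hs] at h3
      exact one_ne h3.symm
    · have h3 : k0 = k ∨ k0 = k' := by
        by_contra hc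
        push Not at hc
        have h4 := hone k0 hk0
        rw [he, B_add_right, hK.one k0 hk0 k hk hc.1, hK.one k0 hk0 k' hk' hc.2] at h4
        exact one_ne (by rw [← h4]; decide)
      have h5 : q = k + k' + k0 := W_add_cancel he
      rcases h3 with rfl | rfl
      · apply hqK
        rw [h5, add_comm k0 k', add_assoc, W_add_self, add_zero]
        exact hk'
      · apply hqK
        rw [h5, add_assoc, W_add_self, add_zero]
        exact hk

/-- `cl K` is connected -/
theorem sub_of_closed {D : Set (W V)} (hD : ∀ x ∈ D, ∀ q ∈ R, B x q ≠ 0 → q ∈ D) {x : W V} (hx : x ∈ cl K)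
    (hxD : x ∈ D) : cl K ⊆ D := by
  obtain ⟨k, hk, hkD⟩ : ∃ k ∈ K, k ∈ D := by
    rcases hx with hx | ⟨k, hk, k', hk', hne, rfl⟩
    · exact ⟨x, hx, hxD⟩
    · refine ⟨k, hk, hD _ hxD k (hK.sub hk) ?_⟩
      rw [B_add_left, h.self k (hK.sub hk), zero_add, hK.one k' hk' k hk hne.symm]
      exact one_ne
  have h1 : ∀ k' ∈ K, k' ∈ D := by
    intro k' hk'
    by_cases he : k = k'
    · rw [← he]; exact hkD
    · exact hD k hkD k' (hK.sub hk') (by rw [hK.one k hk k' hk' he]; exact one_ne)
  rintro y (hy | ⟨k', hk', k'', hk'', hne, rfl⟩)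
  · exact h1 y hy
  · refine hD k' (h1 k' hk') _ (h.add_mem (hK.sub hk') (hK.sub hk'')
      (by rw [hK.one k' hk' k'' hk'' hne]; exact one_ne)) ?_
    rw [B_add_right, h.self k' (hK.sub hk'), zero_add, hK.one k' hk' k'' hk'' hne]
    exact one_ne

theorem cl_eq {L : Set (W V)} (hL : Star R L) {x : W V} (hx : x ∈ cl K) (hx' : x ∈ cl L) : cl K = cl L :=
  Set.Subset.antisymm (hK.sub_of_closed h (fun _ hy _ hq hb => hL.closed h hy hq hb) hx hx')
    (hL.sub_of_closed h (fun _ hy _ hq hb => hK.closed h hy hq hb) hx' hx)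

theorem eq_zero_of_not_mem {x q : W V} (hx : x ∈ cl K) (hq : q ∈ R) (hn : q ∉ cl K) : B x q = 0 := by
  by_contra hne
  exact hn (hK.closed h hx hq hne)

/-- `|K| ≥ 2` -/
theorem exists_ne (k : W V) (hk : k ∈ K) : ∃ k' ∈ K, k' ≠ k := by
  by_contra hc
  push Not at hc
  obtain ⟨q, hq, hb⟩ := h.nd k (hK.sub hk)
  have hall : ∀ k' ∈ K, B k' q = 1 := fun k' hk' => by rw [hc k' hk']; exact eq_one_of_ne hb
  have hqk : q ≠ k := by
    rintro rfl
    exact hb (h.self _ hq)
  rcases hK.all h hq hall with h1 | ⟨k1, hk1, k2, hk2, hne, -⟩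
  · exact hqk (hc q h1)
  · exact hne ((hc k1 hk1).trans (hc k2 hk2).symm)

end Star

end Cfsg.Agent.Omega.NOThreeL.RRed.TvBlk
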