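import Cfsg.Agent.Omega.NOThreeL.RRed.TvG
import Cfsg.Agent.Omega.NOThreeL.RRed.TvSum
import Cfsg.Agent.Omega.NOThreeL.RRed.Blk.Def
import Cfsg.Agent.Omega.KL.TwoS.Sn

/-!
# The block theorem for transvections over `𝔽₂`: the decomposition in the group (#23943, #24544)

`H : GHyp S V M`, `Blk R blk w tr` for the set `R` of all transvections of `M / C_M(V)` on `V` (`RR`):

* `dec` : `Blk.Dec S M V N E R₀` with `N i` = span of block `i`, `R₀` = common kernel of the axes, `E i` = `M ⊓ C(all other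
  blocks and R₀)`;
* `lett` : `KL.TwoS.Lett (N i) (E i) φ` : the letters of block `i`;
* `exists_dec` : both, from `Sys (RR ..)`.
-/

set_option autoImplicit false
set_option linter.unusedSectionVars false

namespace Cfsg.Agent.Omega.NOThreeL.RRed.TvDec

open Subgroup Cfsg.Agent.Omega.TV Cfsg.Agent.Omega.FFBr
open Cfsg.Agent.Omega.Transv (Du Faith fixS mem_fixS smul_zmod zmod_cases dua dua_apply eq_one_of_ne eq_zero_of_ne
  one_ne add_self eq_of_add)
open Cfsg.Agent.Omega.FFThm (ElemM OffM NoOverM)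
open Cfsg.Agent.Omega.NOThreeL.RRed.TvG
open Cfsg.Agent.Omega.NOThreeL.RRed.TvBlk
open Cfsg.Agent.Omega.NOThreeL.RRed.Blk (Dec Co)
open Cfsg.Agent.Omega.KL.TwoS (Rel Lett)
open scoped Pointwise

universe u

variable {G : Type u} [Group G] {V M : Subgroup G}

section toSub

variable {sq : ∀ x ∈ V, x * x = 1}

theorem gc : GaloisConnection (EA.toSub : Submodule (ZMod 2) (EA V sq) → Subgroup G) EA.ofSub := fun A K =>
  ⟨fun h a ha => h ⟨a, ha, rfl⟩, fun h => by rintro _ ⟨a, ha, rfl⟩; exact h ha⟩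

theorem toSub_top : EA.toSub (⊤ : Submodule (ZMod 2) (EA V sq)) = V := by
  ext x
  constructor
  · rintro ⟨a, -, rfl⟩
    exact a.val_mem
  · intro hx
    exact ⟨EA.mk sq x hx, Submodule.mem_top, rfl⟩

theorem toSub_inf (A B : Submodule (ZMod 2) (EA V sq)) : EA.toSub (A ⊓ B) = EA.toSub A ⊓ EA.toSub B := by
  ext x
  constructor
  · rintro ⟨a, ha, rfl⟩
    exact ⟨⟨a, ha.1, rfl⟩, ⟨a, ha.2, rfl⟩⟩
  · rintro ⟨⟨a, ha, rfl⟩, hx⟩
    exact ⟨a, ⟨ha, EA.val_mem_toSub.1 hx⟩, rfl⟩

theorem toSub_bot : EA.toSub (⊥ : Submodule (ZMod 2) (EA V sq)) = ⊥ := gc.l_bot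

theorem toSub_le (A : Submodule (ZMod 2) (EA V sq)) : EA.toSub A ≤ V := by
  rintro _ ⟨a, -, rfl⟩
  exact a.val_mem

theorem toSub_ne {A : Submodule (ZMod 2) (EA V sq)} (hA : A ≠ ⊥) : EA.toSub A ≠ ⊥ := by
  intro h
  apply hA
  rw [eq_bot_iff]
  intro a ha
  have h1 : a.val ∈ EA.toSub A := ⟨a, ha, rfl⟩
  rw [h, Subgroup.mem_bot, EA.val_eq_one] at h1
  rw [h1]
  exact Submodule.zero_mem _

theorem toSub_co {ι : Type*} (A : ι → Submodule (ZMod 2) (EA V sq)) (K : Submodule (ZMod 2) (EA V sq)) (i : ι) :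
    EA.toSub ((⨆ j : {j // j ≠ i}, A j) ⊔ K) = Co (fun i => EA.toSub (A i)) (EA.toSub K) i := by
  rw [gc.l_sup, gc.l_iSup]
  rfl

end toSub

section aut

variable (sq : ∀ x ∈ V, x * x = 1) (h : M ≤ normalizer (V : Set G))

/-- the automorphism of an element of `M` -/
noncomputable def aut (m : M) : EA V sq ≃ₗ[ZMod 2] EA V sq := EA.crep sq M (fun _ hc _ hn => conj_mem h hc hn) m

theorem val_aut (m : M) (a : EA V sq) : (aut sq h m a).val = (m : G) * a.val * (m : G)⁻¹ := rfl

theorem aut_eq (m : M) (a : EA V sq) : aut sq h m a = pr h m • a := rfl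

theorem symm_eq (m : M) (a : EA V sq) : (aut sq h m).symm a = (pr h m)⁻¹ • a := by
  rw [LinearEquiv.symm_apply_eq, aut_eq, smul_inv_smul]

/-- all transvections -/
def RR : Set (TvBlk.W (EA V sq)) := {p | ∃ d : XX h, Transv.Tv d p.1 p.2}

theorem conj_RR (m : M) : ∀ p ∈ RR sq h, conjW (aut sq h m) p ∈ RR sq h := by
  rintro p ⟨d, hd⟩
  refine ⟨pr h m * d * (pr h m)⁻¹, ?_⟩
  have h1 := hd.conj (pr h m)
  have h2 : (conjW (aut sq h m) p).2 = dua (pr h m) p.2 := by
    ext v
    show p.2 ((aut sq h m).symm v) = p.2 ((pr h m)⁻¹ • v)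
    rw [symm_eq]
  rw [h2]
  exact h1

theorem conj_toSub (m : M) (A : Submodule (ZMod 2) (EA V sq)) :
    MulAut.conj (m : G) • EA.toSub A = EA.toSub (A.map (aut sq h m : EA V sq →ₗ[ZMod 2] EA V sq)) := by
  ext x
  constructor
  · rintro ⟨_, ⟨a, ha, rfl⟩, rfl⟩
    exact ⟨aut sq h m a, ⟨a, ha, rfl⟩, rfl⟩
  · rintro ⟨_, ⟨a, ha, rfl⟩, rfl⟩
    exact ⟨a.val, ⟨a, ha, rfl⟩, rfl⟩

end aut

theorem mem_normalizer_of {K : Subgroup G} {g : G} (h : MulAut.conj g • K = K) : g ∈ normalizer (K : Set G) := by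
  rw [mem_normalizer_iff]
  intro x
  exact RRed.Blk.conj_smul h

section main

variable (sq : ∀ x ∈ V, x * x = 1) (h : M ≤ normalizer (V : Set G))
variable {Pt I : Type u} [Fintype Pt] [Fintype I] [DecidableEq Pt] [DecidableEq I] {blk : Pt → I} {w : Pt → EA V sq}
  {tr : Pt → Pt → TvBlk.W (EA V sq)}

/-- the blocks -/
def N (blk : Pt → I) (w : Pt → EA V sq) (i : I) : Subgroup G := EA.toSub (TvBlk.U blk w i)

/-- the common kernel of the axes -/
def R₀ : Subgroup G := EA.toSub (TvBlk.ker (RR sq h))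

/-- the group of block `i` -/
def E (blk : Pt → I) (w : Pt → EA V sq) (i : I) : Subgroup G :=
  M ⊓ centralizer (Co (N sq blk w) (R₀ sq h) i : Set G)

variable (b : Blk (RR sq h) blk w tr)
include b

theorem sup_eq : (⨆ i, N sq blk w i) ⊔ R₀ sq h = V := by
  have h1 := b.top
  have h2 := congrArg EA.toSub h1
  rw [gc.l_sup, gc.l_iSup, toSub_top] at h2
  exact h2

theorem ind_eq (i : I) : N sq blk w i ⊓ Co (N sq blk w) (R₀ sq h) i = ⊥ := by
  have h1 := congrArg EA.toSub (b.ind i)
  rw [toSub_inf, toSub_co, toSub_bot] at h1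
  exact h1

theorem N_ne (i : I) : N sq blk w i ≠ ⊥ := toSub_ne (b.U_ne i)

theorem Co_le (i : I) : Co (N sq blk w) (R₀ sq h) i ≤ V := by
  refine le_trans ?_ (sup_eq sq h b).le
  exact sup_le ((iSup_le fun c : {c // c ≠ i} => le_iSup (N sq blk w) c.1).trans le_sup_left) le_sup_right

theorem N_inj {i j : I} (e : N sq blk w i = N sq blk w j) : i = j := by
  by_contra hne
  apply N_ne sq h b i
  rw [eq_bot_iff, ← ind_eq sq h b i]
  refine le_inf le_rfl ?_
  rw [e]
  exact (le_iSup (fun c : {c // c ≠ i} => N sq blk w c) ⟨j, fun hc => hne hc.symm⟩).trans le_sup_left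

variable [Finite G]

theorem conj_N (m : M) : ∃ τ : Equiv.Perm I, ∀ i, MulAut.conj (m : G) • N sq blk w i = N sq blk w (τ i) := by
  obtain ⟨τ, hτ⟩ := b.map_U (aut sq h m) (conj_RR sq h m)
  refine ⟨τ, fun i => ?_⟩
  rw [N, conj_toSub sq h, hτ]
  rfl

omit [Fintype I] [Fintype Pt] [DecidableEq Pt] [DecidableEq I] b in
theorem conj_R₀ (m : M) : MulAut.conj (m : G) • R₀ sq h = R₀ sq h := by
  rw [R₀, conj_toSub sq h, Blk.map_ker (aut sq h m) (conj_RR sq h m)]

omit [Fintype I] [Fintype Pt] [DecidableEq Pt] [DecidableEq I] b [Finite G] in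
theorem mem_E {i : I} {x : G} : x ∈ E sq h blk w i ↔ x ∈ M ∧ (∀ j, j ≠ i → ∀ n ∈ N sq blk w j, x * n * x⁻¹ = n) ∧
    ∀ r ∈ R₀ sq h, x * r * x⁻¹ = r := by
  have key : ∀ K : Subgroup G, K ≤ centralizer ({x} : Set G) ↔ ∀ n ∈ K, x * n * x⁻¹ = n := by
    intro K
    constructor
    · intro hK n hn
      have := mem_centralizer_singleton_iff.1 (hK hn)
      rw [← this]; group
    · intro hK n hn
      rw [mem_centralizer_singleton_iff]
      have := hK n hn
      calc n * x = (x * n * x⁻¹) * x := by rw [this]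
        _ = x * n := by group
  have h1 : x ∈ centralizer (Co (N sq blk w) (R₀ sq h) i : Set G) ↔
      Co (N sq blk w) (R₀ sq h) i ≤ centralizer ({x} : Set G) := by
    rw [mem_centralizer_iff]
    constructor
    · intro hx n hn
      rw [mem_centralizer_singleton_iff]
      exact hx n hn
    · intro hx n hn
      exact mem_centralizer_singleton_iff.1 (hx hn)
  rw [E, mem_inf, h1, Co, sup_le_iff, iSup_le_iff, key]
  refine and_congr_right fun _ => and_congr_left fun _ => ?_
  constructor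
  · intro hj j hji
    exact (key _).1 (hj ⟨j, hji⟩)
  · rintro hj ⟨j, hji⟩
    exact (key _).2 (hj j hji)

theorem conj_E {m : M} {τ : Equiv.Perm I} (hτ : ∀ i, MulAut.conj (m : G) • N sq blk w i = N sq blk w (τ i)) (i : I) :
    MulAut.conj (m : G) • E sq h blk w i = E sq h blk w (τ i) := by
  have h0 := conj_R₀ sq h m
  ext x
  rw [mem_pointwise_smul_iff_inv_smul_mem, ← map_inv, MulAut.smul_def, MulAut.conj_apply, inv_inv, mem_E, mem_E]
  have hM : (m : G)⁻¹ * x * m ∈ M ↔ x ∈ M := by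
    constructor
    · intro hx
      have := mul_mem (mul_mem m.2 hx) (inv_mem m.2)
      have e : (m : G) * ((m : G)⁻¹ * x * m) * (m : G)⁻¹ = x := by group
      rwa [e] at this
    · intro hx
      exact mul_mem (mul_mem (inv_mem m.2) hx) m.2
  have hc : ∀ n : G, (m : G)⁻¹ * x * m * n * ((m : G)⁻¹ * x * m)⁻¹ = n ↔
      x * ((m : G) * n * (m : G)⁻¹) * x⁻¹ = (m : G) * n * (m : G)⁻¹ := by
    intro n
    constructor
    · intro e
      calc x * ((m : G) * n * (m : G)⁻¹) * x⁻¹ =
          (m : G) * ((m : G)⁻¹ * x * m * n * ((m : G)⁻¹ * x * m)⁻¹) * (m : G)⁻¹ := by group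
        _ = _ := by rw [e]
    · intro e
      calc (m : G)⁻¹ * x * m * n * ((m : G)⁻¹ * x * m)⁻¹ =
          (m : G)⁻¹ * (x * ((m : G) * n * (m : G)⁻¹) * x⁻¹) * m := by group
        _ = _ := by rw [e]; group
  refine and_congr hM (and_congr ?_ ?_)
  · constructor
    · intro hj j hji n hn
      have e1 : τ (τ.symm j) = j := τ.apply_symm_apply j
      have h2 : (m : G)⁻¹ * n * m ∈ N sq blk w (τ.symm j) := by
        rw [RRed.Blk.conj_smul (hτ (τ.symm j)), e1]
        have e : (m : G) * ((m : G)⁻¹ * n * m) * (m : G)⁻¹ = n := by group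
        rwa [e]
      have h3 := (hc _).1 (hj (τ.symm j) (fun hc => hji (by rw [← hc, e1])) _ h2)
      have e : (m : G) * ((m : G)⁻¹ * n * m) * (m : G)⁻¹ = n := by group
      rwa [e] at h3
    · intro hj j hji n hn
      refine (hc n).2 (hj (τ j) (fun hc => hji (τ.injective hc)) _ ?_)
      exact (RRed.Blk.conj_smul (hτ j)).1 hn
  · constructor
    · intro hr r hr'
      have h2 : (m : G)⁻¹ * r * m ∈ R₀ sq h := by
        rw [RRed.Blk.conj_smul h0]
        have e : (m : G) * ((m : G)⁻¹ * r * m) * (m : G)⁻¹ = r := by group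
        rwa [e]
      have h3 := (hc _).1 (hr _ h2)
      have e : (m : G) * ((m : G)⁻¹ * r * m) * (m : G)⁻¹ = r := by group
      rwa [e] at h3
    · intro hr r hr'
      exact (hc r).2 (hr _ ((RRed.Blk.conj_smul h0).1 hr'))

/-- **the decomposition** -/
theorem dec {S : Subgroup G} (hS : S ≤ M) :
    Dec S M V (N sq blk w) (E sq h blk w) (R₀ sq h) where
  SL := hS
  LU := h
  ab := by
    intro x hx
    rw [mem_centralizer_iff]
    intro y hy
    exact EA.comm_of sq hy hx
  sup := sup_eq sq h b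
  ind := ind_eq sq h b
  ne := N_ne sq h b
  Rnor g hg := mem_normalizer_of (conj_R₀ sq h ⟨g, hg⟩)
  EL i := inf_le_left
  CE i := inf_le_inf_left _ (centralizer_le (Co_le sq h b i))
  perm g hg i := by
    obtain ⟨τ, hτ⟩ := conj_N sq h b ⟨g, hg⟩
    exact ⟨τ i, hτ i, conj_E sq h b hτ i⟩
  EN i g hg := by
    have hg' := (mem_E sq h).1 hg
    obtain ⟨τ, hτ⟩ := conj_N sq h b ⟨g, hg'.1⟩
    have h1 : τ i = i := by
      by_contra hne
      have h2 : MulAut.conj g • N sq blk w (τ i) = N sq blk w (τ i) := by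
        ext x
        rw [mem_pointwise_smul_iff_inv_smul_mem, ← map_inv, MulAut.smul_def, MulAut.conj_apply, inv_inv]
        constructor
        · intro hx
          have h3 := hg'.2.1 _ hne _ hx
          have e : g * (g⁻¹ * x * g) * g⁻¹ = x := by group
          rw [e] at h3
          rw [h3]; exact hx
        · intro hx
          have h3 := hg'.2.1 _ hne _ hx
          have e : g⁻¹ * x * g = x := by
            calc g⁻¹ * x * g = g⁻¹ * (g * x * g⁻¹) * g := by rw [h3]
              _ = x := by group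
          rw [e]; exact hx
      have h3 := hτ i
      rw [← h2] at h3
      exact hne (N_inj sq h b (smul_left_cancel _ h3)).symm
    exact mem_normalizer_of (by have := hτ i; rw [h1] at this; exact this)
  EC i j hij x hx := by
    have hx' := (mem_E sq h).1 hx
    rw [mem_centralizer_iff]
    intro n hn
    have := hx'.2.1 j (Ne.symm hij) n hn
    calc n * x = (x * n * x⁻¹) * x := by rw [this]
      _ = x * n := by group
  ER i x hx := by
    have hx' := (mem_E sq h).1 hx
    rw [mem_centralizer_iff]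
    intro n hn
    have := hx'.2.2 n hn
    calc n * x = (x * n * x⁻¹) * x := by rw [this]
      _ = x * n := by group

/-! ### The letters -/

/-- the letters of block `i` -/
abbrev Om (blk : Pt → I) (i : I) : Type u := {x : Pt // blk x = i}

/-- the element of a set of letters -/
def phi (blk : Pt → I) (w : Pt → EA V sq) (i : I) (s : Finset (Om blk i)) : G := (∑ x ∈ s, w x.1).val

omit [Fintype Pt] [Fintype I] [DecidableEq Pt] [Finite G] b in
theorem sum_symmDiff {α : Type*} [DecidableEq α] (f : α → EA V sq) (s t : Finset α) :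
    ∑ x ∈ symmDiff s t, f x = ∑ x ∈ s, f x + ∑ x ∈ t, f x := by
  have e : symmDiff s t = (s \ t) ∪ (t \ s) := rfl
  have hd : Disjoint (s \ t) (t \ s) := by
    rw [Finset.disjoint_left]
    intro x hx hx'
    exact (Finset.mem_sdiff.1 hx).2 (Finset.mem_sdiff.1 hx').1
  rw [e, Finset.sum_union hd, ← Finset.sum_inter_add_sum_sdiff s t f, ← Finset.sum_inter_add_sum_sdiff t s f,
    Finset.inter_comm t s]
  have h1 := add_self (∑ x ∈ s ∩ t, f x)
  calc ∑ x ∈ s \ t, f x + ∑ x ∈ t \ s, f x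
      = (∑ x ∈ s ∩ t, f x + ∑ x ∈ s ∩ t, f x) + (∑ x ∈ s \ t, f x + ∑ x ∈ t \ s, f x) := by rw [h1, zero_add]
    _ = _ := by abel

omit [Fintype I] [Finite G] b in
/-- a sum over letters as a combination of all points -/
theorem sum_eq_comb (i : I) (s : Finset (Om blk i)) :
    ∑ x ∈ s, w x.1 = ∑ z : Pt, (if z ∈ s.map (Function.Embedding.subtype _) then (1 : ZMod 2) else 0) • w z := by
  have h1 : ∀ z ∈ (Finset.univ : Finset Pt),
      (if z ∈ s.map (Function.Embedding.subtype _) then (1 : ZMod 2) else 0) • w z =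
        if z ∈ s.map (Function.Embedding.subtype _) then w z else 0 := by
    intro z _
    rw [ite_smul, one_smul, zero_smul]
  rw [Finset.sum_congr rfl h1, ← Finset.sum_filter, Finset.filter_mem_eq_inter, Finset.univ_inter, Finset.sum_map]
  rfl

omit [Finite G] [Fintype I] in
theorem card_odd (i : I) : Odd (Fintype.card (Om blk i)) := by
  obtain ⟨x, rfl⟩ := b.surj i
  rw [Fintype.card_subtype]
  exact b.odd x

omit [Finite G] [Fintype I] in
theorem card_three (i : I) : 3 ≤ Fintype.card (Om blk i) := by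
  obtain ⟨x, rfl⟩ := b.surj i
  rw [Fintype.card_subtype]
  exact b.three x

omit [Finite G] [Fintype I] in
theorem sum_univ (i : I) : ∑ x : Om blk i, w x.1 = 0 := by
  obtain ⟨x, rfl⟩ := b.surj i
  rw [← b.sum_zero x]
  exact (Finset.sum_subtype (Finset.univ.filter fun y => blk y = blk x) (fun y => by simp) w).symm

omit [Finite G] in
theorem phi_inj (i : I) (s : Finset (Om blk i)) (hs : Even s.card) (h1 : phi sq blk w i s = 1) : s = ∅ := by
  have h2 : ∑ x ∈ s, w x.1 = 0 := EA.val_eq_one.1 h1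
  rw [sum_eq_comb sq i s] at h2
  have h3 := b.indep _ h2
  by_contra hne
  obtain ⟨x, hx⟩ := Finset.nonempty_iff_ne_empty.2 hne
  have h4 : s = Finset.univ := by
    rw [Finset.eq_univ_iff_forall]
    intro y
    have h5 := h3 x.1 y.1 (x.2.trans y.2.symm)
    have h6 : x.1 ∈ s.map (Function.Embedding.subtype _) := Finset.mem_map_of_mem (Function.Embedding.subtype _) hx
    rw [if_pos h6] at h5
    by_contra hy
    rw [if_neg] at h5
    · exact one_ne h5
    · intro hc
      obtain ⟨z, hz, e⟩ := Finset.mem_map.1 hc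
      have : z = y := Subtype.ext e
      rw [this] at hz
      exact hy hz
  rw [h4, Finset.card_univ] at hs
  exact (Nat.not_even_iff_odd.2 (card_odd sq h b i)) hs

omit [Finite G] [Fintype I] in
theorem phi_compl (i : I) (s : Finset (Om blk i)) : phi sq blk w i sᶜ = phi sq blk w i s := by
  have h1 := Finset.sum_add_sum_compl s (fun x : Om blk i => w x.1)
  rw [sum_univ sq h b i] at h1
  exact congrArg EA.val (eq_of_add h1).symm

omit [Finite G] [Fintype I] in
theorem mem_N (i : I) (x : G) : x ∈ N sq blk w i ↔ ∃ s : Finset (Om blk i), Even s.card ∧ phi sq blk w i s = x := by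
  constructor
  · rintro ⟨a, ha, rfl⟩
    obtain ⟨c, hc, rfl⟩ := TvBlk.Blk.mem_U ha
    let s : Finset (Om blk i) := Finset.univ.filter fun z => c z.1 = 1
    have key : phi sq blk w i s = (∑ z : Pt, c z • w z).val := by
      rw [phi, sum_eq_comb]
      congr 1
      refine Finset.sum_congr rfl fun z _ => ?_
      congr 1
      rcases zmod_cases (c z) with e | e
      · rw [e, if_neg]
        intro hz
        obtain ⟨y, hy, rfl⟩ := Finset.mem_map.1 hz
        have h2 := (Finset.mem_filter.1 hy).2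
        rw [show c y.1 = 0 from e] at h2
        exact one_ne h2.symm
      · rw [e, if_pos]
        have hz : blk z = i := by
          by_contra hne
          rw [hc z hne] at e
          exact one_ne e.symm
        exact Finset.mem_map.2 ⟨⟨z, hz⟩, Finset.mem_filter.2 ⟨Finset.mem_univ _, e⟩, rfl⟩
    by_cases hs : Even s.card
    · exact ⟨s, hs, key⟩
    · refine ⟨sᶜ, ?_, (phi_compl sq h b i s).trans key⟩
      have h2 := Finset.card_add_card_compl s
      have h3 := card_odd sq h b i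
      rw [← h2, Nat.odd_add] at h3
      exact h3.1 (Nat.not_even_iff_odd.1 hs)
  · rintro ⟨s, -, rfl⟩
    refine ⟨_, ?_, rfl⟩
    exact Submodule.sum_mem _ fun x _ => Submodule.subset_span ⟨x.1, x.2, rfl⟩

omit [Finite G] [Fintype I] [Fintype Pt] [DecidableEq Pt] b in
/-- an element which permutes the letters -/
theorem rel_of {i : I} (m : M) (σ : Equiv.Perm (Om blk i)) (hσ : ∀ x : Om blk i, aut sq h m (w x.1) = w (σ x).1) :
    Rel (phi sq blk w i) (m : G) σ := by
  intro s _
  have h1 : (m : G) * phi sq blk w i s * (m : G)⁻¹ = (aut sq h m (∑ x ∈ s, w x.1)).val := rfl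
  rw [h1, map_sum, phi, Finset.sum_map]
  exact congrArg EA.val (Finset.sum_congr rfl fun x _ => hσ x)

theorem act_E (i : I) (g : G) (hg : g ∈ E sq h blk w i) : ∃ σ : Equiv.Perm (Om blk i), Rel (phi sq blk w i) g σ := by
  have hg' := (mem_E sq h).1 hg
  set m : M := ⟨g, hg'.1⟩ with hm
  have : Finite (EA V sq) := inferInstance
  obtain ⟨σ, h1, h2, -⟩ := b.perm (aut sq h m) (conj_RR sq h m)
  have hN : ∀ x, blk x ≠ i → σ x = x := by
    intro x hx
    have h3 := hg'.2.1 (blk x) hx (w x).val ⟨w x, TvBlk.Blk.w_mem_U x, rfl⟩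
    have h4 : aut sq h m (w x) = w x := EA.ext h3
    rw [h1] at h4
    exact b.w_inj h4
  have hi : ∀ x, blk x = i ↔ blk (σ x) = i := by
    intro x
    constructor
    · intro hx
      by_contra hne
      have h3 := hN _ hne
      have h4 : σ x = x := σ.injective h3
      rw [h4] at hne
      exact hne hx
    · intro hx
      by_contra hne
      rw [hN x hne] at hx
      exact hne hx
  exact ⟨σ.subtypePerm fun x => (hi x).symm, rel_of sq h m _ fun x => by rw [h1]; rfl⟩

theorem all_swap (i : I) (x y : Om blk i) (hxy : x ≠ y) :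
    ∃ g ∈ E sq h blk w i, Rel (phi sq blk w i) g (Equiv.swap x y) := by
  have hb : blk x.1 = blk y.1 := x.2.trans y.2.symm
  obtain ⟨d, hd⟩ := b.tr_mem x.1 y.1 (fun e => hxy (Subtype.ext e)) hb
  obtain ⟨m, rfl⟩ := pr_surjective h d
  have hfix : ∀ a : EA V sq, (tr x.1 y.1).2 a = 0 → (m : G) * a.val * (m : G)⁻¹ = a.val := by
    intro a ha
    have h1 := congrArg EA.val (hd.act a)
    rw [ha, zero_smul, add_zero] at h1
    exact h1
  refine ⟨m, (mem_E sq h).2 ⟨m.2, ?_, ?_⟩, rel_of sq h m _ fun z => ?_⟩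
  · rintro j hj _ ⟨a, ha, rfl⟩
    exact hfix a (b.tr_U x.1 y.1 hb (by rw [x.2]; exact hj.symm) ha)
  · rintro _ ⟨a, ha, rfl⟩
    exact hfix a (b.tr_ker x.1 y.1 hb ha)
  · have h1 : aut sq h m (w z.1) = w z.1 + (tr x.1 y.1).2 (w z.1) • (tr x.1 y.1).1 := hd.act (w z.1)
    rw [h1, b.act_tr x.1 y.1 hb]
    congr 1
    by_cases hx : z = x
    · rw [hx, Equiv.swap_apply_left, Equiv.swap_apply_left]
    · by_cases hy : z = y
      · rw [hy, Equiv.swap_apply_right, Equiv.swap_apply_right]
      · rw [Equiv.swap_apply_of_ne_of_ne hx hy,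
          Equiv.swap_apply_of_ne_of_ne (fun e => hx (Subtype.ext e)) (fun e => hy (Subtype.ext e))]

theorem all_E (i : I) (σ : Equiv.Perm (Om blk i)) : ∃ g ∈ E sq h blk w i, Rel (phi sq blk w i) g σ := by
  induction σ using Equiv.Perm.swap_induction_on with
  | one => exact ⟨1, one_mem _, Rel.one⟩
  | swap_mul σ x y hxy hσ =>
    obtain ⟨g, hg, h1⟩ := hσ
    obtain ⟨t, ht, h2⟩ := all_swap sq h b i x y hxy
    exact ⟨t * g, mul_mem ht hg, h2.mul h1⟩

/-- **the letters of block `i`** -/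
theorem lett (i : I) : Lett (N sq blk w i) (E sq h blk w i) (phi sq blk w i) where
  odd := card_odd sq h b i
  mul s t := congrArg EA.val (sum_symmDiff sq (fun x : Om blk i => w x.1) s t)
  inj := phi_inj sq h b i
  mem := mem_N sq h b i
  act g hg := act_E sq h b i g hg
  all := all_E sq h b i

end main

/-- **The block theorem in the group.** -/
theorem exists_dec [Finite G] {S : Sylow 2 G} (H : GHyp (S : Subgroup G) V M) (hsys : Sys (RR H.sq H.norm)) :
    ∃ (I : Type u) (_ : Fintype I) (_ : DecidableEq I) (N E : I → Subgroup G) (R₀ : Subgroup G),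
      Dec (S : Subgroup G) M V N E R₀ ∧
      (∀ i, ∃ (Om : Type u) (_ : Fintype Om) (_ : DecidableEq Om) (phi : Finset Om → G),
        3 ≤ Fintype.card Om ∧ Lett (N i) (E i) phi) := by
  obtain ⟨Pt, I, i1, i2, i3, i4, blk, w, tr, b⟩ := exists_blk hsys
  exact ⟨I, i2, i4, N H.sq blk w, E H.sq H.norm blk w, R₀ H.sq H.norm, dec H.sq H.norm b H.le, fun i =>
    ⟨Om blk i, inferInstance, inferInstance, phi H.sq blk w i, card_three H.sq H.norm b i, lett H.sq H.norm b i⟩⟩

end Cfsg.Agent.Omega.NOThreeL.RRed.TvDec
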