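import Cfsg.Agent.Omega.NOThreeL.RRed.TvBlk

/-!
# The block theorem for transvections over `𝔽₂` (#18552 (c)): the number of letters is odd

`Star.even` : a maximal star `K` has an even number of members, so `cl K` is the set of transpositions on an odd number
of letters `Option K`.
-/

set_option autoImplicit false

namespace Cfsg.Agent.Omega.NOThreeL.RRed.TvBlk

open Cfsg.Agent.Omega.Transv

variable {V : Type*} [AddCommGroup V] [Module (ZMod 2) V]

theorem finite_W (V : Type*) [AddCommGroup V] [Module (ZMod 2) V] [Finite V] : Finite (W V) := by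
  have : Finite (Du V) := Finite.of_injective (fun f : Du V => (f : V → ZMod 2)) DFunLike.coe_injective
  infer_instance

theorem B_sum_left {ι : Type*} (s : Finset ι) (g : ι → W V) (q : W V) :
    B (∑ i ∈ s, g i) q = ∑ i ∈ s, B (g i) q := by
  classical
  induction s using Finset.induction_on with
  | empty => simp [B]
  | insert i s hi ih => rw [Finset.sum_insert hi, Finset.sum_insert hi, B_add_left, ih]

theorem snd_sum {ι : Type*} (s : Finset ι) (g : ι → W V) : (∑ i ∈ s, g i).2 = ∑ i ∈ s, (g i).2 := by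
  classical
  induction s using Finset.induction_on with
  | empty => simp
  | insert i s hi ih => rw [Finset.sum_insert hi, Finset.sum_insert hi, Prod.snd_add, ih]

theorem fst_sum {ι : Type*} (s : Finset ι) (g : ι → W V) : (∑ i ∈ s, g i).1 = ∑ i ∈ s, (g i).1 := by
  classical
  induction s using Finset.induction_on with
  | empty => simp
  | insert i s hi ih => rw [Finset.sum_insert hi, Finset.sum_insert hi, Prod.fst_add, ih]

namespace Star

variable {R K : Set (W V)} (h : Sys R) (hK : Star R K)
include h hK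

/-- if `|K|` is odd the sum of the axes of `K` vanishes on all centres -/
theorem sum_B [Finite V] (Kf : Finset (W V)) (hKf : ∀ k, k ∈ Kf ↔ k ∈ K) (hodd : (Kf.card : ZMod 2) = 1) {q : W V}
    (hq : q ∈ R) : ∑ k ∈ Kf, B k q = 0 := by
  classical
  have h1 : ∀ q ∈ K, ∑ k ∈ Kf, B k q = 0 := by
    intro q hq
    have : ∀ k ∈ Kf, B k q = 1 + if k = q then 1 else 0 := by
      intro k hk
      by_cases he : k = q
      · rw [if_pos he, he, h.self q (hK.sub hq)]; decide
      · rw [if_neg he, hK.one k ((hKf k).1 hk) q hq he, add_zero]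
    rw [Finset.sum_congr rfl this, Finset.sum_add_distrib, Finset.sum_const, Finset.sum_ite_eq',
      if_pos ((hKf q).2 hq), nsmul_eq_mul, hodd]
    decide
  by_cases hc : q ∈ cl K
  · rcases hc with hc | ⟨k, hk, k', hk', -, rfl⟩
    · exact h1 q hc
    · have : ∀ x ∈ Kf, B x (k + k') = B x k + B x k' := fun x _ => B_add_right x k k'
      rw [Finset.sum_congr rfl this, Finset.sum_add_distrib, h1 k hk, h1 k' hk', add_zero]
  · refine Finset.sum_eq_zero fun k hk => ?_
    exact hK.eq_zero_of_not_mem h (Or.inl ((hKf k).1 hk)) hq hc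

theorem even [Finite V] : Even (Nat.card K) := by
  classical
  have hW : Finite (W V) := finite_W V
  by_contra hne
  rw [Nat.not_even_iff_odd] at hne
  obtain ⟨m, hm⟩ := hne
  obtain ⟨k0, hk0⟩ := hK.ne
  -- `K \ {k0}` has `2 m` members
  have hfin : Finite K := inferInstance
  let K' : Set (W V) := K \ {k0}
  have hc' : Nat.card K' = 2 * m := by
    have h1 : K.ncard = K'.ncard + 1 := (Set.ncard_sdiff_singleton_add_one hk0 (Set.toFinite K)).symm
    have h2 : K.ncard = 2 * m + 1 := by rw [← hm]; rfl
    have h3 : Nat.card K' = K'.ncard := rfl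
    omega
  have hm0 : 0 < m := by
    obtain ⟨k1, hk1, hne⟩ := hK.exists_ne h k0 hk0
    have : Nonempty K' := ⟨⟨k1, hk1, hne⟩⟩
    have h4 : 0 < Nat.card K' := Nat.card_pos
    omega
  have hce : Nat.card (Fin m × Fin 2) = Nat.card K' := by
    rw [hc', Nat.card_prod, Nat.card_eq_fintype_card, Nat.card_eq_fintype_card, Fintype.card_fin, Fintype.card_fin]
    ring
  obtain ⟨e⟩ : Nonempty ((Fin m × Fin 2) ≃ K') := by
    have : Finite K' := inferInstance
    have : Fintype K' := Fintype.ofFinite _
    exact ⟨Fintype.equivOfCardEq (by rw [← Nat.card_eq_fintype_card, ← Nat.card_eq_fintype_card]; exact hce)⟩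
  set a : Fin m → W V := fun j => (e (j, 0) : W V) with ha
  set b : Fin m → W V := fun j => (e (j, 1) : W V) with hb
  have haK : ∀ j, a j ∈ K := fun j => (e (j, 0)).2.1
  have hbK : ∀ j, b j ∈ K := fun j => (e (j, 1)).2.1
  have ha0 : ∀ j, a j ≠ k0 := fun j => (e (j, 0)).2.2
  have hb0 : ∀ j, b j ≠ k0 := fun j => (e (j, 1)).2.2
  have inj : ∀ x y, (e x : W V) = e y → x = y := fun x y hxy => e.injective (Subtype.ext hxy)
  have haa : ∀ i j, i ≠ j → a i ≠ a j := fun i j hij hc => hij (congrArg Prod.fst (inj _ _ hc))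
  have hbb : ∀ i j, i ≠ j → b i ≠ b j := fun i j hij hc => hij (congrArg Prod.fst (inj _ _ hc))
  have hab : ∀ i j, a i ≠ b j := fun i j hc => by
    have := congrArg Prod.snd (inj _ _ hc)
    exact absurd this zero_ne_one
  have one : ∀ k ∈ K, ∀ k' ∈ K, k ≠ k' → B k k' = 1 := hK.one
  have slf : ∀ k ∈ K, B k k = 0 := fun k hk => h.self k (hK.sub hk)
  have hab1 : ∀ j, B (a j) (b j) = 1 := fun j => one _ (haK j) _ (hbK j) (hab j j)
  have hba1 : ∀ j, B (b j) (a j) = 1 := fun j => one _ (hbK j) _ (haK j) (hab j j).symm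
  -- the perfect matching
  let p : Fin (m + 1) → W V := Fin.cons k0 fun j => a j + b j
  have p0 : p 0 = k0 := rfl
  have ps : ∀ j : Fin m, p j.succ = a j + b j := fun j => rfl
  have hpR : ∀ i, p i ∈ R := by
    intro i
    refine Fin.cases ?_ (fun j => ?_) i
    · exact hK.sub hk0
    · rw [ps]
      exact h.add_mem (hK.sub (haK j)) (hK.sub (hbK j)) (by rw [hab1]; exact one_ne)
  have hpp : ∀ i j, B (p i) (p j) = 0 := by
    intro i j
    refine Fin.cases ?_ (fun i => ?_) i <;> refine Fin.cases ?_ (fun j => ?_) j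
    · exact slf k0 hk0
    · rw [p0, ps, B_add_right, one k0 hk0 _ (haK j) (ha0 j).symm, one k0 hk0 _ (hbK j) (hb0 j).symm]; decide
    · rw [p0, ps, B_add_left, one _ (haK i) k0 hk0 (ha0 i), one _ (hbK i) k0 hk0 (hb0 i)]; decide
    · rw [ps, ps, B_add_left, B_add_right, B_add_right]
      by_cases hij : i = j
      · subst hij
        rw [slf _ (haK i), slf _ (hbK i), hab1, hba1]; decide
      · rw [one _ (haK i) _ (haK j) (haa i j hij), one _ (haK i) _ (hbK j) (hab i j),
          one _ (hbK i) _ (haK j) (hab j i).symm, one _ (hbK i) _ (hbK j) (hbb i j hij)]; decide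
  -- the sum of all members of `K`
  let Kf : Finset (W V) := (Set.toFinite K).toFinset
  have hKf : ∀ k, k ∈ Kf ↔ k ∈ K := fun k => Set.Finite.mem_toFinset _
  have hcard : Kf.card = 2 * m + 1 := by
    rw [← hm, ← Set.ncard_eq_toFinset_card K (Set.toFinite K)]; rfl
  have hodd : (Kf.card : ZMod 2) = 1 := by
    rw [hcard]
    push_cast
    have : (2 : ZMod 2) = 0 := by decide
    rw [this, zero_mul, zero_add]
  have hsum : ∑ i, p i = ∑ k ∈ Kf, k := by
    rw [Fin.sum_univ_succ, p0]
    have h1 : Kf = insert k0 ((Finset.univ : Finset (Fin m × Fin 2)).image fun x => (e x : W V)) := by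
      ext k
      rw [hKf, Finset.mem_insert, Finset.mem_image]
      constructor
      · intro hk
        by_cases he : k = k0
        · exact Or.inl he
        · refine Or.inr ⟨e.symm ⟨k, hk, he⟩, Finset.mem_univ _, ?_⟩
          rw [Equiv.apply_symm_apply]
      · rintro (rfl | ⟨x, -, rfl⟩)
        · exact hk0
        · exact (e x).2.1
    rw [h1, Finset.sum_insert, Finset.sum_image fun x _ y _ hxy => inj x y hxy, Fintype.sum_prod_type]
    · congr 1
      refine Finset.sum_congr rfl fun j _ => ?_
      rw [Fin.sum_univ_two, ps]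
    · rw [Finset.mem_image]
      rintro ⟨x, -, hx⟩
      exact (e x).2.2 hx
  -- the functional
  have hz : ∑ i, (p i).2 = 0 := by
    refine h.gen (m + 1) p hpR hpp _ ?_ ?_
    · intro q hq
      have h1 : (∑ i, (p i).2) q.1 = B (∑ i, p i) q := by
        rw [← snd_sum]; rfl
      rw [h1, hsum, B_sum_left]
      exact hK.sum_B h Kf hKf hodd hq
    · intro v hv
      rw [LinearMap.sum_apply]
      exact Finset.sum_eq_zero fun i _ => hv i
  have key := h.ex (m + 1) p hpR hpp (by
    intro c hc
    have h1 : ∀ j : Fin m, c 0 • k0.1 + c j.succ • (a j + b j).1 = 0 := by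
      intro j
      have h2 := hc (a j).1
      rw [Fin.sum_univ_succ, p0] at h2
      have e0 : k0.2 (a j).1 = 1 := one k0 hk0 _ (haK j) (ha0 j).symm
      rw [e0, one_smul] at h2
      have h3 : ∑ i : Fin m, c i.succ • (p i.succ).2 (a j).1 • (p i.succ).1 = c j.succ • (a j + b j).1 := by
        rw [Finset.sum_eq_single j]
        · have e1 : (p j.succ).2 (a j).1 = 1 := by
            show B (a j + b j) (a j) = 1
            rw [B_add_left, slf _ (haK j), hba1, zero_add]
          rw [e1, one_smul, ps]
        · intro i _ hij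
          have e1 : (p i.succ).2 (a j).1 = 0 := by
            show B (a i + b i) (a j) = 0
            rw [B_add_left, one _ (haK i) _ (haK j) (haa i j hij), one _ (hbK i) _ (haK j) (hab j i).symm]; decide
          rw [e1, zero_smul, smul_zero]
        · intro hj
          exact absurd (Finset.mem_univ _) hj
      rw [h3] at h2
      exact h2
    have hne : ∀ j, (a j + b j).1 ≠ 0 := fun j => h.ne1 _ (by rw [← ps]; exact hpR _)
    have c0 : c 0 = 0 := by
      by_contra hne0
      have h2 := h1 ⟨0, hm0⟩
      rw [eq_one_of_ne hne0, one_smul] at h2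
      have h3 : c (⟨0, hm0⟩ : Fin m).succ = 1 := by
        refine eq_one_of_ne fun h0 => ?_
        rw [h0, zero_smul, add_zero] at h2
        exact h.ne1 k0 (hK.sub hk0) h2
      rw [h3, one_smul] at h2
      have h4 : k0 = a ⟨0, hm0⟩ + b ⟨0, hm0⟩ :=
        h.uf _ (hK.sub hk0) _ (by rw [← ps]; exact hpR _) (eq_of_add h2)
      exact hK.sum _ (haK ⟨0, hm0⟩) _ (hbK ⟨0, hm0⟩) (hab _ _) (h4 ▸ hk0)
    ext i
    refine Fin.cases ?_ (fun j => ?_) i
    · exact c0
    · have h2 := h1 j
      rw [c0, zero_smul, zero_add] at h2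
      by_contra hne1
      rw [eq_one_of_ne hne1, one_smul] at h2
      exact hne j h2) (fun _ => 1) (by simpa using hz)
  have := congrFun key 0
  exact one_ne this

end Star

end Cfsg.Agent.Omega.NOThreeL.RRed.TvBlk
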