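import Cfsg.Agent.Omega.NOThreeL.RRed.TvDec
import Cfsg.Agent.Omega.NOThreeL.RRed.TvSys

/-!
# The block theorem for transvections over `𝔽₂`: the letters of all blocks, in the group (#24382, #24494)

* `Pts M V R₀ blk w pr` : the points `w x ∈ V`, `pr F` = product of the points of `F`; the product over a block is `1` and
  these are the only relations; `V = ⟨points⟩ × R₀`; `M` permutes the points and the blocks; every transposition of two
  points of one block is induced by an element of `M` which centralises `R₀`;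
* `Pts.inj`, `Pts.conj`, `Pts.pr_eq_iff`, `Pts.disjoint`;
* **`exists_pts`** : `GHyp S V M` gives `Pts`.
-/

set_option autoImplicit false
set_option linter.unusedSectionVars false

namespace Cfsg.Agent.Omega.NOThreeL.RRed.TvG2

open Subgroup Cfsg.Agent.Omega.TV Cfsg.Agent.Omega.FFBr
open Cfsg.Agent.Omega.Transv (zmod_cases eq_of_add one_ne)
open Cfsg.Agent.Omega.NOThreeL.RRed.TvG
open Cfsg.Agent.Omega.NOThreeL.RRed.TvBlk (Sys Blk exists_blk)
open Cfsg.Agent.Omega.NOThreeL.RRed.TvDec (RR aut)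

universe u

variable {G : Type u} [Group G]

/-- The points, read in `G`. -/
structure Pts (M V R₀ : Subgroup G) {Pt I : Type u} [Fintype Pt] [DecidableEq Pt] [DecidableEq I] (blk : Pt → I)
    (w : Pt → G) (pr : Finset Pt → G) : Prop where
  wV : ∀ x, w x ∈ V
  sq : ∀ v ∈ V, v * v = 1
  MV : M ≤ normalizer (V : Set G)
  pr_empty : pr ∅ = 1
  pr_single : ∀ x, pr {x} = w x
  pr_insert : ∀ x F, x ∉ F → pr (insert x F) = w x * pr F
  pr_symm : ∀ F F', pr (symmDiff F F') = pr F * pr F'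
  R₀V : R₀ ≤ V
  R₀M : M ≤ normalizer (R₀ : Set G)
  mem : ∀ v ∈ V, ∃ F, ∃ r ∈ R₀, v = pr F * r
  disj : ∀ F, pr F ∈ R₀ → pr F = 1
  rel : ∀ F, pr F = 1 → ∀ x y, blk x = blk y → (x ∈ F ↔ y ∈ F)
  sum : ∀ x, pr (Finset.univ.filter fun y => blk y = blk x) = 1
  surj : Function.Surjective blk
  odd : ∀ x, Odd (Finset.univ.filter fun y => blk y = blk x).card
  three : ∀ x, 3 ≤ (Finset.univ.filter fun y => blk y = blk x).card
  perm : ∀ g ∈ M, ∃ σ : Equiv.Perm Pt, (∀ x, g * w x * g⁻¹ = w (σ x)) ∧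
    ∀ x y, blk x = blk y ↔ blk (σ x) = blk (σ y)
  full : ∀ x y, x ≠ y → blk x = blk y → ∃ t ∈ M, (∀ z, t * w z * t⁻¹ = w (Equiv.swap x y z)) ∧
    (∀ r ∈ R₀, t * r * t⁻¹ = r) ∧ ∀ v ∈ V, t * v * t⁻¹ = v ∨ t * v * t⁻¹ = v * (w x * w y)

namespace Pts

variable {M V R₀ : Subgroup G} {Pt I : Type u} [Fintype Pt] [DecidableEq Pt] [DecidableEq I] {blk : Pt → I}
  {w : Pt → G} {pr : Finset Pt → G} (h : Pts M V R₀ blk w pr)

include h

theorem pr_mem (F : Finset Pt) : pr F ∈ V := by
  induction F using Finset.induction_on with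
  | empty => rw [h.pr_empty]; exact one_mem _
  | insert x F hx ih => rw [h.pr_insert x F hx]; exact mul_mem (h.wV x) ih

theorem comm {a b : G} (ha : a ∈ V) (hb : b ∈ V) : a * b = b * a := EA.comm_of h.sq ha hb

theorem pr_sq (F : Finset Pt) : pr F * pr F = 1 := h.sq _ (h.pr_mem F)

/-- `g ∈ M` acts on products -/
theorem conj {g : G} {σ : Equiv.Perm Pt} (hσ : ∀ x, g * w x * g⁻¹ = w (σ x)) (F : Finset Pt) :
    g * pr F * g⁻¹ = pr (F.map σ.toEmbedding) := by
  induction F using Finset.induction_on with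
  | empty => rw [Finset.map_empty, h.pr_empty]; group
  | insert x F hx ih =>
    rw [Finset.map_insert, h.pr_insert x F hx, h.pr_insert]
    · have e : g * (w x * pr F) * g⁻¹ = (g * w x * g⁻¹) * (g * pr F * g⁻¹) := by group
      rw [e, ih, hσ]
      rfl
    · intro hc
      obtain ⟨y, hy, e⟩ := Finset.mem_map.1 hc
      exact hx (by rw [← σ.injective e]; exact hy)

theorem pr_eq_iff {F F' : Finset Pt} (e : pr F = pr F') (x y : Pt) (hxy : blk x = blk y) :
    (x ∈ symmDiff F F' ↔ y ∈ symmDiff F F') :=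
  h.rel _ (by rw [h.pr_symm, e, h.pr_sq]) x y hxy

theorem exists_other (x : Pt) : ∃ y, y ≠ x ∧ blk y = blk x := by
  have h1 : 1 < (Finset.univ.filter fun y => blk y = blk x).card := lt_of_lt_of_le (by norm_num) (h.three x)
  obtain ⟨y, hy, hne⟩ := Finset.exists_mem_ne h1 x
  exact ⟨y, hne, (Finset.mem_filter.1 hy).2⟩

theorem exists_third (x y : Pt) : ∃ z, z ≠ x ∧ z ≠ y ∧ blk z = blk x := by
  by_contra hcon
  push Not at hcon
  have h1 : (Finset.univ.filter fun z => blk z = blk x) ⊆ {x, y} := by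
    intro z hz
    rw [Finset.mem_insert, Finset.mem_singleton]
    by_contra hc
    rw [not_or] at hc
    exact hcon z hc.1 hc.2 (Finset.mem_filter.1 hz).2
  have h2 := Finset.card_le_card h1
  have h3 : ({x, y} : Finset Pt).card ≤ 2 := Finset.card_le_two
  have := h.three x
  omega

theorem inj : Function.Injective w := by
  intro x y e
  by_contra hne
  obtain ⟨z, hzx, hzy, hb⟩ := h.exists_third x y
  have h1 : pr {x} = pr {y} := by rw [h.pr_single, h.pr_single, e]
  have h2 := (h.pr_eq_iff h1 x z hb.symm).1 (by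
    rw [Finset.mem_symmDiff]
    exact Or.inl ⟨Finset.mem_singleton_self x, fun hc => hne (Finset.mem_singleton.1 hc)⟩)
  rw [Finset.mem_symmDiff, Finset.mem_singleton, Finset.mem_singleton] at h2
  exact h2.elim (fun h => hzx h.1) fun h => hzy h.1

theorem ne_one (x : Pt) : w x ≠ 1 := by
  intro e
  obtain ⟨y, hy, hb⟩ := h.exists_other x
  have h1 := (h.rel {x} (by rw [h.pr_single, e]) x y hb.symm).1 (Finset.mem_singleton_self x)
  exact hy (Finset.mem_singleton.1 h1)

theorem gen (h0 : R₀ = ⊥) : V ≤ closure (Set.range w) := by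
  intro v hv
  obtain ⟨F, r, hr, rfl⟩ := h.mem v hv
  rw [h0, Subgroup.mem_bot] at hr
  rw [hr, mul_one]
  clear hv hr
  induction F using Finset.induction_on with
  | empty => rw [h.pr_empty]; exact one_mem _
  | insert x F hx ih =>
    rw [h.pr_insert x F hx]
    exact mul_mem (subset_closure ⟨x, rfl⟩) ih

end Pts

variable {V M : Subgroup G}

section build

variable (sq : ∀ x ∈ V, x * x = 1) (h : M ≤ normalizer (V : Set G))
variable {Pt I : Type u} [Fintype Pt] [Fintype I] [DecidableEq Pt] [DecidableEq I] {blk : Pt → I} {w : Pt → EA V sq}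
  {tr : Pt → Pt → TvBlk.W (EA V sq)}

theorem sum_ind (F : Finset Pt) : ∑ x ∈ F, w x = ∑ z : Pt, (if z ∈ F then (1 : ZMod 2) else 0) • w z := by
  have h1 : ∀ z ∈ (Finset.univ : Finset Pt), (if z ∈ F then (1 : ZMod 2) else 0) • w z = if z ∈ F then w z else 0 := by
    intro z _
    rw [ite_smul, one_smul, zero_smul]
  rw [Finset.sum_congr rfl h1, ← Finset.sum_filter, Finset.filter_mem_eq_inter, Finset.univ_inter]

theorem exists_set (a : Pt → ZMod 2) : ∃ F : Finset Pt, ∑ z : Pt, a z • w z = ∑ x ∈ F, w x := by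
  refine ⟨Finset.univ.filter fun z => a z = 1, ?_⟩
  rw [Finset.sum_filter]
  refine Finset.sum_congr rfl fun z _ => ?_
  rcases zmod_cases (a z) with e | e
  · rw [e, zero_smul, if_neg]
    exact fun hc => one_ne hc.symm
  · rw [e, one_smul, if_pos rfl]

/-- **the points in the group** -/
theorem pts [Finite G] (b : Blk (RR sq h) blk w tr) :
    Pts M V (TvDec.R₀ sq h) blk (fun x => (w x).val) (fun F => (∑ x ∈ F, w x).val) where
  wV x := (w x).val_mem
  sq := sq
  MV := h
  pr_empty := by rw [Finset.sum_empty]; rfl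
  pr_single x := by rw [Finset.sum_singleton]
  pr_insert x F hx := by rw [Finset.sum_insert hx]; rfl
  pr_symm F F' := congrArg EA.val (TvDec.sum_symmDiff sq w F F')
  R₀V := TvDec.toSub_le _
  R₀M g hg := TvDec.mem_normalizer_of (TvDec.conj_R₀ sq h ⟨g, hg⟩)
  mem v hv := by
    obtain ⟨a, ha⟩ := b.decomp (EA.mk sq v hv)
    obtain ⟨F, hF⟩ := exists_set sq (w := w) a
    refine ⟨F, (EA.mk sq v hv + ∑ z, a z • w z).val, ⟨_, ha, rfl⟩, ?_⟩
    have e : EA.mk sq v hv = ∑ x ∈ F, w x + (EA.mk sq v hv + ∑ z, a z • w z) := by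
      rw [hF, add_comm (EA.mk sq v hv), ← add_assoc, Transv.add_self, zero_add]
    exact congrArg EA.val e
  disj F hF := by
    obtain ⟨a, ha, e⟩ := hF
    have e' : a = ∑ x ∈ F, w x := EA.ext e
    rw [e'] at ha
    have h1 : ∑ x ∈ F, w x = 0 := by
      refine b.eq_zero (Submodule.sum_mem _ fun x _ => Submodule.subset_span ⟨x, rfl⟩) ha
    exact EA.val_eq_one.2 h1
  rel F hF x y hxy := by
    have h1 : ∑ x ∈ F, w x = 0 := EA.val_eq_one.1 hF
    rw [sum_ind sq] at h1
    have h2 := b.indep _ h1 x y hxy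
    by_cases hx : x ∈ F <;> by_cases hy : y ∈ F
    · exact ⟨fun _ => hy, fun _ => hx⟩
    · rw [if_pos hx, if_neg hy] at h2; exact absurd h2 one_ne
    · rw [if_neg hx, if_pos hy] at h2; exact absurd h2.symm one_ne
    · exact ⟨fun hc => absurd hc hx, fun hc => absurd hc hy⟩
  sum x := EA.val_eq_one.2 (b.sum_zero x)
  surj := b.surj
  odd := b.odd
  three := b.three
  perm g hg := by
    obtain ⟨σ, h1, h2, -⟩ := b.perm (aut sq h ⟨g, hg⟩) (TvDec.conj_RR sq h ⟨g, hg⟩)
    exact ⟨σ, fun x => congrArg EA.val (h1 x), h2⟩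
  full x y hne hb := by
    obtain ⟨d, hd⟩ := b.tr_mem x y hne hb
    obtain ⟨m, rfl⟩ := pr_surjective h d
    refine ⟨m, m.2, fun z => ?_, ?_, fun v hv => ?_⟩
    · have h1 : aut sq h m (w z) = w z + (tr x y).2 (w z) • (tr x y).1 := hd.act (w z)
      have h2 := b.act_tr x y hb z
      rw [h2] at h1
      exact congrArg EA.val h1
    · rintro _ ⟨a, ha, rfl⟩
      have h1 := congrArg EA.val (hd.act a)
      rw [b.tr_ker x y hb ha, zero_smul, add_zero] at h1
      exact h1
    · have h1 := congrArg EA.val (hd.act (EA.mk sq v hv))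
      rw [b.tr_fst x y hb] at h1
      rcases zmod_cases ((tr x y).2 (EA.mk sq v hv)) with e | e
      · rw [e, zero_smul, add_zero] at h1
        exact Or.inl h1
      · rw [e, one_smul] at h1
        exact Or.inr h1

end build

/-- **The block theorem in the group, in terms of points.** -/
theorem exists_pts [Finite G] {S : Sylow 2 G} (H : GHyp (S : Subgroup G) V M) :
    ∃ (Pt I : Type u) (_ : Fintype Pt) (_ : Fintype I) (_ : DecidableEq Pt) (_ : DecidableEq I) (blk : Pt → I)
      (w : Pt → G) (pr : Finset Pt → G), Pts M V (TvDec.R₀ H.sq H.norm) blk w pr := by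
  have hsys : Sys (RR H.sq H.norm) := TvBlk.sys_of H.faith H.hno H.core H.T H.hgen
  obtain ⟨Pt, I, i1, i2, i3, i4, blk, w, tr, b⟩ := exists_blk hsys
  exact ⟨Pt, I, i1, i2, i3, i4, blk, _, _, pts H.sq H.norm b⟩

end Cfsg.Agent.Omega.NOThreeL.RRed.TvG2
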