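import Cfsg.Agent.Omega.NOThreeL.RRed.TvPts

/-!
# The block theorem for transvections over `𝔽₂` (#18552 (c)): consequences

* `Blk.w_inj`, `Blk.indep` : the sums of the blocks are the only relations between the `w x`;
* `Blk.U i` : the span of block `i`; `Blk.C` : the common kernel of the axes; `Blk.ind`, `Blk.top` : `V` is the direct
  sum of the `U i` and `C`;
* `Blk.perm` : an automorphism of `V` which preserves `R` permutes the letters and the blocks;
* `Blk.act_tr` : the transvection `tr x y` acts on the letters as the transposition `(x y)`.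
-/

set_option autoImplicit false

namespace Cfsg.Agent.Omega.NOThreeL.RRed.TvBlk

open Cfsg.Agent.Omega.Transv

universe u

variable {V : Type u} [AddCommGroup V] [Module (ZMod 2) V]

namespace Blk

variable {R : Set (W V)} {Pt I : Type u} [Fintype Pt] [DecidableEq Pt] [DecidableEq I] {blk : Pt → I} {w : Pt → V}
  {tr : Pt → Pt → W V} (b : Blk R blk w tr)
include b

theorem exists_other (x : Pt) : ∃ y, y ≠ x ∧ blk y = blk x := by
  have h1 : 1 < (Finset.univ.filter fun y => blk y = blk x).card := by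
    have := b.three x
    omega
  obtain ⟨y, hy, hne⟩ := Finset.exists_mem_ne h1 x
  exact ⟨y, hne, (Finset.mem_filter.1 hy).2⟩

theorem exists_third (x y : Pt) (_hxy : blk x = blk y) : ∃ z, z ≠ x ∧ z ≠ y ∧ blk z = blk x := by
  have h1 : ({x, y} : Finset Pt).card < (Finset.univ.filter fun z => blk z = blk x).card := by
    have := b.three x
    have := Finset.card_le_two (a := x) (b := y)
    omega
  obtain ⟨z, hz, hn⟩ := Finset.exists_mem_notMem_of_card_lt_card h1
  rw [Finset.mem_insert, Finset.mem_singleton, not_or] at hn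
  exact ⟨z, hn.1, hn.2, (Finset.mem_filter.1 hz).2⟩

theorem tr_self (x y : Pt) (hxy : blk x = blk y) (hne : x ≠ y) : (tr x y).2 (w x) = 1 := by
  rw [b.tr_snd x y hxy, if_pos rfl, if_neg hne, add_zero]

theorem tr_other (x y z : Pt) (hxy : blk x = blk y) (hx : z ≠ x) (hy : z ≠ y) : (tr x y).2 (w z) = 0 := by
  rw [b.tr_snd x y hxy, if_neg hx, if_neg hy, add_zero]

theorem w_inj : Function.Injective w := by
  intro x y hxy
  by_contra hne
  obtain ⟨z, hz1, hz2⟩ := b.exists_other x
  by_cases hb : blk x = blk y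
  · obtain ⟨z, hz1, hz2, hz3⟩ := b.exists_third x y hb
    have h1 := b.tr_self x z hz3.symm (Ne.symm hz1)
    have h2 := b.tr_other x z y hz3.symm (Ne.symm hne) (Ne.symm hz2)
    rw [hxy, h2] at h1
    exact one_ne h1.symm
  · have h1 := b.tr_self x z hz2.symm (Ne.symm hz1)
    have h2 := b.tr_other x z y hz2.symm (Ne.symm hne) (fun hc => hb (by rw [hc]; exact hz2.symm))
    rw [hxy, h2] at h1
    exact one_ne h1.symm

/-- the value of an axis on a combination -/
theorem snd_sum (x y : Pt) (hxy : blk x = blk y) (a : Pt → ZMod 2) : (tr x y).2 (∑ z, a z • w z) = a x + a y := by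
  rw [map_sum]
  have h2 : ∀ z ∈ (Finset.univ : Finset Pt), (tr x y).2 (a z • w z) =
      (if z = x then a z else 0) + if z = y then a z else 0 := by
    intro z _
    rw [map_smul, smul_eq_mul, b.tr_snd x y hxy, mul_add, mul_ite, mul_ite, mul_one, mul_zero]
  rw [Finset.sum_congr rfl h2, Finset.sum_add_distrib, Finset.sum_ite_eq', Finset.sum_ite_eq',
    if_pos (Finset.mem_univ _), if_pos (Finset.mem_univ _)]

/-- the coefficients of a combination in the common kernel of the axes are constant on the blocks -/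
theorem const_of (a : Pt → ZMod 2) (ha : ∀ p ∈ R, p.2 (∑ z, a z • w z) = 0) (x y : Pt) (hxy : blk x = blk y) :
    a x = a y := by
  by_cases hne : x = y
  · rw [hne]
  have h1 := ha _ (b.tr_mem x y hne hxy)
  rw [b.snd_sum x y hxy] at h1
  exact eq_of_add h1

/-- a combination whose coefficients are constant on the blocks is zero -/
theorem eq_zero_of_const [Fintype I] (a : Pt → ZMod 2) (ha : ∀ x y, blk x = blk y → a x = a y) :
    ∑ z, a z • w z = 0 := by
  classical
  rw [← Finset.sum_fiberwise (s := Finset.univ) (g := blk)]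
  refine Finset.sum_eq_zero fun i _ => ?_
  obtain ⟨x, rfl⟩ := b.surj i
  have h1 : ∑ z ∈ Finset.univ.filter (fun z => blk z = blk x), a z • w z =
      ∑ z ∈ Finset.univ.filter (fun z => blk z = blk x), a x • w z :=
    Finset.sum_congr rfl fun z hz => by rw [ha z x (Finset.mem_filter.1 hz).2]
  rw [h1, ← Finset.smul_sum, b.sum_zero, smul_zero]

theorem indep (a : Pt → ZMod 2) (ha : ∑ z, a z • w z = 0) (x y : Pt) (hxy : blk x = blk y) : a x = a y :=
  b.const_of a (fun p _ => by rw [ha, map_zero]) x y hxy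

/-- a combination of the letters which is in the common kernel of the axes is zero -/
theorem eq_zero [Fintype I] {v : V} (hv : v ∈ Submodule.span (ZMod 2) (Set.range w)) (h0 : ∀ p ∈ R, p.2 v = 0) :
    v = 0 := by
  rw [Submodule.mem_span_range_iff_exists_fun] at hv
  obtain ⟨a, rfl⟩ := hv
  exact b.eq_zero_of_const a (b.const_of a h0)

/-- the letters are sums of centres -/
theorem w_mem (x : Pt) : w x ∈ Submodule.span (ZMod 2) (Prod.fst '' R) := by
  classical
  have h1 : w x = ∑ y ∈ Finset.univ.filter (fun y => blk y = blk x), (w x + w y) := by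
    rw [Finset.sum_add_distrib, b.sum_zero, add_zero, Finset.sum_const, ← Nat.cast_smul_eq_nsmul (ZMod 2)]
    obtain ⟨k, hk⟩ := b.odd x
    rw [hk]
    push_cast
    have : (2 : ZMod 2) = 0 := by decide
    rw [this, zero_mul, zero_add, one_smul]
  rw [h1]
  refine Submodule.sum_mem _ fun y hy => ?_
  have hy' := (Finset.mem_filter.1 hy).2
  by_cases hne : x = y
  · rw [hne, add_self]; exact Submodule.zero_mem _
  · rw [← b.tr_fst x y hy'.symm]
    exact Submodule.subset_span ⟨_, b.tr_mem x y hne hy'.symm, rfl⟩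

theorem span_eq : Submodule.span (ZMod 2) (Set.range w) = Submodule.span (ZMod 2) (Prod.fst '' R) := by
  apply le_antisymm
  · rw [Submodule.span_le]
    rintro _ ⟨x, rfl⟩
    exact b.w_mem x
  · rw [Submodule.span_le]
    rintro _ ⟨p, hp, rfl⟩
    obtain ⟨x, y, -, hb, rfl⟩ := b.all p hp
    rw [b.tr_fst x y hb]
    exact Submodule.add_mem _ (Submodule.subset_span ⟨x, rfl⟩) (Submodule.subset_span ⟨y, rfl⟩)

/-- the transvection `tr x y` is the transposition `(x y)` of the letters -/
theorem act_tr (x y : Pt) (hxy : blk x = blk y) (z : Pt) :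
    w z + (tr x y).2 (w z) • (tr x y).1 = w (Equiv.swap x y z) := by
  rw [b.tr_snd x y hxy, b.tr_fst x y hxy]
  by_cases h1 : z = x
  · subst h1
    rw [Equiv.swap_apply_left]
    by_cases h2 : z = y
    · subst h2
      rw [if_pos rfl, add_self, zero_smul, add_zero]
    · rw [if_pos rfl, if_neg h2, add_zero, one_smul, ← add_assoc, add_self, zero_add]
  · by_cases h2 : z = y
    · subst h2
      rw [Equiv.swap_apply_right, if_neg h1, if_pos rfl, zero_add, one_smul, add_comm (w x), ← add_assoc, add_self,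
        zero_add]
    · rw [Equiv.swap_apply_of_ne_of_ne h1 h2, if_neg h1, if_neg h2, add_zero, zero_smul, add_zero]

/-- a transposition is determined by its letters -/
theorem tr_eq {x y u v : Pt} (hxy : blk x = blk y) (huv : blk u = blk v) (hne : x ≠ y) (h : tr x y = tr u v) :
    (u = x ∧ v = y) ∨ (u = y ∧ v = x) := by
  have h1 : ∀ z, (z = x ∨ z = y) → (z = u ∨ z = v) := by
    intro z hz
    by_contra hn
    push Not at hn
    have e1 : (tr u v).2 (w z) = 0 := b.tr_other u v z huv hn.1 hn.2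
    rw [← h, b.tr_snd x y hxy] at e1
    rcases hz with rfl | rfl
    · rw [if_pos rfl, if_neg hne, add_zero] at e1
      exact one_ne e1
    · rw [if_pos rfl, if_neg hne.symm, zero_add] at e1
      exact one_ne e1
  rcases h1 x (Or.inl rfl) with rfl | rfl <;> rcases h1 y (Or.inr rfl) with rfl | rfl
  · exact absurd rfl hne
  · exact Or.inl ⟨rfl, rfl⟩
  · exact Or.inr ⟨rfl, rfl⟩
  · exact absurd rfl hne

end Blk

/-- the action of an automorphism of `V` on pairs -/
def conjW (φ : V ≃ₗ[ZMod 2] V) (p : W V) : W V := (φ p.1, p.2 ∘ₗ (φ.symm : V →ₗ[ZMod 2] V))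

theorem conjW_inj (φ : V ≃ₗ[ZMod 2] V) : Function.Injective (conjW φ) := by
  intro p q hpq
  have h1 : φ p.1 = φ q.1 := congrArg Prod.fst hpq
  have h2 : p.2 ∘ₗ (φ.symm : V →ₗ[ZMod 2] V) = q.2 ∘ₗ (φ.symm : V →ₗ[ZMod 2] V) := congrArg Prod.snd hpq
  refine Prod.ext (φ.injective h1) ?_
  ext v
  have h3 := congrArg (fun f : V →ₗ[ZMod 2] ZMod 2 => f (φ v)) h2
  simpa using h3

theorem conjW_surj [Finite V] (φ : V ≃ₗ[ZMod 2] V) {R : Set (W V)} (hφ : ∀ p ∈ R, conjW φ p ∈ R) {q : W V}
    (hq : q ∈ R) : ∃ p ∈ R, conjW φ p = q := by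
  have hW : Finite (W V) := finite_W V
  let f : R → R := fun p => ⟨conjW φ p, hφ p p.2⟩
  have hf : Function.Injective f := fun p q hpq => Subtype.ext (conjW_inj φ (congrArg Subtype.val hpq))
  obtain ⟨p, hp⟩ := (Finite.injective_iff_surjective.1 hf) ⟨q, hq⟩
  exact ⟨p, p.2, congrArg Subtype.val hp⟩

theorem conjW_B (φ : V ≃ₗ[ZMod 2] V) (p : W V) (v : V) : (conjW φ p).2 (φ v) = p.2 v := by
  simp [conjW]

theorem conjW_add (φ : V ≃ₗ[ZMod 2] V) (p q : W V) : conjW φ (p + q) = conjW φ p + conjW φ q := by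
  refine Prod.ext ?_ ?_
  · simp [conjW]
  · ext v
    simp [conjW]

namespace Blk

variable {R : Set (W V)} {Pt I : Type u} [Fintype Pt] [DecidableEq Pt] [DecidableEq I] {blk : Pt → I} {w : Pt → V}
  {tr : Pt → Pt → W V} (b : Blk R blk w tr)
include b

/-- non-commuting members share exactly one letter -/
theorem share {x y u v : Pt} (hxy : blk x = blk y) (huv : blk u = blk v) (hne : x ≠ y) (hne' : u ≠ v)
    (hB : B (tr x y) (tr u v) ≠ 0) : ∃ z s t, s ≠ t ∧ z ≠ s ∧ z ≠ t ∧ blk s = blk z ∧ blk t = blk z ∧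
      tr x y = tr z s ∧ tr u v = tr z t ∧ (z = x ∨ z = y) ∧ (z = u ∨ z = v) := by
  have h1 : B (tr x y) (tr u v) =
      ((if u = x then 1 else 0) + (if u = y then 1 else 0)) + ((if v = x then 1 else 0) + (if v = y then 1 else 0)) := by
    show (tr x y).2 (tr u v).1 = _
    rw [b.tr_fst u v huv, map_add, b.tr_snd x y hxy, b.tr_snd x y hxy]
  rw [h1] at hB
  by_cases ux : u = x
  · subst ux
    by_cases vy : v = y
    · subst vy
      exfalso
      rw [if_pos rfl, if_neg hne, if_neg hne.symm, if_pos rfl] at hB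
      apply hB; decide
    · exact ⟨u, y, v, Ne.symm vy, hne, hne', hxy.symm, huv.symm, rfl, rfl, Or.inl rfl, Or.inl rfl⟩
  · by_cases uy : u = y
    · subst uy
      by_cases vx : v = x
      · subst vx
        exfalso
        rw [if_neg ux, if_pos rfl, if_pos rfl, if_neg hne'.symm] at hB
        apply hB; decide
      · exact ⟨u, x, v, Ne.symm vx, Ne.symm hne, hne', hxy, huv.symm, b.tr_comm _ _, rfl, Or.inr rfl, Or.inl rfl⟩
    · by_cases vx : v = x
      · subst vx
        exact ⟨v, y, u, Ne.symm uy, hne, Ne.symm hne', hxy.symm, huv, rfl, b.tr_comm _ _, Or.inl rfl, Or.inr rfl⟩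
      · by_cases vy : v = y
        · subst vy
          exact ⟨v, x, u, Ne.symm ux, Ne.symm hne, Ne.symm hne', hxy, huv, b.tr_comm _ _, b.tr_comm _ _, Or.inr rfl,
            Or.inr rfl⟩
        · exfalso
          rw [if_neg ux, if_neg uy, if_neg vx, if_neg vy] at hB
          apply hB; decide

theorem mem_letters {x y z : Pt} (hxy : blk x = blk y) (h1 : (tr x y).2 (w z) = 1) : z = x ∨ z = y := by
  by_contra hn
  push Not at hn
  rw [b.tr_other x y z hxy hn.1 hn.2] at h1
  exact one_ne h1.symm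

theorem B_of_ne {x y u : Pt} (hxy : blk x = blk y) (hxu : blk x = blk u) (nxy : x ≠ y) (nxu : x ≠ u) (nyu : y ≠ u) :
    B (tr x y) (tr x u) = 1 := by
  show (tr x y).2 (tr x u).1 = 1
  rw [b.tr_fst x u hxu, map_add, b.tr_self x y hxy nxy, b.tr_other x y u hxy nxu.symm nyu.symm, add_zero]

/-- the letter `x` is mapped to `z`: one half -/
theorem star_map (φ : V ≃ₗ[ZMod 2] V) (hφ : ∀ p ∈ R, conjW φ p ∈ R) {x y u z s t : Pt} (bxy : blk x = blk y)
    (bxu : blk x = blk u) (nxy : x ≠ y) (nxu : x ≠ u) (nyu : y ≠ u) (bzs : blk z = blk s) (bzt : blk z = blk t)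
    (nzs : z ≠ s) (nzt : z ≠ t) (nst : s ≠ t) (e1 : conjW φ (tr x y) = tr z s) (e2 : conjW φ (tr x u) = tr z t)
    (p : W V) (hp : p ∈ R) (h1 : p.2 (w x) = 1) : (conjW φ p).2 (w z) = 1 := by
  obtain ⟨c, d, ncd, bcd, hcd⟩ := b.all _ (hφ p hp)
  -- write `p = tr x v`
  obtain ⟨v, nxv, bxv, rfl⟩ : ∃ v, x ≠ v ∧ blk x = blk v ∧ p = tr x v := by
    obtain ⟨c, d, ncd, bcd, rfl⟩ := b.all p hp
    rcases b.mem_letters bcd h1 with rfl | rfl
    · exact ⟨d, ncd, bcd, rfl⟩
    · exact ⟨c, ncd.symm, bcd.symm, b.tr_comm _ _⟩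
  by_contra hne
  have hz : (tr c d).2 (w z) = 0 := by
    rw [← hcd]
    exact eq_zero_of_ne hne
  have nzc : z ≠ c := by
    rintro rfl
    rw [b.tr_self _ _ bcd ncd] at hz
    exact one_ne hz
  have nzd : z ≠ d := by
    rintro rfl
    rw [b.tr_comm, b.tr_self _ _ bcd.symm ncd.symm] at hz
    exact one_ne hz
  have nvy : v ≠ y := by
    rintro rfl
    rw [e1, b.tr_self z s bzs nzs] at hne
    exact hne rfl
  have nvu : v ≠ u := by
    rintro rfl
    rw [e2, b.tr_self z t bzt nzt] at hne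
    exact hne rfl
  -- `s` and `t` are letters of `conjW φ p`
  have key : ∀ s : Pt, blk z = blk s → z ≠ s → B (tr c d) (tr z s) ≠ 0 → s = c ∨ s = d := by
    intro s bzs nzs hB
    by_contra hn
    push Not at hn
    apply hB
    show (tr c d).2 (tr z s).1 = 0
    rw [b.tr_fst z s bzs, map_add, b.tr_other c d z bcd nzc nzd, b.tr_other c d s bcd hn.1 hn.2, add_zero]
  have B1 : B (tr c d) (tr z s) ≠ 0 := by
    rw [← hcd, ← e1]
    show (conjW φ (tr x v)).2 (φ (tr x y).1) ≠ 0
    rw [conjW_B]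
    show B (tr x v) (tr x y) ≠ 0
    rw [b.B_of_ne bxv bxy nxv nxy nvy]
    exact one_ne
  have B2 : B (tr c d) (tr z t) ≠ 0 := by
    rw [← hcd, ← e2]
    show (conjW φ (tr x v)).2 (φ (tr x u).1) ≠ 0
    rw [conjW_B]
    show B (tr x v) (tr x u) ≠ 0
    rw [b.B_of_ne bxv bxu nxv nxu nvu]
    exact one_ne
  have hcdst : tr c d = tr s t := by
    rcases key s bzs nzs B1 with rfl | rfl <;> rcases key t bzt nzt B2 with rfl | rfl
    · exact absurd rfl nst
    · rfl
    · exact b.tr_comm _ _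
    · exact absurd rfl nst
  have e3 : tr s t = conjW φ (tr y u) := by
    have h2 : tr y x + tr x u = tr y u := b.tr_add y x u bxy.symm bxu
    rw [← h2, conjW_add, b.tr_comm y x, e1, e2, b.tr_comm z s]
    exact (b.tr_add s z t bzs.symm bzt).symm
  have e4 : tr x v = tr y u := by
    apply conjW_inj φ
    rw [hcd, hcdst, e3]
  rw [e4, b.tr_other y u x (bxy.symm.trans bxu) nxy nxu] at h1
  exact one_ne h1.symm

theorem exists_letter [Finite V] [Fintype I] (φ : V ≃ₗ[ZMod 2] V) (hφ : ∀ p ∈ R, conjW φ p ∈ R) (x : Pt) :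
    ∃ z, φ (w x) = w z := by
  obtain ⟨y, nyx, byx⟩ := b.exists_other x
  obtain ⟨u, nux, nuy, bux⟩ := b.exists_third x y byx.symm
  have m1 := hφ _ (b.tr_mem x y nyx.symm byx.symm)
  have m2 := hφ _ (b.tr_mem x u nux.symm bux.symm)
  obtain ⟨c, d, ncd, bcd, hcd⟩ := b.all _ m1
  obtain ⟨c', d', ncd', bcd', hcd'⟩ := b.all _ m2
  have hB : B (tr c d) (tr c' d') ≠ 0 := by
    rw [← hcd, ← hcd']
    show (conjW φ (tr x y)).2 (φ (tr x u).1) ≠ 0
    rw [conjW_B]
    show B (tr x y) (tr x u) ≠ 0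
    rw [b.B_of_ne byx.symm bux.symm nyx.symm nux.symm nuy.symm]
    exact one_ne
  obtain ⟨z, s, t, nst, nzs, nzt, bsz, btz, e1, e2, -, -⟩ := b.share bcd bcd' ncd ncd' hB
  rw [e1] at hcd
  rw [e2] at hcd'
  refine ⟨z, ?_⟩
  have hψ : ∀ p ∈ R, conjW φ.symm p ∈ R := by
    intro p hp
    obtain ⟨q, hq, rfl⟩ := conjW_surj φ hφ hp
    have : conjW φ.symm (conjW φ q) = q := by
      refine Prod.ext ?_ ?_
      · simp [conjW]
      · ext v
        simp [conjW]
    rw [this]
    exact hq
  have inv : ∀ q : W V, conjW φ.symm (conjW φ q) = q := by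
    intro q
    refine Prod.ext ?_ ?_
    · simp [conjW]
    · ext v
      simp [conjW]
  have inv' : ∀ q : W V, conjW φ (conjW φ.symm q) = q := by
    intro q
    refine Prod.ext ?_ ?_
    · simp [conjW]
    · ext v
      simp [conjW]
  have A1 := b.star_map φ hφ byx.symm bux.symm nyx.symm nux.symm nuy.symm bsz.symm btz.symm nzs nzt nst hcd hcd'
  have A2 := b.star_map φ.symm hψ bsz.symm btz.symm nzs nzt nst byx.symm bux.symm nyx.symm nux.symm nuy.symm
    (by rw [← hcd, inv]) (by rw [← hcd', inv])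
  have hval : ∀ q ∈ R, q.2 (φ (w x) + w z) = 0 := by
    intro q hq
    obtain ⟨p, hp, rfl⟩ := conjW_surj φ hφ hq
    rw [map_add, conjW_B]
    rcases zmod_cases (p.2 (w x)) with h0 | h0
    · rcases zmod_cases ((conjW φ p).2 (w z)) with h1 | h1
      · rw [h0, h1, add_zero]
      · have h2 := A2 _ (hφ p hp) h1
        rw [inv, h0] at h2
        exact absurd h2.symm one_ne
    · rw [h0, A1 p hp h0]
      decide
  have hspan : φ (w x) + w z ∈ Submodule.span (ZMod 2) (Set.range w) := by
    refine Submodule.add_mem _ ?_ (Submodule.subset_span ⟨z, rfl⟩)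
    rw [b.span_eq]
    have h1 : Submodule.span (ZMod 2) (Prod.fst '' R) ≤
        (Submodule.span (ZMod 2) (Prod.fst '' R)).comap (φ : V →ₗ[ZMod 2] V) := by
      rw [Submodule.span_le]
      rintro _ ⟨p, hp, rfl⟩
      exact Submodule.subset_span ⟨_, hφ p hp, rfl⟩
    exact h1 (b.w_mem x)
  exact eq_of_add (b.eq_zero hspan hval)

/-- an automorphism of `V` which preserves `R` permutes the letters and the blocks -/
theorem perm [Finite V] [Fintype I] (φ : V ≃ₗ[ZMod 2] V) (hφ : ∀ p ∈ R, conjW φ p ∈ R) :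
    ∃ σ : Equiv.Perm Pt, (∀ x, φ (w x) = w (σ x)) ∧ (∀ x y, blk x = blk y ↔ blk (σ x) = blk (σ y)) ∧
      ∀ x y, blk x = blk y → conjW φ (tr x y) = tr (σ x) (σ y) := by
  choose f hf using b.exists_letter φ hφ
  have hinj : Function.Injective f := fun x y hxy => b.w_inj (φ.injective (by rw [hf, hf, hxy]))
  have hbij : Function.Bijective f := Finite.injective_iff_bijective.1 hinj
  have h1 : ∀ x y, x ≠ y → blk x = blk y → blk (f x) = blk (f y) ∧ conjW φ (tr x y) = tr (f x) (f y) := by
    intro x y hne hb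
    obtain ⟨c, d, ncd, bcd, hcd⟩ := b.all _ (hφ _ (b.tr_mem x y hne hb))
    have e1 : (tr c d).2 (w (f x)) = 1 := by
      rw [← hcd, ← hf, conjW_B, b.tr_self x y hb hne]
    have e2 : (tr c d).2 (w (f y)) = 1 := by
      rw [← hcd, ← hf, conjW_B, b.tr_comm, b.tr_self y x hb.symm hne.symm]
    rcases b.mem_letters bcd e1 with h3 | h3 <;> rcases b.mem_letters bcd e2 with h4 | h4
    · exact absurd (hinj (h3.trans h4.symm)) hne
    · rw [h3, h4]; exact ⟨bcd, hcd⟩
    · rw [h3, h4, b.tr_comm d c]; exact ⟨bcd.symm, hcd⟩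
    · exact absurd (hinj (h3.trans h4.symm)) hne
  have tr0 : ∀ x, tr x x = 0 := by
    intro x
    have h2 := b.tr_add x x x rfl rfl
    simpa using h2
  have hψ : ∀ p ∈ R, conjW φ.symm p ∈ R := by
    intro p hp
    obtain ⟨q, hq, rfl⟩ := conjW_surj φ hφ hp
    have : conjW φ.symm (conjW φ q) = q := by
      refine Prod.ext ?_ ?_
      · simp [conjW]
      · ext v
        simp [conjW]
    rw [this]
    exact hq
  refine ⟨Equiv.ofBijective f hbij, hf, fun x y => ⟨fun hb => ?_, fun hb => ?_⟩, fun x y hb => ?_⟩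
  · by_cases hne : x = y
    · rw [hne]
    · exact (h1 x y hne hb).1
  · by_cases hne : x = y
    · rw [hne]
    have hne' : f x ≠ f y := fun hc => hne (hinj hc)
    have hb' : blk (f x) = blk (f y) := hb
    obtain ⟨c, d, ncd, bcd, hcd⟩ := b.all _ (hψ _ (b.tr_mem (f x) (f y) hne' hb'))
    have e1 : (tr c d).2 (w x) = 1 := by
      rw [← hcd]
      have := conjW_B φ.symm (tr (f x) (f y)) (w (f x))
      rw [← hf x, LinearEquiv.symm_apply_apply, hf x] at this
      rw [this, b.tr_self _ _ hb' hne']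
    have e2 : (tr c d).2 (w y) = 1 := by
      rw [← hcd]
      have := conjW_B φ.symm (tr (f x) (f y)) (w (f y))
      rw [← hf y, LinearEquiv.symm_apply_apply, hf y] at this
      rw [this, b.tr_comm, b.tr_self _ _ hb'.symm hne'.symm]
    rcases b.mem_letters bcd e1 with h3 | h3 <;> rcases b.mem_letters bcd e2 with h4 | h4
    · rw [h3, h4]
    · rw [h3, h4]; exact bcd
    · rw [h3, h4]; exact bcd.symm
    · rw [h3, h4]
  · by_cases hne : x = y
    · rw [hne, tr0]
      show _ = tr (f y) (f y)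
      rw [tr0]
      refine Prod.ext ?_ ?_
      · simp [conjW]
      · ext v
        simp [conjW]
    · exact (h1 x y hne hb).2

end Blk

end Cfsg.Agent.Omega.NOThreeL.RRed.TvBlk
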