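import Cfsg.Agent.Omega.NOThreeL.RRed.TvEven

/-!
# The block theorem for transvections over `𝔽₂` (#18552 (c)): the letters

`Blk R blk w tr` : the finite set `Pt` of letters is partitioned into blocks (`blk : Pt → I`) of odd size `≥ 3`,
`w : Pt → V`, the sum of every block is zero and these are the only relations; the members of `R` are the
transpositions `tr x y` (`x ≠ y` in one block), with centre `w x + w y`; `V` is the sum of the span of `w` and of the
common kernel of the axes.

* `exists_blk` : `Sys R` gives `Blk`;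
* `Blk.perm` : an automorphism of `V` which preserves `R` permutes the letters and the blocks.
-/

set_option autoImplicit false

namespace Cfsg.Agent.Omega.NOThreeL.RRed.TvBlk

open Cfsg.Agent.Omega.Transv

universe u

variable {V : Type u} [AddCommGroup V] [Module (ZMod 2) V]

/-- The letters of a set of transvections. -/
structure Blk (R : Set (W V)) {Pt I : Type u} [Fintype Pt] [DecidableEq Pt] [DecidableEq I] (blk : Pt → I) (w : Pt → V) (tr : Pt → Pt → W V) :
    Prop where
  odd : ∀ x, Odd (Finset.univ.filter fun y => blk y = blk x).card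
  three : ∀ x, 3 ≤ (Finset.univ.filter fun y => blk y = blk x).card
  surj : Function.Surjective blk
  tr_mem : ∀ x y, x ≠ y → blk x = blk y → tr x y ∈ R
  tr_comm : ∀ x y, tr x y = tr y x
  tr_fst : ∀ x y, blk x = blk y → (tr x y).1 = w x + w y
  tr_add : ∀ x y z, blk x = blk y → blk y = blk z → tr x y + tr y z = tr x z
  tr_snd : ∀ x y, blk x = blk y → ∀ z, (tr x y).2 (w z) = (if z = x then 1 else 0) + (if z = y then 1 else 0)
  all : ∀ p ∈ R, ∃ x y, x ≠ y ∧ blk x = blk y ∧ p = tr x y
  sum_zero : ∀ x, ∑ y ∈ Finset.univ.filter (fun y => blk y = blk x), w y = 0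
  decomp : ∀ v : V, ∃ a : Pt → ZMod 2, ∀ p ∈ R, p.2 (v + ∑ x, a x • w x) = 0

section one

variable {R K : Set (W V)}

/-- the members `0`, `k` -/
def val (x : Option K) : W V := x.elim 0 fun k => (k : W V)

@[simp] theorem val_none : val (none : Option K) = 0 := rfl
@[simp] theorem val_some (k : K) : val (some k) = (k : W V) := rfl

/-- the points (as pairs) -/
noncomputable def wW [Fintype K] (x : Option K) : W V := (∑ k : K, (k : W V)) + val x

variable (h : Sys R) (hK : Star R K)

include h hK

theorem Star.card_zero [Finite V] [Fintype K] : (Fintype.card K : ZMod 2) = 0 := by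
  have := hK.even h
  rw [Nat.card_eq_fintype_card] at this
  obtain ⟨k, hk⟩ := this
  rw [hk, Nat.cast_add]
  exact add_self _

open Classical in
theorem Star.B_val [Finite V] [Fintype K] (x z : Option K) :
    B (val x) (wW z) = (if z = none then 1 else 0) + if z = x then 1 else 0 := by
  rcases x with _ | k
  · rw [val_none]
    have : B (0 : W V) (wW z) = 0 := rfl
    rw [this]
    exact (add_self _).symm
  rw [val_some, wW, B_add_right]
  have h1 : B (k : W V) (∑ k' : K, (k' : W V)) = 1 := by
    have e1 : B (k : W V) (∑ k' : K, (k' : W V)) = ∑ k' : K, B (k : W V) k' := by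
      rw [B, fst_sum, map_sum]; rfl
    have e2 : ∀ k' ∈ (Finset.univ : Finset K), B (k : W V) k' = 1 + if k' = k then 1 else 0 := by
      intro k' _
      by_cases he : k' = k
      · rw [if_pos he, he, h.self _ (hK.sub k.2)]; decide
      · rw [if_neg he, add_zero]
        exact hK.one _ k.2 _ k'.2 fun hc => he (Subtype.ext hc.symm)
    rw [e1, Finset.sum_congr rfl e2, Finset.sum_add_distrib, Finset.sum_const, Finset.card_univ, nsmul_eq_mul,
      hK.card_zero h, zero_mul, zero_add, Finset.sum_ite_eq', if_pos (Finset.mem_univ _)]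
  rw [h1]
  rcases z with _ | k'
  · have : B (k : W V) (val (none : Option K)) = 0 := by rw [val_none, B]; exact map_zero _
    rw [this, if_pos rfl, if_neg (by simp)]
  · rw [val_some, if_neg (by simp), zero_add]
    by_cases he : k' = k
    · rw [if_pos (by rw [he]), he, h.self _ (hK.sub k.2), add_zero]
    · rw [if_neg (by simpa using he), hK.one _ k.2 _ k'.2 fun hc => he (Subtype.ext hc.symm)]
      decide

omit h hK in
theorem Star.val_add_mem {x y : Option K} (hxy : x ≠ y) : val x + val y ∈ cl K := by
  rcases x with _ | k <;> rcases y with _ | k'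
  · exact absurd rfl hxy
  · rw [val_none, zero_add, val_some]; exact Or.inl k'.2
  · rw [val_none, add_zero, val_some]; exact Or.inl k.2
  · exact Or.inr ⟨k, k.2, k', k'.2, fun hc => hxy (by rw [Subtype.ext hc]), rfl⟩

omit h hK in
theorem exists_val {p : W V} (hp : p ∈ cl K) : ∃ x y : Option K, x ≠ y ∧ p = val x + val y := by
  rcases hp with hp | ⟨k, hk, k', hk', hne, rfl⟩
  · exact ⟨some ⟨p, hp⟩, none, by simp, by rw [val_some, val_none, add_zero]⟩
  · exact ⟨some ⟨k, hk⟩, some ⟨k', hk'⟩, by simpa using hne, rfl⟩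

theorem Star.sum_wW [Finite V] [Fintype K] : ∑ x : Option K, wW x = 0 := by
  rw [Fintype.sum_option]
  have e2 : ∑ k : K, wW (some k) = ∑ k : K, (k : W V) := by
    have : ∀ k : K, wW (some k) = (∑ k' : K, (k' : W V)) + k := fun k => rfl
    rw [Finset.sum_congr rfl fun k _ => this k, Finset.sum_add_distrib, Finset.sum_const, Finset.card_univ]
    have e3 : (Fintype.card K) • (∑ k' : K, (k' : W V)) = (0 : W V) := by
      rw [← Nat.cast_smul_eq_nsmul (ZMod 2), hK.card_zero h, zero_smul]
    rw [e3, zero_add]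
  rw [e2, wW, val_none, add_zero]
  exact add_self _

end one

theorem exists_blk [Finite V] {R : Set (W V)} (h : Sys R) : ∃ (Pt I : Type u) (_ : Fintype Pt) (_ : Fintype I)
    (_ : DecidableEq Pt) (_ : DecidableEq I) (blk : Pt → I) (w : Pt → V) (tr : Pt → Pt → W V), Blk R blk w tr := by
  classical
  have hW : Finite (W V) := finite_W V
  let I : Type u := {C : Set (W V) // ∃ K, Star R K ∧ C = cl K}
  let st : I → Set (W V) := fun C => C.2.choose
  have hst : ∀ C, Star R (st C) := fun C => C.2.choose_spec.1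
  have hcl : ∀ C : I, C.1 = cl (st C) := fun C => C.2.choose_spec.2
  have hfst : ∀ C, Fintype (st C) := fun C => Fintype.ofFinite _
  let Pt : Type u := Σ C : I, Option (st C)
  have hI : Finite I := inferInstance
  have hfI : Fintype I := Fintype.ofFinite _
  let dP : DecidableEq Pt := Classical.decEq _
  let dI : DecidableEq I := Classical.decEq _
  let blk : Pt → I := fun x => x.1
  let V' : Pt → W V := fun x => val x.2
  let w : Pt → V := fun x => (wW x.2).1
  let tr : Pt → Pt → W V := fun x y => V' x + V' y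
  have hfib : ∀ x : Pt, (Finset.univ.filter fun y : Pt => blk y = blk x) =
      (Finset.univ : Finset (Option (st x.1))).map ⟨fun z => (⟨x.1, z⟩ : Pt), fun z z' hz => by simpa using hz⟩ := by
    intro x
    ext y
    rw [Finset.mem_filter, Finset.mem_map]
    constructor
    · rintro ⟨-, hy⟩
      obtain ⟨C, y⟩ := y
      obtain ⟨C', x⟩ := x
      have hy' : C = C' := hy
      subst hy'
      exact ⟨y, Finset.mem_univ _, rfl⟩
    · rintro ⟨z, -, rfl⟩
      exact ⟨Finset.mem_univ _, rfl⟩
  have hcard : ∀ x : Pt, (Finset.univ.filter fun y : Pt => blk y = blk x).card = Nat.card (st x.1) + 1 := by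
    intro x
    rw [hfib, Finset.card_map, Finset.card_univ, Fintype.card_option, Nat.card_eq_fintype_card]
  have hV' : ∀ x : Pt, ∀ q ∈ R, q ∉ cl (st x.1) → B (V' x) q = 0 ∧ B q (V' x) = 0 := by
    rintro ⟨C, x⟩ q hq hn
    rcases x with _ | k
    · exact ⟨rfl, map_zero _⟩
    · have h1 : B (k : W V) q = 0 := (hst C).eq_zero_of_not_mem h (Or.inl k.2) hq hn
      exact ⟨h1, by show B q (k : W V) = 0; rw [h.sym hq ((hst C).sub k.2)]; exact h1⟩
  have hdis : ∀ C C' : I, C ≠ C' → ∀ q ∈ cl (st C), q ∉ cl (st C') := by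
    intro C C' hne q hq hq'
    apply hne
    apply Subtype.ext
    rw [hcl C, hcl C']
    exact (hst C).cl_eq h (hst C') hq hq'
  -- the pairing of `V' x` with the points of other blocks
  have hoff : ∀ x z : Pt, x.1 ≠ z.1 → B (V' x) (wW z.2) = 0 := by
    rintro ⟨C, x⟩ ⟨C', z⟩ hne
    have hne : C ≠ C' := hne
    rcases x with _ | k
    · rfl
    · have h1 : ∀ k' ∈ st C', B (k : W V) k' = 0 := fun k' hk' =>
        (hst C).eq_zero_of_not_mem h (Or.inl k.2) ((hst C').sub hk') (hdis C' C hne.symm _ (Or.inl hk'))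
      show B (k : W V) (wW z) = 0
      rw [wW, B_add_right]
      have e1 : B (k : W V) (∑ k' : st C', (k' : W V)) = ∑ k' : st C', B (k : W V) k' := by
        rw [B, fst_sum, map_sum]; rfl
      have e3 : ∑ k' : st C', B (k : W V) k' = 0 :=
        Finset.sum_eq_zero fun (k' : st C') _ => h1 (k' : W V) (Subtype.property k')
      rw [e1, e3, zero_add]
      rcases z with _ | k'
      · exact map_zero _
      · exact h1 (k' : W V) (Subtype.property k')
  have hval : ∀ x z : Pt, B (V' x) (wW z.2) =
      (if x.1 = z.1 then ((if z = ⟨z.1, none⟩ then 1 else 0) + if z = x then 1 else 0) else 0) := by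
    intro x z
    by_cases he : x.1 = z.1
    · rw [if_pos he]
      obtain ⟨C, x⟩ := x
      obtain ⟨C', z⟩ := z
      have he' : C = C' := he
      subst he'
      have := (hst C).B_val h x z
      show B (val x) (wW z) = _
      rw [this]
      congr 1
      · by_cases hz : z = none
        · rw [if_pos hz, if_pos (by rw [hz])]
        · have hz' : ¬ ((⟨C, z⟩ : Pt) = ⟨C, none⟩) := fun hc => hz (eq_of_heq (Sigma.mk.inj hc).2)
          rw [if_neg hz, if_neg hz']
      · by_cases hz : z = x
        · rw [if_pos hz, if_pos (by rw [hz])]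
        · have hz' : ¬ ((⟨C, z⟩ : Pt) = ⟨C, x⟩) := fun hc => hz (eq_of_heq (Sigma.mk.inj hc).2)
          rw [if_neg hz, if_neg hz']
    · rw [if_neg he]
      exact hoff x z he
  have hsnd : ∀ x y : Pt, x.1 = y.1 → ∀ z : Pt,
      (tr x y).2 (w z) = (if z = x then 1 else 0) + (if z = y then 1 else 0) := by
    intro x y hxy z
    show B (V' x + V' y) (wW z.2) = _
    rw [B_add_left, hval, hval]
    by_cases he : x.1 = z.1
    · rw [if_pos he, if_pos (hxy.symm.trans he)]
      have : ∀ a b c : ZMod 2, (a + b) + (a + c) = b + c := by decide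
      exact this _ _ _
    · have he' : y.1 ≠ z.1 := fun hc => he (hxy.trans hc)
      rw [if_neg he, if_neg he', if_neg (fun hc => he (by rw [hc])), if_neg (fun hc => he' (by rw [hc]))]
  have hallp : ∀ p ∈ R, ∃ x y : Pt, blk x = blk y ∧ p = tr x y := by
    intro p hp
    obtain ⟨K, hK, hpK⟩ := exists_star hp
    let C : I := ⟨cl K, K, hK, rfl⟩
    have h1 : p ∈ cl (st C) := by
      rw [← hcl C]
      exact Or.inl hpK
    obtain ⟨x, y, hne, he⟩ := exists_val h1
    exact ⟨⟨C, x⟩, ⟨C, y⟩, rfl, he⟩
  refine ⟨Pt, I, inferInstance, hfI, dP, dI, blk, w, tr, ?_, ?_, ?_, ?_, ?_, ?_, ?_, hsnd, ?_, ?_, ?_⟩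
  · intro x
    rw [hcard]
    exact ((hst x.1).even h).add_one
  · intro x
    rw [hcard]
    obtain ⟨k, hk⟩ := (hst x.1).ne
    obtain ⟨k', hk', hne⟩ := (hst x.1).exists_ne h k hk
    have : Nontrivial (st x.1) := ⟨⟨⟨k, hk⟩, ⟨k', hk'⟩, fun hc => hne (congrArg Subtype.val hc).symm⟩⟩
    have h2 : 1 < Nat.card (st x.1) := Finite.one_lt_card
    omega
  · intro C
    exact ⟨⟨C, none⟩, rfl⟩
  · rintro ⟨C, x⟩ ⟨C', y⟩ hne hb
    have hb' : C = C' := hb
    subst hb'
    exact (hst C).cl_sub h (Star.val_add_mem fun (hc : x = y) => hne (by rw [hc]))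
  · intro x y
    exact add_comm _ _
  · rintro ⟨C, x⟩ ⟨C', y⟩ hb
    have hb' : C = C' := hb
    subst hb'
    show (val x + val y).1 = (wW x).1 + (wW y).1
    rw [wW, wW, Prod.fst_add, Prod.fst_add, Prod.fst_add]
    set S := (∑ k : st C, (k : W V)).1
    have : S + (val x).1 + (S + (val y).1) = (S + S) + ((val x).1 + (val y).1) := by abel
    rw [this, add_self, zero_add]
  · intro x y z _ _
    show V' x + V' y + (V' y + V' z) = V' x + V' z
    have : V' x + V' y + (V' y + V' z) = V' x + (V' y + V' y) + V' z := by abel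
    rw [this, W_add_self, add_zero]
  · intro p hp
    obtain ⟨x, y, hb, he⟩ := hallp p hp
    refine ⟨x, y, ?_, hb, he⟩
    rintro rfl
    apply h.ne_zero hp
    rw [he]
    exact W_add_self _
  · intro x
    rw [hfib, Finset.sum_map]
    show ∑ z : Option (st x.1), (wW z).1 = 0
    rw [← fst_sum, (hst x.1).sum_wW h]
    rfl
  · intro v
    let a : Pt → ZMod 2 := fun x => (V' x).2 v
    refine ⟨a, fun p hp => ?_⟩
    obtain ⟨x, y, hb, he⟩ := hallp p hp
    have h1 : p.2 (∑ z, a z • w z) = a x + a y := by
      rw [map_sum]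
      have h2 : ∀ z ∈ (Finset.univ : Finset Pt), p.2 (a z • w z) =
          (if z = x then a z else 0) + if z = y then a z else 0 := by
        intro z _
        rw [map_smul, smul_eq_mul, he, hsnd x y hb, mul_add, mul_ite, mul_ite, mul_one, mul_zero]
      rw [Finset.sum_congr rfl h2, Finset.sum_add_distrib, Finset.sum_ite_eq', Finset.sum_ite_eq',
        if_pos (Finset.mem_univ _), if_pos (Finset.mem_univ _)]
    rw [map_add, h1]
    have h3 : p.2 v = a x + a y := by rw [he]; rfl
    rw [h3]
    exact add_self _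

end Cfsg.Agent.Omega.NOThreeL.RRed.TvBlk
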