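import Cfsg.Agent.Omega.NO1.BestOff
import Cfsg.Agent.ZN.Block

/-!
# Best offenders on a permutation module (two levels in box R, (W2) of #23492), pure part

* `Ind B` : `B` is an independent set of commuting involutions;
* `best_le` : `|W| |C_A(W)| ≤ |A| |C_W(A)|` for a best offender `A` on `X` and every `W ≤ X`;
* `orbit_le` : a best offender on `X ⊇ B` which permutes `B` has orbits of length at most 2 on `B`;
* `exists_pure` : two orbits `b ≠ b'`, `c ≠ c'` of `A`: some `a ∈ A` moves `b` and fixes `c`;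
* `perm_le` : `|A| |C_F(A)| ≤ |F| |C_A(F)|` for `F = ⟨B⟩`;
* `moves` : `V ∩ F = 1`, `V, F ≤ X`, `A` moves `V`: then `C_A(F)` moves `V`.
-/

set_option autoImplicit false
set_option linter.unusedSectionVars false

namespace Cfsg.Agent.Omega.NOThreeL.RRed.TwoLev

open Subgroup Cfsg
open Cfsg.Agent.Omega.NO1.BestOff (Best)
open scoped Pointwise

universe u

variable {G : Type u} [Group G]

/-- An independent set of commuting involutions (`1` is excluded by `out`). -/
structure Ind (B : Set G) : Prop where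
  sq : ∀ b ∈ B, b * b = 1
  comm : ∀ b ∈ B, ∀ c ∈ B, b * c = c * b
  out : ∀ b ∈ B, b ∉ closure (B \ {b})

namespace Ind

variable {B : Set G} (h : Ind B)

include h

theorem clComm : ∀ x ∈ closure B, ∀ y ∈ closure B, x * y = y * x := by
  have h1 : ∀ x ∈ closure B, x ∈ centralizer B := by
    intro x hx
    have : closure B ≤ centralizer B := by
      rw [closure_le]
      intro b hb
      rw [SetLike.mem_coe, mem_centralizer_iff]
      intro c hc
      exact h.comm c hc b hb
    exact this hx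
  intro x hx y hy
  have h2 : closure B ≤ centralizer ({x} : Set G) := by
    rw [closure_le]
    intro b hb
    rw [SetLike.mem_coe, mem_centralizer_iff]
    intro x' hx'
    rw [Set.mem_singleton_iff.1 hx']
    exact (mem_centralizer_iff.1 (h1 x hx) b hb).symm
  exact mem_centralizer_iff.1 (h2 hy) x rfl

theorem clSq : ∀ x ∈ closure B, x * x = 1 := by
  intro x hx
  induction hx using closure_induction with
  | mem x hx => exact h.sq x hx
  | one => exact one_mul 1
  | mul x y hx hy h1 h2 =>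
    have h3 := h.clComm x hx y hy
    calc x * y * (x * y) = x * (y * x) * y := by group
      _ = (x * x) * (y * y) := by rw [← h3]; group
      _ = 1 := by rw [h1, h2, one_mul]
  | inv x hx h1 => rw [← mul_inv_rev, h1, inv_one]

/-- `⟨I ∪ {b}⟩ = ⟨I⟩ ∪ b⟨I⟩` -/
theorem mem_insert {I : Set G} (hI : I ⊆ B) {b x : G} (hb : b ∈ B) (hx : x ∈ closure (insert b I)) :
    x ∈ closure I ∨ b * x ∈ closure I := by
  have hcl : closure (insert b I) ≤ closure B := closure_mono (Set.insert_subset hb hI)
  have hbB : b ∈ closure B := subset_closure hb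
  induction hx using closure_induction with
  | mem x hx =>
    rcases hx with rfl | hx
    · right; rw [h.sq x hb]; exact one_mem _
    · left; exact subset_closure hx
  | one => left; exact one_mem _
  | mul x y hx hy h1 h2 =>
    have hc : b * x = x * b := h.clComm b hbB x (hcl hx)
    rcases h1 with h1 | h1 <;> rcases h2 with h2 | h2
    · left; exact mul_mem h1 h2
    · right
      have : b * (x * y) = x * (b * y) := by rw [← mul_assoc, hc, mul_assoc]
      rw [this]; exact mul_mem h1 h2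
    · right
      rw [← mul_assoc]; exact mul_mem h1 h2
    · left
      have : x * y = b * x * (b * y) := by
        calc x * y = x * (b * b) * y := by rw [h.sq b hb, mul_one]
          _ = (x * b) * (b * y) := by group
          _ = b * x * (b * y) := by rw [hc]
      rw [this]; exact mul_mem h1 h2
  | inv x hx h1 =>
    have hc : b * x = x * b := h.clComm b hbB x (hcl hx)
    have hbi : b⁻¹ = b := inv_eq_of_mul_eq_one_left (h.sq b hb)
    rcases h1 with h1 | h1
    · left; exact inv_mem h1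
    · right
      have : b * x⁻¹ = (b * x)⁻¹ := by
        rw [mul_inv_rev, hbi]
        calc b * x⁻¹ = x⁻¹ * (x * b) * x⁻¹ := by group
          _ = x⁻¹ * (b * x) * x⁻¹ := by rw [hc]
          _ = x⁻¹ * b := by group
      rw [this]; exact inv_mem h1

theorem subset {I : Set G} (hI : I ⊆ B) : Ind I where
  sq := fun b hb => h.sq b (hI hb)
  comm := fun b hb c hc => h.comm b (hI hb) c (hI hc)
  out := fun b hb hm => h.out b (hI hb) (closure_mono (Set.sdiff_subset_sdiff_left hI) hm)

/-- `2 ^ |I| ≤ |⟨I⟩|` -/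
theorem card_ge [Finite G] {I : Set G} (hI : I ⊆ B) : 2 ^ I.ncard ≤ Nat.card (closure I) := by
  have hf : I.Finite := Set.toFinite _
  induction I, hf using Set.Finite.induction_on with
  | empty => simp
  | @insert b I hbI hf ih =>
    have hb : b ∈ B := hI (Set.mem_insert _ _)
    have hI' : I ⊆ B := (Set.subset_insert _ _).trans hI
    have ih := ih hI'
    rw [Set.ncard_insert_of_notMem hbI hf, pow_succ]
    have hsub : I ⊆ B \ {b} := fun x hx => ⟨hI' hx, by rintro rfl; exact hbI hx⟩
    have hb' : b ∉ closure I := fun hm => h.out b hb (closure_mono hsub hm)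
    have hle : closure I ≤ closure (insert b I) := closure_mono (Set.subset_insert _ _)
    have hne : closure I ≠ closure (insert b I) := fun e => hb' (e ▸ subset_closure (Set.mem_insert _ _))
    have hd : Nat.card (closure I) ∣ Nat.card (closure (insert b I)) := card_dvd_of_le hle
    obtain ⟨k, hk⟩ := hd
    have hk1 : k ≠ 1 := by
      rintro rfl
      rw [mul_one] at hk
      exact hne (eq_of_le_of_card_ge hle hk.le)
    have hk0 : k ≠ 0 := by
      rintro rfl
      rw [mul_zero] at hk
      exact Nat.card_pos.ne' hk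
    rw [hk]
    exact Nat.mul_le_mul ih (by omega)

/-- `⟨I⟩ ∩ ⟨J⟩ = ⟨I ∩ J⟩` -/
theorem inter [Finite G] {I J : Set G} (hI : I ⊆ B) (hJ : J ⊆ B) {x : G} (hx : x ∈ closure I)
    (hx' : x ∈ closure J) : x ∈ closure (I ∩ J) := by
  have hf : I.Finite := Set.toFinite _
  induction I, hf using Set.Finite.induction_on generalizing x with
  | empty => rw [Set.empty_inter]; exact hx
  | @insert b I hbI hf ih =>
    have hb : b ∈ B := hI (Set.mem_insert _ _)
    have hI' : I ⊆ B := (Set.subset_insert _ _).trans hI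
    have hmono : closure (I ∩ J) ≤ closure (insert b I ∩ J) :=
      closure_mono (Set.inter_subset_inter_left _ (Set.subset_insert _ _))
    rcases h.mem_insert hI' hb hx with h1 | h1
    · exact hmono (ih hI' h1 hx')
    · by_cases hbJ : b ∈ J
      · have h2 := hmono (ih hI' h1 (mul_mem (subset_closure hbJ) hx'))
        have h3 : x = b * (b * x) := by rw [← mul_assoc, h.sq b hb, one_mul]
        rw [h3]
        exact mul_mem (subset_closure ⟨Set.mem_insert _ _, hbJ⟩) h2
      · exfalso
        apply h.out b hb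
        have e1 : I ⊆ B \ {b} := fun y hy => ⟨hI' hy, by rintro rfl; exact hbI hy⟩
        have e2 : J ⊆ B \ {b} := fun y hy => ⟨hJ hy, by rintro rfl; exact hbJ hy⟩
        have h2 := mul_mem (closure_mono e1 h1) (inv_mem (closure_mono e2 hx'))
        have h3 : b * x * x⁻¹ = b := by group
        rwa [h3] at h2

/-- `b x = c y` with `b, c, x, y` in the basis -/
theorem pair {b c x y : G} (hb : b ∈ B) (hc : c ∈ B) (hx : x ∈ B) (hy : y ∈ B) (hbc : b ≠ c)
    (e : b * c = x * y) : (b = x ∧ c = y) ∨ (b = y ∧ c = x) := by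
  by_cases h1 : b = x
  · left
    refine ⟨h1, ?_⟩
    rw [h1] at e
    exact mul_left_cancel e
  · by_cases h2 : b = y
    · right
      refine ⟨h2, ?_⟩
      rw [h2, h.comm x hx y hy] at e
      exact mul_left_cancel e
    · exfalso
      apply h.out b hb
      have h3 : b = x * y * c⁻¹ := by rw [← e]; group
      rw [h3]
      have hn : x * y * c⁻¹ ∈ closure (B \ {b}) := by
        refine mul_mem (mul_mem (subset_closure ⟨hx, ?_⟩) (subset_closure ⟨hy, ?_⟩))
          (inv_mem (subset_closure ⟨hc, ?_⟩))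
        · rintro rfl; exact h1 rfl
        · rintro rfl; exact h2 rfl
        · rintro rfl; exact hbc rfl
      rwa [← h3] at hn ⊢

end Ind

/-! ### Best offenders -/

/-- The conjugates of `b` under `A`. -/
def orb (A : Subgroup G) (b : G) : Set G := {x | ∃ a ∈ A, x = a * b * a⁻¹}

theorem self_mem_orb (A : Subgroup G) (b : G) : b ∈ orb A b := ⟨1, one_mem _, by group⟩

theorem mem_cent_one {a b : G} : a ∈ centralizer ({b} : Set G) ↔ a * b * a⁻¹ = b := by
  rw [mem_centralizer_iff]
  constructor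
  · intro h
    have := h b rfl
    rw [← this]; group
  · intro h c hc
    rw [Set.mem_singleton_iff.1 hc]
    calc b * a = a * b * a⁻¹ * a := by rw [h]
      _ = a * b := by group

section best

variable [Finite G] {X A W : Subgroup G} {B : Set G}

/-- `|W| |C_A(W)| ≤ |A| |C_W(A)|` -/
theorem best_le (h : Best X A) (hW : W ≤ X) :
    Nat.card W * Nat.card ↥(A ⊓ centralizer (W : Set G)) ≤
      Nat.card A * Nat.card ↥(W ⊓ centralizer (A : Set G)) := by
  by_cases hc : A ≤ centralizer (W : Set G)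
  · have h1 : A ⊓ centralizer (W : Set G) = A := inf_eq_left.2 hc
    have h2 : W ⊓ centralizer (A : Set G) = W :=
      inf_eq_left.2 fun w hw => mem_centralizer_iff.2 fun a ha => (mem_centralizer_iff.1 (hc ha) w hw).symm
    rw [h1, h2, mul_comm]
  · exact (h.offM hW hc).le

/-- `|A| ≤ |C_A(b)| |b^A|` -/
theorem card_le_orb (A : Subgroup G) (b : G) :
    Nat.card A ≤ Nat.card ↥(A ⊓ centralizer ({b} : Set G)) * (orb A b).ncard := by
  set A₀ : Subgroup G := A ⊓ centralizer ({b} : Set G) with hA₀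
  have h1 : A₀.relIndex A ≤ (orb A b).ncard := by
    show Nat.card (A ⧸ (A₀.subgroupOf A)) ≤ Nat.card (orb A b)
    have hw : ∀ a a' : A, QuotientGroup.leftRel (A₀.subgroupOf A) a a' ↔
        (a : G) * b * (a : G)⁻¹ = (a' : G) * b * (a' : G)⁻¹ := by
      intro a a'
      rw [QuotientGroup.leftRel_apply, mem_subgroupOf, hA₀, mem_inf]
      constructor
      · rintro ⟨_, h2⟩
        have h3 := mem_cent_one.1 h2
        have h4 : (a : G) * ((↑(a⁻¹ * a') : G) * b * (↑(a⁻¹ * a') : G)⁻¹) * (a : G)⁻¹ = (a' : G) * b * (a' : G)⁻¹ := by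
          push_cast; group
        rw [← h4, h3]
      · intro h2
        refine ⟨(a⁻¹ * a').2, mem_cent_one.2 ?_⟩
        push_cast
        calc (a : G)⁻¹ * a' * b * ((a : G)⁻¹ * a')⁻¹ = (a : G)⁻¹ * ((a' : G) * b * (a' : G)⁻¹) * a := by group
          _ = b := by rw [← h2]; group
    let f : A ⧸ (A₀.subgroupOf A) → orb A b :=
      Quotient.lift (fun a : A => (⟨(a : G) * b * (a : G)⁻¹, a, a.2, rfl⟩ : orb A b))
        (fun a a' h => Subtype.ext ((hw a a').1 h))
    refine Nat.card_le_card_of_injective f ?_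
    intro x y hxy
    induction x using Quotient.inductionOn with
    | h x => induction y using Quotient.inductionOn with
      | h y => exact Quotient.sound ((hw x y).2 (congrArg Subtype.val hxy))
  have h2 : A₀.relIndex A * Nat.card A₀ = Nat.card A := by
    have h3 := relIndex_mul_relIndex ⊥ A₀ A bot_le inf_le_left
    rw [relIndex_bot_left, relIndex_bot_left] at h3
    rw [mul_comm]; exact h3
  calc Nat.card A = A₀.relIndex A * Nat.card A₀ := h2.symm
    _ ≤ (orb A b).ncard * Nat.card A₀ := Nat.mul_le_mul_right _ h1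
    _ = _ := mul_comm _ _

/-- Conjugates under `A` have the same centraliser in `A` (`A` is abelian mod `C(X)`). -/
theorem cent_conj (h : Best X A) {b a c : G} (ha : a ∈ A) (hc : c ∈ A)
    (haX : a * b * a⁻¹ ∈ X) (hcb : c * b * c⁻¹ = b) : c * (a * b * a⁻¹) * c⁻¹ = a * b * a⁻¹ := by
  have h1 := mem_centralizer_iff.1 (h.comm c hc a ha) (a * b * a⁻¹) haX
  -- `k = c a c⁻¹ a⁻¹` centralises `a b a⁻¹`
  have h2 : c * (a * b * a⁻¹) * c⁻¹ = (c * a * c⁻¹ * a⁻¹) * (a * (c * b * c⁻¹) * a⁻¹) * (c * a * c⁻¹ * a⁻¹)⁻¹ := by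
    group
  rw [h2, hcb, ← h1]
  group

theorem closure_conj {a : G} {I J : Set G} (h : ∀ i ∈ I, a * i * a⁻¹ ∈ J) {x : G} (hx : x ∈ closure I) :
    a * x * a⁻¹ ∈ closure J := by
  have h1 : closure I ≤ (closure J).comap (MulAut.conj a).toMonoidHom := by
    rw [closure_le]
    intro i hi
    exact subset_closure (h i hi)
  exact h1 hx

/-- **Orbits have length at most 2.** -/
theorem orbit_le (h : Best X A) (hB : Ind B) (hBX : B ⊆ X) (hAB : ∀ a ∈ A, ∀ b ∈ B, a * b * a⁻¹ ∈ B)
    {b : G} (hb : b ∈ B) : (orb A b).ncard ≤ 2 := by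
  have ho : orb A b ⊆ B := by
    rintro _ ⟨a, ha, rfl⟩
    exact hAB a ha b hb
  set o := orb A b with hodef
  set W : Subgroup G := closure (o \ {b}) with hW
  have hWX : W ≤ X := (closure_le _).2 ((Set.sdiff_subset.trans ho).trans hBX)
  have horb : ∀ a ∈ A, ∀ x ∈ o, a * x * a⁻¹ ∈ o := by
    rintro a ha _ ⟨c, hc, rfl⟩
    exact ⟨a * c, mul_mem ha hc, by group⟩
  -- `C_W(A) = 1`
  have h1 : W ⊓ centralizer (A : Set G) = ⊥ := by
    rw [eq_bot_iff]
    rintro x ⟨hx, hxA⟩
    obtain ⟨I, ⟨hI, hxI⟩, hmin⟩ := Set.exists_min_image {I : Set G | I ⊆ o \ {b} ∧ x ∈ closure I}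
      (fun I => I.ncard) (Set.toFinite _) ⟨o \ {b}, le_rfl, hx⟩
    have hIo : I ⊆ o := hI.trans Set.sdiff_subset
    have hinv : ∀ a ∈ A, ∀ i ∈ I, a * i * a⁻¹ ∈ I := by
      intro a ha
      set J : Set G := (fun i => a * i * a⁻¹) '' I with hJ
      have hJo : J ⊆ o := by
        rintro _ ⟨i, hi, rfl⟩
        exact horb a ha i (hIo hi)
      have hxJ : x ∈ closure J := by
        have h2 := closure_conj (a := a) (J := J) (fun i hi => ⟨i, hi, rfl⟩) hxI
        have h3 : a * x * a⁻¹ = x := by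
          rw [mem_centralizer_iff.1 hxA a ha]; group
        rwa [h3] at h2
      have h2 := hB.inter (hIo.trans ho) (hJo.trans ho) hxI hxJ
      have h3 := hmin (I ∩ J) ⟨Set.inter_subset_left.trans hI, h2⟩
      have h4 : I ∩ J = I := Set.eq_of_subset_of_ncard_le Set.inter_subset_left h3
      have h5 : I ⊆ J := Set.inter_eq_left.1 h4
      have h6 : J.ncard ≤ I.ncard := Set.ncard_image_le (Set.toFinite _)
      have h7 : I = J := Set.eq_of_subset_of_ncard_le h5 h6
      intro i hi
      rw [h7]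
      exact ⟨i, hi, rfl⟩
    rcases I.eq_empty_or_nonempty with rfl | ⟨i, hi⟩
    · simpa using hxI
    · exfalso
      obtain ⟨a, ha, rfl⟩ := hIo hi
      have h2 := hinv a⁻¹ (inv_mem ha) _ hi
      have h3 : a⁻¹ * (a * b * a⁻¹) * a⁻¹⁻¹ = b := by group
      rw [h3] at h2
      exact (hI h2).2 rfl
  have h2 := best_le h hWX
  rw [h1, card_bot, mul_one] at h2
  have h3 : A ⊓ centralizer ({b} : Set G) ≤ A ⊓ centralizer (W : Set G) := by
    refine le_inf inf_le_left ?_
    rintro c ⟨hc, hcb⟩
    have hcb' := mem_cent_one.1 hcb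
    have h4 : closure (o \ {b}) ≤ centralizer ({c} : Set G) := by
      rw [closure_le]
      rintro _ ⟨⟨a, ha, rfl⟩, _⟩
      have h5 := cent_conj h ha hc (hBX (hAB a ha b hb)) hcb'
      rw [SetLike.mem_coe, mem_centralizer_iff]
      intro c' hc'
      rw [Set.mem_singleton_iff.1 hc']
      calc c * (a * b * a⁻¹) = c * (a * b * a⁻¹) * c⁻¹ * c := by group
        _ = a * b * a⁻¹ * c := by rw [h5]
    rw [mem_centralizer_iff]
    intro w hw
    exact (mem_centralizer_iff.1 (h4 hw) c rfl).symm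
  have h4 := card_le_orb A b
  have h5 := card_le_of_le h3
  have h6 := hB.card_ge (I := o \ {b}) (Set.sdiff_subset.trans ho)
  have h7 : (o \ {b}).ncard + 1 = o.ncard := Set.ncard_sdiff_singleton_add_one (self_mem_orb A b)
  have h8 : 0 < Nat.card ↥(A ⊓ centralizer ({b} : Set G)) := Nat.card_pos
  have h9 : 2 ^ (o \ {b}).ncard ≤ o.ncard := by
    have e1 : 2 ^ (o \ {b}).ncard * Nat.card ↥(A ⊓ centralizer ({b} : Set G)) ≤
        o.ncard * Nat.card ↥(A ⊓ centralizer ({b} : Set G)) := by
      calc _ ≤ Nat.card W * Nat.card ↥(A ⊓ centralizer (W : Set G)) := Nat.mul_le_mul h6 h5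
        _ ≤ Nat.card A := h2
        _ ≤ _ := h4
        _ = _ := mul_comm _ _
    exact Nat.le_of_mul_le_mul_right e1 h8
  by_contra hcon
  have h10 : 3 ≤ o.ncard := by omega
  obtain ⟨n, hn⟩ : ∃ n, (o \ {b}).ncard = n + 2 := ⟨(o \ {b}).ncard - 2, by omega⟩
  rw [hn] at h9 h7
  have h11 : n < 2 ^ n := Nat.lt_two_pow_self
  have h12 : 2 ^ (n + 2) = 4 * 2 ^ n := by rw [pow_add]; ring
  omega

/-- two members of `A` which move `b` -/
theorem two_or (h : Best X A) (hB : Ind B) (hBX : B ⊆ X) (hAB : ∀ a ∈ A, ∀ b ∈ B, a * b * a⁻¹ ∈ B)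
    {b : G} (hb : b ∈ B) {a a' : G} (ha : a ∈ A) (ha' : a' ∈ A) (h1 : a * b * a⁻¹ ≠ b)
    (h2 : a' * b * a'⁻¹ ≠ b) : a * b * a⁻¹ = a' * b * a'⁻¹ := by
  by_contra h3
  have h4 := orbit_le h hB hBX hAB hb
  have h5 : ({b, a * b * a⁻¹, a' * b * a'⁻¹} : Set G) ⊆ orb A b := by
    rintro x (rfl | rfl | rfl)
    · exact self_mem_orb A x
    · exact ⟨a, ha, rfl⟩
    · exact ⟨a', ha', rfl⟩
  have h6 := Set.ncard_le_ncard h5 (Set.toFinite _)
  have h7 : ({b, a * b * a⁻¹, a' * b * a'⁻¹} : Set G).ncard = 3 := by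
    rw [Set.ncard_eq_three]
    exact ⟨_, _, _, h1.symm, h2.symm, h3, rfl⟩
  omega

/-- **A pure transposition.** -/
theorem exists_pure (h : Best X A) (hB : Ind B) (hBX : B ⊆ X) (hAB : ∀ a ∈ A, ∀ b ∈ B, a * b * a⁻¹ ∈ B)
    {b c : G} (hb : b ∈ B) (hc : c ∈ B) (hbm : ∃ a ∈ A, a * b * a⁻¹ ≠ b) (hcb : c ∉ orb A b) :
    ∃ a ∈ A, a * b * a⁻¹ ≠ b ∧ a * c * a⁻¹ = c := by
  by_contra hcon
  push Not at hcon
  have hbc : b ≠ c := by
    rintro rfl
    exact hcb (self_mem_orb A b)
  -- `C_A(c) ≤ C_A(b)`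
  have h1 : ∀ a ∈ A, a * c * a⁻¹ = c → a * b * a⁻¹ = b := fun a ha h2 => by
    by_contra h3
    exact hcon a ha h3 h2
  obtain ⟨a₀, ha₀, hab⟩ := hbm
  set W : Subgroup G := closure {b, c} with hW
  have hWB : ({b, c} : Set G) ⊆ B := by
    rintro x (rfl | rfl)
    · exact hb
    · exact hc
  have hWX : W ≤ X := (closure_le _).2 (hWB.trans hBX)
  have h2 : W ⊓ centralizer (A : Set G) = ⊥ := by
    rw [eq_bot_iff]
    rintro x ⟨hx, hxA⟩
    have hfix : ∀ a ∈ A, a * x * a⁻¹ = x := fun a ha => by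
      rw [mem_centralizer_iff.1 hxA a ha]; group
    have e0 : ({c} : Set G) ⊆ B := Set.singleton_subset_iff.2 hc
    have hcm : a₀ * c * a₀⁻¹ ≠ c := fun e => hab (h1 a₀ ha₀ e)
    have key : ∀ y ∈ closure ({c} : Set G), y = 1 ∨ y = c := by
      intro y hy
      rw [← zpowers_eq_closure] at hy
      obtain ⟨n, rfl⟩ := mem_zpowers_iff.1 hy
      have hc2 : c ^ (2 : ℤ) = 1 := by rw [zpow_two]; exact hB.sq c hc
      rcases Int.even_or_odd' n with ⟨k, rfl | rfl⟩
      · left; rw [zpow_mul, hc2, one_zpow]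
      · right; rw [zpow_add, zpow_mul, hc2, one_zpow, one_mul, zpow_one]
    rcases hB.mem_insert e0 hb hx with h3 | h3
    · rcases key x h3 with h4 | h4
      · rw [h4]; exact one_mem _
      · exfalso
        apply hcm
        rw [← h4]
        exact hfix a₀ ha₀
    · exfalso
      rcases key _ h3 with h4 | h4
      · have h5 : x = b := by
          have : x = b * (b * x) := by rw [← mul_assoc, hB.sq b hb, one_mul]
          rw [this, h4, mul_one]
        apply hab
        rw [← h5]
        exact hfix a₀ ha₀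
      · have h5 : x = b * c := by
          have : x = b * (b * x) := by rw [← mul_assoc, hB.sq b hb, one_mul]
          rw [this, h4]
        have h6 := hfix a₀ ha₀
        rw [h5] at h6
        have h7 : (a₀ * b * a₀⁻¹) * (a₀ * c * a₀⁻¹) = b * c := by
          rw [← h6]; group
        rcases hB.pair hb hc (hAB a₀ ha₀ b hb) (hAB a₀ ha₀ c hc) hbc h7.symm with ⟨e1, _⟩ | ⟨e1, e2⟩
        · exact hab e1.symm
        · exact hcb ⟨a₀, ha₀, e2⟩
  have h3 := best_le h hWX
  rw [h2, card_bot, mul_one] at h3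
  have h4 : A ⊓ centralizer ({c} : Set G) ≤ A ⊓ centralizer (W : Set G) := by
    refine le_inf inf_le_left ?_
    rintro d ⟨hd, hdc⟩
    have hdc' := mem_cent_one.1 hdc
    have hdb' := h1 d hd hdc'
    have h4 : closure ({b, c} : Set G) ≤ centralizer ({d} : Set G) := by
      rw [closure_le]
      rintro x (rfl | rfl)
      · rw [SetLike.mem_coe, mem_centralizer_iff]
        intro c' hc'
        rw [Set.mem_singleton_iff.1 hc']
        calc d * x = d * x * d⁻¹ * d := by group
          _ = x * d := by rw [hdb']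
      · rw [SetLike.mem_coe, mem_centralizer_iff]
        intro c' hc'
        rw [Set.mem_singleton_iff.1 hc']
        calc d * x = d * x * d⁻¹ * d := by group
          _ = x * d := by rw [hdc']
    rw [mem_centralizer_iff]
    intro w hw
    exact (mem_centralizer_iff.1 (h4 hw) d rfl).symm
  have h5 := card_le_orb A c
  have h6 := orbit_le h hB hBX hAB hc
  have h7 := hB.card_ge hWB
  rw [Set.ncard_pair hbc] at h7
  have h8 := card_le_of_le h4
  have h9 : 0 < Nat.card ↥(A ⊓ centralizer ({c} : Set G)) := Nat.card_pos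
  have h10 : Nat.card A ≤ Nat.card ↥(A ⊓ centralizer ({c} : Set G)) * 2 := h5.trans (Nat.mul_le_mul_left _ h6)
  have h11 : 2 ^ 2 * Nat.card ↥(A ⊓ centralizer ({c} : Set G)) ≤ Nat.card A := (Nat.mul_le_mul h7 h8).trans h3
  omega

/-- a subset `I'` of `I` with `⟨I'⟩ ∩ C(A) = 1` and `|A| ≤ 2 ^ |I'| |C_A(I)|` -/
theorem exists_sub (h : Best X A) (hB : Ind B) (hBX : B ⊆ X) (hAB : ∀ a ∈ A, ∀ b ∈ B, a * b * a⁻¹ ∈ B)
    (I : Set G) (hI : I ⊆ B) : ∃ I' : Set G, I' ⊆ I ∧ closure I' ⊓ centralizer (A : Set G) = ⊥ ∧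
      Nat.card A ≤ 2 ^ I'.ncard * Nat.card ↥(A ⊓ centralizer I) := by
  have hf : I.Finite := Set.toFinite _
  induction I, hf using Set.Finite.induction_on with
  | empty =>
    refine ⟨∅, le_rfl, by simp, ?_⟩
    have : A ⊓ centralizer (∅ : Set G) = A := inf_eq_left.2 fun a _ => by
      rw [mem_centralizer_iff]
      intro x hx
      exact absurd hx (Set.notMem_empty x)
    rw [this]; simp
  | @insert b I hbI hf ih =>
    have hb : b ∈ B := hI (Set.mem_insert _ _)
    have hI' : I ⊆ B := (Set.subset_insert _ _).trans hI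
    obtain ⟨I', h1, h2, h3⟩ := ih hI'
    have hins : ∀ a ∈ A ⊓ centralizer I, a * b * a⁻¹ = b → a ∈ A ⊓ centralizer (insert b I : Set G) := by
      rintro a ⟨ha, haI⟩ hab
      refine ⟨ha, mem_centralizer_iff.2 ?_⟩
      rintro x (rfl | hx)
      · calc x * a = a * x * a⁻¹ * a := by rw [hab]
          _ = a * x := by group
      · exact mem_centralizer_iff.1 haI x hx
    by_cases hc : ∀ a ∈ A ⊓ centralizer I, a * b * a⁻¹ = b
    · refine ⟨I', h1.trans (Set.subset_insert _ _), h2, h3.trans (Nat.mul_le_mul_left _ ?_)⟩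
      exact card_le_of_le fun a ha => hins a ha (hc a ha)
    · push Not at hc
      obtain ⟨a, ha, hab⟩ := hc
      have hbI' : b ∉ I' := fun hm => hbI (h1 hm)
      refine ⟨insert b I', Set.insert_subset_insert h1, ?_, ?_⟩
      · rw [eq_bot_iff]
        rintro x ⟨hx, hxA⟩
        rcases hB.mem_insert (h1.trans hI') hb hx with h4 | h4
        · rw [← h2]; exact ⟨h4, hxA⟩
        · exfalso
          apply hab
          have e1 : a ∈ centralizer ((closure I : Subgroup G) : Set G) := by
            rw [mem_centralizer_iff]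
            intro y hy
            have e2 : closure I ≤ centralizer ({a} : Set G) := by
              rw [closure_le]
              intro i hi
              rw [SetLike.mem_coe, mem_centralizer_iff]
              intro c' hc'
              rw [Set.mem_singleton_iff.1 hc']
              exact (mem_centralizer_iff.1 ha.2 i hi).symm
            exact (mem_centralizer_iff.1 (e2 hy) a rfl).symm
          have e3 : a * (b * x) * a⁻¹ = b * x := by
            rw [← mem_centralizer_iff.1 e1 _ (closure_mono h1 h4)]; group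
          have e4 : a * x * a⁻¹ = x := by
            rw [mem_centralizer_iff.1 hxA a ha.1]; group
          have e5 : a * b * a⁻¹ = (a * (b * x) * a⁻¹) * (a * x * a⁻¹)⁻¹ := by group
          rw [e5, e3, e4]; group
      · rw [Set.ncard_insert_of_notMem hbI' (Set.toFinite _), pow_succ]
        have e1 := card_le_orb (A ⊓ centralizer I) b
        have e2 : (orb (A ⊓ centralizer I) b).ncard ≤ 2 := by
          refine le_trans (Set.ncard_le_ncard ?_ (Set.toFinite _)) (orbit_le h hB hBX hAB hb)
          rintro _ ⟨c, hc, rfl⟩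
          exact ⟨c, hc.1, rfl⟩
        have e3 : Nat.card ↥(A ⊓ centralizer I ⊓ centralizer ({b} : Set G)) ≤
            Nat.card ↥(A ⊓ centralizer (insert b I : Set G)) :=
          card_le_of_le fun c hc => hins c hc.1 (mem_cent_one.1 hc.2)
        have e4 : Nat.card ↥(A ⊓ centralizer I) ≤ Nat.card ↥(A ⊓ centralizer (insert b I : Set G)) * 2 :=
          e1.trans (Nat.mul_le_mul e3 e2)
        calc Nat.card A ≤ 2 ^ I'.ncard * Nat.card ↥(A ⊓ centralizer I) := h3
          _ ≤ 2 ^ I'.ncard * (Nat.card ↥(A ⊓ centralizer (insert b I : Set G)) * 2) := Nat.mul_le_mul_left _ e4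
          _ = _ := by ring

theorem centralizer_closure_eq (B : Set G) : centralizer ((closure B : Subgroup G) : Set G) = centralizer B := by
  refine le_antisymm (centralizer_le subset_closure) fun a ha => ?_
  rw [mem_centralizer_iff]
  intro y hy
  have e2 : closure B ≤ centralizer ({a} : Set G) := by
    rw [closure_le]
    intro i hi
    rw [SetLike.mem_coe, mem_centralizer_iff]
    intro c' hc'
    rw [Set.mem_singleton_iff.1 hc']
    exact (mem_centralizer_iff.1 ha i hi).symm
  exact (mem_centralizer_iff.1 (e2 hy) a rfl).symm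

/-- **Permutation modules have no over-offender**: `|A| |C_F(A)| ≤ |F| |C_A(F)|`. -/
theorem perm_le (h : Best X A) (hB : Ind B) (hBX : B ⊆ X) (hAB : ∀ a ∈ A, ∀ b ∈ B, a * b * a⁻¹ ∈ B) :
    Nat.card A * Nat.card ↥(closure B ⊓ centralizer (A : Set G)) ≤
      Nat.card (closure B) * Nat.card ↥(A ⊓ centralizer ((closure B : Subgroup G) : Set G)) := by
  obtain ⟨I, h1, h2, h3⟩ := exists_sub h hB hBX hAB B le_rfl
  rw [centralizer_closure_eq]
  set C : Subgroup G := closure B ⊓ centralizer (A : Set G) with hC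
  have h4 := hB.card_ge h1
  have h5 : closure I ≤ normalizer (C : Set G) := by
    refine le_normalizer_iff.2 fun x hx y hy => ?_
    rw [hB.clComm x (closure_mono h1 hx) y hy.1, mul_inv_cancel_right]
    exact hy
  have h6 := ZN.Block.card_sup_mul_card_inf h5
  have h7 : closure I ⊓ C = ⊥ := by
    rw [eq_bot_iff, ← h2]
    exact le_inf inf_le_left (inf_le_right.trans inf_le_right)
  rw [h7, card_bot, mul_one] at h6
  have h8 : Nat.card ↥(closure I ⊔ C) ≤ Nat.card (closure B) :=
    card_le_of_le (sup_le (closure_mono h1) inf_le_left)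
  calc Nat.card A * Nat.card C ≤ (2 ^ I.ncard * Nat.card ↥(A ⊓ centralizer B)) * Nat.card C :=
        Nat.mul_le_mul_right _ h3
    _ ≤ (Nat.card (closure I) * Nat.card ↥(A ⊓ centralizer B)) * Nat.card C :=
        Nat.mul_le_mul_right _ (Nat.mul_le_mul_right _ h4)
    _ = (Nat.card (closure I) * Nat.card C) * Nat.card ↥(A ⊓ centralizer B) := by ring
    _ ≤ _ := by rw [← h6]; exact Nat.mul_le_mul_right _ h8

/-- **`A` moves `V`: then `C_A(F)` moves `V`.** -/
theorem moves (h : Best X A) (hB : Ind B) (hBX : B ⊆ X) (hAB : ∀ a ∈ A, ∀ b ∈ B, a * b * a⁻¹ ∈ B)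
    {V : Subgroup G} (hVX : V ≤ X) (hXc : ∀ x ∈ X, ∀ y ∈ X, x * y = y * x)
    (hAV : A ≤ normalizer (V : Set G)) (hd : V ⊓ closure B = ⊥)
    (hmv : ¬ A ≤ centralizer (V : Set G)) : ¬ A ⊓ centralizer B ≤ centralizer (V : Set G) := by
  intro hcon
  set F : Subgroup G := closure B with hF
  have hFX : F ≤ X := (closure_le _).2 hBX
  have hAF : ∀ a ∈ A, ∀ f ∈ F, a * f * a⁻¹ ∈ F := fun a ha f hf =>
    closure_conj (a := a) (fun b hb => hAB a ha b hb) hf
  have hAV' : ∀ a ∈ A, ∀ v ∈ V, a * v * a⁻¹ ∈ V := fun a ha v hv => (mem_normalizer_iff.1 (hAV ha) v).1 hv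
  have hVF : V ≤ normalizer (F : Set G) := by
    refine le_normalizer_iff.2 fun x hx y hy => ?_
    rw [hXc x (hVX hx) y (hFX hy), mul_inv_cancel_right]
    exact hy
  have h1 := best_le h (sup_le hVX hFX)
  have h2 := ZN.Block.card_sup_mul_card_inf hVF
  rw [hd, card_bot, mul_one] at h2
  have h3 : A ⊓ centralizer B ≤ A ⊓ centralizer ((V ⊔ F : Subgroup G) : Set G) := by
    refine le_inf inf_le_left fun a ha => ?_
    have e1 : V ⊔ F ≤ centralizer ({a} : Set G) := by
      refine sup_le ?_ ?_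
      · intro v hv
        rw [mem_centralizer_iff]
        intro c' hc'
        rw [Set.mem_singleton_iff.1 hc']
        exact (mem_centralizer_iff.1 (hcon ha) v hv).symm
      · intro f hf
        rw [mem_centralizer_iff]
        intro c' hc'
        rw [Set.mem_singleton_iff.1 hc']
        have e2 := ha.2
        rw [← centralizer_closure_eq] at e2
        exact (mem_centralizer_iff.1 e2 f hf).symm
    rw [mem_centralizer_iff]
    intro w hw
    exact (mem_centralizer_iff.1 (e1 hw) a rfl).symm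
  -- `C_{VF}(A) ≤ C_V(A) C_F(A)`
  have h4 : (V ⊔ F) ⊓ centralizer (A : Set G) ≤
      (V ⊓ centralizer (A : Set G)) ⊔ (F ⊓ centralizer (A : Set G)) := by
    rintro x ⟨hx, hxA⟩
    have e0 : ((V ⊔ F : Subgroup G) : Set G) = (V : Set G) * (F : Set G) :=
      coe_mul_of_left_le_normalizer_right V F hVF
    have hx' : x ∈ (V : Set G) * (F : Set G) := by rw [← e0]; exact hx
    obtain ⟨v, hv, f, hf, hvf⟩ := hx'
    replace hvf : v * f = x := hvf
    subst hvf
    replace hv : v ∈ V := hv
    replace hf : f ∈ F := hf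
    have key : ∀ a ∈ A, a * v * a⁻¹ = v ∧ a * f * a⁻¹ = f := by
      intro a ha
      have e1 : (a * v * a⁻¹) * (a * f * a⁻¹) = v * f := by
        have := mem_centralizer_iff.1 hxA a ha
        calc _ = a * (v * f) * a⁻¹ := by group
          _ = v * f := by rw [this]; group
      have e2 : v⁻¹ * (a * v * a⁻¹) = f * (a * f * a⁻¹)⁻¹ := by
        calc v⁻¹ * (a * v * a⁻¹) = v⁻¹ * ((a * v * a⁻¹) * (a * f * a⁻¹)) * (a * f * a⁻¹)⁻¹ := by group
          _ = _ := by rw [e1]; group
      have e3 : v⁻¹ * (a * v * a⁻¹) ∈ V ⊓ F :=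
        mem_inf.2 ⟨mul_mem (inv_mem hv) (hAV' a ha v hv), by
          rw [e2]; exact mul_mem hf (inv_mem (hAF a ha f hf))⟩
      rw [hd, mem_bot] at e3
      have e4 : a * v * a⁻¹ = v := (inv_mul_eq_one.1 e3).symm
      exact ⟨e4, by rw [e4] at e1; exact mul_left_cancel e1⟩
    refine mul_mem (mem_sup_left (mem_inf.2 ⟨hv, ?_⟩)) (mem_sup_right (mem_inf.2 ⟨hf, ?_⟩))
    · rw [mem_centralizer_iff]
      intro a ha
      calc a * v = a * v * a⁻¹ * a := by group
        _ = v * a := by rw [(key a ha).1]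
    · rw [mem_centralizer_iff]
      intro a ha
      calc a * f = a * f * a⁻¹ * a := by group
        _ = f * a := by rw [(key a ha).2]
  have hn : V ⊓ centralizer (A : Set G) ≤ normalizer ((F ⊓ centralizer (A : Set G) : Subgroup G) : Set G) := by
    refine le_normalizer_iff.2 fun x hx y hy => ?_
    rw [hXc x (hVX hx.1) y (hFX hy.1), mul_inv_cancel_right]
    exact hy
  have h5 := ZN.Block.card_sup_mul_card_inf hn
  have h6 : (V ⊓ centralizer (A : Set G)) ⊓ (F ⊓ centralizer (A : Set G)) = ⊥ := by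
    rw [eq_bot_iff, ← hd]
    exact le_inf (inf_le_left.trans inf_le_left) (inf_le_right.trans inf_le_left)
  rw [h6, card_bot, mul_one] at h5
  have h7 := card_le_of_le h4
  rw [h5] at h7
  have h8 := perm_le h hB hBX hAB
  have h9 : Nat.card ↥(A ⊓ centralizer B) ≤ Nat.card ↥(A ⊓ centralizer ((V ⊔ F : Subgroup G) : Set G)) :=
    card_le_of_le h3
  rw [centralizer_closure_eq] at h8
  have hF0 : 0 < Nat.card F := Nat.card_pos
  have hA0 : 0 < Nat.card ↥(A ⊓ centralizer B) := Nat.card_pos
  have h10 : Nat.card V * (Nat.card F * Nat.card ↥(A ⊓ centralizer B)) ≤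
      Nat.card ↥(V ⊓ centralizer (A : Set G)) * (Nat.card F * Nat.card ↥(A ⊓ centralizer B)) := by
    calc Nat.card V * (Nat.card F * Nat.card ↥(A ⊓ centralizer B))
        = Nat.card ↥(V ⊔ F) * Nat.card ↥(A ⊓ centralizer B) := by rw [h2]; ring
      _ ≤ Nat.card ↥(V ⊔ F) * Nat.card ↥(A ⊓ centralizer ((V ⊔ F : Subgroup G) : Set G)) :=
          Nat.mul_le_mul_left _ h9
      _ ≤ Nat.card A * Nat.card ↥((V ⊔ F) ⊓ centralizer (A : Set G)) := h1
      _ ≤ Nat.card A * (Nat.card ↥(V ⊓ centralizer (A : Set G)) * Nat.card ↥(F ⊓ centralizer (A : Set G))) :=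
          Nat.mul_le_mul_left _ h7
      _ = Nat.card ↥(V ⊓ centralizer (A : Set G)) * (Nat.card A * Nat.card ↥(F ⊓ centralizer (A : Set G))) := by ring
      _ ≤ _ := Nat.mul_le_mul_left _ h8
  have h11 := Nat.le_of_mul_le_mul_right h10 (Nat.mul_pos hF0 hA0)
  have h12 : V ⊓ centralizer (A : Set G) = V := eq_of_le_of_card_ge inf_le_left h11
  apply hmv
  intro a ha
  rw [mem_centralizer_iff]
  intro v hv
  have hv' : v ∈ V ⊓ centralizer (A : Set G) := by rw [h12]; exact hv
  exact (mem_centralizer_iff.1 hv'.2 a ha).symm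

end best

end Cfsg.Agent.Omega.NOThreeL.RRed.TwoLev
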