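import Cfsg.Agent.Omega.NO3S.Level.Lim
import Cfsg.Agent.Omega.NOThreeL.RRed.TwoLevA

/-!
# Two levels in box R (helper11 #23715 (A)(3), helper279 #24062): `O²(R)` fixes the blocks of the lower level

`B` a basis of a permutation module for `S` and all `R ∈ PP` (minimal parabolics), `V₂` an `R`-invariant subgroup of
`X_k = Ω₁(Z(J_k))` with `V₂ ∩ ⟨B⟩ = 1`, moved by `O²(R)`, `O₂(R) ≤ C(V₂)`, `B ⊆ X_k`, `V₂ ≰ V^!(S)`.

* `PM` : the hypotheses;
* `PM.fix`, `PM.fix_at` : every element of odd order of `R ∈ PP` fixes all `b ∈ B`.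
-/

set_option autoImplicit false
set_option linter.unusedSectionVars false

namespace Cfsg.Agent.Omega.NOThreeL.RRed.TwoLev

open Subgroup Cfsg Cfsg.Agent.ZN Cfsg.Agent.ZN.ChoiceBase Cfsg.Agent.Omega.MinPar
open Cfsg.Agent.Omega.NO3S.Level
open Cfsg.Agent.Omega.NO1.BestOff (Best)
open Cfsg.Agent.MinSimple.VModule (o2_isPGroup oddGen mem_oddGen oddGen_le oddGen_le_of_sup)
open Cfsg.Agent.MinSimple.MinParabolic (IsMinPar)

universe u

variable {G : Type u} [Group G]

structure PM (S : Sylow 2 G) (B : Set G) (V₂ : Subgroup G) (PP : Set (Subgroup G)) : Prop where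
  ind : Ind B
  permS : ∀ s ∈ (S : Subgroup G), ∀ b ∈ B, s * b * s⁻¹ ∈ B
  par : ∀ R ∈ PP, IsMinPar (S : Subgroup G) R
  perm : ∀ R ∈ PP, ∀ r ∈ R, ∀ b ∈ B, r * b * r⁻¹ ∈ B
  nor : ∀ R ∈ PP, R ≤ normalizer (V₂ : Set G)
  mov : ∀ R ∈ PP, ¬ oddGen R ≤ centralizer (V₂ : Set G)
  cen : ∀ R ∈ PP, o2 R ≤ centralizer (V₂ : Set G)
  dis : V₂ ⊓ closure B = ⊥

section fin

variable [Finite G] {S : Sylow 2 G} {B : Set G} {V₂ : Subgroup G} {PP : Set (Subgroup G)}

/-- A normal subgroup of a minimal parabolic. -/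
theorem min_or {R N : Subgroup G} (hR : IsMinPar (S : Subgroup G) R) (hNR : N ≤ R)
    (hN : R ≤ normalizer (N : Set G)) : oddGen R ≤ N ∨ (S : Subgroup G) ⊓ N ≤ o2 R := by
  rcases hR.sup_eq_or_inf_le S.isPGroup' (MinSimple.Basic.not_dvd_relIndex S hR.le) hNR hN with h | h
  · left
    exact oddGen_le_of_sup hN h.ge hR.le hNR S.isPGroup'
  · right; exact h

theorem o2_le {R : Subgroup G} (hR : (S : Subgroup G) ≤ R) : o2 R ≤ (S : Subgroup G) :=
  le_of_le_normalizer S (o2_isPGroup R) (hR.trans (le_normalizer_o2 R))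

omit [Finite G] in
/-- odd elements -/
theorem odd_fix {x y : G} (ho : Odd (orderOf x)) (h : x * x * y * (x * x)⁻¹ = y) : x * y * x⁻¹ = y := by
  have h1 : x * x ∈ centralizer ({y} : Set G) := mem_cent_one.2 h
  obtain ⟨k, hk⟩ := ho
  have h2 : x = (x * x) ^ (k + 1) := by
    have h3 : x ^ (2 * k + 1) = 1 := by rw [← hk, pow_orderOf_eq_one]
    calc x = x ^ (2 * k + 1) * x := by rw [h3, one_mul]
      _ = x ^ (2 * (k + 1)) := by rw [← pow_succ]; congr 1
      _ = (x * x) ^ (k + 1) := by rw [pow_mul, pow_two]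
  have h4 : x ∈ centralizer ({y} : Set G) := by rw [h2]; exact pow_mem h1 _
  exact mem_cent_one.1 h4

/-- A 2-element does not act as a 3-cycle. -/
theorem no_three {x b c d : G} (hx : x ∈ (S : Subgroup G)) (h1 : x * b * x⁻¹ = c) (h2 : x * c * x⁻¹ = d)
    (h3 : x * d * x⁻¹ = b) : c = b := by
  have h4 : x ^ 3 * b * (x ^ 3)⁻¹ = b := by
    have e : x ^ 3 = x * x * x := by rw [pow_succ, pow_two]
    calc x ^ 3 * b * (x ^ 3)⁻¹ = x * (x * (x * b * x⁻¹) * x⁻¹) * x⁻¹ := by rw [e]; group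
      _ = b := by rw [h1, h2, h3]
  have h5 : x ^ 3 ∈ centralizer ({b} : Set G) := mem_cent_one.2 h4
  obtain ⟨n, hn⟩ := S.isPGroup' ⟨x, hx⟩
  have hn' : x ^ 2 ^ n = 1 := congrArg Subtype.val hn
  have h6 : x ∈ zpowers (x ^ 3) := by
    rw [mem_zpowers_pow_iff]
    have h7 : orderOf x ∣ 2 ^ n := orderOf_dvd_of_pow_eq_one hn'
    exact Nat.Coprime.coprime_dvd_right h7 (Nat.Coprime.pow_right n (by decide))
  have h7 : x ∈ centralizer ({b} : Set G) := (zpowers_le.2 h5) h6
  rw [← h1]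
  exact mem_cent_one.1 h7

/-- The exchange relation: `c` is a conjugate of `b` under a best offender. -/
def T (S : Sylow 2 G) (K : Subgroup G) (b c : G) : Prop :=
  ∃ A ∈ BO (S : Subgroup G) K, ∃ a ∈ A, c = a * b * a⁻¹

theorem T.symm {K : Subgroup G} {b c : G} (h : T S K b c) : T S K c b := by
  obtain ⟨A, hA, a, ha, rfl⟩ := h
  exact ⟨A, hA, a⁻¹, inv_mem ha, by group⟩

/-- **At most one partner.** -/
theorem T.uniq {K : Subgroup G} (hi : Ind B) (hS : ∀ s ∈ (S : Subgroup G), ∀ b ∈ B, s * b * s⁻¹ ∈ B)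
    (hK : B ⊆ zc K) {b c d : G} (hb : b ∈ B) (h1 : T S K b c) (h2 : T S K b d) (hc : c ≠ b) (hd : d ≠ b) :
    c = d := by
  by_contra hcd
  obtain ⟨A, hA, a, ha, rfl⟩ := h1
  obtain ⟨A', hA', a', ha', rfl⟩ := h2
  have hAB : ∀ x ∈ A, ∀ y ∈ B, x * y * x⁻¹ ∈ B := fun x hx y hy => hS x (hA.1 hx) y hy
  have hAB' : ∀ x ∈ A', ∀ y ∈ B, x * y * x⁻¹ ∈ B := fun x hx y hy => hS x (hA'.1 hx) y hy
  have hcB := hAB a ha b hb
  have hdB := hAB' a' ha' b hb
  have n1 : a' * b * a'⁻¹ ∉ orb A b := by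
    rintro ⟨x, hx, e⟩
    have hx' : x * b * x⁻¹ ≠ b := by rw [← e]; exact hd
    exact hcd ((two_or hA.2 hi hK hAB hb ha hx hc hx').trans e.symm)
  have n2 : a * b * a⁻¹ ∉ orb A' b := by
    rintro ⟨x, hx, e⟩
    have hx' : x * b * x⁻¹ ≠ b := by rw [← e]; exact hc
    exact hcd (e.trans (two_or hA'.2 hi hK hAB' hb hx ha' hx' hd))
  obtain ⟨p, hp, hpb, hpd⟩ := exists_pure hA.2 hi hK hAB hb hdB ⟨a, ha, hc⟩ n1
  obtain ⟨q, hq, hqb, hqc⟩ := exists_pure hA'.2 hi hK hAB' hb hcB ⟨a', ha', hd⟩ n2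
  have hpc : p * b * p⁻¹ = a * b * a⁻¹ := two_or hA.2 hi hK hAB hb hp ha hpb hc
  have hqd : q * b * q⁻¹ = a' * b * a'⁻¹ := two_or hA'.2 hi hK hAB' hb hq ha' hqb hd
  -- `p² , q²` centralise `b`
  have sqf : ∀ {A : Subgroup G}, Best (zc K) A → ∀ x ∈ A, x * (x * b * x⁻¹) * x⁻¹ = b := by
    intro A hA x hx
    have e1 := mem_centralizer_iff.1 (hA.sq x hx) b (hK hb)
    calc x * (x * b * x⁻¹) * x⁻¹ = x ^ 2 * b * (x ^ 2)⁻¹ := by rw [pow_two]; group
      _ = b := by rw [← e1]; group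
  have hp2 := sqf hA.2 p hp
  have hq2 := sqf hA'.2 q hq
  rw [hpc] at hp2
  rw [hqd] at hq2
  -- `x = p q : b → d → c → b`
  have hx : p * q ∈ (S : Subgroup G) := mul_mem (hA.1 hp) (hA'.1 hq)
  refine hd (no_three (S := S) hx (b := b) (c := a' * b * a'⁻¹) (d := a * b * a⁻¹) ?_ ?_ ?_)
  · calc p * q * b * (p * q)⁻¹ = p * (q * b * q⁻¹) * p⁻¹ := by group
      _ = _ := by rw [hqd, hpd]
  · calc p * q * (a' * b * a'⁻¹) * (p * q)⁻¹ = p * (q * (a' * b * a'⁻¹) * q⁻¹) * p⁻¹ := by group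
      _ = _ := by rw [hq2, hpc]
  · calc p * q * (a * b * a⁻¹) * (p * q)⁻¹ = p * (q * (a * b * a⁻¹) * q⁻¹) * p⁻¹ := by group
      _ = _ := by rw [hqc, hp2]

/-- Conjugation by `J_{k+1}` on `B`: `b` goes to `b` or to its partner. -/
theorem nxt_orbit {K : Subgroup G} (hi : Ind B) (hS : ∀ s ∈ (S : Subgroup G), ∀ b ∈ B, s * b * s⁻¹ ∈ B)
    (hK : B ⊆ zc K) {b : G} (hb : b ∈ B) {k : G} (hk : k ∈ nxt (S : Subgroup G) K) :
    k * b * k⁻¹ = b ∨ T S K b (k * b * k⁻¹) := by
  set P : Set G := {x | x = b ∨ T S K b x} with hP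
  -- `P` is invariant under the generators
  have hPB : ∀ x ∈ P, x ∈ B := by
    rintro x (rfl | ⟨A, hA, a, ha, rfl⟩)
    · exact hb
    · exact hS a (hA.1 ha) b hb
  have hgenA : ∀ A ∈ BO (S : Subgroup G) K, ∀ a ∈ A, ∀ x ∈ P, a * x * a⁻¹ ∈ P := by
    intro A hA a ha x hx
    have hTx : T S K x (a * x * a⁻¹) := ⟨A, hA, a, ha, rfl⟩
    rcases hx with rfl | hx
    · exact Or.inr hTx
    · by_cases h1 : x = b
      · rw [h1] at hTx ⊢
        exact Or.inr hTx
      · by_cases h2 : a * x * a⁻¹ = x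
        · rw [h2]; exact Or.inr hx
        · left
          exact T.uniq hi hS hK (hPB x (Or.inr hx)) hTx hx.symm h2 (fun e => h1 e.symm)
  let St : Subgroup G :=
    { carrier := {g | (∀ x ∈ P, g * x * g⁻¹ ∈ P) ∧ ∀ x ∈ P, g⁻¹ * x * g ∈ P}
      mul_mem' := by
        rintro g h ⟨h1, h2⟩ ⟨h3, h4⟩
        refine ⟨fun x hx => ?_, fun x hx => ?_⟩
        · have : g * h * x * (g * h)⁻¹ = g * (h * x * h⁻¹) * g⁻¹ := by group
          rw [this]; exact h1 _ (h3 x hx)
        · have : (g * h)⁻¹ * x * (g * h) = h⁻¹ * (g⁻¹ * x * g) * h := by group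
          rw [this]; exact h4 _ (h2 x hx)
      one_mem' := ⟨fun x hx => by simpa using hx, fun x hx => by simpa using hx⟩
      inv_mem' := by
        rintro g ⟨h1, h2⟩
        refine ⟨fun x hx => ?_, fun x hx => ?_⟩
        · rw [inv_inv]; exact h2 x hx
        · rw [inv_inv]; exact h1 x hx }
  have hle : nxt (S : Subgroup G) K ≤ St := by
    refine sup_le ?_ (sSup_le fun A hA a ha => ?_)
    · rintro s ⟨_, hs⟩
      have hfix : ∀ x ∈ P, s * x = x * s := fun x hx => (mem_centralizer_iff.1 hs x (hK (hPB x hx))).symm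
      refine ⟨fun x hx => ?_, fun x hx => ?_⟩
      · rw [hfix x hx, mul_inv_cancel_right]; exact hx
      · have : s⁻¹ * x * s = x := by rw [mul_assoc, ← hfix x hx]; group
        rw [this]; exact hx
    · refine ⟨hgenA A hA a ha, fun x hx => ?_⟩
      have := hgenA A hA a⁻¹ (inv_mem ha) x hx
      rwa [inv_inv] at this
  have h1 := (hle hk).1 b (Or.inl rfl)
  rcases h1 with h1 | h1
  · exact Or.inl h1
  · exact Or.inr h1

/-- The new basis. -/
def nb (B : Set G) (K' : Subgroup G) : Set G :=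
  {p | (p ∈ B ∧ ∀ k ∈ K', k * p * k⁻¹ = p) ∨ ∃ b ∈ B, ∃ k ∈ K', k * b * k⁻¹ ≠ b ∧ p = b * (k * b * k⁻¹)}

theorem PM.step (h : PM S B V₂ PP) {K : Subgroup G} (hL : Lev (S : Subgroup G) K) (hK : B ⊆ zc K)
    (hK' : ∀ R ∈ PP, R ≤ normalizer (nxt (S : Subgroup G) K : Set G)) :
    PM S (nb B (nxt (S : Subgroup G) K)) V₂ PP ∧
      nb B (nxt (S : Subgroup G) K) ⊆ zc (nxt (S : Subgroup G) K) ∧
      ∀ b ∈ B, ∀ g : G, Odd (orderOf g) → (∀ c ∈ B, g * c * g⁻¹ ∈ B) →
        (∀ p ∈ nb B (nxt (S : Subgroup G) K), g * p * g⁻¹ = p) → g * b * g⁻¹ = b := by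
  set K' : Subgroup G := nxt (S : Subgroup G) K with hKdef
  have hi := h.ind
  have hK'S : K' ≤ (S : Subgroup G) := nxt_le _ _
  have hKK' : K ≤ K' := le_nxt hL.le
  -- two moved images agree
  have huniq : ∀ b ∈ B, ∀ k ∈ K', ∀ k' ∈ K', k * b * k⁻¹ ≠ b → k' * b * k'⁻¹ ≠ b →
      k * b * k⁻¹ = k' * b * k'⁻¹ := by
    intro b hb k hk k' hk' h1 h2
    have e1 := (nxt_orbit hi h.permS hK hb hk).resolve_left h1
    have e2 := (nxt_orbit hi h.permS hK hb hk').resolve_left h2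
    exact T.uniq hi h.permS hK hb e1 e2 h1 h2
  have hkB : ∀ k ∈ K', ∀ b ∈ B, k * b * k⁻¹ ∈ B := fun k hk b hb => h.permS k (hK'S hk) b hb
  have hcl : nb B K' ⊆ closure B := by
    rintro p (⟨hp, _⟩ | ⟨b, hb, k, hk, _, rfl⟩)
    · exact subset_closure hp
    · exact mul_mem (subset_closure hb) (subset_closure (hkB k hk b hb))
  have hcl' : closure (nb B K') ≤ closure B := (closure_le _).2 hcl
  -- conjugates of the new basis
  have hconj : ∀ g : G, (∀ b ∈ B, g * b * g⁻¹ ∈ B) → g ∈ normalizer (K' : Set G) →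
      ∀ p ∈ nb B K', g * p * g⁻¹ ∈ nb B K' := by
    rintro g hg hgK p (⟨hp, hpf⟩ | ⟨b, hb, k, hk, hne, rfl⟩)
    · refine Or.inl ⟨hg p hp, fun k hk => ?_⟩
      have e1 : g⁻¹ * k * g ∈ K' := by
        have := (mem_normalizer_iff.1 (inv_mem hgK) k).1 hk
        rwa [inv_inv] at this
      have e2 := hpf _ e1
      calc k * (g * p * g⁻¹) * k⁻¹ = g * ((g⁻¹ * k * g) * p * (g⁻¹ * k * g)⁻¹) * g⁻¹ := by group
        _ = g * p * g⁻¹ := by rw [e2]
    · refine Or.inr ⟨g * b * g⁻¹, hg b hb, g * k * g⁻¹, (mem_normalizer_iff.1 hgK k).1 hk, ?_, by group⟩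
      intro e
      apply hne
      have e1 : g * (k * b * k⁻¹) * g⁻¹ = g * b * g⁻¹ := by
        calc _ = g * k * g⁻¹ * (g * b * g⁻¹) * (g * k * g⁻¹)⁻¹ := by group
          _ = _ := e
      exact mul_left_cancel (mul_right_cancel e1)
  have hnS : (S : Subgroup G) ≤ normalizer (K' : Set G) := (hL.next).S_norm
  refine ⟨⟨⟨?_, ?_, ?_⟩, fun s hs p hp => hconj s (fun b hb => h.permS s hs b hb) (hnS hs) p hp, h.par,
    fun R hR r hr p hp => hconj r (fun b hb => h.perm R hR r hr b hb) (hK' R hR hr) p hp, h.nor, h.mov, h.cen, ?_⟩,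
    ?_, ?_⟩
  · exact fun b hb => hi.clSq b (hcl hb)
  · exact fun b hb c hc => hi.clComm b (hcl hb) c (hcl hc)
  · -- independence
    rintro p (⟨hp, hpf⟩ | ⟨b, hb, k, hk, hne, rfl⟩) hm
    · apply hi.out p hp
      refine (closure_le _).2 ?_ hm
      rintro q ⟨⟨hq, _⟩ | ⟨c, hc, k', hk', hne', rfl⟩, hqp⟩
      · exact subset_closure ⟨hq, hqp⟩
      · refine mul_mem (subset_closure ⟨hc, ?_⟩) (subset_closure ⟨hkB k' hk' c hc, ?_⟩)
        · rintro rfl
          exact hne' (hpf k' hk')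
        · intro e
          have e' : k' * c * k'⁻¹ = p := e
          apply hne'
          have e1 := hpf k'⁻¹ (inv_mem hk')
          rw [← e'] at e1
          have e2 : c = k' * c * k'⁻¹ := by
            calc c = k'⁻¹ * (k' * c * k'⁻¹) * k'⁻¹⁻¹ := by group
              _ = _ := e1
          exact e2.symm
    · apply hi.out b hb
      set c := k * b * k⁻¹ with hcdef
      have hcB : c ∈ B := hkB k hk b hb
      have h1 : b * c ∈ closure (B \ {b}) := by
        refine (closure_le _).2 ?_ hm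
        rintro q ⟨⟨hq, hqf⟩ | ⟨d, hd, k', hk', hne', rfl⟩, hqp⟩
        · refine subset_closure ⟨hq, ?_⟩
          rintro rfl
          exact hne (hqf k hk)
        · refine mul_mem (subset_closure ⟨hd, ?_⟩) (subset_closure ⟨hkB k' hk' d hd, ?_⟩)
          · intro e
            have e' : d = b := e
            subst e'
            apply hqp
            show d * (k' * d * k'⁻¹) = d * c
            rw [huniq d hd k' hk' k hk hne' hne]
          · intro e
            have e' : k' * d * k'⁻¹ = b := e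
            apply hqp
            show d * (k' * d * k'⁻¹) = b * c
            have e1 : k'⁻¹ * b * k'⁻¹⁻¹ = d := by rw [← e']; group
            have hdb : d ≠ b := fun e2 => hne' (e'.trans e2.symm)
            have e2 : d = c := by
              rw [← e1]
              exact huniq b hb k'⁻¹ (inv_mem hk') k hk (by rw [e1]; exact hdb) hne
            rw [e', e2]
            exact hi.comm c hcB b hb
      have h2 := mul_mem h1 (inv_mem (subset_closure (show c ∈ B \ {b} from ⟨hcB, hne⟩)))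
      rwa [mul_inv_cancel_right] at h2
  · rw [eq_bot_iff, ← h.dis]
    exact inf_le_inf_left _ hcl'
  · -- the new basis is in `Ω₁(Z(K'))`
    have hzc : ∀ b ∈ B, b ∈ K' ∧ b ^ 2 = 1 := fun b hb => by
      have := ChoiceBase.mem_zc.1 (hK hb)
      exact ⟨hKK' this.1, this.2.1⟩
    rintro p hp
    have hpK : p ∈ K' := by
      rcases hp with ⟨hp, _⟩ | ⟨b, hb, k, hk, _, rfl⟩
      · exact (hzc p hp).1
      · exact mul_mem (hzc b hb).1 (hzc _ (hkB k hk b hb)).1
    refine ChoiceBase.mem_zc.2 ⟨hpK, by rw [pow_two]; exact hi.clSq p (hcl hp), fun y hy => ?_⟩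
    have key : y * p * y⁻¹ = p := by
      rcases hp with ⟨_, hpf⟩ | ⟨b, hb, k, hk, hne, rfl⟩
      · exact hpf y hy
      · set c := k * b * k⁻¹ with hcdef
        have hcB : c ∈ B := hkB k hk b hb
        have e0 : y * (b * c) * y⁻¹ = (y * b * y⁻¹) * (y * c * y⁻¹) := by group
        rw [e0]
        by_cases h1 : y * b * y⁻¹ = b
        · -- then `y` fixes `c`
          have h2 : y * c * y⁻¹ = (y * k) * b * (y * k)⁻¹ := by rw [hcdef]; group
          have h3 : (y * k) * b * (y * k)⁻¹ ≠ b := by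
            rw [← h2]
            intro e
            apply hne
            have e3 : y * c * y⁻¹ = y * b * y⁻¹ := e.trans h1.symm
            exact mul_left_cancel (mul_right_cancel e3)
          have h4 := huniq b hb (y * k) (mul_mem hy hk) k hk h3 hne
          rw [h1, h2, h4]
        · have h2 := huniq b hb y hy k hk h1 hne
          rw [← hcdef] at h2
          have h3 : y * c * y⁻¹ = b := by
            by_contra h4
            have e1 : y * c * y⁻¹ = (y * k) * b * (y * k)⁻¹ := by rw [hcdef]; group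
            have h5 := huniq b hb (y * k) (mul_mem hy hk) k hk (by rw [← e1]; exact h4) hne
            rw [← e1, ← hcdef, ← h2] at h5
            have h6 : y * c * y⁻¹ = y * b * y⁻¹ := by rw [h2] at h5 ⊢; exact h5
            exact hne (mul_left_cancel (mul_right_cancel h6))
          rw [h2, h3]
          exact hi.comm c hcB b hb
    calc y * p = y * p * y⁻¹ * y := by group
      _ = p * y := by rw [key]
  · -- back to `B`
    intro b hb g ho hgB hg
    by_cases hf : ∀ k ∈ K', k * b * k⁻¹ = b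
    · exact hg b (Or.inl ⟨hb, hf⟩)
    · push Not at hf
      obtain ⟨k, hk, hne⟩ := hf
      set c := k * b * k⁻¹ with hcdef
      have hcB : c ∈ B := hkB k hk b hb
      have h1 := hg (b * c) (Or.inr ⟨b, hb, k, hk, hne, rfl⟩)
      have h2 : b * c = (g * b * g⁻¹) * (g * c * g⁻¹) := by rw [← h1]; group
      rcases hi.pair hb hcB (hgB b hb) (hgB c hcB) (fun e => hne e.symm) h2 with ⟨e1, _⟩ | ⟨e1, e2⟩
      · exact e1.symm
      · apply odd_fix ho
        calc g * g * b * (g * g)⁻¹ = g * (g * b * g⁻¹) * g⁻¹ := by group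
          _ = b := by rw [← e2, ← e1]

/-- **Two levels.** -/
theorem PM.fix (hn : ¬ V₂ ≤ VB (S : Subgroup G)) : ∀ (m k : ℕ), k + m = Nat.card G → ∀ B : Set G,
    PM S B V₂ PP → B ⊆ zc (lev (S : Subgroup G) k) → V₂ ≤ zc (lev (S : Subgroup G) k) →
      ∀ R ∈ PP, ∀ g ∈ R, Odd (orderOf g) → ∀ b ∈ B, g * b * g⁻¹ = b := by
  intro m
  induction m with
  | zero =>
    intro k hk B h hB hV
    rw [add_zero] at hk
    subst hk
    exact absurd hV hn
  | succ m ih =>
    intro k hk B h hB hV R hR g hg ho b hb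
    set K := lev (S : Subgroup G) k with hKdef
    have hL : Lev (S : Subgroup G) K := lev_isLev _ k
    have hXc : ∀ x ∈ zc K, ∀ y ∈ zc K, x * y = y * x := fun x hx y hy => Lev.zc_comm hx hy
    by_cases hα : ∃ A ∈ BO (S : Subgroup G) K, ¬ A ≤ centralizer (V₂ : Set G)
    · obtain ⟨A, hA, hAV⟩ := hα
      have hAB : ∀ x ∈ A, ∀ y ∈ B, x * y * x⁻¹ ∈ B := fun x hx y hy => h.permS x (hA.1 hx) y hy
      have hSR := (h.par R hR).le
      have h1 := moves hA.2 h.ind hB hAB hV hXc ((hA.1.trans hSR).trans (h.nor R hR)) h.dis hAV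
      have hN : R ≤ normalizer ((R ⊓ centralizer B : Subgroup G) : Set G) := by
        refine le_normalizer_iff.2 ?_
        rintro r hr n ⟨hnR, hnB⟩
        refine mem_inf.2 ⟨mul_mem (mul_mem hr hnR) (inv_mem hr), ?_⟩
        rw [mem_centralizer_iff]
        intro c hc
        have e1 := h.perm R hR r⁻¹ (inv_mem hr) c hc
        have e2 := mem_centralizer_iff.1 hnB _ e1
        calc c * (r * n * r⁻¹) = r * ((r⁻¹ * c * r⁻¹⁻¹) * n) * r⁻¹ := by group
          _ = r * (n * (r⁻¹ * c * r⁻¹⁻¹)) * r⁻¹ := by rw [e2]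
          _ = r * n * r⁻¹ * c := by group
      rcases min_or (h.par R hR) inf_le_left hN with h2 | h2
      · have h3 := (h2 (mem_oddGen hg ho)).2
        have h4 := mem_centralizer_iff.1 h3 b hb
        rw [← h4]; group
      · exfalso
        apply h1
        refine le_trans ?_ (h.cen R hR)
        refine le_trans ?_ h2
        exact le_inf (inf_le_left.trans hA.1) (le_inf (inf_le_left.trans (hA.1.trans hSR)) inf_le_right)
    · push Not at hα
      have hK'V : nxt (S : Subgroup G) K ≤ centralizer (V₂ : Set G) := by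
        refine sup_le (inf_le_right.trans (centralizer_le hV)) (sSup_le fun A hA => hα A hA)
      have hK'o : ∀ R ∈ PP, nxt (S : Subgroup G) K ≤ o2 R := by
        intro R hR
        have hN : R ≤ normalizer ((R ⊓ centralizer (V₂ : Set G) : Subgroup G) : Set G) := by
          refine le_normalizer_iff.2 ?_
          rintro r hr n ⟨hnR, hnV⟩
          refine mem_inf.2 ⟨mul_mem (mul_mem hr hnR) (inv_mem hr), ?_⟩
          rw [mem_centralizer_iff]
          intro c hc
          have e1 : r⁻¹ * c * r⁻¹⁻¹ ∈ V₂ :=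
            (mem_normalizer_iff.1 (inv_mem (h.nor R hR hr)) c).1 hc
          have e2 := mem_centralizer_iff.1 hnV _ e1
          calc c * (r * n * r⁻¹) = r * ((r⁻¹ * c * r⁻¹⁻¹) * n) * r⁻¹ := by group
            _ = r * (n * (r⁻¹ * c * r⁻¹⁻¹)) * r⁻¹ := by rw [e2]
            _ = r * n * r⁻¹ * c := by group
        rcases min_or (h.par R hR) inf_le_left hN with h2 | h2
        · exact absurd (h2.trans inf_le_right) (h.mov R hR)
        · refine le_trans ?_ h2
          exact le_inf (nxt_le _ _) (le_inf ((nxt_le _ _).trans (h.par R hR).le) hK'V)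
      have hK' : ∀ R ∈ PP, R ≤ normalizer (nxt (S : Subgroup G) K : Set G) := fun R hR =>
        hL.next.le_norm_of_o2 (hK'o R hR) (o2_le (h.par R hR).le)
      obtain ⟨s1, s2, s3⟩ := h.step hL hB hK'
      have hV' : V₂ ≤ zc (lev (S : Subgroup G) (k + 1)) := by
        intro v hv
        have e1 := ChoiceBase.mem_zc.1 (hV hv)
        refine ChoiceBase.mem_zc.2 ⟨le_nxt hL.le e1.1, e1.2.1, fun y hy => ?_⟩
        exact (mem_centralizer_iff.1 (hK'V hy) v hv).symm
      have h5 := ih (k + 1) (by omega) _ s1 s2 hV' R hR g hg ho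
      exact s3 b hb g ho (fun c hc => h.perm R hR g hg c hc) h5

/-- **Two levels**, for one level `k`. -/
theorem PM.fix_at (h : PM S B V₂ PP) (k : ℕ) (hB : B ⊆ zc (lev (S : Subgroup G) k))
    (hV : V₂ ≤ zc (lev (S : Subgroup G) k)) (hn : ¬ V₂ ≤ VB (S : Subgroup G)) {R : Subgroup G} (hR : R ∈ PP)
    {g : G} (hg : g ∈ R) (ho : Odd (orderOf g)) {b : G} (hb : b ∈ B) : g * b * g⁻¹ = b := by
  rcases Nat.lt_or_ge (Nat.card G) k with hk | hk
  · exfalso
    apply hn
    rw [lev_const (lev_lim (S : Subgroup G)) k hk.le] at hV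
    exact hV
  · exact PM.fix hn (Nat.card G - k) k (by omega) B h hB hV R hR g hg ho b hb

end fin

end Cfsg.Agent.Omega.NOThreeL.RRed.TwoLev
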