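import Cfsg.Agent.Omega.NOThreeL.RRed.Semi
import Cfsg.Agent.Omega.NOThreeL.RWide.TBlk

/-!
# NO-3L, box R: `RWide.TBlk.Bls` from the natural blocks `NBs` (helper258)
-/

set_option autoImplicit false
set_option linter.unusedSectionVars false

namespace Cfsg.Agent.Omega.NOThreeL.RRed.UBls

open Subgroup Cfsg Cfsg.Agent.ZN.ChoiceBase Cfsg.Agent.Omega.NOThreeL.Basic
open Cfsg.Agent.Omega.NOThreeL.Merge (MZ)
open Cfsg.Agent.Omega.NOThreeL.RRed.WideTree
open Cfsg.Agent.Omega.NOThreeL.RWide.TBlk (Bls NB)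
open scoped Pointwise

universe u

variable {G : Type u} [Group G] {S : Subgroup G} {ι : Type u} {N E D l : ι → Subgroup G} {q : ι → ℕ}

theorem nbs_inj (h : NBs S N E D l q) : Function.Injective N := fun b c hbc => by
  by_contra hne
  refine h.dec.ne b (le_bot_iff.1 ?_)
  rw [← h.dec.ind b]
  exact le_inf le_rfl ((hbc.le.trans (le_iSup (fun d : {d // d ≠ b} => N d) ⟨c, fun e => hne e.symm⟩)).trans le_sup_left)

/-- **natural blocks are `Bls`** -/
theorem bls_of (h : NBs S N E D l q)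
    (sD : ∀ s ∈ S, ∀ b, ∃ c, MulAut.conj s • N b = N c ∧ MulAut.conj s • D b = D c ∧ MulAut.conj s • l b = l c) :
    Bls S (Wd S) N l E where
  com v hv w hw := (mem_centralizer_iff.1 (h.dec.ab hw) v hv)
  sup := by rw [← h.dec.sup, sup_bot_eq]
  ind b := by
    have h1 := h.dec.ind b
    rwa [sup_bot_eq] at h1
  EN := h.dec.EN
  EC := h.dec.EC
  nat b := by
    obtain ⟨F, i1, i2, i3, e, -, h1⟩ := h.nat b
    refine ⟨F, i1, i2, i3, e, h1.mul, h1.inj, h1.sur, h1.line, fun M => ?_, fun c => ?_, fun s hs hsN => ?_⟩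
    · obtain ⟨g, hg, h2⟩ := h1.full M
      exact ⟨g, h.DE b hg, h2⟩
    · obtain ⟨s, hs, h2⟩ := h1.sylow c
      exact ⟨s, ⟨hs.1, h.DE b hs.2⟩, h2⟩
    · obtain ⟨c, h2, h3, h4⟩ := sD s hs b
      have h5 : MulAut.conj s • N b = N b := cj_eq_of_mem_normalizer hsN
      obtain rfl : c = b := nbs_inj h (h2.symm.trans h5)
      refine Semi.natblk_semi' h1 hsN (fun d hd => ?_) ((h.DE _).trans (h.dec.EN _)) fun v hv => ?_
      · rw [← h3]
        exact RWide.conj_mem_cj hd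
      · rw [← h4]
        exact RWide.conj_mem_cj hv
  perm s hs b := by
    obtain ⟨c, h2, -, h4⟩ := sD s hs b
    exact ⟨c, h2, h4⟩

end Cfsg.Agent.Omega.NOThreeL.RRed.UBls
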