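import Cfsg.Agent.Omega.NOThreeL.RRed.SemiNB
import Cfsg.Agent.Omega.NOThreeL.RWide.NormB

/-!
# The groups `L b` and the root group field of 644's `NBf` over the natural blocks `NBs` (helper258's list, #27137)

`V = ⨆ N b`, `Q = S ∩ C(V)` (`Qn`), `K₀ = M₀ ∩ C(V)` (`Kn`), `L b = N(Q) ∩ (D b K₀)` (`Lb`).

* `Lb_le_Q`, `Lb_le_N`, `Lb_le_C` : `L b` normalises `Q`, `N b` and centralises `N a` (`a ≠ b`);
* `Lb_perm` : `S` permutes the triples `(N b, l b, L b)`;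
* `exists_Lb` : every `d ∈ D b` acts on `V` like an element of `L b` (Frattini); `act_Lb` : and conversely;
* `syl_Q` : `Q` is Sylow in `C(V)`;
* `Kd.rt`, `Bls.rt`, **`NBs.rt`** : `Rt B (N b) (l b)`, `B = S ∩ C(⨆ l)`;
* `NBs.sq`, `NBs.com`, `NBs.indep`, `NBs.card_N`.
-/

set_option autoImplicit false
set_option linter.unusedSectionVars false

namespace Cfsg.Agent.Omega.NOThreeL.RRed.ULb

open Subgroup Cfsg Cfsg.Agent.ZN Cfsg.Agent.ZN.ChoiceBase Cfsg.Agent.ZN.ChoiceSit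
open Cfsg.Agent.Omega.NOThreeL.RRed.WideTree Cfsg.Agent.Omega.NOThreeL.RRed.GOne
  Cfsg.Agent.Omega.NOThreeL.RRed.Semi Cfsg.Agent.Omega.NOThreeL.RRed.SemiNB
open Cfsg.Agent.Omega.NOThreeL.RWide Cfsg.Agent.Omega.NOThreeL.RWide.TBlk
open Cfsg.Agent.Omega.NOThreeL.Merge (MZ)

open scoped Pointwise

universe u v

/-! ### Sylow subgroups of normal subgroups -/

section syl

variable {G : Type u} [Group G] [Finite G] {S : Sylow 2 G}

theorem syl_inf {K : Subgroup G} (hS : (S : Subgroup G) ≤ normalizer (K : Set G)) : Syl ((S : Subgroup G) ⊓ K) K := by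
  refine ⟨inf_le_right, S.isPGroup'.to_le inf_le_left, fun Q hQ hp hle => ?_⟩
  obtain ⟨T, hT, hQT⟩ := exists_syl hp (hQ.trans (Subgroup.le_normalizer (H := K)))
  obtain ⟨x, hx, hxT⟩ := syl_conj hT (Cfsg.Agent.MinSimple.EmptyTI.syl_of_le hS)
  have h1 : cj x Q ≤ (S : Subgroup G) ⊓ K := by
    refine le_inf ?_ ?_
    · rw [← hxT]; exact cj_mono x hQT
    · have h2 := cj_mono x hQ
      rwa [mem_normalizer_iff_cj.1 hx] at h2
  have h2 := card_le_of_le h1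
  rw [card_cj] at h2
  exact (eq_of_le_of_card_ge hle h2).symm

theorem frat {K : Subgroup G} (hS : (S : Subgroup G) ≤ normalizer (K : Set G)) {n : G}
    (hn : n ∈ normalizer (K : Set G)) : ∃ c ∈ K,
    c * n ∈ normalizer (((S : Subgroup G) ⊓ K : Subgroup G) : Set G) := by
  have hC : cj n K = K := mem_normalizer_iff_cj.1 hn
  have h1 : Syl (cj n ((S : Subgroup G) ⊓ K)) K := by
    refine ⟨(cj_mono n (syl_inf hS).1).trans hC.le, isPGroup_cj _ (S.isPGroup'.to_le inf_le_left), fun Q hQ hp hle => ?_⟩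
    have h2 := (syl_inf hS).2.2 (cj n⁻¹ Q) (by
      rw [cj_le_iff, inv_inv, hC]; exact hQ) (isPGroup_cj _ hp) (by
      have h3 := cj_mono n⁻¹ hle
      rwa [cj_inv_cj] at h3)
    rw [← h2, cj_cj_inv]
  obtain ⟨c, hc, hcn⟩ := syl_conj h1 (syl_inf hS)
  refine ⟨c, hc, mem_normalizer_iff_cj.2 ?_⟩
  rw [← cj_cj, hcn]

end syl

/-! ### The groups `L b` -/

section lb

variable {G : Type u} [Group G] {S : Subgroup G} {ι : Type u} {N E D l : ι → Subgroup G} {q : ι → ℕ}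

/-- `Q = C_S(V)` -/
abbrev Qn (S : Subgroup G) {ι : Type v} (N : ι → Subgroup G) : Subgroup G :=
  S ⊓ centralizer ((⨆ b, N b : Subgroup G) : Set G)

/-- `K₀ = C_{M₀}(V)` -/
abbrev Kn (S : Subgroup G) {ι : Type v} (N : ι → Subgroup G) : Subgroup G :=
  MZ S ⊓ centralizer ((⨆ b, N b : Subgroup G) : Set G)

/-- `L b = N(Q) ∩ D b K₀` -/
def Lb (S : Subgroup G) {ι : Type v} (N D : ι → Subgroup G) (b : ι) : Subgroup G :=
  normalizer ((Qn S N : Subgroup G) : Set G) ⊓ (D b ⊔ Kn S N)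

theorem sup_N (h : NBs S N E D l q) : (⨆ b, N b) = Wd S := by
  have h1 := h.dec.sup
  rwa [sup_bot_eq] at h1

theorem MZ_norm (h : NBs S N E D l q) : MZ S ≤ normalizer ((⨆ b, N b : Subgroup G) : Set G) := by
  rw [sup_N h]
  exact h.dec.LU

theorem MZ_Kn (h : NBs S N E D l q) : MZ S ≤ normalizer ((Kn S N : Subgroup G) : Set G) := by
  intro g hg
  rw [mem_normalizer_iff_cj, cj_inf, ChoiceBase.cj_centralizer, mem_normalizer_iff_cj.1 (le_normalizer hg),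
    mem_normalizer_iff_cj.1 (MZ_norm h hg)]

theorem S_inf_Kn (h : NBs S N E D l q) : S ⊓ Kn S N = Qn S N := by
  rw [← inf_assoc, inf_eq_left.2 h.dec.SL]

theorem S_norm_Qn (h : NBs S N E D l q) : S ≤ normalizer ((Qn S N : Subgroup G) : Set G) := by
  intro g hg
  rw [mem_normalizer_iff_cj, cj_inf, ChoiceBase.cj_centralizer, mem_normalizer_iff_cj.1 (le_normalizer hg),
    mem_normalizer_iff_cj.1 (MZ_norm h (h.dec.SL hg))]

theorem D_MZ (h : NBs S N E D l q) (b : ι) : D b ≤ MZ S := (h.DE b).trans (h.dec.EL b)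

theorem Kn_le_C (b : ι) : Kn S N ≤ centralizer (N b : Set G) :=
  inf_le_right.trans (centralizer_le (by exact_mod_cast le_iSup N b))

theorem Lb_le_Q (b : ι) : Lb S N D b ≤ normalizer ((Qn S N : Subgroup G) : Set G) := inf_le_left

theorem Lb_le_MZ (h : NBs S N E D l q) (b : ι) : Lb S N D b ≤ MZ S :=
  inf_le_right.trans (sup_le (D_MZ h b) inf_le_left)

theorem Lb_le_N (h : NBs S N E D l q) (b : ι) : Lb S N D b ≤ normalizer (N b : Set G) :=
  inf_le_right.trans (sup_le ((h.DE b).trans (h.dec.EN b)) ((Kn_le_C b).trans (centralizer_le_normalizer _)))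

theorem Lb_le_C (h : NBs S N E D l q) (a b : ι) (hab : a ≠ b) : Lb S N D b ≤ centralizer (N a : Set G) :=
  inf_le_right.trans (sup_le ((h.DE b).trans (h.dec.EC b a hab.symm)) (Kn_le_C a))

/-- `S` permutes the triples `(N b, l b, L b)` -/
theorem Lb_perm (h : NBs S N E D l q) : ∀ s ∈ S, ∀ b, ∃ c, cj s (N b) = N c ∧ cj s (l b) = l c ∧
    cj s (Lb S N D b) = Lb S N D c := by
  intro s hs b
  obtain ⟨c, h1, h2, h3⟩ := h.sD s hs b
  refine ⟨c, h1, h3, ?_⟩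
  have h4 : cj s (D b) = D c := h2
  have h5 : cj s (D b ⊔ Kn S N) = cj s (D b) ⊔ cj s (Kn S N) := Subgroup.map_sup _ _ _
  rw [Lb, Lb, cj_inf, cj_normalizer, mem_normalizer_iff_cj.1 (S_norm_Qn h hs), h5, h4,
    mem_normalizer_iff_cj.1 (MZ_Kn h (h.dec.SL hs))]

/-- **Frattini** : every `d ∈ D b` acts on `V` like an element of `L b` -/
theorem exists_Lb [Finite G] {S : Sylow 2 G} (h : NBs (S : Subgroup G) N E D l q) (b : ι) {d : G} (hd : d ∈ D b) :
    ∃ n ∈ Lb (S : Subgroup G) N D b, ∀ v ∈ (⨆ b, N b : Subgroup G), n * v * n⁻¹ = d * v * d⁻¹ := by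
  obtain ⟨c, hc, hn⟩ := frat (S := S) (h.dec.SL.trans (MZ_Kn h)) (MZ_Kn h (D_MZ h b hd))
  rw [S_inf_Kn h] at hn
  refine ⟨c * d, ⟨hn, mul_mem (mem_sup_right hc) (mem_sup_left hd)⟩, fun v hv => ?_⟩
  have h1 : d * v * d⁻¹ ∈ (⨆ b, N b : Subgroup G) := (mem_normalizer_iff.1 (MZ_norm h (D_MZ h b hd)) v).1 hv
  have h2 := mem_centralizer_iff.1 hc.2 _ h1
  calc c * d * v * (c * d)⁻¹ = (c * (d * v * d⁻¹)) * c⁻¹ := by group
    _ = ((d * v * d⁻¹) * c) * c⁻¹ := by rw [h2]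
    _ = d * v * d⁻¹ := by group

/-- every `n ∈ L b` acts on `V` like an element of `D b` -/
theorem act_Lb (h : NBs S N E D l q) (b : ι) {n : G} (hn : n ∈ Lb S N D b) :
    ∃ d ∈ D b, ∀ v ∈ (⨆ b, N b : Subgroup G), n * v * n⁻¹ = d * v * d⁻¹ := by
  have h1 : n ∈ ((D b ⊔ Kn S N : Subgroup G) : Set G) := hn.2
  rw [coe_mul_of_left_le_normalizer_right _ _ ((D_MZ h b).trans (MZ_Kn h))] at h1
  obtain ⟨d, hd, k, hk, rfl⟩ := Set.mem_mul.1 h1
  refine ⟨d, hd, fun v hv => ?_⟩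
  have h2 := mem_centralizer_iff.1 (mem_inf.1 hk).2 v hv
  calc d * k * v * (d * k)⁻¹ = d * ((k * v) * k⁻¹) * d⁻¹ := by group
    _ = d * ((v * k) * k⁻¹) * d⁻¹ := by rw [h2]
    _ = d * v * d⁻¹ := by group

/-- **`Q` is Sylow in `C(V)`** -/
theorem syl_Q [Finite G] {S : Sylow 2 G} (h : NBs (S : Subgroup G) N E D l q) :
    ∀ g ∈ normalizer ((Qn (S : Subgroup G) N : Subgroup G) : Set G), g ∈ centralizer ((⨆ b, N b : Subgroup G) : Set G) →
      (∃ n, g ^ 2 ^ n = 1) → g ∈ Qn (S : Subgroup G) N := by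
  intro g hg hgC ⟨n, hn⟩
  have : Fact (Nat.Prime 2) := ⟨Nat.prime_two⟩
  have hS : (S : Subgroup G) ≤ normalizer ((centralizer ((⨆ b, N b : Subgroup G) : Set G) : Subgroup G) : Set G) := by
    intro s hs
    rw [mem_normalizer_iff_cj, ChoiceBase.cj_centralizer, mem_normalizer_iff_cj.1 (MZ_norm h (h.dec.SL hs))]
  have h1 := syl_inf hS
  have hz : IsPGroup 2 (zpowers g) := by
    intro x
    obtain ⟨k, hk⟩ := mem_zpowers_iff.1 x.2
    refine ⟨n, Subtype.ext ?_⟩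
    show ((x ^ 2 ^ n : zpowers g) : G) = 1
    rw [SubmonoidClass.coe_pow, ← hk, ← zpow_natCast, ← zpow_mul, mul_comm, zpow_mul, zpow_natCast, hn, one_zpow]
  have h2 : IsPGroup 2 (zpowers g ⊔ Qn (S : Subgroup G) N : Subgroup G) :=
    hz.to_sup_of_normal_right' (S.isPGroup'.to_le inf_le_left) (zpowers_le.2 hg)
  have h3 := h1.2.2 _ (sup_le (zpowers_le.2 hgC) inf_le_right) h2 le_sup_right
  exact h3.le (mem_sup_left (mem_zpowers g))

end lb

/-! ### The root groups -/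

section rt

variable {G : Type u} [Group G] {ι : Type v} {S V : Subgroup G} {N l E : ι → Subgroup G} {F : ι → Type}
  [∀ b, Field (F b)] {x y : G → ∀ b, F b}

theorem comm_coord [∀ b, CharP (F b) 2] (h : Kd S V N l E x y) (hS : IsPGroup 2 S) {s : G} (hs : s ∈ BB S l) :
    ∃ t : ∀ b, F b, ∀ v ∈ V, s * v * s⁻¹ * v⁻¹ ∈ V ∧ (∀ c, x (s * v * s⁻¹ * v⁻¹) c = t c * y v c) ∧
      ∀ c, y (s * v * s⁻¹ * v⁻¹) c = 0 := by
  obtain ⟨t, ht⟩ := h.actB hS hs
  refine ⟨t, fun v hv => ?_⟩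
  have h1 := h.conj_mem (h.SV hs.1) hv
  refine ⟨mul_mem h1 (inv_mem hv), fun c => ?_, fun c => ?_⟩
  · rw [h.xm _ h1 _ (inv_mem hv), h.x_inv hv, (ht v hv c).1]; ring
  · rw [h.ym _ h1 _ (inv_mem hv), h.y_inv hv, (ht v hv c).2]; ring

/-- **`Rt B (N b) (l b)`** -/
theorem Kd.rt [Finite G] [Finite ι] [∀ b, CharP (F b) 2] (h : Kd S V N l E x y) (hS : IsPGroup 2 S) (b : ι) :
    Rt (BB S l) (N b) (l b) := by
  choose t ht using fun s : BB S l => comm_coord h hS s.2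
  have hmv : ∀ s : BB S l, (∃ w ∈ N b, (s : G) * w ≠ w * s) → t s b ≠ 0 := by
    rintro s ⟨w, hw, hne⟩ h0
    apply hne
    obtain ⟨h1, h2, h3⟩ := ht s w (h.NV b hw)
    have h4 : (s : G) * w * (s : G)⁻¹ * w⁻¹ = 1 := by
      refine h.inj _ h1 (fun c => ?_) h3
      rw [h2]
      by_cases hc : c = b
      · subst hc; rw [h0, zero_mul]
      · rw [((h.memN b w).1 hw).2.2 c hc, mul_zero]
    calc (s : G) * w = ((s : G) * w * (s : G)⁻¹ * w⁻¹) * (w * s) := by group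
      _ = w * s := by rw [h4, one_mul]
  constructor
  · intro s hs w hw
    obtain ⟨h1, h2, h3⟩ := ht ⟨s, hs⟩ w (h.NV b hw)
    refine (h.meml b _).2 ⟨h1, fun c hc => ?_, h3⟩
    rw [h2, ((h.memN b w).1 hw).2.2 c hc, mul_zero]
  · intro s hs z hz
    exact (mem_centralizer_iff.1 hs.2 z ((le_iSup l b) hz)).symm
  · intro s hs hm z hz
    have h0 := hmv ⟨s, hs⟩ hm
    obtain ⟨w, hw, -, hy⟩ := h.exists_y b 0 ((t ⟨s, hs⟩ b)⁻¹ * x z b)
    obtain ⟨h1, h2, h3⟩ := ht ⟨s, hs⟩ w (h.NV b hw)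
    obtain ⟨h4, h5, h6⟩ := (h.meml b z).1 hz
    refine ⟨w, hw, h.ext h1 h4 (fun c => ?_) fun c => by rw [h3, h6]⟩
    rw [h2]
    by_cases hc : c = b
    · subst hc; rw [hy, mul_inv_cancel_left₀ h0]
    · rw [((h.memN b w).1 hw).2.2 c hc, mul_zero, h5 c hc]
  · intro s hs hm w hw hcm
    have h0 := hmv ⟨s, hs⟩ hm
    obtain ⟨h1, h2, h3⟩ := ht ⟨s, hs⟩ w (h.NV b hw)
    have h4 : s * w * s⁻¹ * w⁻¹ = 1 := by rw [hcm]; group
    obtain ⟨h5, h6, h7⟩ := (h.memN b w).1 hw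
    refine (h.meml b w).2 ⟨h5, h6, fun c => ?_⟩
    by_cases hc : c = b
    · subst hc
      have h8 := h2 c
      rw [h4, h.x_one] at h8
      exact (mul_eq_zero.1 h8.symm).resolve_left h0
    · exact h7 c hc
  · choose ell hell hellx using h.exists_x b
    rw [relIndex, index_eq_card]
    refine Nat.card_le_card_of_injective (fun r : BB S l ⧸ (centralizer (N b : Set G)).subgroupOf (BB S l) =>
      (⟨ell (t r.out b), hell _⟩ : l b)) ?_
    intro r r' hrr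
    have h1 : ell (t r.out b) = ell (t r'.out b) := congrArg Subtype.val hrr
    have h2 : t r.out b = t r'.out b := by rw [← hellx (t r.out b), h1, hellx]
    rw [← QuotientGroup.out_eq' r, ← QuotientGroup.out_eq' r', QuotientGroup.eq]
    rw [mem_subgroupOf, mem_centralizer_iff]
    intro w hw
    have h3 : ((r.out : BB S l) : G) * w * ((r.out : BB S l) : G)⁻¹ =
        ((r'.out : BB S l) : G) * w * ((r'.out : BB S l) : G)⁻¹ := by
      obtain ⟨h4, h5, h6⟩ := ht r.out w (h.NV b hw)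
      obtain ⟨h7, h8, h9⟩ := ht r'.out w (h.NV b hw)
      refine mul_right_cancel (b := w⁻¹) (h.ext h4 h7 (fun c => ?_) fun c => by rw [h6, h9])
      rw [h5, h8]
      by_cases hc : c = b
      · subst hc; rw [h2]
      · rw [((h.memN b w).1 hw).2.2 c hc, mul_zero, mul_zero]
    show w * (((r.out : BB S l) : G)⁻¹ * ((r'.out : BB S l) : G)) =
      (((r.out : BB S l) : G)⁻¹ * ((r'.out : BB S l) : G)) * w
    calc w * (((r.out : BB S l) : G)⁻¹ * ((r'.out : BB S l) : G)) =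
        ((r.out : BB S l) : G)⁻¹ * (((r.out : BB S l) : G) * w * ((r.out : BB S l) : G)⁻¹) * ((r'.out : BB S l) : G) := by
          group
      _ = ((r.out : BB S l) : G)⁻¹ * (((r'.out : BB S l) : G) * w * ((r'.out : BB S l) : G)⁻¹) * ((r'.out : BB S l) : G) := by
          rw [h3]
      _ = _ := by group

theorem _root_.Cfsg.Agent.Omega.NOThreeL.RWide.TBlk.Bls.rt [Finite G] [Finite ι] (h : Bls S V N l E) (hS : IsPGroup 2 S)
    (b : ι) : Rt (BB S l) (N b) (l b) := by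
  obtain ⟨F, i1, _, i3, x, y, hk⟩ := h.exists_kd
  exact Kd.rt hk hS b

end rt

section fields

variable {G : Type u} [Group G] {S : Subgroup G} {ι : Type u} {N E D l : ι → Subgroup G} {q : ι → ℕ}

/-- 644's field `rt` -/
theorem _root_.Cfsg.Agent.Omega.NOThreeL.RRed.WideTree.NBs.rt [Finite G] [Finite ι] (h : NBs S N E D l q)
    (hS : IsPGroup 2 S) : ∀ b, Rt (S ⊓ centralizer ((⨆ b, l b : Subgroup G) : Set G)) (N b) (l b) := h.bls.rt hS

theorem _root_.Cfsg.Agent.Omega.NOThreeL.RRed.WideTree.NBs.sq (h : NBs S N E D l q) :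
    ∀ b, ∀ v ∈ N b, v * v = 1 := by
  intro b v hv
  obtain ⟨F, _, _, _, e, _, nb⟩ := h.nat b
  refine nb.inj _ (mul_mem hv hv) ?_
  rw [nb.mul _ hv _ hv]
  funext i
  exact CharTwo.add_self_eq_zero _

theorem _root_.Cfsg.Agent.Omega.NOThreeL.RRed.WideTree.NBs.com (h : NBs S N E D l q) :
    ∀ a b, ∀ v ∈ N a, ∀ w ∈ N b, v * w = w * v := by
  intro a b v hv w hw
  have h1 : ∀ b, N b ≤ Wd S := fun b => sup_N h ▸ le_iSup N b
  exact (mem_centralizer_iff.1 (h.dec.ab (h1 a hv)) w (h1 b hw)).symm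

theorem _root_.Cfsg.Agent.Omega.NOThreeL.RRed.WideTree.NBs.indep [Finite ι] (h : NBs S N E D l q) :
    iSupIndep N := h.bls.indep

theorem _root_.Cfsg.Agent.Omega.NOThreeL.RRed.WideTree.NBs.card_N (h : NBs S N E D l q) (b : ι) :
    Nat.card (N b) = Nat.card (l b) ^ 2 := by
  obtain ⟨F, _, _, _, e, _, nb⟩ := h.nat b
  rw [natblk_card nb]
  have h1 : Nat.card (N b) = Nat.card (Fin 2 → F) := by
    refine Nat.card_congr (Equiv.ofBijective (fun v : N b => e v) ⟨fun v w hvw => ?_, fun c => ?_⟩)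
    · exact Subtype.ext (natblk_inj nb v.2 w.2 hvw)
    · obtain ⟨v, hv, hc⟩ := nb.sur c
      exact ⟨⟨v, hv⟩, hc⟩
  rw [h1, Nat.card_fun, Nat.card_eq_fintype_card (α := Fin 2), Fintype.card_fin]

end fields

end Cfsg.Agent.Omega.NOThreeL.RRed.ULb
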