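import Cfsg.Agent.Omega.NOThreeL.RRed.UInstA
import Cfsg.Agent.Omega.NOThreeL.RRed.ULb

/-!
# NO-3L, box R: the `T`-frame `TFm` of the left case over `S`-orbits of blocks (helper258; head helper848 #27137 (C))

Hypotheses: `RB S`, `NBs` (v5), `Src`, `AllB`, `C_G(Z)` permutes the lines (`ln`), at least two `S`-orbits of blocks (`two`);
no class, no `CM`, no `Left`.
* `X b = Z ⊓ ∏ N c` (`c` not in the `S`-orbit of `b`), `K b = O₂(C_G(X b))`;
* **`nbf_of`** : 644's `NormB.NBf` with `L b = Lb` (helper724), so `I2`, `I4`;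
* `cz` : `C_G(Z) ≤ N(⨆ l)`; `perm` : `P ∈ P*(S)` permutes the blocks; **`tfm_of`** : `TFm S (Wd S) N l E`.
-/

set_option autoImplicit false
set_option linter.unusedSectionVars false

namespace Cfsg.Agent.Omega.NOThreeL.RRed.UInst

open Subgroup Cfsg Cfsg.Agent.ZN Cfsg.Agent.ZN.ChoiceBase Cfsg.Agent.Omega.MinPar Cfsg.Agent.Omega.Frame
open Cfsg.Agent.Omega.FrameNOFF Cfsg.Agent.Omega.Node.NO3L Cfsg.Agent.Omega.NOThreeL.Basic
open Cfsg.Agent.Omega.NOThreeL.Merge (MZ)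
open Cfsg.Agent.Omega.NOThreeL.RTree (RB)
open Cfsg.Agent.Omega.NOThreeL.RRed.WideTree Cfsg.Agent.Omega.NOThreeL.RRed.SemiNB
open Cfsg.Agent.Omega.NOThreeL.RWide Cfsg.Agent.Omega.NOThreeL.RRed.UPure Cfsg.Agent.Omega.NOThreeL.RRed.ULb

open scoped Pointwise

universe u

variable {G : Type u} [Group G] [Finite G] {S : Sylow 2 G} {ι : Type u} {N E D l : ι → Subgroup G} {q : ι → ℕ}

/-- the blocks outside the `S`-orbit of `b` -/
def Off (S : Subgroup G) (N : ι → Subgroup G) (b c : ι) : Prop := ∀ s ∈ S, MulAut.conj s • N b ≠ N c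

/-- `X b = Z ⊓ ∏ N c`, `c` not in the `S`-orbit of `b` -/
def UX (S : Subgroup G) (N : ι → Subgroup G) (b : ι) : Subgroup G := zc S ⊓ ⨆ c : {c // Off S N b c}, N c

/-- `K b = O₂(C_G(X b))` -/
def UK (S : Subgroup G) (N : ι → Subgroup G) (b : ι) : Subgroup G := o2 (centralizer (UX S N b : Set G))

theorem UX_le (b : ι) : UX (S : Subgroup G) N b ≤ zc (S : Subgroup G) := inf_le_left

theorem UX_ne (hB : RB S) (hN : NBs (S : Subgroup G) N E D l q) {b c : ι} (hc : Off (S : Subgroup G) N b c) :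
    UX (S : Subgroup G) N b ≠ ⊥ := by
  have hf : Fact (Nat.Prime 2) := ⟨Nat.prime_two⟩
  have hV : (⨆ c : {c // Off (S : Subgroup G) N b c}, N c) ≤ Wd (S : Subgroup G) := by
    rw [← sup_N hN]
    exact iSup_le fun c => le_iSup N c.1
  have hSV := WS hB
  have hne : (⨆ c : {c // Off (S : Subgroup G) N b c}, N c) ≠ ⊥ := fun h0 => hN.dec.ne c
    (le_bot_iff.1 ((le_iSup (fun c : {c // Off (S : Subgroup G) N b c} => N c) ⟨c, hc⟩).trans h0.le))
  have hnor : (S : Subgroup G) ≤ normalizer ((⨆ c : {c // Off (S : Subgroup G) N b c}, N c : Subgroup G) : Set G) := by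
    intro s hs
    refine mem_normalizer_of_cj_le ?_
    rw [NormB.cj_iSup]
    refine iSup_le fun c => ?_
    obtain ⟨d, hd, -⟩ := hN.bls.perm s hs c.1
    rw [hd]
    refine le_iSup (fun c : {c // Off (S : Subgroup G) N b c} => N c) ⟨d, fun t ht e => ?_⟩
    refine c.2 (s⁻¹ * t) (mul_mem (inv_mem hs) ht) ?_
    rw [map_mul, mul_smul, e, ← hd]
    exact cj_inv_cj s (N c.1)
  have h1 := PLocal.OffenderStep.inf_centralizer_ne_bot _ (S : Subgroup G) (S.isPGroup'.to_le (hV.trans hSV))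
    S.isPGroup' hnor hne
  intro h0
  apply h1
  rw [eq_bot_iff, ← h0]
  rintro x ⟨hx, hxS⟩
  refine ⟨ChoiceBase.mem_zc.2 ⟨hSV (hV hx), ?_, fun s hs => mem_centralizer_iff.1 hxS s hs⟩, hx⟩
  have h2 := wsq hB x (hV hx)
  rwa [pow_two]

theorem D_le_cen (hN : NBs (S : Subgroup G) N E D l q) (b : ι) :
    Lb (S : Subgroup G) N D b ≤ centralizer (UX (S : Subgroup G) N b : Set G) := by
  have h1 : Lb (S : Subgroup G) N D b ≤
      centralizer ((⨆ c : {c // Off (S : Subgroup G) N b c}, N c : Subgroup G) : Set G) := by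
    intro x hx
    refine NormB.mem_cent_iSup.2 fun c => NormB.mem_cent_iff.1 (Lb_le_C hN c.1 b (fun e => ?_) hx)
    refine c.2 1 (one_mem _) ?_
    rw [map_one, one_smul, e]
  exact h1.trans (centralizer_le inf_le_right)

/-- `C_G(Z)` normalises `⨆ l` -/
theorem cz (ln : ∀ c ∈ centralizer (zc (S : Subgroup G) : Set G), ∀ b, ∃ b', MulAut.conj c • l b = l b') :
    CZ (S : Subgroup G) ≤ normalizer ((⨆ b, l b : Subgroup G) : Set G) := by
  intro x hx
  refine mem_normalizer_of_cj_le ?_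
  rw [NormB.cj_iSup]
  refine iSup_le fun b => ?_
  obtain ⟨b', hb'⟩ := ln x hx b
  have h1 : cj x (l b) = l b' := hb'
  rw [h1]
  exact le_iSup l b'

variable [Finite ι]

/-- **644's structure `NBf`** -/
theorem nbf_of (hB : RB S) (hN : NBs (S : Subgroup G) N E D l q) (hs : Src (S : Subgroup G) N l q)
    (hall : AllB (S : Subgroup G) N)
    (ln : ∀ c ∈ centralizer (zc (S : Subgroup G) : Set G), ∀ b, ∃ b', MulAut.conj c • l b = l b')
    (two : ∀ b, ∃ c, ∀ s ∈ (S : Subgroup G), MulAut.conj s • N b ≠ N c) :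
    NormB.NBf (S : Subgroup G) (CZ (S : Subgroup G)) (o2 (CZ (S : Subgroup G))) (Qn (S : Subgroup G) N)
      ((S : Subgroup G) ⊓ centralizer ((⨆ b, l b : Subgroup G) : Set G)) N l (Lb (S : Subgroup G) N D)
      (UK (S : Subgroup G) N) where
  two := S.isPGroup'
  OS := (isLoc_centralizer_zc S (hB.ctx.sylow_ne_bot S)).o2_le S
  SC := le_CZ S
  nO := le_normalizer_o2 _
  sq := hN.sq
  com := hN.com
  ind := hN.indep
  lN := hN.bls.lN
  card := hN.card_N
  Qdef := rfl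
  Bdef := rfl
  rt := hN.rt S.isPGroup'
  perm := Lb_perm hN
  LQ := Lb_le_Q
  LN := Lb_le_N hN
  LC := Lb_le_C hN
  KO b := by
    obtain ⟨c, hc⟩ := two b
    exact o2_le (UX_le b) (UX_ne hB hN hc)
  LK b := (D_le_cen hN b).trans (le_normalizer_o2 _)
  CK b := (centralizer_le (UX_le b)).trans (le_normalizer_o2 _)
  NK a b := by
    obtain ⟨c, hc⟩ := two b
    exact N_le_o2 hB hs (UX_le b) (UX_ne hB hN hc) a
  syl := syl_Q hN
  gen b := gen hB hN hs hall b (fun x hx => by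
      obtain ⟨d, hd, h1⟩ := act_Lb hN b hx
      exact ⟨d, hd, fun v hv => h1 v ((le_iSup N b) hv)⟩) (fun d hd => by
      obtain ⟨x, hx, h1⟩ := exists_Lb hN b hd
      exact ⟨x, hx, fun v hv => h1 v ((le_iSup N b) hv)⟩) (Lb_le_N hN b)
  noff := noff hB hs
  J := cz ln
  Z := by rw [sup_N hN]; exact zc_le_Wd _

/-- `P ∈ P*(S)` permutes the blocks -/
theorem perm (hN : NBs (S : Subgroup G) N E D l q) (P : Subgroup G) (hP : IsParS (S : Subgroup G) P) :
    ∀ x ∈ P, ∀ b, ∃ c, cj x (N b) = N c := fun x hx b => by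
  obtain ⟨c, h1, -⟩ := hN.dec.perm x (le_MZ hP hx) b
  exact ⟨c, h1⟩

theorem nS (hN : NBs (S : Subgroup G) N E D l q) :
    normalizer ((S : Subgroup G) : Set G) ≤ normalizer (Wd (S : Subgroup G) : Set G) := by
  intro x hx
  refine mem_normalizer_of_cj_le ?_
  rw [← sup_N hN, NormB.cj_iSup]
  refine iSup_le fun b => ?_
  obtain ⟨c, h1, -⟩ := hN.permN x hx b
  have h2 : cj x (N b) = N c := h1
  rw [h2]
  exact le_iSup N c

/-- **`TFm`** from `hK` (`NormB.zcB`) -/
theorem tfm_of' (hB : RB S) (hN : NBs (S : Subgroup G) N E D l q) (hs : Src (S : Subgroup G) N l q)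
    (hall : AllB (S : Subgroup G) N)
    (ln : ∀ c ∈ centralizer (zc (S : Subgroup G) : Set G), ∀ b, ∃ b', MulAut.conj c • l b = l b')
    (two : ∀ b, ∃ c, ∀ s ∈ (S : Subgroup G), MulAut.conj s • N b ≠ N c)
    (hK : ∀ b, zc ((S : Subgroup G) ⊓ centralizer ((⨆ b, l b : Subgroup G) : Set G)) ≤
      UK (S : Subgroup G) N b) : TFm S (Wd (S : Subgroup G)) N l E where
  toBls := hN.bls
  nS := nS hN
  par R hR := by
    by_cases h : IsParS (S : Subgroup G) R
    · exact Or.inr ⟨(le_MZ h).trans le_norm_Wd, perm hN R h⟩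
    · exact Or.inl (par_le_CZ S hR h)
  I1 := hN.bls.I1_of (cz ln)
  I2 := by
    rw [← sup_N hN]
    exact (nbf_of hB hN hs hall ln two).le_normV
  I4 := (nbf_of hB hN hs hall ln two).zcB hK

end Cfsg.Agent.Omega.NOThreeL.RRed.UInst
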