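import Cfsg.Agent.Omega.NOThreeL.RRed.WideTree
import Cfsg.Agent.Omega.NOThreeL.RWide.TFm
import Cfsg.Agent.Omega.NOThreeL.RWide.NonTf
import Cfsg.Agent.Omega.NOThreeL.RWide.TypTEnd
import Cfsg.Agent.Omega.NOThreeL.RWide.TWc
import Cfsg.Agent.Omega.NOThreeL.RWide.TPerm

/-!
# NO-3L, box R: at least three natural blocks (helper848 #25339): the glue

* `false_of_tfm` : `TFm` (natural blocks of `V*`, at least three), `C_G(Z) ≤ N_G(∏ l b)`, `P*(S)` permutes the blocks and
  `parT` are contradictory;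
* `InstU B`, `ParU B` : the instance `TFm` and `parT` in the situation of `WLeftMany`;
* **`wLeftMany_of`** : `InstU B`, `ParU B` ⟹ `WLeftMany K B`.
-/

set_option autoImplicit false
set_option linter.unusedSectionVars false

namespace Cfsg.Agent.Omega.NOThreeL.RRed.UMany

open Subgroup Cfsg Cfsg.Agent.ZN Cfsg.Agent.Omega.MinPar Cfsg.Agent.Omega.Frame Cfsg.Agent.Omega.FrameNOFF
open Cfsg.Agent.ZN.ChoiceBase (cj)
open Cfsg.Agent.Omega.NOThreeL.RTree (RB)
open Cfsg.Agent.Omega.NOThreeL.RRed.GlueSig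
open Cfsg.Agent.Omega.NOThreeL.Merge (MZ)
open Cfsg.Agent.Omega.NOThreeL.Basic
open Cfsg.Agent.Omega.NOThreeL.RRed.WideTree
open Cfsg.Agent.Omega.NOThreeL.RWide
open Cfsg.Agent.Omega.KL.StarM (NoInpM)
open Cfsg.Agent.MinSimple.MinParabolic (IsMinPar)
open scoped Pointwise

universe u v

section one

variable {G : Type u} [Group G] [Finite G] {S : Sylow 2 G} {ι : Type v} [Finite ι] [Nonempty ι] {V : Subgroup G}
  {N l E : ι → Subgroup G}

/-- `parT` -/
def ParT (S : Subgroup G) (N l : ι → Subgroup G) : Prop :=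
  ∀ j P, IsMinPar (TAct.TT S N) P → P ≤ YY (TAct.FF S N l) j →
    P ≤ centralizer (TAct.FF S N l j : Set G) ∨ ∀ i, P ≤ normalizer (N i : Set G)

/-- `X_j` is a `K`-group -/
theorem kgroup (h : RB S) {F : ι → Subgroup G} {j : ι} (three : ∃ k, k ≠ j) (hF : ∀ i, F i ≠ ⊥) :
    IsKGroup (YY F j) := by
  have := h.ctx.simple
  obtain ⟨k, hk⟩ := three
  refine h.ctx.kproper _ fun e => ?_
  have h1 : centralizer (F k : Set G) = ⊤ := top_le_iff.1 (e.symm.le.trans (YY_le_cent hk))
  have h2 : F k ≤ center G := by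
    intro x hx
    rw [mem_center_iff]
    intro g
    have h3 : g ∈ centralizer (F k : Set G) := by rw [h1]; exact mem_top g
    exact ((mem_centralizer_iff.1 h3) x hx).symm
  rcases (inferInstance : (center G).Normal).eq_bot_or_eq_top with h3 | h3
  · exact hF k (le_bot_iff.1 (h2.trans h3.le))
  · -- `G` is abelian
    refine h.ctx.nonComm ⟨⟨fun a b => ?_⟩⟩
    have h4 : b ∈ center G := by rw [h3]; exact mem_top b
    exact (mem_center_iff.1 h4 a)

/-- **contradiction from `TFm`** -/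
theorem false_of_tfm (hML : ML.Final.MLK.{u, u}) (hE : NoInpM.{u, u}) (h : RB S) (hT : TFm S V N l E)
    (three : ∀ a b : ι, ∃ c, c ≠ a ∧ c ≠ b)
    (cz : CZ (S : Subgroup G) ≤ normalizer ((⨆ b, l b : Subgroup G) : Set G))
    (perm : ∀ P : Subgroup G, IsParS (S : Subgroup G) P → ∀ x ∈ P, ∀ b, ∃ c, cj x (N b) = N c)
    (parT : ParT (S : Subgroup G) N l) : False := by
  have wc : ∀ g ∈ normalizer (V : Set G), cj g (TAct.BB (S : Subgroup G) l) ≤ S →
      cj g (TAct.BB (S : Subgroup G) l) = TAct.BB (S : Subgroup G) l := fun g hg hB => hT.toBls.wc hg hB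
  have permX : ∀ x ∈ normalizer (TAct.BB (S : Subgroup G) l : Set G), x ∈ normalizer (V : Set G) →
      ∀ b, ∃ c, cj x (l b) = l c ∧ cj x (N b) = N c := fun x hx hxV b => TPerm.permX hT.toBls hx hxV b
  have htf := hT.tf wc permX
  have hty := hT.typT three wc permX parT (NonTf.non h.ctx h.full htf hT.toBls cz perm)
  exact hty.false_of h.ctx.char2 hML
    (fun j => kgroup h (by obtain ⟨c, hc, -⟩ := three j j; exact ⟨c, hc⟩) htf.ne) hE

end one

section many

variable (B : Fr.{u})

/-- **the instance** `TFm` in the situation of `WLeftMany` -/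
def InstU : Prop :=
  ∀ (G : Type u) [Group G] [Finite G] (S : Sylow 2 G), B G S → Wide S → MvAct (S : Subgroup G) →
    ∀ (ι : Type u) [Finite ι] (W : ι → Subgroup G), CM (S : Subgroup G) W → (∃ i j : ι, i ≠ j) →
      Left (S : Subgroup G) W → ∀ (κ : Type u) [Finite κ] (N E D l : κ → Subgroup G) (q : κ → ℕ) (side : κ → ι),
        NBs (S : Subgroup G) N E D l q → Src (S : Subgroup G) N l q → Fits N W side → AllB (S : Subgroup G) N →
          PermL (S : Subgroup G) l side → (∀ a b : κ, ∃ c, c ≠ a ∧ c ≠ b) → TFm S (Wd (S : Subgroup G)) N l E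

/-- **`parT`** in the situation of `WLeftMany` -/
def ParU : Prop :=
  ∀ (G : Type u) [Group G] [Finite G] (S : Sylow 2 G), B G S → Wide S → MvAct (S : Subgroup G) →
    ∀ (ι : Type u) [Finite ι] (W : ι → Subgroup G), CM (S : Subgroup G) W → (∃ i j : ι, i ≠ j) →
      Left (S : Subgroup G) W → ∀ (κ : Type u) [Finite κ] (N E D l : κ → Subgroup G) (q : κ → ℕ) (side : κ → ι),
        NBs (S : Subgroup G) N E D l q → Src (S : Subgroup G) N l q → Fits N W side → AllB (S : Subgroup G) N →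
          PermL (S : Subgroup G) l side → (∀ a b : κ, ∃ c, c ≠ a ∧ c ≠ b) → TFm S (Wd (S : Subgroup G)) N l E →
            ParT (S : Subgroup G) N l

/-- **`WLeftMany`** -/
theorem wLeftMany_of (hML : ML.Final.MLK.{u, u}) (hE : NoInpM.{u, u}) (K : Cls.{u}) {B : Fr.{u}} (hI : InstU B)
    (hP : ParU B) : WLeftMany K B := by
  intro G _ _ _ S hB hW hm ι _ W hC hij hL κ _ N E D l q side hN hs hf ha hp three
  exfalso
  have hT := hI G S hB hW hm ι W hC hij hL κ N E D l q side hN hs hf ha hp three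
  have hne : Nonempty κ := by
    by_contra hn
    rw [not_nonempty_iff] at hn
    obtain ⟨i, -⟩ := hij
    apply hC.ne i
    rw [hf i]
    exact iSup_of_empty _
  refine false_of_tfm hML hE hW.toRB hT three ?_ (fun P hP x hx b => ?_)
    (hP G S hB hW hm ι W hC hij hL κ N E D l q side hN hs hf ha hp three hT)
  · intro c hc
    refine Cfsg.Agent.ZN.ChoiceBase.mem_normalizer_of_cj_le ?_
    rw [cj, Subgroup.map_iSup]
    refine iSup_le fun b => ?_
    obtain ⟨b', -, hb'⟩ := hp c hc b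
    exact (le_of_eq hb').trans (le_iSup l b')
  · obtain ⟨c, hc, -⟩ := hN.perm x (Merge.le_MZ hP hx) b
    exact ⟨c, hc⟩

end many

end Cfsg.Agent.Omega.NOThreeL.RRed.UMany
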