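import Cfsg.Agent.Omega.NOThreeL.RRed.UInst
import Cfsg.Agent.Omega.NOThreeL.RRed.UMany

/-!
# NO-3L, box R: the socket `UMany.InstU` (helper258)

* `two_of` : two classes give two `S`-orbits of blocks;
* `instU'` : `InstU B` from `zc B ≤ O₂(C_G(X))` for `1 ≠ X ≤ Z`.
-/

set_option autoImplicit false
set_option linter.unusedSectionVars false

namespace Cfsg.Agent.Omega.NOThreeL.RRed.UInst

open Subgroup Cfsg Cfsg.Agent.ZN Cfsg.Agent.ZN.ChoiceBase Cfsg.Agent.Omega.MinPar Cfsg.Agent.Omega.Frame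
open Cfsg.Agent.Omega.FrameNOFF Cfsg.Agent.Omega.Node.NO3L Cfsg.Agent.Omega.NOThreeL.Basic
open Cfsg.Agent.Omega.NOThreeL.Merge (MZ)
open Cfsg.Agent.Omega.NOThreeL.RTree (RB)
open Cfsg.Agent.Omega.NOThreeL.RRed.WideTree Cfsg.Agent.Omega.NOThreeL.RRed.GlueSig
open Cfsg.Agent.Omega.NOThreeL.RWide

open scoped Pointwise

universe u

variable {G : Type u} [Group G] [Finite G] {S : Sylow 2 G} {ι κ : Type u} {W : ι → Subgroup G}
  {N E D l : κ → Subgroup G} {q : κ → ℕ} {side : κ → ι}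

/-- two classes: two `S`-orbits -/
theorem two_of (hC : CM (S : Subgroup G) W) (hij : ∃ i j : ι, i ≠ j) (hN : NBs (S : Subgroup G) N E D l q)
    (hf : Fits N W side) : ∀ b, ∃ c, ∀ s ∈ (S : Subgroup G), MulAut.conj s • N b ≠ N c := by
  intro b
  obtain ⟨j, hj⟩ : ∃ j, j ≠ side b := by
    obtain ⟨i, j, hij⟩ := hij
    by_cases h : i = side b
    · exact ⟨j, fun e => hij (h.trans e.symm)⟩
    · exact ⟨i, h⟩
  obtain ⟨c, hc⟩ : ∃ c, side c = j := by
    by_contra hcon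
    push Not at hcon
    apply hC.ne j
    rw [hf j, eq_bot_iff]
    exact iSup_le fun b => absurd b.2 (hcon b.1)
  refine ⟨c, fun s hs e => hN.dec.ne c ?_⟩
  have h1 : N c ≤ W j := by
    rw [hf j]
    exact le_iSup (fun b : {b // side b = j} => N b) ⟨c, hc⟩
  have h2 : N c ≤ W (side b) := by
    have h3 : N b ≤ W (side b) := by
      rw [hf (side b)]
      exact le_iSup (fun c : {c // side c = side b} => N c) ⟨b, rfl⟩
    have h4 : cj s (N b) ≤ cj s (W (side b)) := cj_mono s h3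
    rw [mem_normalizer_iff_cj.1 (hC.inv (side b) (hN.dec.SL hs))] at h4
    rw [← e]
    exact h4
  rw [← le_bot_iff, ← hC.ind (side b)]
  exact le_inf h2 (h1.trans (le_iSup (fun j : {j // j ≠ side b} => W j) ⟨j, hj⟩))

/-- **`zc B ≤ O₂(C_G(X))`** -/
def ZcK : Prop :=
  ∀ (G : Type u) [Group G] [Finite G] (S : Sylow 2 G), RB S → ∀ (κ : Type u) [Finite κ] (N E D l : κ → Subgroup G)
    (q : κ → ℕ), NBs (S : Subgroup G) N E D l q → Src (S : Subgroup G) N l q →
      (∀ c ∈ centralizer (zc (S : Subgroup G) : Set G), ∀ b, ∃ b', MulAut.conj c • l b = l b') →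
        ∀ X : Subgroup G, X ≤ zc (S : Subgroup G) → X ≠ ⊥ →
          zc ((S : Subgroup G) ⊓ centralizer ((⨆ b, l b : Subgroup G) : Set G)) ≤ o2 (centralizer (X : Set G))

/-- **the socket `InstU`** from `ZcK` -/
theorem instU' (hK : ZcK.{u}) (B : Fr.{u}) : UMany.InstU B := by
  intro G _ _ S _ hW _ ι _ W hC hij _ κ _ N E D l q side hN hs hf ha hp _
  have ln : ∀ c ∈ centralizer (zc (S : Subgroup G) : Set G), ∀ b, ∃ b', MulAut.conj c • l b = l b' := fun c hc b => by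
    obtain ⟨b', -, h1⟩ := hp c hc b
    exact ⟨b', h1⟩
  have two := two_of hC hij hN hf
  refine tfm_of' hW.toRB hN hs ha ln two fun b => ?_
  obtain ⟨c, hc⟩ := two b
  exact hK G S hW.toRB κ N E D l q hN hs ln _ (UX_le b) (UX_ne hW.toRB hN hc)

end Cfsg.Agent.Omega.NOThreeL.RRed.UInst
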