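import Cfsg.Agent.Omega.NOThreeL.RRed.UZcK

/-!
# NO-3L, box R, at least three natural blocks: everything from `parT` (helper258; heads helper848, helper823, helper971)

* `ParX` : the theorem `parT` (#27137, #26838) as a proposition: only `Ctx G`, `TFm`, `ln`, `all`, `three`;
* `parU_of` : `ParX` ⟹ `UMany.ParU B`;  **`wLeftMany_of`** : `ParX` ⟹ `WLeftMany K B`;
* **`false_of_orbits`** : `ParX`, `RB S`, natural blocks in at least two `S`-orbits, at least three blocks, `𝒜(O)` moves every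
  block, `C_G(Z)` permutes the lines ⟹ `False` (any number of classes).
-/

set_option autoImplicit false
set_option linter.unusedSectionVars false

namespace Cfsg.Agent.Omega.NOThreeL.RRed.UPar

open Subgroup Cfsg Cfsg.Agent.ZN Cfsg.Agent.Omega.MinPar Cfsg.Agent.Omega.Frame
open Cfsg.Agent.Omega.NOThreeL.RTree (RB)
open Cfsg.Agent.Omega.NOThreeL.RRed.WideTree Cfsg.Agent.Omega.NOThreeL.RRed.GlueSig
open Cfsg.Agent.Omega.NOThreeL.RWide
open Cfsg.Agent.Omega.KL.StarM (NoInpM)
open Cfsg.Agent.Omega.ML.Final (MLK)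
open Cfsg.Agent.Omega.NOThreeL.RRed.UMany (ParT ParU)

open scoped Pointwise

universe u

/-- **the theorem `parT`** (#27137) -/
def ParX : Prop :=
  ∀ (G : Type u) [Group G] [Finite G], Ctx G → ∀ (S : Sylow 2 G) (V : Subgroup G) (ι : Type u) [Finite ι]
    (N l E : ι → Subgroup G), TFm S V N l E →
      (∀ c ∈ centralizer (zc (S : Subgroup G) : Set G), ∀ b, ∃ b', MulAut.conj c • l b = l b') →
        (∀ b, ∃ A, KL.TwoS.Mx (o2 (centralizer (zc (S : Subgroup G) : Set G))) A ∧
          ¬ A ≤ centralizer (N b : Set G)) → (∀ i j : ι, ∃ k, k ≠ i ∧ k ≠ j) → ParT (S : Subgroup G) N l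

theorem parU_of (h : ParX.{u}) (B : Fr.{u}) : ParU B := by
  intro G _ _ S _ hW _ _ _ _ _ _ _ κ _ N E D l q side _ _ _ ha hp three hT
  refine h G hW.toRB.ctx S _ κ N l E hT (fun c hc b => ?_) ha three
  obtain ⟨b', -, h1⟩ := hp c hc b
  exact ⟨b', h1⟩

/-- **`WLeftMany`** -/
theorem wLeftMany_of (hM : MLK.{u, u}) (hE : NoInpM.{u, u}) (h : ParX.{u}) (K : Cls.{u}) (B : Fr.{u}) :
    WLeftMany K B := UMany.wLeftMany_of hM hE K (UInst.instU hM B) (parU_of h B)

/-- **at least two `S`-orbits, at least three blocks** -/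
theorem false_of_orbits (hM : MLK.{u, u}) (hE : NoInpM.{u, u}) (h : ParX.{u}) {G : Type u} [Group G] [Finite G]
    {S : Sylow 2 G} {ι : Type u} [Finite ι] {N E D l : ι → Subgroup G} {q : ι → ℕ} (hB : RB S)
    (hN : NBs (S : Subgroup G) N E D l q) (hs : Src (S : Subgroup G) N l q) (hall : AllB (S : Subgroup G) N)
    (ln : ∀ c ∈ centralizer (zc (S : Subgroup G) : Set G), ∀ b, ∃ b', MulAut.conj c • l b = l b')
    (two : ∀ b, ∃ c, ∀ s ∈ (S : Subgroup G), MulAut.conj s • N b ≠ N c) (three : ∀ i j : ι, ∃ k, k ≠ i ∧ k ≠ j) :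
    False := by
  have hT := UInst.tfm_of hB hN ln hM hs hall two
  have hne : Nonempty ι := by
    by_contra hn
    rw [not_nonempty_iff] at hn
    have h1 : (⊥ : Subgroup G) = Wd (S : Subgroup G) := by rw [← ULb.sup_N hN, iSup_of_empty]
    exact UInst.zc_ne hB (le_bot_iff.1 ((zc_le_Wd _).trans h1.symm.le))
  exact UMany.false_of_tfm hM hE hB hT three (UInst.cz ln) (UInst.perm hN) (h G hB.ctx S _ ι N l E hT ln hall three)

end Cfsg.Agent.Omega.NOThreeL.RRed.UPar
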