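import Cfsg.Agent.Omega.NOThreeL.RRed.WideTree
import Cfsg.Agent.Omega.NOThreeL.RRed.InstZ

/-!
# NO-3L, box R, two class modules: `Spl S W` and nonlocality (WideTree rows 7 / 8, helper958)

`C : CM S W`, `W : Fin 2 → Subgroup G` (class modules), `Z_i = ZZ S W i = W i ∩ Z`.

* `cm_sup`, `cm_dis`, `cm_nS` : `V* = W i × W j`; `N_G(S)` permutes `W 0`, `W 1`;
* `ZZ_ne`; `cm_wp` : `W i ≤ V_P` for some `P ∈ P*(S)` gives `W i ≤ WP S`;
* `gen_of_nat` : the field `gen` of `Spl` from a natural block;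
* **`spl`** : `Spl S W`;
* `exists_mv` : some active `P` moves `Z_i` and centralises `Z_j`; **`nonLoc`** : `⟨C_G(Z_0), C_G(Z_1)⟩` is nonlocal if
  every `R ∈ P*(S)` centralises `Z_0` or `Z_1`.
-/

set_option autoImplicit false
set_option linter.unusedSectionVars false

namespace Cfsg.Agent.Omega.NOThreeL.RRed.WLeft

open Subgroup Cfsg Cfsg.Agent.ZN Cfsg.Agent.Omega.MinPar Cfsg.Agent.Omega.Frame Cfsg.Agent.Omega.FrameNOFF
open Cfsg.Agent.Omega.Node.NO3L Cfsg.Agent.Omega.NOThreeL.Basic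
open Cfsg.Agent.Omega.NOThreeL.Merge (MZ)
open Cfsg.Agent.Omega.NOThreeL.RTree (RB)
open Cfsg.Agent.Omega.NoFF.Basic (conj_le_iff Z_le_V V_le)
open Cfsg.Agent.Omega.NOThreeL.RRed.InstZ (ZZ Spl)
open Cfsg.Agent.Omega.NOThreeL.RRed.WideTree
open Cfsg.Agent.MinSimple.VModule (zc_le_zl oddGen)
open scoped Pointwise

universe u

variable {G : Type u} [Group G]

theorem fin2_ne {i j : Fin 2} (h : i ≠ j) (k : Fin 2) : k = i ∨ k = j := by
  revert i j k; decide

theorem mem_nor {A : Subgroup G} {g : G} (h : MulAut.conj g • A = A) : g ∈ normalizer (A : Set G) := by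
  rw [mem_normalizer_iff]
  intro x
  nth_rw 2 [← h]
  rw [← MulAut.conj_apply]
  exact (smul_mem_pointwise_smul_iff (a := MulAut.conj g) (S := A) (x := x)).symm

section cm

variable {S : Subgroup G} {W : Fin 2 → Subgroup G} (C : CM S (fun i : ULift.{u} (Fin 2) => W i.down))
include C

theorem cm_le (i : Fin 2) : W i ≤ Wd S := by
  rw [← C.sup]
  exact le_iSup (fun k : ULift.{u} (Fin 2) => W k.down) ⟨i⟩

theorem cm_sup {i j : Fin 2} (hij : i ≠ j) : W i ⊔ W j = Wd S := by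
  refine le_antisymm (sup_le (cm_le C i) (cm_le C j)) ?_
  rw [← C.sup]
  refine iSup_le fun k => ?_
  rcases fin2_ne hij k.down with h | h
  · rw [h]; exact le_sup_left
  · rw [h]; exact le_sup_right

theorem cm_dis {i j : Fin 2} (hij : i ≠ j) : W i ⊓ W j = ⊥ := by
  rw [eq_bot_iff, ← C.ind ⟨i⟩]
  refine inf_le_inf_left _ ?_
  exact le_iSup (fun k : {k : ULift.{u} (Fin 2) // k ≠ ⟨i⟩} => W k.1.down)
    ⟨⟨j⟩, fun h => hij (congrArg ULift.down h).symm⟩

theorem cm_inv (i : Fin 2) : MZ S ≤ normalizer (W i : Set G) := C.inv ⟨i⟩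

theorem cm_ne (i : Fin 2) : W i ≠ ⊥ := C.ne ⟨i⟩

theorem cm_inj {i j : Fin 2} (h : W i = W j) : i = j := by
  by_contra hij
  have h1 := cm_dis C hij
  rw [h, inf_idem] at h1
  exact cm_ne C j h1

/-- `N_G(S)` permutes the two classes -/
theorem cm_nS {n : G} (hn : n ∈ normalizer (S : Set G)) : (∀ i, MulAut.conj n • W i = W i) ∨
    ∀ i, MulAut.conj n • W i = W (i + 1) := by
  have h := fun i => C.nS n hn ⟨i⟩
  obtain ⟨a, ha⟩ := h 0
  obtain ⟨b, hb⟩ := h 1
  have ha' : MulAut.conj n • W 0 = W a.down := ha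
  have hb' : MulAut.conj n • W 1 = W b.down := hb
  have hab : a.down ≠ b.down := by
    intro e
    rw [← e, ← ha'] at hb'
    exact absurd (cm_inj C (smul_left_cancel _ hb')) (by decide)
  have h2 : ∀ x y : Fin 2, x ≠ y → (x = 0 ∧ y = 1) ∨ (x = 1 ∧ y = 0) := by decide
  rcases h2 _ _ hab with ⟨e1, e2⟩ | ⟨e1, e2⟩
  · left
    rw [e1] at ha'
    rw [e2] at hb'
    intro i
    rcases Fin.exists_fin_two.1 ⟨i, rfl⟩ with h | h
    · rw [h]; exact ha'
    · rw [h]; exact hb'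
  · right
    rw [e1] at ha'
    rw [e2] at hb'
    intro i
    rcases Fin.exists_fin_two.1 ⟨i, rfl⟩ with h | h
    · rw [h]; exact ha'
    · rw [h]; exact hb'

end cm

section fin

variable [Finite G] {S : Sylow 2 G} {W : Fin 2 → Subgroup G}
  (h : RB S) (C : CM (S : Subgroup G) (fun i : ULift.{u} (Fin 2) => W i.down))

theorem S_ne (h : RB S) : (S : Subgroup G) ≠ ⊥ := h.ctx.sylow_ne_bot S

theorem S_le_MZ (h : RB S) : (S : Subgroup G) ≤ MZ (S : Subgroup G) := Merge.S_le_MZ h.ctx h.full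

theorem isLoc_MZ (h : RB S) : IsLoc (S : Subgroup G) (MZ (S : Subgroup G)) :=
  Merge.isLoc_MZ h.ctx h.full h.data.noff

theorem Wd_le_S (h : RB S) : Wd (S : Subgroup G) ≤ (S : Subgroup G) :=
  ((isLoc_MZ h).zl_le S h.ctx.char2).trans ((zc_le _).trans ((isLoc_MZ h).o2_le S))

theorem Wd_sq (h : RB S) : ∀ x ∈ Wd (S : Subgroup G), x ^ 2 = 1 := fun x hx =>
  Star.zl_sq h.ctx.char2 h.data.noff x hx

include h C

theorem S_nor (i : Fin 2) : (S : Subgroup G) ≤ normalizer (W i : Set G) := (S_le_MZ h).trans (cm_inv C i)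

theorem W_le_S (i : Fin 2) : W i ≤ (S : Subgroup G) := (cm_le C i).trans (Wd_le_S h)

theorem ZZ_ne (i : Fin 2) : ZZ (S : Subgroup G) W i ≠ ⊥ := by
  have h1 := PLocal.OffenderStep.inf_centralizer_ne_bot (W i) (S : Subgroup G)
    (S.isPGroup'.to_le (W_le_S h C i)) S.isPGroup' (S_nor h C i) (cm_ne C i)
  intro h2
  apply h1
  rw [eq_bot_iff, ← h2]
  rintro x ⟨hx, hxS⟩
  refine mem_inf.2 ⟨hx, MinSimple.VModule.mem_zc.2 ⟨W_le_S h C i hx, fun t ht => ?_, Wd_sq h x (cm_le C i hx)⟩⟩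
  exact mem_centralizer_iff.1 hxS t ht

theorem exists_z (i : Fin 2) : ∃ z ∈ ZZ (S : Subgroup G) W i, z ≠ 1 := by
  obtain ⟨⟨z, hz⟩, hz1⟩ := (Subgroup.ne_bot_iff_exists_ne_one).1 (ZZ_ne h C i)
  exact ⟨z, hz, fun h1 => hz1 (Subtype.ext h1)⟩

/-- `g ∈ N_G(S)` which centralises some `Z_i` normalises `W 0` and `W 1` -/
theorem nN (i : Fin 2) {g : G} (hg : g ∈ normalizer ((S : Subgroup G) : Set G))
    (hc : g ∈ centralizer (ZZ (S : Subgroup G) W i : Set G)) (k : Fin 2) : g ∈ normalizer (W k : Set G) := by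
  rcases cm_nS C hg with h1 | h1
  · exact mem_nor (h1 k)
  · exfalso
    obtain ⟨z, hz, hz1⟩ := exists_z h C i
    have h2 : z ∈ MulAut.conj g • W i := by
      refine ⟨z, hz.1, ?_⟩
      change g * z * g⁻¹ = z
      rw [← mem_centralizer_iff.1 hc z hz]; group
    rw [h1] at h2
    have h3 : z ∈ W i ⊓ W (i + 1) := ⟨hz.1, h2⟩
    rw [cm_dis C (OM.KTwo.ne_add_one i)] at h3
    exact hz1 (mem_bot.1 h3)

/-- `W i ≤ WP S` from one `P ∈ P*(S)` with `W i ≤ V_P` -/
theorem wp_of {i : Fin 2} (hz : ∃ P, IsParS (S : Subgroup G) P ∧ W i ≤ zl (S : Subgroup G) P) :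
    W i ≤ WP (S : Subgroup G) := by
  obtain ⟨P, hP, h1⟩ := hz
  exact h1.trans (zl_le_WP hP)

/-- **`Spl S W`** -/
theorem spl (hz : ∀ i, ∃ P, IsParS (S : Subgroup G) P ∧ W i ≤ zl (S : Subgroup G) P)
    (hgen : ∀ i j, i ≠ j → W i ≤ NoFF.Basic.V (ZZ (S : Subgroup G) W i)
      (centralizer (ZZ (S : Subgroup G) W j : Set G))) : Spl S W where
  sup := cm_sup C (by decide)
  dis := cm_dis C (by decide)
  ne := cm_ne C
  nS := S_nor h C
  wp i := wp_of h C (hz i)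
  par _ _ _ R hR _ _ k := (Merge.le_MZ hR).trans (cm_inv C k)
  nN i _ hg hc k := nN h C i hg hc k
  gen := hgen

/-- an active `P` which moves `Z_i` : `O²(P)` centralises `W j`, `P` centralises `Z_j` -/
theorem act_odd {P : Subgroup G} (hP : Act (S : Subgroup G) P) {i j : Fin 2} (hij : i ≠ j)
    (hmv : ¬ P ≤ centralizer (ZZ (S : Subgroup G) W i : Set G)) :
    (∀ g ∈ P, Odd (orderOf g) → g ∈ centralizer (W j : Set G)) ∧
      P ≤ centralizer (ZZ (S : Subgroup G) W j : Set G) := by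
  obtain ⟨k, hk, hk'⟩ := C.one P hP
  have hodd : ∀ m : Fin 2, m ≠ k.down → ∀ g ∈ P, Odd (orderOf g) → g ∈ centralizer (W m : Set G) :=
    fun m hm g hg ho => hk' ⟨m⟩ (fun e => hm (congrArg ULift.down e)) g hg ho
  have hcent : ∀ m : Fin 2, m ≠ k.down → P ≤ centralizer (ZZ (S : Subgroup G) W m : Set G) := by
    intro m hm
    conv_lhs => rw [← NoFF.LinesPlug.oddGen_sup hP.1.le (MinSimple.Basic.not_dvd_relIndex S hP.1.le)]
    refine sup_le ?_ (InstZ.Spl.S_le_cent W m)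
    rw [MinSimple.VModule.oddGen_def, closure_le]
    rintro g ⟨hg, ho⟩
    exact centralizer_le inf_le_left (hodd m hm g hg ho)
  have hki : k.down = i := by
    by_contra hki
    exact hmv (hcent i (Ne.symm hki))
  exact ⟨hodd j (by rw [hki]; exact hij.symm), hcent j (by rw [hki]; exact hij.symm)⟩

/-- some active `P` moves `Z_i` and centralises `Z_j` -/
theorem exists_act (hm : MvAct (S : Subgroup G)) {i j : Fin 2} (hij : i ≠ j) :
    ∃ P, Act (S : Subgroup G) P ∧ ¬ P ≤ centralizer (ZZ (S : Subgroup G) W i : Set G) ∧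
      (∀ g ∈ P, Odd (orderOf g) → g ∈ centralizer (W j : Set G)) ∧
        P ≤ centralizer (ZZ (S : Subgroup G) W j : Set G) := by
  obtain ⟨z, hz, hz1⟩ := exists_z h C i
  obtain ⟨P, hP, hPz⟩ := hm z hz.2 hz1
  have hmv : ¬ P ≤ centralizer (ZZ (S : Subgroup G) W i : Set G) := fun h1 =>
    hPz (h1.trans (centralizer_le (Set.singleton_subset_iff.2 hz)))
  exact ⟨P, hP, hmv, act_odd h C hP hij hmv⟩

omit C in
/-- **nonlocality** -/
theorem nonLoc (hc : ∀ R, IsParS (S : Subgroup G) R → R ≤ centralizer (ZZ (S : Subgroup G) W 0 : Set G) ∨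
      R ≤ centralizer (ZZ (S : Subgroup G) W 1 : Set G)) :
    NonLoc (centralizer (ZZ (S : Subgroup G) W 0 : Set G)) (centralizer (ZZ (S : Subgroup G) W 1 : Set G)) := by
  intro U hU h0 h1
  refine Merge.nonLoc_MZ h.ctx h.full U hU (sSup_le fun R hR => ?_) ?_
  · rcases hc R hR with h2 | h2
    · exact h2.trans h0
    · exact h2.trans h1
  · exact (centralizer_le (inf_le_right : ZZ (S : Subgroup G) W 0 ≤ zc (S : Subgroup G))).trans h0

end fin

end Cfsg.Agent.Omega.NOThreeL.RRed.WLeft
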