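import Cfsg.Agent.Omega.NOThreeL.RRed.WLF.SplNon
import Cfsg.Agent.Omega.KL.TwoZ.LFrEnd
import Cfsg.Agent.Omega.KL.TwoZ.LineBf
import Cfsg.Agent.Omega.KL.GLine.ToM

/-!
# NO-3L, box R: the socket `WideTree.WLeftFld` (two natural blocks, field automorphisms; #24444 (C), #24700; plug
helper19)

* `src_of` : 916's `WLF.Src` from `WideTree.Src`; `kgroup` : `C_G(Z_i)` is a `K`-group;
* **`dead`** : 916's frame `LFr` + 410's (G1) `LFr.thmC2F`, (G3) `LFr.g3F` + 916's `LFr.bf` + 401's `LFrW.false_of_g3`;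
* **`wLeftFld`** : `WLeftFld K B`.
-/

set_option autoImplicit false
set_option linter.unusedSectionVars false

namespace Cfsg.Agent.Omega.NOThreeL.RRed.WLF

open Subgroup Cfsg Cfsg.Agent.ZN Cfsg.Agent.Omega.MinPar Cfsg.Agent.Omega.Frame Cfsg.Agent.Omega.FrameNOFF
open Cfsg.Agent.Omega.FrameFF
open Cfsg.Agent.Omega.NOThreeL.Merge (MZ)
open Cfsg.Agent.Omega.NOThreeL.RTree (RB)
open Cfsg.Agent.Omega.NOThreeL.RRed.GlueSig
open Cfsg.Agent.Omega.NOThreeL.RRed.InstZ (ZZ Spl)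
open Cfsg.Agent.Omega.NOThreeL.RRed.WideTree
open Cfsg.Agent.Omega.NOThreeL.RRed.WLeft
open scoped Pointwise

universe u

variable {G : Type u} [Group G]

/-- 916's `Src` -/
theorem src_of {S : Subgroup G} {W l : Fin 2 → Subgroup G} {q : Fin 2 → ℕ}
    (s : WideTree.Src S (fun i : ULift.{u} (Fin 2) => W i.down) (fun i => l i.down) (fun i => q i.down)) :
    Src S W l where
  act P hP := by
    obtain ⟨F, iF, iF', iF2, k, hk, M, h, hD, hb⟩ := s.act P hP
    refine ⟨F, iF, iF', iF2, k, hk, M, h, hD, fun j => ?_⟩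
    obtain ⟨b, h1, h2, -⟩ := hb j
    exact ⟨b.down, h1, h2⟩

variable [Finite G] {S : Sylow 2 G} {W l : Fin 2 → Subgroup G}

/-- `C_G(Z_i)` is a `K`-group -/
theorem kgroup (h : RB S) (s : Spl S W) (i : Fin 2) :
    IsKGroup (centralizer (ZZ (S : Subgroup G) W i : Set G)) := by
  have := h.ctx.simple
  exact h.ctx.kproper _ ((s.isLong h i).loc.ne_top S h.ctx.not_isPGroup)

/-- **two natural blocks with fields: contradiction** -/
theorem dead (hML : ML.Final.MLK.{u, u}) (hE : ML.Ex.Two.Ext.{u, u}) (hN : KL.StarM.NoInpM.{u, u}) (hW : Wide S)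
    (hm : MvAct (S : Subgroup G)) (C : CM (S : Subgroup G) (fun i : ULift.{u} (Fin 2) => W i.down))
    (s : Src (S : Subgroup G) W l)
    (hcl : ∀ c ∈ centralizer (zc (S : Subgroup G) : Set G), ∀ i, c ∈ normalizer (l i : Set G)) : False := by
  have D := lfr_of hW C s hm hcl
  have hK : ∀ i, IsKGroup (KL.TwoZ.CC (ZZ (S : Subgroup G) W) i) := fun i => kgroup hW.toRB (spl_of hW C s hm) i
  have hn : ∀ i, ∃ (F : Type) (_ : Field F) (_ : Finite F) (_ : CharP F 2) (P : Subgroup G)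
      (_ : NatS F (S : Subgroup G) P (W i) (W (i + 1)) (l i)), MinSimple.MinParabolic.IsMinPar (S : Subgroup G) P := by
    intro i
    obtain ⟨F, iF, iF', iF2, P, -, n, hP, -, -⟩ := exists_nat hW C s hm i
    exact ⟨F, iF, iF', iF2, P, n, hP.1.toIsMinPar⟩
  have hn' : ∀ i, ∃ (F : Type) (_ : Field F) (_ : Finite F) (_ : CharP F 2) (P : Subgroup G),
      Nonempty (NatS F (S : Subgroup G) P (W i) (W (i + 1)) (l i)) := by
    intro i
    obtain ⟨F, iF, iF', iF2, P, n, -⟩ := hn i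
    exact ⟨F, iF, iF', iF2, P, ⟨n⟩⟩
  have g1 : KL.TwoZ.Line.LFr S W (ZZ (S : Subgroup G) W) l → OM.PT.ThmC2 l (OM.PT.XW l W) := fun D =>
    D.thmC2F hML hE hN hK
      (fun i x hx hx1 y hy hy1 => by
        obtain ⟨F, _, _, _, P, ⟨N⟩⟩ := hn' i
        obtain ⟨h, a1, a2, -, a4⟩ :=
          InstL.torZ_of_natS N ((D.VQ i).trans (D.Q_le_S i)) (D.sqV i) x hx hx1 y hy hy1
        exact ⟨h, a1, a2, a4⟩)
      (fun i => by
        obtain ⟨F, _, _, _, P, ⟨N⟩⟩ := hn' i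
        exact InstL.torU_of_natS N ((D.VQ i).trans (D.Q_le_S i)) (D.sqV i))
  have g3 := fun i => D.g3F hML hK (g1 D) i
  exact (InstL.lfrw_of D hn' (D.bf hn g3)).false_of_g3 hML hK hn' (g1 D) g3

/-- **two natural blocks, fields** -/
theorem wLeftFld (hML : ML.Final.MLK.{u, u}) (hE : ML.Ex.Two.Ext.{u, u}) (hN : KL.StarM.NoInpM.{u, u})
    (K : Cls.{u}) (B : Fr.{u}) : WLeftFld K B := by
  intro G _ _ _ S _ hW hm W C _ E D l q _ s _ hcl _
  exact (dead hML hE hN hW hm C (src_of s) hcl).elim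

end Cfsg.Agent.Omega.NOThreeL.RRed.WLF
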