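import Cfsg.Agent.Omega.NOThreeL.RRed.WLeftRt
import Cfsg.Agent.Omega.NOThreeL.RRed.InstNF
import Cfsg.Agent.Omega.NOThreeL.RRed.Nat1Of

/-!
# NO-3L, box R, one natural block without fields, `R ∈ P*(S)` moves `W ∩ Z` (WideTree row 7, helper958)

`r : Rt (zl S L) W W' l A F e`, `A ≤ S`, `l = W ∩ Z`, `L ≤ N(W)`, `R ≤ L`.

* `cent_of` : `B ≤ A` in `C(V_R)` centralises `V = zl S L`;
* **`gone`** : `GOne S L R A`; `not_o2` : `B ≤ A` which moves `V` is not in `O₂(R)`;
* `W_le`, `sup_eq` : `W ≤ V_R ≤ W (W' ∩ Z)` if `O²(R)` centralises `W'`;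
* **`inf_cv`** : `W ∩ C_(V_R)(O²(R)) = 1`; **`splitBy`**.
-/

set_option autoImplicit false
set_option linter.unusedSectionVars false

namespace Cfsg.Agent.Omega.NOThreeL.RRed.WLeft

open Subgroup Cfsg Cfsg.Agent.ZN Cfsg.Agent.Omega.MinPar Cfsg.Agent.Omega.Frame Cfsg.Agent.Omega.FrameNOFF
open Cfsg.Agent.Omega.FFThm (ElemM OffM NoOverM ConclM NatKM SymKM NatK SymK ActsSL ActsSym)
open Cfsg.Agent.Omega.FrameFF (cv)
open Cfsg.Agent.Omega.NatPair (ap)
open Cfsg.Agent.Omega.NOThreeL.RTreeA (SplitBy)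
open Cfsg.Agent.MinSimple.VModule (zc_le_zl oddGen)
open Cfsg.Agent.Lib.SL2Mat

universe u

variable {G : Type u} [Group G]

section par

variable [Finite G] {S : Sylow 2 G} {L R W W' l A : Subgroup G} {F : Type} [Field F] [Finite F] [CharP F 2]
  {e : G → Fin 2 → F}

/-- the hypotheses -/
structure Loc (S : Sylow 2 G) (L R W W' l A : Subgroup G) (F : Type) [Field F] (e : G → Fin 2 → F) : Prop where
  hc : IsCharacteristicTwoType G
  rt : Rt (zl (S : Subgroup G) L) W W' l A F e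
  no : NoOverM (zl (S : Subgroup G) L) L
  par : IsParS (S : Subgroup G) R
  RL : R ≤ L
  LW : L ≤ normalizer (W : Set G)
  SW' : (S : Subgroup G) ≤ normalizer (W' : Set G)
  VS : zl (S : Subgroup G) L ≤ (S : Subgroup G)
  sq : ∀ x ∈ zl (S : Subgroup G) L, x ^ 2 = 1
  AS : A ≤ (S : Subgroup G)
  hl : W ⊓ zc (S : Subgroup G) = l
  mv : ¬ R ≤ centralizer ((W ⊓ zc (S : Subgroup G) : Subgroup G) : Set G)

variable (h : Loc S L R W W' l A F e)
include h

omit [Finite F] [CharP F 2] in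
theorem Loc.VU : zl (S : Subgroup G) R ≤ zl (S : Subgroup G) L := Star.zl_mono _ h.RL

omit [Finite F] [CharP F 2] in
theorem Loc.inf_lW {x : G} (hx : x ∈ W) (hx' : x ∈ l ⊔ W') : x ∈ l := by
  have hn : l ≤ normalizer (W' : Set G) :=
    ((h.rt.l_le.trans h.rt.WV).trans h.rt.ab).trans
      ((centralizer_le h.rt.WV').trans (centralizer_le_normalizer _))
  have h2 : x ∈ ((l ⊔ W' : Subgroup G) : Set G) := hx'
  rw [coe_mul_of_left_le_normalizer_right _ _ hn] at h2
  obtain ⟨a, ha, b, hb, e1⟩ := h2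
  have e1' : a * b = x := e1
  have h3 : b ∈ W ⊓ W' := by
    refine ⟨?_, hb⟩
    have : a⁻¹ * x ∈ W := mul_mem (inv_mem (h.rt.l_le ha)) hx
    rwa [← e1', inv_mul_cancel_left] at this
  rw [h.rt.dis, mem_bot] at h3
  rw [← e1', h3, mul_one]
  exact ha

omit [Finite F] [CharP F 2] in
/-- `B ≤ A` which centralises `V_R` centralises `V` -/
theorem Loc.cent_of {B : Subgroup G} (hB : B ≤ A) (hBR : B ≤ centralizer (zl (S : Subgroup G) R : Set G)) :
    B ≤ centralizer (zl (S : Subgroup G) L : Set G) := by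
  by_contra hn
  apply h.mv
  have h1 := h.rt.cent_eq hB hn
  have h2 : zl (S : Subgroup G) R ≤ l ⊔ W' := by
    rw [← h1]
    exact le_inf h.VU (le_centralizer_iff.1 hBR)
  -- `Z_i` is `R`-invariant
  have h3 : W ⊓ zl (S : Subgroup G) R = l := by
    apply le_antisymm
    · rintro x ⟨hx, hx'⟩
      exact h.inf_lW hx (h2 hx')
    · refine le_inf h.rt.l_le ?_
      rw [← h.hl]
      exact inf_le_right.trans (zc_le_zl _ _)
  have h4 : R ≤ normalizer (l : Set G) := by
    rw [← h3]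
    exact (le_inf (h.RL.trans h.LW) (MinSimple.VModule.le_normalizer_zl _ _)).trans inf_normalizer_le_normalizer_inf
  rw [h.hl]
  refine InstZ.le_of_conj h.par.toIsMinPar fun g hg t ht => ?_
  rw [mem_centralizer_iff]
  intro z hz
  have h5 : g⁻¹ * z * g ∈ l := by
    have := (mem_normalizer_iff.1 (h4 (inv_mem hg)) z).1 hz
    rwa [inv_inv] at this
  have h6 : t * (g⁻¹ * z * g) = (g⁻¹ * z * g) * t := by
    rw [← h.hl] at h5
    exact (MinSimple.VModule.mem_zc.1 h5.2).2.1 t ht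
  calc z * (g * t * g⁻¹) = g * ((g⁻¹ * z * g) * t) * g⁻¹ := by group
    _ = g * (t * (g⁻¹ * z * g)) * g⁻¹ := by rw [h6]
    _ = g * t * g⁻¹ * z := by group

/-- **`R` satisfies (G1) with `A`** -/
theorem Loc.gone : GOne S L R A := by
  have hne : ¬ A ≤ centralizer (zl (S : Subgroup G) R : Set G) := fun h1 => h.rt.not_le (h.cent_of le_rfl h1)
  obtain ⟨-, -, h2, h3, h4⟩ := exact_split h.hc h.par h.RL h.no h.rt.ab h.AS h.rt.elem h.rt.exa hne
  have h5 : A ⊓ centralizer (zl (S : Subgroup G) R : Set G) ≤ centralizer (zl (S : Subgroup G) L : Set G) :=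
    h.cent_of inf_le_left inf_le_right
  refine ⟨h.par, h.RL, h.AS, h.rt.ab, h.no, ⟨h.rt.elem, h.rt.not_le, h.rt.exa.le⟩, h2, h5, h3, ?_⟩
  rw [← h4]
  exact (inf_eq_left.2 (le_centralizer_iff.1 h5)).symm

omit [Finite F] [CharP F 2] in
/-- `B ≤ A` which moves `V` is not in `O₂(R)` -/
theorem Loc.not_o2 {B : Subgroup G} (hB : B ≤ A) (hn : ¬ B ≤ centralizer (zl (S : Subgroup G) L : Set G)) :
    ¬ B ≤ o2 R := by
  intro h1
  apply hn
  refine h.cent_of hB (h1.trans ?_)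
  rw [le_centralizer_iff]
  exact MinSimple.VModule.zl_le (by
    rw [le_centralizer_iff]
    exact ((h.par.isLoc.o2_le S)).trans (MinSimple.VModule.le_centralizer_zc _))
    (TC.LemZ.norm_cent (MinSimple.VModule.le_normalizer_o2 R))

omit [Finite F] [CharP F 2] in
/-- `Z = (W ∩ Z) (W' ∩ Z)` -/
theorem Loc.zdec {z : G} (hz : z ∈ zc (S : Subgroup G)) :
    ∃ a ∈ W ⊓ zc (S : Subgroup G), ∃ b ∈ W' ⊓ zc (S : Subgroup G), z = a * b := by
  have hzV : z ∈ zl (S : Subgroup G) L := zc_le_zl _ _ hz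
  obtain ⟨a, ha, b, hb, e1⟩ := h.rt.dec hzV
  have hSL : (S : Subgroup G) ≤ L := h.par.le.trans h.RL
  have key : ∀ t ∈ (S : Subgroup G), t * a = a * t ∧ t * b = b * t := by
    intro t ht
    have h4 : t * z * t⁻¹ = z := by
      have := (MinSimple.VModule.mem_zc.1 hz).2.1 t ht
      rw [this]; group
    have ha' : t * a * t⁻¹ ∈ W := (mem_normalizer_iff.1 (h.LW (hSL ht)) a).1 ha
    have hb' : t * b * t⁻¹ ∈ W' := (mem_normalizer_iff.1 (h.SW' ht) b).1 hb
    have h5 : (t * a * t⁻¹) * (t * b * t⁻¹) = a * b := by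
      rw [← e1]
      conv_rhs => rw [← h4]
      rw [e1]; group
    have h6 : a⁻¹ * (t * a * t⁻¹) = b * (t * b * t⁻¹)⁻¹ := by
      calc a⁻¹ * (t * a * t⁻¹) = a⁻¹ * ((t * a * t⁻¹) * (t * b * t⁻¹)) * (t * b * t⁻¹)⁻¹ := by group
        _ = b * (t * b * t⁻¹)⁻¹ := by rw [h5]; group
    have h7 : a⁻¹ * (t * a * t⁻¹) ∈ W ⊓ W' :=
      mem_inf.2 ⟨mul_mem (inv_mem ha) ha', by rw [h6]; exact mul_mem hb (inv_mem hb')⟩
    rw [h.rt.dis, mem_bot] at h7
    have h8 : t * a * t⁻¹ = a := (inv_mul_eq_one.1 h7).symm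
    have h9 : t * b * t⁻¹ = b := by
      rw [h8] at h5
      exact mul_left_cancel h5
    exact ⟨mul_inv_eq_iff_eq_mul.1 h8, mul_inv_eq_iff_eq_mul.1 h9⟩
  have haV := h.rt.WV ha
  have hbV := h.rt.WV' hb
  exact ⟨a, mem_inf.2 ⟨ha, MinSimple.VModule.mem_zc.2 ⟨h.VS haV, fun t ht => (key t ht).1, h.sq a haV⟩⟩,
    b, mem_inf.2 ⟨hb, MinSimple.VModule.mem_zc.2 ⟨h.VS hbV, fun t ht => (key t ht).2, h.sq b hbV⟩⟩, e1⟩

variable (hodd : ∀ g ∈ R, Odd (orderOf g) → g ∈ centralizer (W' : Set G))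
include hodd

omit [Finite F] [CharP F 2] in
/-- `R` centralises `W' ∩ Z` -/
theorem Loc.cent' : R ≤ centralizer ((W' ⊓ zc (S : Subgroup G) : Subgroup G) : Set G) := by
  conv_lhs => rw [← NoFF.LinesPlug.oddGen_sup h.par.le (MinSimple.Basic.not_dvd_relIndex S h.par.le)]
  refine sup_le ?_ ((MinSimple.VModule.le_centralizer_zc _).trans (centralizer_le inf_le_right))
  rw [MinSimple.VModule.oddGen_def, closure_le]
  rintro g ⟨hg, ho⟩
  exact centralizer_le inf_le_left (hodd g hg ho)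

omit [Finite F] [CharP F 2] in
/-- `V_R ≤ W (W' ∩ Z)` -/
theorem Loc.zl_le : zl (S : Subgroup G) R ≤ W ⊔ (W' ⊓ zc (S : Subgroup G)) := by
  refine MinSimple.VModule.zl_le (fun z hz => ?_) ?_
  · obtain ⟨a, ha, b, hb, rfl⟩ := h.zdec hz
    exact mul_mem (mem_sup_left ha.1) (mem_sup_right hb)
  · exact RRed.CM.norm_sup (h.RL.trans h.LW) ((h.cent' hodd).trans (centralizer_le_normalizer _))

/-- **`W ≤ V_R`** -/
theorem Loc.W_le : W ≤ zl (S : Subgroup G) R := by
  have hg := h.gone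
  intro w hw
  have hwV := h.rt.WV hw
  obtain ⟨v, hv, x, hx, e1⟩ := hg.dec hwV
  rw [h.rt.cent_eq le_rfl h.rt.not_le] at hx
  -- `x = a b`, `a ∈ l ≤ V_R`, `b ∈ W'`
  have hn : l ≤ normalizer (W' : Set G) :=
    ((h.rt.l_le.trans h.rt.WV).trans h.rt.ab).trans
      ((centralizer_le h.rt.WV').trans (centralizer_le_normalizer _))
  have h2 : x ∈ ((l ⊔ W' : Subgroup G) : Set G) := hx
  rw [coe_mul_of_left_le_normalizer_right _ _ hn] at h2
  obtain ⟨a, ha, b, hb, e2⟩ := h2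
  have e2' : x = a * b := e2.symm
  have haR : a ∈ zl (S : Subgroup G) R := by
    rw [SetLike.mem_coe, ← h.hl] at ha
    exact zc_le_zl _ _ ha.2
  have hvaR : v * a ∈ zl (S : Subgroup G) R := mul_mem hv haR
  -- `v a = w' z'`
  have h3 := h.zl_le hodd hvaR
  have hn' : W ≤ normalizer ((W' ⊓ zc (S : Subgroup G) : Subgroup G) : Set G) :=
    (h.rt.WV.trans h.rt.ab).trans ((centralizer_le (inf_le_left.trans h.rt.WV')).trans (centralizer_le_normalizer _))
  have h4 : v * a ∈ ((W ⊔ (W' ⊓ zc (S : Subgroup G)) : Subgroup G) : Set G) := h3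
  rw [coe_mul_of_left_le_normalizer_right _ _ hn'] at h4
  obtain ⟨w', hw', z', hz', e3⟩ := h4
  have e3' : v * a = w' * z' := e3.symm
  have e4 : w = w' * (z' * b) := by
    calc w = v * a * b := by rw [e1, e2', mul_assoc]
      _ = _ := by rw [e3', mul_assoc]
  have h5 : z' * b ∈ W ⊓ W' := by
    refine ⟨?_, mul_mem hz'.1 hb⟩
    have : w'⁻¹ * w ∈ W := mul_mem (inv_mem hw') hw
    rwa [e4, inv_mul_cancel_left] at this
  rw [h.rt.dis, mem_bot] at h5
  rw [e4, h5, mul_one]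
  have h6 : w' = v * a * z'⁻¹ := by rw [e3', mul_inv_cancel_right]
  rw [h6]
  exact mul_mem hvaR (inv_mem (zc_le_zl _ _ hz'.2))

/-- the coordinates of `V_R` are those of `W` -/
theorem Loc.exists_w {v : G} (hv : v ∈ zl (S : Subgroup G) R) :
    ∃ w ∈ W, ∃ d ∈ cv (S : Subgroup G) R, v = w * d := by
  have hn' : W ≤ normalizer ((W' ⊓ zc (S : Subgroup G) : Subgroup G) : Set G) :=
    (h.rt.WV.trans h.rt.ab).trans ((centralizer_le (inf_le_left.trans h.rt.WV')).trans (centralizer_le_normalizer _))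
  have h4 : v ∈ ((W ⊔ (W' ⊓ zc (S : Subgroup G)) : Subgroup G) : Set G) := h.zl_le hodd hv
  rw [coe_mul_of_left_le_normalizer_right _ _ hn'] at h4
  obtain ⟨w, hw, z, hz, e1⟩ := h4
  refine ⟨w, hw, z, ?_, e1.symm⟩
  exact Nat1Of.mem_cv_of hz.2 ((h.cent' hodd).trans (centralizer_le (Set.singleton_subset_iff.2 hz)))

/-- natural modules: `W ∩ cv = 1` -/
theorem Loc.inf_nat {F' : Type} [Field F'] [Finite F'] [CharP F' 2] {k : ℕ} (hk : 0 < k)
    (M : NatKM F' (S : Subgroup G) R (zl (S : Subgroup G) R) (cv (S : Subgroup G) R) k) :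
    W ⊓ cv (S : Subgroup G) R = ⊥ := by
  classical
  have hg := h.gone
  have hRV : R ≤ normalizer (zl (S : Subgroup G) R : Set G) := MinSimple.VModule.le_normalizer_zl _ _
  have hAR : A ≤ R := h.AS.trans h.par.le
  have hWR := h.W_le hodd
  obtain ⟨I, hI1, hI2⟩ := M.offM A h.AS hg.offP
  have hsub : ∀ {v w : G}, v ∈ zl (S : Subgroup G) R → w ∈ zl (S : Subgroup G) R →
      M.e (v * w⁻¹) = M.e v - M.e w := fun hv hw => e_sub_nat M.toNatK le_rfl hv hw
  have hcomm : ∀ {a v : G} {b : Fin k → F'}, a ∈ A →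
      ActsSL M.e (zl (S : Subgroup G) R) (cv (S : Subgroup G) R) a (fun i => up (b i)) →
      v ∈ zl (S : Subgroup G) R → ∀ i, M.e (a * v * a⁻¹ * v⁻¹) i 0 = b i * M.e v i 1 := by
    intro a v b ha hb hv i
    rw [hsub (conj_div hRV (hAR ha) hv) hv, Pi.sub_apply, hb.1 v hv i, Pi.sub_apply, VF.Nat.ap_up_0]
    ring
  -- `I ≠ ∅`
  obtain ⟨i, hi⟩ : ∃ i, i ∈ I := by
    by_contra hcon
    push Not at hcon
    apply hg.offP.ne
    rw [le_centralizer_iff]
    intro v hv
    rw [mem_centralizer_iff]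
    refine cent_nat h.hc h.par M hk h.AS hg.offP hv fun a ha => ?_
    obtain ⟨b, hb, hact⟩ := hI1 a ha
    have hb0 : b = 0 := funext fun j => hb j (hcon j)
    funext j
    rw [hact.1 v hv j, hb0]
    refine VF.Nat.ext2' ?_ ?_
    · rw [VF.Nat.ap_up_0]; simp
    · rw [VF.Nat.ap_up_1]
  obtain ⟨a, ha, hact⟩ := hI2 (Pi.single i 1)
    (fun j hj => Pi.single_eq_of_ne (fun e => hj (by rw [e]; exact hi)) _)
  -- `n ∈ W` with `e n i 1 = 1`
  obtain ⟨n, hn, hne⟩ : ∃ n ∈ W, M.e n i 1 = 1 := by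
    obtain ⟨v, hv, hev⟩ := M.surj (Pi.single i ![0, 1])
    obtain ⟨w, hw, d, hd, rfl⟩ := h.exists_w hodd hv
    refine ⟨w, hw, ?_⟩
    have hdV : d ∈ zl (S : Subgroup G) R := hd.1
    rw [M.mul w (hWR hw) d hdV, (M.ker d hdV).2 hd, add_zero] at hev
    rw [hev, Pi.single_eq_same]; rfl
  have hnR := hWR hn
  have hz0 : M.e (a * n * a⁻¹ * n⁻¹) i 0 = 1 := by
    rw [hcomm ha hact hnR i, Pi.single_eq_same, hne, mul_one]
  have haW : a ∉ centralizer (W : Set G) := by
    intro h1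
    have h2 : a * n * a⁻¹ * n⁻¹ = 1 := by
      rw [← mem_centralizer_iff.1 h1 n hn]; group
    rw [h2] at hz0
    have h3 : M.e 1 = 0 := by
      have := M.mul 1 (one_mem _) 1 (one_mem _)
      rw [one_mul] at this
      exact left_eq_add.1 this
    rw [h3] at hz0
    exact zero_ne_one hz0
  rw [eq_bot_iff]
  rintro x ⟨hxW, hxc⟩
  rw [mem_bot]
  by_contra hx1
  -- `x ∈ l`
  have hxl : x ∈ l := h.rt.free ha haW hxW (hact.2 x hxc)
  obtain ⟨w, hw, hwx⟩ := h.rt.full ha haW hxl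
  have hwR := hWR hw
  have hw1 : M.e w i 1 = 0 := by
    have h1 := hcomm ha hact hwR i
    rw [hwx, (M.ker x hxc.1).2 hxc, Pi.single_eq_same, one_mul] at h1
    exact h1.symm
  have hwl : w ∉ l := by
    intro h1
    apply hx1
    rw [← hwx, ← mem_centralizer_iff.1 (h.rt.cent_l ha) w h1]; group
  obtain ⟨a', ha', h1⟩ := h.rt.root' hw hwl (h.rt.com ha hn)
  obtain ⟨b', -, hact'⟩ := hI1 a' ha'
  have h2 := hcomm ha' hact' hwR i
  rw [h1, hz0, hw1, mul_zero] at h2
  exact one_ne_zero h2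

/-- even-subset modules are impossible -/
theorem Loc.no_sym {k m : ℕ} (hk : 0 < k) (hm : 2 ≤ m)
    (M : SymKM (S : Subgroup G) R (zl (S : Subgroup G) R) (cv (S : Subgroup G) R) k m) : False := by
  classical
  have hg := h.gone
  have hWR := h.W_le hodd
  obtain ⟨t, ht, c, hc, hc1, htv, htn⟩ := tv_sym h.hc h.par M hk hm h.AS hg.offP
  have htW : t ∉ centralizer (W : Set G) := fun h1 =>
    htn (centralizer_le h.VU ((h.rt.mem_cent ht).2 h1))
  have hl2 : Nat.card l ≤ 2 := by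
    have hf : Function.Injective (fun z : l => decide ((z : G) = 1)) := by
      intro z z' hzz
      have key : ∀ z ∈ l, z = 1 ∨ z = c := by
        intro z hz
        obtain ⟨v, hv, e1⟩ := h.rt.full ht htW hz
        rcases htv v (hWR hv) with h1 | h1
        · left; rw [← e1, h1, mul_inv_cancel]
        · right
          have h2 : v * c = c * v := h.rt.comm (h.rt.WV hv) (h.VU hc)
          rw [← e1, h1, h2, mul_inv_cancel_right]
      rcases key z z.2 with h1 | h1 <;> rcases key z' z'.2 with h2 | h2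
      · exact Subtype.ext (h1.trans h2.symm)
      · exfalso
        simp only [h1, h2, decide_true] at hzz
        exact hc1 (of_decide_eq_true hzz.symm)
      · exfalso
        simp only [h1, h2, decide_true] at hzz
        exact hc1 (of_decide_eq_true hzz)
      · exact Subtype.ext (h1.trans h2.symm)
    have h1 := Nat.card_le_card_of_injective _ hf
    simpa using h1
  have hW4 : Nat.card W ≤ 4 := by
    rw [h.rt.card_W]
    calc Nat.card l * Nat.card l ≤ 2 * 2 := Nat.mul_le_mul hl2 hl2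
      _ = 4 := rfl
  let j : Fin k := ⟨0, hk⟩
  have hex : ∀ x : Fin (2 ^ m + 1), ∃ w ∈ W, M.e w = Pi.single j (Pi.single 0 1 + Pi.single x 1) := by
    intro x
    obtain ⟨v, hv, hev⟩ := M.surj (Pi.single j (Pi.single 0 1 + Pi.single x 1)) (by
      intro i
      by_cases hij : i = j
      · subst hij
        rw [Pi.single_eq_same]
        simp only [Pi.add_apply, Finset.sum_add_distrib]
        rw [Finset.sum_pi_single', Finset.sum_pi_single']
        simp
        decide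
      · rw [Pi.single_eq_of_ne hij]
        simp)
    obtain ⟨w, hw, d, hd, rfl⟩ := h.exists_w hodd hv
    refine ⟨w, hw, ?_⟩
    have hdV : d ∈ zl (S : Subgroup G) R := hd.1
    rw [M.mul w (hWR hw) d hdV, (M.ker d hdV).2 hd, add_zero] at hev
    exact hev
  choose f hf hfe using hex
  have hinj : Function.Injective (fun x => (⟨f x, hf x⟩ : W)) := by
    intro x y hxy
    have h1 : f x = f y := congrArg Subtype.val hxy
    have h2 : (Pi.single 0 1 + Pi.single x 1 : Fin (2 ^ m + 1) → ZMod 2) = Pi.single 0 1 + Pi.single y 1 := by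
      have h3 := hfe x
      rw [h1, hfe y] at h3
      have h4 := congrFun h3 j
      rw [Pi.single_eq_same, Pi.single_eq_same] at h4
      exact h4.symm
    have h3 := add_left_cancel h2
    by_contra hne
    have h4 := congrFun h3 x
    rw [Pi.single_eq_same, Pi.single_eq_of_ne hne] at h4
    exact one_ne_zero h4
  have h1 := Nat.card_le_card_of_injective _ hinj
  rw [Nat.card_eq_fintype_card, Fintype.card_fin] at h1
  have h2 : 2 ^ 2 ≤ 2 ^ m := Nat.pow_le_pow_right (by norm_num) hm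
  omega

/-- **`W ∩ C_(V_R)(O²(R)) = 1`** -/
theorem Loc.inf_cv : W ⊓ cv (S : Subgroup G) R = ⊥ := by
  rcases h.gone.concl with ⟨F', _, _, _, k, hk, ⟨M⟩⟩ | ⟨k, m, hk, hm, ⟨M⟩⟩
  · exact h.inf_nat hodd hk M
  · exact (h.no_sym hodd hk hm M).elim

/-- **`V_R = W × C_(V_R)(O²(R))`** -/
theorem Loc.splitBy : SplitBy (S : Subgroup G) R (cv (S : Subgroup G) R) W := by
  refine ⟨h.W_le hodd, h.RL.trans h.LW, h.inf_cv hodd, fun v hv => ?_⟩
  obtain ⟨w, hw, d, hd, rfl⟩ := h.exists_w hodd hv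
  exact mul_mem (mem_sup_left hw) (mem_sup_right hd)

end par

end Cfsg.Agent.Omega.NOThreeL.RRed.WLeft
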