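import Cfsg.Agent.Omega.NOThreeL.RRed.WLeftBase
import Cfsg.Agent.Omega.NOThreeL.RRed.WLeftPar

/-!
# NO-3L, box R, `WideTree.WLeftOne`: two natural blocks, no fields: the frame `KL.TwoZ.NF` (helper958)

`h : RB S`, `C : CM S W`, `N : NBs S W E D l q`, `hf : NoFld S W l`.

* `exists_rt` : `S ⊓ D i` is the root group of the block `W i` of `V* = W i × W (i+1)`; `l_eq` : `l i = W i ∩ Z`;
* `loc` : every `R ∈ P*(S)` which moves `Z_i` satisfies `Loc`, is active, centralises `Z_(i+1)`;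
* `gen` : `W i ≤ ⟨Z_i ^ C_G(Z_j)⟩`;
* `spl_of`, `nat1`, `nonLoc_of`; **`nf_of`** : `KL.TwoZ.NF S W (ZZ S W)`.
-/

set_option autoImplicit false
set_option linter.unusedSectionVars false

namespace Cfsg.Agent.Omega.NOThreeL.RRed.WLeft

open Subgroup Cfsg Cfsg.Agent.ZN Cfsg.Agent.Omega.MinPar Cfsg.Agent.Omega.Frame Cfsg.Agent.Omega.FrameNOFF
open Cfsg.Agent.Omega.FFThm (OffM NoOverM ConclM)
open Cfsg.Agent.Omega.NOThreeL.Merge (MZ)
open Cfsg.Agent.Omega.NOThreeL.RTree (RB)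
open Cfsg.Agent.Omega.NOThreeL.RRed.InstZ (ZZ Spl Nat1)
open Cfsg.Agent.Omega.NOThreeL.RRed.WideTree
open Cfsg.Agent.Omega.OM.KTwo (ne_add_one)
open Cfsg.Agent.MinSimple.VModule (zc_le_zl oddGen)
open scoped Pointwise

universe u

variable {G : Type u} [Group G] [Finite G] {S : Sylow 2 G} {W E D l : Fin 2 → Subgroup G} {q : Fin 2 → ℕ}
  (h : RB S) (C : CM (S : Subgroup G) (fun i : ULift.{u} (Fin 2) => W i.down))
  (N : NBs (S : Subgroup G) (fun i : ULift.{u} (Fin 2) => W i.down) (fun i => E i.down) (fun i => D i.down)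
    (fun i => l i.down) (fun i => q i.down))
  (hf : NoFld (S : Subgroup G) W l)

include h C N

omit h C in
theorem D_cent {i j : Fin 2} (hij : i ≠ j) : D i ≤ centralizer (W j : Set G) :=
  (N.DE ⟨i⟩).trans (N.dec.EC ⟨i⟩ ⟨j⟩ fun e => hij (congrArg ULift.down e))

theorem exists_rt {i j : Fin 2} (hij : i ≠ j) : ∃ (F : Type) (_ : Field F) (_ : Finite F) (_ : CharP F 2)
    (e : G → Fin 2 → F), Nat.card F = q i ∧
      Rt (zl (S : Subgroup G) (MZ (S : Subgroup G))) (W i) (W j) (l i) ((S : Subgroup G) ⊓ D i) F e := by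
  obtain ⟨F, i1, i2, i3, e, hq, hN⟩ := N.nat ⟨i⟩
  exact ⟨F, i1, i2, i3, e, hq,
    { ab := N.dec.ab
      sup := cm_sup C hij
      dis := cm_dis C hij
      nor := inf_le_left.trans (S_nor h C i)
      cW := inf_le_right.trans (D_cent N hij)
      mul := hN.mul
      inj := hN.inj
      sur := hN.sur
      line := hN.line
      root := hN.root
      sylow := hN.sylow }⟩

/-- `D i` is transitive on `(W i)#` -/
theorem tr {i : Fin 2} {v w : G} (hv : v ∈ W i) (hw : w ∈ W i) (hv1 : v ≠ 1) (hw1 : w ≠ 1) :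
    ∃ d ∈ D i, d * v * d⁻¹ = w := by
  obtain ⟨F, i1, i2, i3, e, hq, hN⟩ := N.nat ⟨i⟩
  have hij := ne_add_one i
  have r : Rt (zl (S : Subgroup G) (MZ (S : Subgroup G))) (W i) (W (i + 1)) (l i) ((S : Subgroup G) ⊓ D i) F e :=
    { ab := N.dec.ab
      sup := cm_sup C hij
      dis := cm_dis C hij
      nor := inf_le_left.trans (S_nor h C i)
      cW := inf_le_right.trans (D_cent N hij)
      mul := hN.mul
      inj := hN.inj
      sur := hN.sur
      line := hN.line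
      root := hN.root
      sylow := hN.sylow }
  have hDn : D i ≤ normalizer (W i : Set G) := (N.DE ⟨i⟩).trans (N.dec.EN ⟨i⟩)
  obtain ⟨A, hA⟩ := KL.TwoZ.exists_sl (v := e v) (fun h1 => hv1 (hN.inj v hv h1))
  obtain ⟨B, hB⟩ := KL.TwoZ.exists_sl (v := e w) (fun h1 => hw1 (hN.inj w hw h1))
  obtain ⟨d, hd, hact⟩ := hN.full (B⁻¹ * A)
  refine ⟨d, hd, r.eq_of ((mem_normalizer_iff.1 (hDn hd) v).1 hv) hw ?_⟩
  rw [hact v hv]
  have h1 : (B⁻¹ * A).1.mulVec (e v) = B⁻¹.1.mulVec (A.1.mulVec (e v)) := by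
    rw [Matrix.mulVec_mulVec]; rfl
  rw [h1, hA, ← hB, Matrix.mulVec_mulVec]
  have h2 : B⁻¹.1 * B.1 = 1 := by
    have := congrArg Subtype.val (inv_mul_cancel B)
    exact this
  rw [h2, Matrix.one_mulVec]

/-- `W i ≤ ⟨Z_i ^ C_G(Z_j)⟩` -/
theorem gen {i j : Fin 2} (hij : i ≠ j) : W i ≤ NoFF.Basic.V (ZZ (S : Subgroup G) W i)
    (centralizer (ZZ (S : Subgroup G) W j : Set G)) := by
  obtain ⟨z, hz, hz1⟩ := exists_z h C i
  intro w hw
  by_cases hw1 : w = 1
  · rw [hw1]; exact one_mem _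
  obtain ⟨d, hd, rfl⟩ := tr h C N hz.1 hw hz1 hw1
  have h1 : d ∈ centralizer (ZZ (S : Subgroup G) W j : Set G) := centralizer_le inf_le_left (D_cent N hij hd)
  exact NoFF.Basic.Z_le_V h1 ⟨z, hz, rfl⟩

include hf

/-- `l i = W i ∩ Z` -/
theorem l_eq (i : Fin 2) : W i ⊓ zc (S : Subgroup G) = l i := by
  obtain ⟨F, i1, i2, i3, e, hq, r⟩ := exists_rt h C N (ne_add_one i)
  apply le_antisymm
  · rintro z ⟨hz, hzS⟩
    obtain ⟨a, ha, han⟩ := SetLike.not_le_iff_exists.1 r.not_le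
    rw [r.mem_cent ha] at han
    exact r.free ha han hz ((MinSimple.VModule.mem_zc.1 hzS).2.1 a ha.1)
  · intro v hv
    have hvW := r.l_le hv
    refine mem_inf.2 ⟨hvW, MinSimple.VModule.mem_zc.2 ⟨W_le_S h C i hvW, fun s hs => ?_,
      Wd_sq h v (cm_le C i hvW)⟩⟩
    exact mul_inv_eq_iff_eq_mul.1 (hf i s hs (S_nor h C i hs) v hv)

/-- the hypotheses of `Loc` -/
theorem loc {i j : Fin 2} (hij : i ≠ j) {R : Subgroup G} (hR : IsParS (S : Subgroup G) R)
    (hmv : ¬ R ≤ centralizer (ZZ (S : Subgroup G) W i : Set G)) :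
    ∃ (F : Type) (_ : Field F) (_ : Finite F) (_ : CharP F 2) (e : G → Fin 2 → F),
      Loc S (MZ (S : Subgroup G)) R (W i) (W j) (l i) ((S : Subgroup G) ⊓ D i) F e := by
  obtain ⟨F, i1, i2, i3, e, hq, r⟩ := exists_rt h C N hij
  refine ⟨F, i1, i2, i3, e,
    { hc := h.ctx.char2
      rt := r
      no := ?_
      par := hR
      RL := Merge.le_MZ hR
      LW := cm_inv C i
      SW' := S_nor h C j
      VS := Wd_le_S h
      sq := Wd_sq h
      AS := inf_le_left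
      hl := l_eq h C N hf i
      mv := hmv }⟩
  obtain ⟨P, A, hg⟩ := exists_gOne h.ctx.char2 (isLoc_MZ h)
    (sSup_le fun _ hP => le_sSup ⟨hP, Merge.le_MZ hP⟩)
    ⟨(S : Subgroup G) ⊓ D i, inf_le_left.trans (S_le_MZ h), ⟨r.elem, r.not_le, r.exa.le⟩⟩
  exact hg.no

/-- **every `R ∈ P*(S)` which moves `Z_i` is active** -/
theorem act_of {i : Fin 2} {R : Subgroup G} (hR : IsParS (S : Subgroup G) R)
    (hmv : ¬ R ≤ centralizer (ZZ (S : Subgroup G) W i : Set G)) : Act (S : Subgroup G) R := by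
  obtain ⟨F, i1, i2, i3, e, L⟩ := loc h C N hf (ne_add_one i) hR hmv
  obtain ⟨B, hB, -, hM⟩ := L.rt.exists_mx (S.isPGroup'.to_le inf_le_left)
  exact ⟨hR, B, hB.trans inf_le_left, hM, L.not_o2 hB hM.ne⟩

theorem odd_of {i j : Fin 2} (hij : i ≠ j) {R : Subgroup G} (hR : IsParS (S : Subgroup G) R)
    (hmv : ¬ R ≤ centralizer (ZZ (S : Subgroup G) W i : Set G)) :
    (∀ g ∈ R, Odd (orderOf g) → g ∈ centralizer (W j : Set G)) ∧
      R ≤ centralizer (ZZ (S : Subgroup G) W j : Set G) :=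
  act_odd h C (act_of h C N hf hR hmv) hij hmv

/-- **nonlocality** -/
theorem nonLoc_of :
    NonLoc (centralizer (ZZ (S : Subgroup G) W 0 : Set G)) (centralizer (ZZ (S : Subgroup G) W 1 : Set G)) := by
  refine nonLoc h fun R hR => ?_
  by_cases h0 : R ≤ centralizer (ZZ (S : Subgroup G) W 0 : Set G)
  · exact Or.inl h0
  · exact Or.inr (odd_of h C N hf (by decide) hR h0).2

variable (hm : MvAct (S : Subgroup G))
include hm

theorem spl_of : Spl S W := by
  refine spl h C (fun i => ?_) (fun i j hij => gen h C N hij)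
  have hij := (ne_add_one i)
  obtain ⟨P, hP, hmv, hodd, -⟩ := exists_act h C hm hij
  obtain ⟨F, i1, i2, i3, e, L⟩ := loc h C N hf hij hP.1 hmv
  exact ⟨P, hP.1, L.W_le hodd⟩

theorem nat1 : Nat1 S W := by
  refine Nat1Of.nat1_of h.ctx.char2 (fun i => ?_) (fun i => ?_) (fun i R hR hmv => ?_)
    (fun n hn => cm_nS C hn)
  · have hij := (ne_add_one i)
    obtain ⟨P, hP, hmv, hodd, hPC⟩ := exists_act h C hm hij
    obtain ⟨F, i1, i2, i3, e, L⟩ := loc h C N hf hij hP.1 hmv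
    exact ⟨P, hP.1, hPC, L.gone.concl, L.splitBy hodd⟩
  · obtain ⟨F, i1, i2, i3, e, hq, r⟩ := exists_rt h C N (ne_add_one i)
    have h1 := r.card_W
    rw [← l_eq h C N hf i] at h1
    exact h1
  · have hij := (ne_add_one i)
    obtain ⟨F, i1, i2, i3, e, L⟩ := loc h C N hf hij hR hmv
    exact L.inf_cv (odd_of h C N hf hij hR hmv).1

/-- **two natural blocks, no fields: 401's frame** -/
theorem nf_of : KL.TwoZ.NF (S : Subgroup G) W (ZZ (S : Subgroup G) W) :=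
  (nat1 h C N hf hm).nf (spl_of h C N hf hm) h (nonLoc_of h C N hf)

end Cfsg.Agent.Omega.NOThreeL.RRed.WLeft
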