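import Cfsg.Agent.Omega.NOThreeL.RRed.ClassMx

/-!
# NO-3L, box R, natural blocks: the root group of a block (WideTree row 7 / 8, helper958)

`V = W × W'` abelian, `W ≅ F²` (coordinates `e`), `l = {e v 1 = 0}`; `A` centralises `W'` and acts on `W` as the full
group of transvections with centre `l`.

* `Rt V W W' l A F e` : this situation;
* `Rt.com`, `Rt.free`, `Rt.full`, `Rt.root'` : commutators; `Rt.card_W` : `|W| = |l|²`;
* `Rt.elem`, `Rt.exa` : `A` is an exact offender on `V`; `Rt.exists_mx` : it contains a minimal one.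
-/

set_option autoImplicit false
set_option linter.unusedSectionVars false

namespace Cfsg.Agent.Omega.NOThreeL.RRed.WLeft

open Subgroup Cfsg
open Cfsg.Agent.Omega.FFThm (ElemM OffM)

universe u

variable {G : Type u} [Group G]

/-- **the root group `A` of the block `W` of `V = W × W'`** -/
structure Rt (V W W' l A : Subgroup G) (F : Type) [Field F] (e : G → Fin 2 → F) : Prop where
  ab : V ≤ centralizer (V : Set G)
  sup : W ⊔ W' = V
  dis : W ⊓ W' = ⊥
  nor : A ≤ normalizer (W : Set G)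
  cW : A ≤ centralizer (W' : Set G)
  mul : ∀ v ∈ W, ∀ w ∈ W, e (v * w) = e v + e w
  inj : ∀ v ∈ W, e v = 0 → v = 1
  sur : ∀ x : Fin 2 → F, ∃ v ∈ W, e v = x
  line : ∀ v, v ∈ l ↔ v ∈ W ∧ e v 1 = 0
  root : ∀ s ∈ A, ∃ c : F, ∀ v ∈ W, e (s * v * s⁻¹) = ![e v 0 + c * e v 1, e v 1]
  sylow : ∀ c : F, ∃ s ∈ A, ∀ v ∈ W, e (s * v * s⁻¹) = ![e v 0 + c * e v 1, e v 1]

namespace Rt

variable {V W W' l A : Subgroup G} {F : Type} [Field F] {e : G → Fin 2 → F} (r : Rt V W W' l A F e)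
include r

theorem e_one : e 1 = 0 := by
  have h := r.mul 1 (one_mem _) 1 (one_mem _)
  rw [one_mul] at h
  exact left_eq_add.1 h

theorem e_inv {v : G} (hv : v ∈ W) : e v⁻¹ = - e v := by
  have h := r.mul v⁻¹ (inv_mem hv) v hv
  rw [inv_mul_cancel, r.e_one] at h
  exact eq_neg_of_add_eq_zero_left h.symm

theorem eq_of {v w : G} (hv : v ∈ W) (hw : w ∈ W) (h : e v = e w) : v = w := by
  have h1 : e (v * w⁻¹) = 0 := by rw [r.mul v hv _ (inv_mem hw), r.e_inv hw, h, add_neg_cancel]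
  exact mul_inv_eq_one.1 (r.inj _ (mul_mem hv (inv_mem hw)) h1)

theorem WV : W ≤ V := by rw [← r.sup]; exact le_sup_left

theorem WV' : W' ≤ V := by rw [← r.sup]; exact le_sup_right

theorem l_le : l ≤ W := fun _ hv => ((r.line _).1 hv).1

theorem comm {x y : G} (hx : x ∈ V) (hy : y ∈ V) : x * y = y * x := (mem_centralizer_iff.1 (r.ab hx) y hy).symm

theorem conj {a w : G} (ha : a ∈ A) (hw : w ∈ W) : a * w * a⁻¹ ∈ W := (mem_normalizer_iff.1 (r.nor ha) w).1 hw

theorem dec {v : G} (hv : v ∈ V) : ∃ w ∈ W, ∃ w' ∈ W', v = w * w' := by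
  have h1 : W ≤ normalizer (W' : Set G) :=
    (r.WV.trans r.ab).trans ((centralizer_le r.WV').trans (centralizer_le_normalizer _))
  have h2 : v ∈ ((W ⊔ W' : Subgroup G) : Set G) := by rw [r.sup]; exact hv
  rw [coe_mul_of_left_le_normalizer_right _ _ h1] at h2
  obtain ⟨w, hw, w', hw', h⟩ := h2
  exact ⟨w, hw, w', hw', h.symm⟩

/-- the coordinates of `[a, v]` -/
theorem e_comm {a v : G} {c : F} (ha : a ∈ A) (hv : v ∈ W) (h : e (a * v * a⁻¹) = ![e v 0 + c * e v 1, e v 1]) :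
    e (a * v * a⁻¹ * v⁻¹) = ![c * e v 1, 0] := by
  rw [r.mul _ (r.conj ha hv) _ (inv_mem hv), r.e_inv hv, h]
  ext i
  fin_cases i
  · simp
  · simp

theorem comm_iff {a v : G} {c : F} (ha : a ∈ A) (hv : v ∈ W) (h : e (a * v * a⁻¹) = ![e v 0 + c * e v 1, e v 1]) :
    a * v = v * a ↔ c * e v 1 = 0 := by
  constructor
  · intro h1
    have h2 := r.e_comm ha hv h
    rw [h1, mul_inv_cancel_right, mul_inv_cancel, r.e_one] at h2
    have := congrFun h2 0
    simpa using this.symm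
  · intro h1
    have h2 : a * v * a⁻¹ = v := by
      refine r.eq_of (r.conj ha hv) hv ?_
      rw [h, h1, add_zero]
      ext i
      fin_cases i <;> rfl
    calc a * v = (a * v * a⁻¹) * a := by group
      _ = v * a := by rw [h2]

theorem com {a v : G} (ha : a ∈ A) (hv : v ∈ W) : a * v * a⁻¹ * v⁻¹ ∈ l := by
  obtain ⟨c, hc⟩ := r.root a ha
  refine (r.line _).2 ⟨mul_mem (r.conj ha hv) (inv_mem hv), ?_⟩
  rw [r.e_comm ha hv (hc v hv)]
  rfl

theorem cent_l : A ≤ centralizer (l : Set G) := by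
  intro a ha
  obtain ⟨c, hc⟩ := r.root a ha
  refine mem_centralizer_iff.2 fun v hv => ?_
  obtain ⟨hvW, hv1⟩ := (r.line v).1 hv
  exact ((r.comm_iff ha hvW (hc v hvW)).2 (by rw [hv1, mul_zero])).symm

/-- the scalar of `a ∉ C(W)` is not `0` -/
theorem c_ne {a : G} {c : F} (ha : a ∈ A) (hc : ∀ v ∈ W, e (a * v * a⁻¹) = ![e v 0 + c * e v 1, e v 1])
    (hn : a ∉ centralizer (W : Set G)) : c ≠ 0 := by
  rintro rfl
  apply hn
  refine mem_centralizer_iff.2 fun v hv => ?_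
  exact ((r.comm_iff ha hv (hc v hv)).2 (zero_mul _)).symm

theorem free {a : G} (ha : a ∈ A) (hn : a ∉ centralizer (W : Set G)) {v : G} (hv : v ∈ W) (h : a * v = v * a) :
    v ∈ l := by
  obtain ⟨c, hc⟩ := r.root a ha
  have h1 := (r.comm_iff ha hv (hc v hv)).1 h
  exact (r.line v).2 ⟨hv, (mul_eq_zero.1 h1).resolve_left (r.c_ne ha hc hn)⟩

/-- `[W, a] = l` -/
theorem full {a : G} (ha : a ∈ A) (hn : a ∉ centralizer (W : Set G)) {z : G} (hz : z ∈ l) :
    ∃ v ∈ W, a * v * a⁻¹ * v⁻¹ = z := by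
  obtain ⟨c, hc⟩ := r.root a ha
  have hc0 := r.c_ne ha hc hn
  obtain ⟨v, hv, hev⟩ := r.sur ![0, c⁻¹ * e z 0]
  obtain ⟨hzW, hz1⟩ := (r.line z).1 hz
  refine ⟨v, hv, r.eq_of (mul_mem (r.conj ha hv) (inv_mem hv)) hzW ?_⟩
  rw [r.e_comm ha hv (hc v hv), hev]
  ext i
  fin_cases i
  · simp [mul_inv_cancel_left₀ hc0]
  · simp [hz1]

/-- `[v, A] = l` for `v ∈ W \ l` -/
theorem root' {v : G} (hv : v ∈ W) (hvl : v ∉ l) {z : G} (hz : z ∈ l) : ∃ a ∈ A, a * v * a⁻¹ * v⁻¹ = z := by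
  have h1 : e v 1 ≠ 0 := fun h => hvl ((r.line v).2 ⟨hv, h⟩)
  obtain ⟨a, ha, hc⟩ := r.sylow (e z 0 * (e v 1)⁻¹)
  obtain ⟨hzW, hz1⟩ := (r.line z).1 hz
  refine ⟨a, ha, r.eq_of (mul_mem (r.conj ha hv) (inv_mem hv)) hzW ?_⟩
  rw [r.e_comm ha hv (hc v hv)]
  ext i
  fin_cases i
  · simp [inv_mul_cancel_right₀ h1]
  · simp [hz1]

/-- `A ⊓ C(V) = A ⊓ C(W)` -/
theorem mem_cent {a : G} (ha : a ∈ A) : a ∈ centralizer (V : Set G) ↔ a ∈ centralizer (W : Set G) := by
  constructor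
  · exact fun h => centralizer_le r.WV h
  · intro h
    refine mem_centralizer_iff.2 fun v hv => ?_
    obtain ⟨w, hw, w', hw', rfl⟩ := r.dec hv
    have h1 := mem_centralizer_iff.1 h w hw
    have h2 := mem_centralizer_iff.1 (r.cW ha) w' hw'
    rw [mul_assoc, h2, ← mul_assoc, h1, mul_assoc]

theorem exists_v : ∃ v ∈ W, v ∉ l ∧ e v = ![0, 1] := by
  obtain ⟨v, hv, h⟩ := r.sur ![0, 1]
  refine ⟨v, hv, fun h1 => ?_, h⟩
  have h2 := ((r.line v).1 h1).2
  rw [h] at h2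
  exact one_ne_zero (α := F) (by simpa using h2)

theorem exists_z : ∃ z ∈ l, z ≠ 1 := by
  obtain ⟨v, hv, h⟩ := r.sur ![1, 0]
  refine ⟨v, (r.line v).2 ⟨hv, by rw [h]; rfl⟩, ?_⟩
  rintro rfl
  rw [r.e_one] at h
  exact zero_ne_one (α := F) (by simpa using congrFun h 0)

theorem not_le : ¬ A ≤ centralizer (V : Set G) := by
  intro h
  obtain ⟨v, hv, hvl, -⟩ := r.exists_v
  obtain ⟨z, hz, hz1⟩ := r.exists_z
  obtain ⟨a, ha, h1⟩ := r.root' hv hvl hz
  apply hz1
  rw [← h1, ← mem_centralizer_iff.1 (h ha) v (r.WV hv)]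
  group

/-- `C_V(B) = l W'` for `B ≤ A` which moves `W` -/
theorem cent_eq {B : Subgroup G} (hB : B ≤ A) (hn : ¬ B ≤ centralizer (V : Set G)) :
    V ⊓ centralizer (B : Set G) = l ⊔ W' := by
  apply le_antisymm
  · rintro x ⟨hx, hxB⟩
    obtain ⟨b, hb, hbn⟩ := SetLike.not_le_iff_exists.1 hn
    rw [r.mem_cent (hB hb)] at hbn
    obtain ⟨w, hw, w', hw', rfl⟩ := r.dec hx
    have h1 := mem_centralizer_iff.1 hxB b hb
    have h2 := mem_centralizer_iff.1 (r.cW (hB hb)) w' hw'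
    have h3 : b * w = w * b := by
      have h4 : b * w * w' = w * b * w' := by
        calc b * w * w' = b * (w * w') := by group
          _ = w * (w' * b) := by rw [h1]; group
          _ = w * b * w' := by rw [h2]; group
      exact mul_right_cancel h4
    exact mul_mem_sup (r.free (hB hb) hbn hw h3) hw'
  · refine sup_le (le_inf (r.l_le.trans r.WV) ?_) (le_inf r.WV' ?_)
    · exact le_centralizer_iff.1 (hB.trans r.cent_l)
    · exact le_centralizer_iff.1 (hB.trans r.cW)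

theorem inf_l : l ⊓ W' = ⊥ := by
  rw [eq_bot_iff, ← r.dis]
  exact inf_le_inf_right _ r.l_le

section fin

variable [Finite G] [Finite F]

theorem card_l : Nat.card l = Nat.card F := by
  have h1 := card_map (X := F) (K := l) (L := ⊥) bot_le (fun v => e v 0)
    (fun v hv w hw => by rw [r.mul v (r.l_le hv) w (r.l_le hw)]; rfl)
    (fun c => by
      obtain ⟨v, hv, h⟩ := r.sur ![c, 0]
      exact ⟨v, (r.line v).2 ⟨hv, by rw [h]; rfl⟩, by rw [h]; rfl⟩)
    (fun v hv => by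
      rw [mem_bot]
      constructor
      · intro h
        refine r.inj v (r.l_le hv) ?_
        ext i
        fin_cases i
        · exact h
        · exact ((r.line v).1 hv).2
      · rintro rfl
        rw [r.e_one]; rfl)
  rw [h1, card_bot, one_mul]

theorem card_W' : Nat.card W = Nat.card l * Nat.card F :=
  card_map (X := F) r.l_le (fun v => e v 1)
    (fun v hv w hw => by rw [r.mul v hv w hw]; rfl)
    (fun c => by
      obtain ⟨v, hv, h⟩ := r.sur ![0, c]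
      exact ⟨v, hv, by rw [h]; rfl⟩)
    (fun v hv => by
      rw [r.line]
      exact ⟨fun h => ⟨hv, h⟩, fun h => h.2⟩)

/-- `|W| = |l|²` -/
theorem card_W : Nat.card W = Nat.card l * Nat.card l := by
  rw [r.card_W', r.card_l]

/-- `|A| = |C_A(V)| |F|` -/
theorem card_A : Nat.card A = Nat.card ↥(A ⊓ centralizer (V : Set G)) * Nat.card F := by
  obtain ⟨v, hv, hvl, hev⟩ := r.exists_v
  have key : ∀ a ∈ A, ∀ c : F, (∀ v ∈ W, e (a * v * a⁻¹) = ![e v 0 + c * e v 1, e v 1]) →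
      e (a * v * a⁻¹) 0 = c := by
    intro a _ c hc
    rw [hc v hv, hev]
    simp
  refine card_map (X := F) inf_le_left (fun a => e (a * v * a⁻¹) 0) ?_ ?_ ?_
  · intro a ha b hb
    obtain ⟨c, hc⟩ := r.root a ha
    obtain ⟨d, hd⟩ := r.root b hb
    have e1 : a * b * v * (a * b)⁻¹ = a * (b * v * b⁻¹) * a⁻¹ := by group
    change e (a * b * v * (a * b)⁻¹) 0 = e (a * v * a⁻¹) 0 + e (b * v * b⁻¹) 0
    rw [e1, hc _ (r.conj hb hv), key a ha c hc, key b hb d hd, hd v hv, hev]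
    simp [add_comm]
  · intro c
    obtain ⟨a, ha, hc⟩ := r.sylow c
    exact ⟨a, ha, key a ha c hc⟩
  · intro a ha
    obtain ⟨c, hc⟩ := r.root a ha
    change e (a * v * a⁻¹) 0 = 0 ↔ _
    rw [key a ha c hc]
    constructor
    · rintro rfl
      refine mem_inf.2 ⟨ha, (r.mem_cent ha).2 (mem_centralizer_iff.2 fun w hw => ?_)⟩
      exact ((r.comm_iff ha hw (hc w hw)).2 (zero_mul _)).symm
    · intro h
      by_contra hc0
      have h1 := (r.comm_iff ha hv (hc v hv)).1 (mem_centralizer_iff.1 (mem_inf.1 h).2 v (r.WV hv)).symm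
      rw [hev] at h1
      exact hc0 (by simpa using h1)

theorem elem [CharP F 2] : ElemM V A := by
  constructor
  · intro a ha
    obtain ⟨c, hc⟩ := r.root a ha
    rw [r.mem_cent (pow_mem ha 2)]
    refine mem_centralizer_iff.2 fun v hv => ?_
    have e1 : a ^ 2 * v * (a ^ 2)⁻¹ = a * (a * v * a⁻¹) * a⁻¹ := by rw [pow_two]; group
    have h1 : a ^ 2 * v * (a ^ 2)⁻¹ = v := by
      refine r.eq_of ?_ hv ?_
      · rw [e1]; exact r.conj ha (r.conj ha hv)
      · rw [e1, hc _ (r.conj ha hv), hc v hv]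
        ext i
        fin_cases i
        · simp [add_assoc, CharTwo.add_self_eq_zero]
        · simp
    calc v * a ^ 2 = (a ^ 2 * v * (a ^ 2)⁻¹) * a ^ 2 := by rw [h1]
      _ = a ^ 2 * v := by group
  · intro a ha b hb
    obtain ⟨c, hc⟩ := r.root a ha
    obtain ⟨d, hd⟩ := r.root b hb
    have hmem : a * b * a⁻¹ * b⁻¹ ∈ A := mul_mem (mul_mem (mul_mem ha hb) (inv_mem ha)) (inv_mem hb)
    rw [r.mem_cent hmem]
    refine mem_centralizer_iff.2 fun v hv => ?_
    -- `a b v = b a v`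
    have h1 : ∀ w ∈ W, a * (b * w * b⁻¹) * a⁻¹ = b * (a * w * a⁻¹) * b⁻¹ := by
      intro w hw
      refine r.eq_of (r.conj ha (r.conj hb hw)) (r.conj hb (r.conj ha hw)) ?_
      rw [hc _ (r.conj hb hw), hd _ (r.conj ha hw), hc w hw, hd w hw]
      ext i
      fin_cases i
      · simp only [Matrix.cons_val_zero, Matrix.cons_val_one, Fin.zero_eta, Fin.isValue]
        ring
      · rfl
    have h2 : a⁻¹ * (b⁻¹ * v * b) * a ∈ W := by
      have h3 := r.conj (inv_mem hb) hv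
      rw [inv_inv] at h3
      have h4 := r.conj (inv_mem ha) h3
      rwa [inv_inv] at h4
    have h3 := h1 _ h2
    have e1 : a * (b * (a⁻¹ * (b⁻¹ * v * b) * a) * b⁻¹) * a⁻¹ =
        (a * b * a⁻¹ * b⁻¹) * v * (a * b * a⁻¹ * b⁻¹)⁻¹ := by group
    have e2 : b * (a * (a⁻¹ * (b⁻¹ * v * b) * a) * a⁻¹) * b⁻¹ = v := by group
    rw [e1, e2] at h3
    calc v * (a * b * a⁻¹ * b⁻¹) = ((a * b * a⁻¹ * b⁻¹) * v * (a * b * a⁻¹ * b⁻¹)⁻¹) * (a * b * a⁻¹ * b⁻¹) := by
          rw [h3]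
      _ = (a * b * a⁻¹ * b⁻¹) * v := by group

/-- **`A` is exact on `V`** -/
theorem exa : Exa V A := by
  unfold Exa
  have h1 := Star.card_sup_mul r.ab r.WV r.WV'
  have h2 := Star.card_sup_mul r.ab (r.l_le.trans r.WV) r.WV'
  rw [r.sup, r.dis, card_bot, mul_one] at h1
  rw [r.inf_l, card_bot, mul_one] at h2
  rw [r.cent_eq le_rfl r.not_le, h1, h2, r.card_W', r.card_A]
  ring

theorem exists_mx [CharP F 2] (hp : IsPGroup 2 A) : ∃ B ≤ A, A ⊓ centralizer (V : Set G) ≤ B ∧ Mx V B :=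
  RRed.exists_mx r.elem hp r.not_le r.exa

end fin

end Rt

end Cfsg.Agent.Omega.NOThreeL.RRed.WLeft
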