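import Cfsg.Agent.Omega.NOThreeL.RRed.ClassD

/-!
# NO-3L, WideAll, one natural block (`WOneOne`): the active minimal parabolics

`V` is a natural `SL₂(F)`-module (coordinates `e`), `T ≤ S` acts on `V` as the full root group of the line
`{x | x 1 = 0}`, `P ∈ P*(S)`, `V_P = zl S P ≤ V`, `T ≰ O₂(P)`: then `C_{Z}(P) = 1` (`fix_eq_one`).
-/

set_option autoImplicit false
set_option linter.unusedSectionVars false
set_option linter.unusedVariables false

namespace Cfsg.Agent.Omega.NOThreeL.RRed.WOneA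

open Subgroup Pointwise Cfsg Cfsg.Agent.ZN Cfsg.Agent.Omega.MinPar Cfsg.Agent.Omega.Frame
open Cfsg.Agent.Omega.FrameNOFF
open Cfsg.Agent.Omega.FFThm (ElemM OffM NoOverM ConclM NatKM SymKM NatK SymK ActsSL ActsSym)
open Cfsg.Agent.Omega.FrameFF (cv)
open Cfsg.Agent.ZN.CaseTwo (syl_of_sylow)
open Cfsg.Agent.Omega.NatPair (ap exists_ap)
open Cfsg.Agent.Lib.SL2Mat

universe u

variable {G : Type u} [Group G]

/-- `|K| ≤ |L| |X|` for a homomorphism of `K` into `X` with kernel `L`. -/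
theorem card_map_le [Finite G] {X : Type*} [AddGroup X] [Finite X] {K L : Subgroup G} (hLK : L ≤ K) (f : G → X)
    (hf : ∀ v ∈ K, ∀ w ∈ K, f (v * w) = f v + f w)
    (hk : ∀ v ∈ K, f v = 0 ↔ v ∈ L) : Nat.card K ≤ Nat.card L * Nat.card X := by
  let φ : K →* Multiplicative X := MonoidHom.mk' (fun v => Multiplicative.ofAdd (f v)) (by
    rintro ⟨v, hv⟩ ⟨w, hw⟩
    exact congrArg Multiplicative.ofAdd (hf v hv w hw))
  have h1 : Nat.card φ.ker * Nat.card φ.range = Nat.card K := by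
    rw [← Subgroup.index_ker, Subgroup.card_mul_index]
  have h2 : Nat.card φ.range ≤ Nat.card X := by
    have h3 : Nat.card φ.range ≤ Nat.card (Multiplicative X) := Subgroup.card_le_card_group _
    exact h3
  have h3 : Nat.card φ.ker = Nat.card L := by
    refine Nat.card_congr ⟨fun v => ⟨v.1.1, (hk v.1.1 v.1.2).1 ?_⟩, fun z => ⟨⟨z.1, hLK z.2⟩, ?_⟩, fun _ => rfl,
      fun _ => rfl⟩
    · exact congrArg Multiplicative.toAdd (MonoidHom.mem_ker.1 v.2)
    · exact MonoidHom.mem_ker.2 (congrArg Multiplicative.ofAdd ((hk z.1 (hLK z.2)).2 z.2))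
  rw [← h1, h3]
  exact Nat.mul_le_mul_left _ h2

section main

variable [Finite G] {S : Sylow 2 G}

/-- an element of `S` which acts trivially on the natural quotient centralises `V_P` -/
theorem cent_of_up {F : Type} [Field F] [Finite F] [CharP F 2] {P : Subgroup G} {k : ℕ}
    (hG : IsCharacteristicTwoType G) (hP : IsParS (S : Subgroup G) P)
    (M : NatKM F (S : Subgroup G) P (zl (S : Subgroup G) P) (cv (S : Subgroup G) P) k) (hk : 0 < k)
    {x a : G} (hx : x ∈ zl (S : Subgroup G) P) (hxe : M.e x = fun _ => ![0, 1]) (ha : a ∈ (S : Subgroup G))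
    {b : Fin k → F} (hb : ActsSL M.e (zl (S : Subgroup G) P) (cv (S : Subgroup G) P) a fun i => up (b i))
    (h : M.e (a * x * a⁻¹) = M.e x) : a ∈ centralizer (zl (S : Subgroup G) P : Set G) := by
  have hbz : b = 0 := by
    funext i
    have h2 := hb.1 x hx i
    rw [h, hxe] at h2
    have h4 := congrFun h2 0
    rw [VF.Nat.ap_up_0] at h4
    simp at h4
    exact h4.symm
  refine mem_centralizer_iff.2 fun v hv => ?_
  have hker : a ∈ IId.Cv.kern M.toNatK := by
    refine ⟨hP.le ha, fun v hv => ?_⟩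
    funext i
    rw [hb.1 v hv i, hbz]
    refine VF.Nat.ext2' ?_ ?_
    · rw [VF.Nat.ap_up_0]; simp
    · rw [VF.Nat.ap_up_1]
  exact (IId.Cv.comm_of_quot hG S hP M.toNatK hk ha hker v hv).symm

/-- **`C_Z(P) = 1`** for `P ∈ P*(S)` with `V_P ≤ V`, `V` a natural `SL₂(F)`-module, `T ≤ S` the root group of a
line, `T ≰ O₂(P)`. -/
theorem fix_eq_one (hc : IsCharacteristicTwoType G) {P V T : Subgroup G} (hP : IsParS (S : Subgroup G) P)
    (hVP : zl (S : Subgroup G) P ≤ V) (hV : V ≤ centralizer (V : Set G)) (hTS : T ≤ (S : Subgroup G))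
    (hTP : ¬ T ≤ o2 P) {F : Type} [Field F] [Finite F] [CharP F 2] {e : G → Fin 2 → F}
    (mul : ∀ v ∈ V, ∀ w ∈ V, e (v * w) = e v + e w) (inj : ∀ v ∈ V, e v = 0 → v = 1)
    (sur : ∀ x, ∃ v ∈ V, e v = x)
    (root : ∀ s ∈ T, ∃ c : F, ∀ v ∈ V, e (s * v * s⁻¹) = ![e v 0 + c * e v 1, e v 1])
    (syl : ∀ c : F, ∃ s ∈ T, ∀ v ∈ V, e (s * v * s⁻¹) = ![e v 0 + c * e v 1, e v 1]) {z : G}
    (hz : z ∈ zc (S : Subgroup G)) (hzP : z ∈ centralizer (P : Set G)) : z = 1 := by
  classical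
  set U : Subgroup G := zl (S : Subgroup G) P with hU
  have hSP := hP.le
  have hTP' : T ≤ P := hTS.trans hSP
  have hn : P ≤ normalizer (U : Set G) := MinSimple.VModule.le_normalizer_zl _ _
  have hzU : z ∈ U := MinSimple.VModule.zc_le_zl _ _ hz
  -- equality in `V`
  have hinj : ∀ v ∈ V, ∀ w ∈ V, e v = e w → v = w := by
    intro v hv w hw h
    have h1 := mul (v * w⁻¹) (mul_mem hv (inv_mem hw)) w hw
    rw [inv_mul_cancel_right, h] at h1
    exact mul_inv_eq_one.1 (inj _ (mul_mem hv (inv_mem hw)) (left_eq_add.1 (by rwa [add_comm] at h1)))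
  have hTU : ∀ s ∈ T, ∀ v ∈ U, s * v * s⁻¹ ∈ U := fun s hs v hv =>
    (mem_normalizer_iff.1 (hn (hTP' hs)) v).1 hv
  -- a moved element
  have hTC : ¬ T ≤ centralizer (U : Set G) := by
    intro h
    apply hTP
    have h1 := IsParS.inf_centralizer S hc hP
    rw [← h1]
    exact le_inf hTS h
  obtain ⟨t, ht, htC⟩ := SetLike.not_le_iff_exists.1 hTC
  -- fixed elements have `e v 1 = 0`
  have hfix : ∀ v ∈ V, (∀ s ∈ T, s * v * s⁻¹ = v) → e v 1 = 0 := by
    intro v hv h
    obtain ⟨s, hs, h1⟩ := syl 1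
    have h2 := h1 v hv
    rw [h s hs] at h2
    have h3 := congrFun h2 0
    simp at h3
    exact h3
  have hmov : ∀ v ∈ V, e v 1 = 0 → ∀ s ∈ T, s * v * s⁻¹ ∈ V → s * v * s⁻¹ = v := by
    intro v hv h0 s hs hsv
    obtain ⟨c, hcv⟩ := root s hs
    refine hinj _ hsv v hv ?_
    rw [hcv v hv, h0, mul_zero, add_zero]
    funext i
    fin_cases i
    · rfl
    · exact h0.symm
  have hz1 : e z 1 = 0 := by
    refine hfix z (hVP hzU) fun s hs => ?_
    rw [mem_centralizer_iff.1 hzP s (hTP' hs), mul_inv_cancel_right]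
  -- `z` is a commutator
  have key : ∀ x ∈ U, e x 1 ≠ 0 → ∃ s ∈ T, s * x * s⁻¹ = z * x := by
    intro x hx hx1
    obtain ⟨s, hs, h1⟩ := syl (e z 0 / e x 1)
    refine ⟨s, hs, hinj _ (hVP (hTU s hs x hx)) _ (hVP (mul_mem hzU hx)) ?_⟩
    rw [h1 x (hVP hx), mul z (hVP hzU) x (hVP hx)]
    funext i
    fin_cases i
    · simp [div_mul_cancel₀ _ hx1, add_comm]
    · simp [hz1]
  -- a moved vector
  obtain ⟨x, hx, hx1⟩ : ∃ x ∈ U, e x 1 ≠ 0 := by
    by_contra hcon
    push Not at hcon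
    apply htC
    refine mem_centralizer_iff.2 fun v hv => ?_
    have h1 := hmov v (hVP hv) (hcon v hv) t ht (hVP (hTU t ht v hv))
    rw [mul_inv_eq_iff_eq_mul] at h1
    exact h1.symm
  -- `T` is an offender on `V_P`
  have hTcent : ∀ s ∈ T, e (s * x * s⁻¹) 0 - e x 0 = 0 ↔ s ∈ T ⊓ centralizer (U : Set G) := by
    intro s hs
    obtain ⟨c, hcv⟩ := root s hs
    constructor
    · intro h0
      have h1 := congrFun (hcv x (hVP hx)) 0
      have h2 : c * e x 1 = 0 := by
        have h3 : e (s * x * s⁻¹) 0 = e x 0 + c * e x 1 := h1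
        rw [h3, add_sub_cancel_left] at h0
        exact h0
      have h3 : c = 0 := (mul_eq_zero.1 h2).resolve_right hx1
      refine ⟨hs, mem_centralizer_iff.2 fun v hv => ?_⟩
      have h4 : s * v * s⁻¹ = v := by
        refine hinj _ (hVP (hTU s hs v hv)) v (hVP hv) ?_
        rw [hcv v (hVP hv), h3, zero_mul, add_zero]
        funext i
        fin_cases i <;> rfl
      rw [mul_inv_eq_iff_eq_mul] at h4
      exact h4.symm
    · rintro ⟨-, h1⟩
      have h2 : s * x * s⁻¹ = x := by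
        rw [← mem_centralizer_iff.1 h1 x hx, mul_inv_cancel_right]
      rw [h2, sub_self]
  have hcT : Nat.card T = Nat.card ↥(T ⊓ centralizer (U : Set G)) * Nat.card F := by
    refine card_map inf_le_left (fun s => e (s * x * s⁻¹) 0 - e x 0) ?_ ?_ hTcent
    · intro s hs s' hs'
      obtain ⟨c, hcv⟩ := root s hs
      obtain ⟨c', hcv'⟩ := root s' hs'
      have h1 : s * s' * x * (s * s')⁻¹ = s * (s' * x * s'⁻¹) * s⁻¹ := by group
      have h2 := hcv _ (hVP (hTU s' hs' x hx))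
      have h3 := hcv' x (hVP hx)
      have h4 := hcv x (hVP hx)
      rw [h1, h2, h3, h4]
      simp
      ring
    · intro y
      obtain ⟨s, hs, h1⟩ := syl (y / e x 1)
      refine ⟨s, hs, ?_⟩
      rw [h1 x (hVP hx)]
      simp [div_mul_cancel₀ _ hx1]
  have hcU : Nat.card U ≤ Nat.card ↥(U ⊓ centralizer (T : Set G)) * Nat.card F := by
    refine card_map_le inf_le_left (fun v => e v 1) ?_ ?_
    · intro v hv w hw
      rw [mul v (hVP hv) w (hVP hw)]; rfl
    · intro v hv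
      constructor
      · intro h0
        refine ⟨hv, mem_centralizer_iff.2 fun s hs => ?_⟩
        have h1 := hmov v (hVP hv) h0 s hs (hVP (hTU s hs v hv))
        rwa [mul_inv_eq_iff_eq_mul] at h1
      · rintro ⟨-, h1⟩
        refine hfix v (hVP hv) fun s hs => ?_
        rw [mem_centralizer_iff.1 h1 s hs, mul_inv_cancel_right]
  have hact0 : ∀ s : G, s ∈ T → (∀ v ∈ V, e (s * v * s⁻¹) = e v) → s ∈ centralizer (U : Set G) := by
    intro s hs h
    refine mem_centralizer_iff.2 fun v hv => ?_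
    have h4 : s * v * s⁻¹ = v := hinj _ (hVP (hTU s hs v hv)) v (hVP hv) (h v (hVP hv))
    rw [mul_inv_eq_iff_eq_mul] at h4
    exact h4.symm
  have hoff : OffM U T := by
    refine ⟨⟨fun a ha => ?_, fun a ha b hb => ?_⟩, hTC, ?_⟩
    · -- squares
      refine mem_centralizer_iff.2 fun v hv => ?_
      obtain ⟨c, hcv⟩ := root a ha
      have h2 := hcv _ (hVP (hTU a ha v hv))
      rw [hcv v (hVP hv)] at h2
      have h3 : a ^ 2 * v * (a ^ 2)⁻¹ = v := by
        have h5 : a ^ 2 * v * (a ^ 2)⁻¹ = a * (a * v * a⁻¹) * a⁻¹ := by rw [pow_two]; group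
        rw [h5]
        refine hinj _ (hVP (hTU a ha _ (hTU a ha v hv))) v (hVP hv) ?_
        rw [h2]
        funext i
        fin_cases i
        · simp [add_assoc, CharTwo.add_self_eq_zero]
        · simp
      rw [mul_inv_eq_iff_eq_mul] at h3
      exact h3.symm
    · -- commutators
      obtain ⟨c, hcv⟩ := root a ha
      obtain ⟨d, hdv⟩ := root b hb
      have h3 : ∀ v ∈ U, a * b * v * (a * b)⁻¹ = b * a * v * (b * a)⁻¹ := by
        intro v hv
        have h5 : a * b * v * (a * b)⁻¹ = a * (b * v * b⁻¹) * a⁻¹ := by group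
        have h6 : b * a * v * (b * a)⁻¹ = b * (a * v * a⁻¹) * b⁻¹ := by group
        rw [h5, h6]
        refine hinj _ (hVP (hTU a ha _ (hTU b hb v hv))) _ (hVP (hTU b hb _ (hTU a ha v hv))) ?_
        rw [hcv _ (hVP (hTU b hb v hv)), hdv _ (hVP (hTU a ha v hv)), hcv v (hVP hv), hdv v (hVP hv)]
        funext i
        fin_cases i
        · simp; ring
        · simp
      refine mem_centralizer_iff.2 fun v hv => ?_
      have hv' : (b * a)⁻¹ * v * (b * a) ∈ U :=
        (mem_normalizer_iff.1 (hn (mul_mem (hTP' hb) (hTP' ha))) _).2 (by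
          have e1 : b * a * ((b * a)⁻¹ * v * (b * a)) * (b * a)⁻¹ = v := by group
          rwa [e1])
      have h4 := h3 _ hv'
      have e1 : b * a * ((b * a)⁻¹ * v * (b * a)) * (b * a)⁻¹ = v := by group
      rw [e1] at h4
      have e2 : a * b * a⁻¹ * b⁻¹ * v = a * b * ((b * a)⁻¹ * v * (b * a)) * (a * b)⁻¹ * (a * b * a⁻¹ * b⁻¹) := by group
      rw [e2, h4]
    · -- order
      rw [hcT]
      calc Nat.card U * Nat.card ↥(T ⊓ centralizer (U : Set G))
          ≤ (Nat.card ↥(U ⊓ centralizer (T : Set G)) * Nat.card F) * Nat.card ↥(T ⊓ centralizer (U : Set G)) :=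
            Nat.mul_le_mul_right _ hcU
        _ = _ := by ring
  -- the FF theorem
  obtain ⟨-, hconcl⟩ := FFBr.ffthmM G (S : Subgroup G) P (syl_of_sylow S hP.le) hP.toIsMinPar
    (hP.isLoc.char2 S hc) ⟨T, hTP', hoff⟩
  have hDV : cv (S : Subgroup G) P ≤ U := inf_le_left
  have hzD : z ∈ cv (S : Subgroup G) P :=
    mem_inf.2 ⟨hzU, centralizer_le (MinSimple.VModule.oddGen_le P) hzP⟩
  have hend : ∀ y ∈ U, ∀ s ∈ T, s * y = y * s → s * y * s⁻¹ = z * y → z = 1 := by
    intro y hy s hs h1 h2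
    rw [h1, mul_inv_cancel_right] at h2
    exact right_eq_mul.1 h2
  rcases hconcl with ⟨F', _, _, _, k, hk, ⟨M⟩⟩ | ⟨k, m, hk, hm, ⟨M⟩⟩
  · obtain ⟨I, hI1, -⟩ := M.offM T hTS hoff
    obtain ⟨y, hy, hye⟩ := M.surj fun _ => ![0, 1]
    have hy1 : e y 1 ≠ 0 := by
      intro h0
      obtain ⟨b, -, hb⟩ := hI1 t ht
      refine htC (cent_of_up hc hP M hk hy hye (hTS ht) hb ?_)
      rw [hmov y (hVP hy) h0 t ht (hVP (hTU t ht y hy))]
    obtain ⟨s, hs, hsy⟩ := key y hy hy1
    obtain ⟨b, -, hb⟩ := hI1 s hs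
    have h1 : s ∈ centralizer (U : Set G) := by
      refine cent_of_up hc hP M hk hy hye (hTS hs) hb ?_
      rw [hsy, M.mul z hzU y hy, (M.ker z hzU).2 hzD, zero_add]
    exact hend y hy s hs (mem_centralizer_iff.1 h1 y hy).symm hsy
  · obtain ⟨s, hs, hsx⟩ := key x hx hx1
    refine hend x hx s hs (cent_sym hc hP M hk hm hx (hTP' hs) ?_) hsx
    rw [hsx, M.mul z hzU x hx, (M.ker z hzU).2 hzD, zero_add]

end main

end Cfsg.Agent.Omega.NOThreeL.RRed.WOneA
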