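import Cfsg.Agent.Omega.MinPar
import Cfsg.Agent.Omega.FFThmM
import Cfsg.Agent.Omega.NOThreeL.RRed.ClassD

/-!
# NO-3L, box R, one natural block (`WideTree.WOneOne`): the case `T ≤ O₂(P)`

`V = F²` (coordinates `e`), `T` acts on `V` as the full root group with line `l` (`Rt V T l F e`), `S ≤ N(l)`.

* `Rt.line_conj` : `g ∈ N(V)`, `gTg⁻¹ ≤ S` ⟹ `g` normalises `l`;
* `Rt.acts` : no over-offender in `S` on `V` : the elements of `S` which centralise `l` and `V / l` act as elements of `T`;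
* `Rt.mulc` : `g ∈ N(V) ∩ N(l)`, `gTg⁻¹` acts as `T`, `gzg⁻¹ = z` for some `1 ≠ z ∈ l` : `g` acts on `l = F z`
  multiplicatively; `Rt.comm` : two such elements commute on `l`;
* `Rt.not_fix` : `P ∈ P*(S)`, `T ≤ O₂(P)` : `P` fixes no `z ∈ l#`.
-/

set_option autoImplicit false
set_option linter.unusedSectionVars false

namespace Cfsg.Agent.Omega.NOThreeL.RRed.WOneB

open Subgroup Cfsg Cfsg.Agent.ZN Cfsg.Agent.Omega.MinPar
open Cfsg.Agent.Omega.FFThm (ElemM)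

universe u

variable {G : Type u} [Group G]

/-- `V = F²`, `T` acts on `V` as the full root group with line `l`. -/
structure Rt (V T l : Subgroup G) (F : Type) [Field F] (e : G → Fin 2 → F) : Prop where
  mul : ∀ v ∈ V, ∀ w ∈ V, e (v * w) = e v + e w
  inj : ∀ v ∈ V, e v = 0 → v = 1
  sur : ∀ x : Fin 2 → F, ∃ v ∈ V, e v = x
  line : ∀ v, v ∈ l ↔ v ∈ V ∧ e v 1 = 0
  root : ∀ s ∈ T, ∃ c : F, ∀ v ∈ V, e (s * v * s⁻¹) = ![e v 0 + c * e v 1, e v 1]
  syl : ∀ c : F, ∃ s ∈ T, ∀ v ∈ V, e (s * v * s⁻¹) = ![e v 0 + c * e v 1, e v 1]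
  nV : T ≤ normalizer (V : Set G)

theorem cjV {V : Subgroup G} {g v : G} (hg : g ∈ normalizer (V : Set G)) (hv : v ∈ V) : g * v * g⁻¹ ∈ V :=
  (mem_normalizer_iff.1 hg v).1 hv

theorem cjV' {V : Subgroup G} {g v : G} (hg : g ∈ normalizer (V : Set G)) (hv : v ∈ V) : g⁻¹ * v * g ∈ V := by
  have h1 := cjV (inv_mem hg) hv
  rwa [inv_inv] at h1

namespace Rt

variable {V T l : Subgroup G} {F : Type} [Field F] {e : G → Fin 2 → F} (h : Rt V T l F e)
include h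

theorem e_one : e 1 = 0 := by
  have h1 := h.mul 1 (one_mem V) 1 (one_mem V)
  rw [mul_one] at h1
  exact left_eq_add.1 h1

theorem e_inv {v : G} (hv : v ∈ V) : e v⁻¹ = -e v := by
  have h1 := h.mul v hv v⁻¹ (inv_mem hv)
  rw [mul_inv_cancel, h.e_one] at h1
  exact (neg_eq_of_add_eq_zero_right h1.symm).symm

theorem ext {v w : G} (hv : v ∈ V) (hw : w ∈ V) (he : e v = e w) : v = w := by
  have h1 := h.inj (v * w⁻¹) (mul_mem hv (inv_mem hw)) (by
    rw [h.mul v hv _ (inv_mem hw), h.e_inv hw, he, add_neg_cancel])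
  exact mul_inv_eq_one.1 h1

theorem lV : l ≤ V := fun _ hx => ((h.line _).1 hx).1

theorem comm {v w : G} (hv : v ∈ V) (hw : w ∈ V) : v * w = w * v :=
  h.ext (mul_mem hv hw) (mul_mem hw hv) (by rw [h.mul v hv w hw, h.mul w hw v hv, add_comm])

/-- `[v, T] = l` for `v ∉ l` -/
theorem reach {v x : G} (hv : v ∈ V) (hvl : v ∉ l) (hx : x ∈ l) : ∃ t ∈ T, t * v * t⁻¹ = v * x := by
  have h0 : e v 1 ≠ 0 := fun h1 => hvl ((h.line v).2 ⟨hv, h1⟩)
  obtain ⟨hxV, hx1⟩ := (h.line x).1 hx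
  obtain ⟨t, ht, hc⟩ := h.syl (e x 0 / e v 1)
  refine ⟨t, ht, h.ext (cjV (h.nV ht) hv) (mul_mem hv hxV) ?_⟩
  rw [hc v hv, h.mul v hv x hxV]
  funext i
  fin_cases i
  · show e v 0 + e x 0 / e v 1 * e v 1 = e v 0 + e x 0
    rw [div_mul_cancel₀ _ h0]
  · show e v 1 = e v 1 + e x 1
    rw [hx1, add_zero]

/-- `T` centralises `l` -/
theorem Tl {t x : G} (ht : t ∈ T) (hx : x ∈ l) : t * x * t⁻¹ = x := by
  obtain ⟨hxV, hx1⟩ := (h.line x).1 hx
  obtain ⟨c, hc⟩ := h.root t ht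
  refine h.ext (cjV (h.nV ht) hxV) hxV ?_
  rw [hc x hxV]
  funext i
  fin_cases i
  · show e x 0 + c * e x 1 = e x 0
    rw [hx1, mul_zero, add_zero]
  · rfl

/-- `g ∈ N(V)`, `gTg⁻¹ ≤ S ≤ N(l)` : `g⁻¹lg ≤ l`. -/
theorem line_conj [Finite G] {S : Subgroup G} (hSl : S ≤ normalizer (l : Set G)) {g : G} (hg : g ∈ normalizer (V : Set G))
    (hT : ∀ t ∈ T, g * t * g⁻¹ ∈ S) {v : G} (hv : v ∈ l) : g⁻¹ * v * g ∈ l := by
  by_contra hcon
  have hvV := cjV' hg (h.lV hv)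
  have h1 : ∀ y ∈ l, g * y * g⁻¹ ∈ l := by
    intro y hy
    obtain ⟨t, ht, htv⟩ := h.reach hvV hcon hy
    have h2 := (mem_normalizer_iff.1 (hSl (hT t ht)) v).1 hv
    have h3 : g * t * g⁻¹ * v * (g * t * g⁻¹)⁻¹ = v * (g * y * g⁻¹) := by
      calc g * t * g⁻¹ * v * (g * t * g⁻¹)⁻¹ = g * (t * (g⁻¹ * v * g) * t⁻¹) * g⁻¹ := by group
        _ = g * (g⁻¹ * v * g * y) * g⁻¹ := by rw [htv]
        _ = _ := by group
    rw [h3] at h2
    exact (mul_mem_cancel_left hv).1 h2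
  -- `x ↦ gxg⁻¹` is a bijection of `l`
  let f : l → l := fun x => ⟨g * x * g⁻¹, h1 x x.2⟩
  have hf : Function.Injective f := by
    intro x y hxy
    have h2 : g * (x : G) * g⁻¹ = g * (y : G) * g⁻¹ := congrArg Subtype.val hxy
    exact Subtype.ext (mul_left_cancel (mul_right_cancel h2))
  obtain ⟨y, hy⟩ := (Finite.injective_iff_surjective.1 hf) ⟨v, hv⟩
  have h2 : g * (y : G) * g⁻¹ = v := congrArg Subtype.val hy
  apply hcon
  rw [← h2]
  have h3 : g⁻¹ * (g * (y : G) * g⁻¹) * g = y := by group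
  rw [h3]
  exact y.2

end Rt

/-- the elements of `S` which centralise `l` and `V / l` -/
def Hs (S V l : Subgroup G) : Subgroup G where
  carrier := {s | s ∈ S ∧ s ∈ normalizer (V : Set G) ∧ (∀ x ∈ l, s * x * s⁻¹ = x) ∧ ∀ v ∈ V, v⁻¹ * (s * v * s⁻¹) ∈ l}
  one_mem' := ⟨one_mem S, one_mem _, fun x _ => by group, fun v _ => by
    have h1 : v⁻¹ * (1 * v * 1⁻¹) = 1 := by group
    rw [h1]
    exact one_mem l⟩
  mul_mem' := by
    rintro s t ⟨h1, h2, h3, h4⟩ ⟨k1, k2, k3, k4⟩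
    refine ⟨mul_mem h1 k1, mul_mem h2 k2, fun x hx => ?_, fun v hv => ?_⟩
    · calc s * t * x * (s * t)⁻¹ = s * (t * x * t⁻¹) * s⁻¹ := by group
        _ = x := by rw [k3 x hx, h3 x hx]
    · have e1 : v⁻¹ * (s * t * v * (s * t)⁻¹) =
          v⁻¹ * (s * v * s⁻¹) * (s * (v⁻¹ * (t * v * t⁻¹)) * s⁻¹) := by group
      rw [e1]
      refine mul_mem (h4 v hv) ?_
      rw [h3 _ (k4 v hv)]
      exact k4 v hv
  inv_mem' := by
    rintro s ⟨h1, h2, h3, h4⟩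
    have h5 : ∀ x ∈ l, s⁻¹ * x * s⁻¹⁻¹ = x := by
      intro x hx
      calc s⁻¹ * x * s⁻¹⁻¹ = s⁻¹ * (s * x * s⁻¹) * s := by rw [h3 x hx]; group
        _ = x := by group
    refine ⟨inv_mem h1, inv_mem h2, h5, fun v hv => ?_⟩
    have h6 := h4 (s⁻¹ * v * s) (cjV' h2 hv)
    have e1 : v⁻¹ * (s⁻¹ * v * s⁻¹⁻¹) = ((s⁻¹ * v * s)⁻¹ * (s * (s⁻¹ * v * s) * s⁻¹))⁻¹ := by group
    rw [e1]
    exact inv_mem h6


/-! ### The elements of `Hs` act as elements of `T` -/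

section acts

variable {V T l : Subgroup G} {F : Type} [Field F] {e : G → Fin 2 → F} (h : Rt V T l F e)
include h

theorem Rt.hs_e {S : Subgroup G} {s : G} (hs : s ∈ Hs S V l) {v : G} (hv : v ∈ V) :
    e (s * v * s⁻¹) 1 = e v 1 := by
  have h2 := ((h.line _).1 (hs.2.2.2 v hv)).2
  rw [h.mul _ (inv_mem hv) _ (cjV hs.2.1 hv), Pi.add_apply, h.e_inv hv, Pi.neg_apply] at h2
  exact (neg_add_eq_zero.1 h2).symm

theorem Rt.T_le_Hs {S : Subgroup G} (hTS : T ≤ S) : T ≤ Hs S V l := by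
  intro t ht
  refine ⟨hTS ht, h.nV ht, fun x hx => h.Tl ht hx, fun v hv => ?_⟩
  obtain ⟨c, hc⟩ := h.root t ht
  have h1 := cjV (h.nV ht) hv
  refine (h.line _).2 ⟨mul_mem (inv_mem hv) h1, ?_⟩
  rw [h.mul _ (inv_mem hv) _ h1, Pi.add_apply, h.e_inv hv, Pi.neg_apply, hc v hv]
  show -e v 1 + e v 1 = 0
  exact neg_add_cancel _

theorem Rt.sq_one [CharP F 2] {x : G} (hx : x ∈ V) : x * x = 1 :=
  h.inj _ (mul_mem hx hx) (by rw [h.mul x hx x hx]; exact CharTwo.add_self_eq_zero _)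

theorem Rt.elem [CharP F 2] {S : Subgroup G} : ElemM V (Hs S V l) := by
  have key : ∀ s ∈ Hs S V l, ∀ v ∈ V, ∃ x ∈ l, s * v * s⁻¹ = v * x := fun s hs v hv =>
    ⟨v⁻¹ * (s * v * s⁻¹), hs.2.2.2 v hv, by group⟩
  refine ⟨fun a ha => mem_centralizer_iff.2 fun v hv => ?_, fun a ha b hb => mem_centralizer_iff.2 fun v hv => ?_⟩
  · obtain ⟨x, hx, hax⟩ := key a ha v hv
    have h1 : a ^ 2 * v * (a ^ 2)⁻¹ = v := by
      calc a ^ 2 * v * (a ^ 2)⁻¹ = a * (a * v * a⁻¹) * a⁻¹ := by rw [sq]; group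
        _ = a * (v * x) * a⁻¹ := by rw [hax]
        _ = a * v * a⁻¹ * (a * x * a⁻¹) := by group
        _ = v * (x * x) := by rw [hax, ha.2.2.1 x hx, mul_assoc]
        _ = v := by rw [h.sq_one (h.lV hx), mul_one]
    exact (mul_inv_eq_iff_eq_mul.1 h1).symm
  · have hab : ∀ w ∈ V, a * (b * w * b⁻¹) * a⁻¹ = b * (a * w * a⁻¹) * b⁻¹ := by
      intro w hw
      obtain ⟨x, hx, hax⟩ := key a ha w hw
      obtain ⟨y, hy, hby⟩ := key b hb w hw
      calc a * (b * w * b⁻¹) * a⁻¹ = a * w * a⁻¹ * (a * y * a⁻¹) := by rw [hby]; group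
        _ = w * (x * y) := by rw [hax, ha.2.2.1 y hy, mul_assoc]
        _ = w * (y * x) := by rw [h.comm (h.lV hx) (h.lV hy)]
        _ = b * w * b⁻¹ * (b * x * b⁻¹) := by rw [hby, hb.2.2.1 x hx, mul_assoc]
        _ = _ := by rw [hax]; group
    have hw : a⁻¹ * (b⁻¹ * v * b) * a ∈ V := cjV' ha.2.1 (cjV' hb.2.1 hv)
    have h1 : a * b * a⁻¹ * b⁻¹ * v * (a * b * a⁻¹ * b⁻¹)⁻¹ = v := by
      calc a * b * a⁻¹ * b⁻¹ * v * (a * b * a⁻¹ * b⁻¹)⁻¹ =
          a * (b * (a⁻¹ * (b⁻¹ * v * b) * a) * b⁻¹) * a⁻¹ := by group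
        _ = b * (a * (a⁻¹ * (b⁻¹ * v * b) * a) * a⁻¹) * b⁻¹ := hab _ hw
        _ = v := by group
    exact (mul_inv_eq_iff_eq_mul.1 h1).symm

theorem Rt.card_V : Nat.card V = Nat.card l * Nat.card F :=
  card_map h.lV (fun v => e v 1) (fun v hv w hw => by rw [h.mul v hv w hw]; rfl)
    (fun c => by
      obtain ⟨v, hv, hc⟩ := h.sur ![0, c]
      exact ⟨v, hv, by rw [hc]; rfl⟩)
    (fun v hv => ⟨fun h1 => (h.line v).2 ⟨hv, h1⟩, fun h1 => ((h.line v).1 h1).2⟩)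

/-- **`S` acts on `V`, centralising `l` and `V / l`, as `T`** (no over-offender in `S`). -/
theorem Rt.acts [Finite G] [Finite F] [CharP F 2] {S : Subgroup G}
    (hno : ∀ A ≤ S, ElemM V A → Nat.card A * Nat.card ↥(V ⊓ centralizer (A : Set G)) ≤
      Nat.card V * Nat.card ↥(A ⊓ centralizer (V : Set G)))
    (hTS : T ≤ S) {s : G} (hs : s ∈ Hs S V l) : ∃ t ∈ T, ∀ v ∈ V, s * v * s⁻¹ = t * v * t⁻¹ := by
  classical
  by_contra hcon
  push Not at hcon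
  set H := Hs S V l with hH
  have hHS : H ≤ S := fun x hx => hx.1
  have h1 := hno H hHS h.elem
  have h2 : l ≤ V ⊓ centralizer (H : Set G) := fun x hx => ⟨h.lV hx, mem_centralizer_iff.2 fun a ha =>
    mul_inv_eq_iff_eq_mul.1 (ha.2.2.1 x hx)⟩
  have h3 := card_le_of_le h2
  have pl : 0 < Nat.card l := Nat.card_pos
  have h4 : Nat.card H ≤ Nat.card F * Nat.card ↥(H ⊓ centralizer (V : Set G)) := by
    refine Nat.le_of_mul_le_mul_right (c := Nat.card l) ?_ pl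
    calc Nat.card H * Nat.card l ≤ Nat.card H * Nat.card ↥(V ⊓ centralizer (H : Set G)) := Nat.mul_le_mul_left _ h3
      _ ≤ Nat.card V * Nat.card ↥(H ⊓ centralizer (V : Set G)) := h1
      _ = _ := by rw [h.card_V]; ring
  choose t ht hc using h.syl
  have hTH : T ≤ H := h.T_le_Hs hTS
  -- `H ⊇ (F ∪ {∞}) × C_H(V)`
  let φ : Option F × ↥(H ⊓ centralizer (V : Set G)) → H := fun p =>
    match p with
    | (none, k) => ⟨s * k, mul_mem hs k.2.1⟩
    | (some c, k) => ⟨t c * k, mul_mem (hTH (ht c)) k.2.1⟩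
  have act : ∀ a b : G, ∀ k ∈ centralizer (V : Set G), ∀ k' ∈ centralizer (V : Set G), a * k = b * k' →
      ∀ v ∈ V, a * v * a⁻¹ = b * v * b⁻¹ := by
    intro a b k hk k' hk' hab v hv
    have e1 : k * v * k⁻¹ = v := by rw [← mem_centralizer_iff.1 hk v hv]; group
    have e2 : k' * v * k'⁻¹ = v := by rw [← mem_centralizer_iff.1 hk' v hv]; group
    calc a * v * a⁻¹ = a * (k * v * k⁻¹) * a⁻¹ := by rw [e1]
      _ = (a * k) * v * (a * k)⁻¹ := by group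
      _ = (b * k') * v * (b * k')⁻¹ := by rw [hab]
      _ = b * (k' * v * k'⁻¹) * b⁻¹ := by group
      _ = b * v * b⁻¹ := by rw [e2]
  have hφ : Function.Injective φ := by
    rintro ⟨a | a, k, hk⟩ ⟨b | b, k', hk'⟩ hab
    · have h5 : s * k = s * k' := congrArg Subtype.val hab
      have h6 : k = k' := mul_left_cancel h5
      subst h6
      rfl
    · exfalso
      have h5 : s * k = t b * k' := congrArg Subtype.val hab
      obtain ⟨v, hv, hne⟩ := hcon (t b) (ht b)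
      exact hne (act _ _ k hk.2 k' hk'.2 h5 v hv)
    · exfalso
      have h5 : t a * k = s * k' := congrArg Subtype.val hab
      obtain ⟨v, hv, hne⟩ := hcon (t a) (ht a)
      exact hne (act _ _ k hk.2 k' hk'.2 h5 v hv).symm
    · have h5 : t a * k = t b * k' := congrArg Subtype.val hab
      obtain ⟨w, hw, hw1⟩ := h.sur ![0, 1]
      have h6 := act _ _ k hk.2 k' hk'.2 h5 w hw
      have h7 := congrFun (congrArg e h6) 0
      rw [hc a w hw, hc b w hw, hw1] at h7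
      have h8 : a = b := by simpa using h7
      subst h8
      have h9 : k = k' := mul_left_cancel h5
      subst h9
      rfl
  have h5 := Nat.card_le_card_of_injective φ hφ
  rw [Nat.card_prod, Finite.card_option] at h5
  have pk : 0 < Nat.card ↥(H ⊓ centralizer (V : Set G)) := Nat.card_pos
  have h6 := h5.trans h4
  have h7 := Nat.le_of_mul_le_mul_right h6 pk
  omega

end acts


/-! ### The action on `l` -/

/-- multiplicative maps of a finite field commute -/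
theorem mulmap_comm {F : Type} [Field F] [Finite F] {f g : F → F} (hf1 : f 1 = 1) (hfm : ∀ x y, f (x * y) = f x * f y)
    (hf0 : f 0 = 0) (hg1 : g 1 = 1) (hgm : ∀ x y, g (x * y) = g x * g y) (hg0 : g 0 = 0) (x : F) :
    f (g x) = g (f x) := by
  by_cases hx : x = 0
  · rw [hx, hg0, hf0, hg0]
  let f' : F →* F := { toFun := f, map_one' := hf1, map_mul' := hfm }
  let g' : F →* F := { toFun := g, map_one' := hg1, map_mul' := hgm }
  obtain ⟨m, hm⟩ := (Units.map f').map_cyclic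
  obtain ⟨n, hn⟩ := (Units.map g').map_cyclic
  have h1 : Units.map f' (Units.map g' (Units.mk0 x hx)) = Units.map g' (Units.map f' (Units.mk0 x hx)) := by
    rw [hm, hn, hm (Units.mk0 x hx), hn, ← zpow_mul, ← zpow_mul, mul_comm]
  exact congrArg Units.val h1

/-- `g` normalises `V`, `l` and the action of `T`, and fixes `z`. -/
structure Gd (V T l : Subgroup G) (z g : G) : Prop where
  nV : g ∈ normalizer (V : Set G)
  nl : ∀ x ∈ l, g * x * g⁻¹ ∈ l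
  nT : ∀ t ∈ T, ∃ t' ∈ T, ∀ v ∈ V, g * t * g⁻¹ * v * (g * t * g⁻¹)⁻¹ = t' * v * t'⁻¹
  fz : g * z * g⁻¹ = z

section line

variable {V T l : Subgroup G} {F : Type} [Field F] {e : G → Fin 2 → F} (h : Rt V T l F e)

/-- the element with coordinates `x` -/
noncomputable def Rt.vec (h : Rt V T l F e) (x : Fin 2 → F) : G := (h.sur x).choose

include h

theorem Rt.vec_mem (x : Fin 2 → F) : h.vec x ∈ V := (h.sur x).choose_spec.1

theorem Rt.e_vec (x : Fin 2 → F) : e (h.vec x) = x := (h.sur x).choose_spec.2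

theorem Rt.vec_line (x : F) : h.vec ![x, 0] ∈ l := (h.line _).2 ⟨h.vec_mem _, by rw [h.e_vec]; rfl⟩

theorem Rt.eq_vec {x : G} (hx : x ∈ l) : x = h.vec ![e x 0, 0] := by
  refine h.ext (h.lV hx) (h.vec_mem _) ?_
  rw [h.e_vec]
  funext i
  fin_cases i
  · rfl
  · exact ((h.line x).1 hx).2

theorem Gd.key {z g : G} (hg : Gd V T l z g) (x : F) : ∃ b : F, ∀ y : F,
    e (g * h.vec ![x * y, 0] * g⁻¹) 0 = b * e (g * h.vec ![0, y] * g⁻¹) 1 := by
  obtain ⟨t, ht, hc⟩ := h.syl x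
  obtain ⟨t', ht', hact⟩ := hg.nT t ht
  obtain ⟨b, hb⟩ := h.root t' ht'
  refine ⟨b, fun y => ?_⟩
  set w := h.vec ![0, y] with hw
  set u := h.vec ![x * y, 0] with hu
  have hwV : w ∈ V := h.vec_mem _
  have huV : u ∈ V := h.vec_mem _
  have h1 : t * w * t⁻¹ = w * u := by
    refine h.ext (cjV (h.nV ht) hwV) (mul_mem hwV huV) ?_
    rw [hc w hwV, h.mul w hwV u huV, hw, hu, h.e_vec, h.e_vec]
    funext i
    fin_cases i <;> simp
  have h2 : g * t * g⁻¹ * (g * w * g⁻¹) * (g * t * g⁻¹)⁻¹ = g * w * g⁻¹ * (g * u * g⁻¹) := by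
    calc g * t * g⁻¹ * (g * w * g⁻¹) * (g * t * g⁻¹)⁻¹ = g * (t * w * t⁻¹) * g⁻¹ := by group
      _ = _ := by rw [h1]; group
  have hgw := cjV hg.nV hwV
  have hgu := cjV hg.nV huV
  rw [hact _ hgw] at h2
  have h3 := congrFun (congrArg e h2) 0
  rw [hb _ hgw, h.mul _ hgw _ hgu] at h3
  have h4 : e (g * w * g⁻¹) 0 + b * e (g * w * g⁻¹) 1 = e (g * w * g⁻¹) 0 + e (g * u * g⁻¹) 0 := h3
  exact (add_left_cancel h4).symm

/-- the multiplicative map of `g` -/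
noncomputable def Gd.s (h : Rt V T l F e) (z g : G) (x : F) : F :=
  e (g * h.vec ![e z 0 * x, 0] * g⁻¹) 0 / e z 0

theorem Gd.s_one {z g : G} (hz : z ∈ l) (hz1 : z ≠ 1) (hg : Gd V T l z g) : Gd.s h z g 1 = 1 := by
  have h0 : e z 0 ≠ 0 := fun h1 => hz1 (h.inj z (h.lV hz) (by
    funext i
    fin_cases i
    · exact h1
    · exact ((h.line z).1 hz).2))
  unfold Gd.s
  rw [mul_one, ← h.eq_vec hz, hg.fz, div_self h0]

theorem Gd.s_zero {z g : G} : Gd.s h z g 0 = 0 := by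
  unfold Gd.s
  have h1 : h.vec ![e z 0 * 0, 0] = 1 := h.inj _ (h.vec_mem _) (by
    rw [h.e_vec, mul_zero]
    funext i
    fin_cases i <;> rfl)
  have h2 : g * 1 * g⁻¹ = 1 := by group
  rw [h1, h2, h.e_one, Pi.zero_apply, zero_div]

theorem Gd.s_mul {z g : G} (hz : z ∈ l) (hz1 : z ≠ 1) (hg : Gd V T l z g) (x y : F) :
    Gd.s h z g (x * y) = Gd.s h z g x * Gd.s h z g y := by
  have h0 : e z 0 ≠ 0 := fun h1 => hz1 (h.inj z (h.lV hz) (by
    funext i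
    fin_cases i
    · exact h1
    · exact ((h.line z).1 hz).2))
  obtain ⟨b1, hb1⟩ := Gd.key h hg (e z 0 * x)
  obtain ⟨b0, hb0⟩ := Gd.key h hg (e z 0)
  have e1 := hb1 y
  have e2 := hb1 1
  have e3 := hb0 y
  have e4 := hb0 1
  rw [mul_one] at e2 e4
  rw [← h.eq_vec hz, hg.fz] at e4
  unfold Gd.s
  rw [← mul_assoc, e1, e2, e3]
  field_simp
  rw [e4]
  ring

theorem Gd.act {z g : G} (hz : z ∈ l) (hz1 : z ≠ 1) (hg : Gd V T l z g) (x : F) :
    g * h.vec ![e z 0 * x, 0] * g⁻¹ = h.vec ![e z 0 * Gd.s h z g x, 0] := by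
  have h0 : e z 0 ≠ 0 := fun h1 => hz1 (h.inj z (h.lV hz) (by
    funext i
    fin_cases i
    · exact h1
    · exact ((h.line z).1 hz).2))
  rw [h.eq_vec (hg.nl _ (h.vec_line _))]
  congr 2
  unfold Gd.s
  rw [mul_div_cancel₀ _ h0]

/-- two such elements commute on `l` -/
theorem Gd.comm [Finite F] {z g g' : G} (hz : z ∈ l) (hz1 : z ≠ 1) (hg : Gd V T l z g) (hg' : Gd V T l z g') {x : G}
    (hx : x ∈ l) : g * (g' * x * g'⁻¹) * g⁻¹ = g' * (g * x * g⁻¹) * g'⁻¹ := by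
  have h0 : e z 0 ≠ 0 := fun h1 => hz1 (h.inj z (h.lV hz) (by
    funext i
    fin_cases i
    · exact h1
    · exact ((h.line z).1 hz).2))
  have e1 : x = h.vec ![e z 0 * (e x 0 / e z 0), 0] := by
    rw [mul_div_cancel₀ _ h0]
    exact h.eq_vec hx
  rw [e1, Gd.act h hz hz1 hg', Gd.act h hz hz1 hg, Gd.act h hz hz1 hg, Gd.act h hz hz1 hg',
    mulmap_comm (Gd.s_one h hz hz1 hg) (Gd.s_mul h hz hz1 hg) (Gd.s_zero h) (Gd.s_one h hz hz1 hg')
      (Gd.s_mul h hz hz1 hg') (Gd.s_zero h)]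

end line

/-- the elements of `P` which act on `l` as an element of `S` -/
def Ns (S P l : Subgroup G) (hSl : S ≤ normalizer (l : Set G)) : Subgroup G where
  carrier := {g | g ∈ P ∧ ∃ s ∈ S, ∀ x ∈ l, g * x * g⁻¹ = s * x * s⁻¹}
  one_mem' := ⟨one_mem P, 1, one_mem S, fun _ _ => rfl⟩
  mul_mem' := by
    rintro a b ⟨ha, s, hs, h1⟩ ⟨hb, t, ht, h2⟩
    refine ⟨mul_mem ha hb, s * t, mul_mem hs ht, fun x hx => ?_⟩
    calc a * b * x * (a * b)⁻¹ = a * (b * x * b⁻¹) * a⁻¹ := by group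
      _ = a * (t * x * t⁻¹) * a⁻¹ := by rw [h2 x hx]
      _ = s * (t * x * t⁻¹) * s⁻¹ := h1 _ (cjV (hSl ht) hx)
      _ = _ := by group
  inv_mem' := by
    rintro a ⟨ha, s, hs, h1⟩
    refine ⟨inv_mem ha, s⁻¹, inv_mem hs, fun x hx => ?_⟩
    have h2 := h1 (s⁻¹ * x * s) (cjV' (hSl hs) hx)
    have h3 : s * (s⁻¹ * x * s) * s⁻¹ = x := by group
    rw [h3] at h2
    calc a⁻¹ * x * a⁻¹⁻¹ = a⁻¹ * (a * (s⁻¹ * x * s) * a⁻¹) * a := by rw [h2]; group
      _ = _ := by group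

/-- **`P ∈ P*(S)`, `T ≤ O₂(P)`: `P` fixes no `z ∈ l#`.** -/
theorem Rt.not_fix [Finite G] {S : Sylow 2 G} {P V T l : Subgroup G} {F : Type} [Field F] [Finite F] [CharP F 2]
    {e : G → Fin 2 → F} (h : Rt V T l F e) (hP : IsParS (S : Subgroup G) P) (hPV : P ≤ normalizer (V : Set G))
    (hno : ∀ A ≤ (S : Subgroup G), ElemM V A → Nat.card A * Nat.card ↥(V ⊓ centralizer (A : Set G)) ≤
      Nat.card V * Nat.card ↥(A ⊓ centralizer (V : Set G)))
    (hSl : (S : Subgroup G) ≤ normalizer (l : Set G)) (hTP : T ≤ o2 P) (hZl : zc (S : Subgroup G) ≤ l) {z : G}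
    (hz : z ∈ l) (hzP : z ∈ centralizer (P : Set G)) : z = 1 := by
  by_contra hz1
  have hoS : o2 P ≤ (S : Subgroup G) := hP.isLoc.o2_le S
  have hTS : T ≤ (S : Subgroup G) := hTP.trans hoS
  have hpT : ∀ p ∈ P, ∀ t ∈ T, p * t * p⁻¹ ∈ (S : Subgroup G) := fun p hp t ht =>
    hoS ((mem_normalizer_iff.1 (le_normalizer_o2 P hp) t).1 (hTP ht))
  have hl1 : ∀ p ∈ P, ∀ x ∈ l, p⁻¹ * x * p ∈ l := fun p hp x hx => h.line_conj hSl (hPV hp) (hpT p hp) hx
  have hl2 : ∀ p ∈ P, ∀ x ∈ l, p * x * p⁻¹ ∈ l := fun p hp x hx => by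
    have h1 := hl1 p⁻¹ (inv_mem hp) x hx
    rwa [inv_inv] at h1
  -- the elements of `P` are good
  have hgd : ∀ p ∈ P, Gd V T l z p := fun p hp =>
    { nV := hPV hp
      nl := hl2 p hp
      nT := fun t ht => by
        refine h.acts hno hTS (s := p * t * p⁻¹) ⟨hpT p hp t ht, mul_mem (mul_mem (hPV hp) (h.nV ht)) (inv_mem (hPV hp)),
          fun x hx => ?_, fun v hv => ?_⟩
        · calc p * t * p⁻¹ * x * (p * t * p⁻¹)⁻¹ = p * (t * (p⁻¹ * x * p) * t⁻¹) * p⁻¹ := by group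
            _ = p * (p⁻¹ * x * p) * p⁻¹ := by rw [h.Tl ht (hl1 p hp x hx)]
            _ = x := by group
        · have h1 := (h.T_le_Hs hTS ht).2.2.2 (p⁻¹ * v * p) (cjV' (hPV hp) hv)
          have h2 := hl2 p hp _ h1
          have h3 : p * ((p⁻¹ * v * p)⁻¹ * (t * (p⁻¹ * v * p) * t⁻¹)) * p⁻¹ =
              v⁻¹ * (p * t * p⁻¹ * v * (p * t * p⁻¹)⁻¹) := by group
          rwa [h3] at h2
      fz := by
        rw [mem_centralizer_iff.1 hzP p hp]
        group }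
  set N := Ns (S : Subgroup G) P l hSl with hN
  have hSN : (S : Subgroup G) ≤ N := fun s hs => ⟨hP.le hs, s, hs, fun _ _ => rfl⟩
  have hNP : N ≤ P := fun g hg => hg.1
  have hPN1 : ∀ p ∈ P, ∀ g ∈ N, p * g * p⁻¹ ∈ N := by
    rintro p hp g ⟨hgP, s, hs, h1⟩
    refine ⟨mul_mem (mul_mem hp hgP) (inv_mem hp), s, hs, fun x hx => ?_⟩
    calc p * g * p⁻¹ * x * (p * g * p⁻¹)⁻¹ = p * (g * (p⁻¹ * x * p) * g⁻¹) * p⁻¹ := by group
      _ = g * (p * (p⁻¹ * x * p) * p⁻¹) * g⁻¹ := Gd.comm h hz hz1 (hgd p hp) (hgd g hgP) (hl1 p hp x hx)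
      _ = g * x * g⁻¹ := by group
      _ = _ := h1 x hx
  have hPN : P ≤ normalizer (N : Set G) := by
    intro p hp
    rw [mem_normalizer_iff]
    intro g
    refine ⟨hPN1 p hp g, fun hg => ?_⟩
    have h1 := hPN1 p⁻¹ (inv_mem hp) _ hg
    have h2 : p⁻¹ * (p * g * p⁻¹) * p⁻¹⁻¹ = g := by group
    rwa [h2] at h1
  rcases hP.toIsMinPar.sup_eq_or_inf_le S.isPGroup' (MinSimple.Basic.not_dvd_relIndex S hP.le) hNP hPN with h1 | h1
  · rw [sup_eq_left.2 hSN] at h1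
    apply hP.not_zc
    refine le_trans (fun p hp => mem_centralizer_iff.2 fun y hy => ?_) (centralizer_le_normalizer _)
    have hpN : p ∈ N := by rw [h1]; exact hp
    obtain ⟨-, s, hs, h2⟩ := hpN
    have h3 := h2 y (hZl hy)
    have h4 : s * y * s⁻¹ = y := by
      rw [(MinSimple.VModule.mem_zc.1 hy).2.1 s hs]
      group
    rw [h4] at h3
    exact (mul_inv_eq_iff_eq_mul.1 h3).symm
  · rw [inf_eq_left.2 hSN] at h1
    have h2 : (S : Subgroup G) = o2 P := le_antisymm h1 hoS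
    apply hP.toIsMinPar.not_le
    rw [h2]
    exact le_normalizer_o2 P

end Cfsg.Agent.Omega.NOThreeL.RRed.WOneB
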