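import Cfsg.Agent.Omega.NOThreeL.RRed.WideTree
import Cfsg.Agent.Omega.NOThreeL.RRed.WOneA
import Cfsg.Agent.Omega.NOThreeL.RRed.WOneB

/-!
# NO-3L, box R: one natural block is void (`WideTree.WOneOne`)

`V* = N` one natural `SL₂(q)`-block, `T = S ∩ D` (the root group of the line `l`): `C_Z(P) = 1` for all `P ∈ P*(S)`
(`WOneA.fix_eq_one` if `T ≰ O₂(P)`, `WOneB.Rt.not_fix` if `T ≤ O₂(P)`), against `RB.ex`.
-/

set_option autoImplicit false
set_option linter.unusedSectionVars false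

namespace Cfsg.Agent.Omega.NOThreeL.RRed.WOneOne

open Subgroup Cfsg Cfsg.Agent.ZN Cfsg.Agent.Omega.MinPar Cfsg.Agent.Omega.Frame Cfsg.Agent.Omega.FrameNOFF
open Cfsg.Agent.Omega.Node.NO3L Cfsg.Agent.Omega.NOThreeL.Basic Cfsg.Agent.Omega.NOThreeL.RTree
open Cfsg.Agent.Omega.NOThreeL.Merge (MZ le_MZ S_le_MZ)
open Cfsg.Agent.Omega.NOThreeL.RRed.GlueSig
open Cfsg.Agent.Omega.NOThreeL.RRed.WideTree
open Cfsg.Agent.Omega.FFThm (ElemM)
open scoped Pointwise

universe u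

/-- **one block is void** : `C_Z(P) = 1` for all `P ∈ P*(S)` -/
theorem zc_inf_eq_bot {G : Type u} [Group G] [Finite G] {S : Sylow 2 G} (hW : Wide S) {ι : Type u}
    {N E D l : ι → Subgroup G} {q : ι → ℕ} (h : NBs (S : Subgroup G) N E D l q) {b : ι} (hb : ∀ c, c = b)
    {P : Subgroup G} (hP : IsParS (S : Subgroup G) P) : zc (S : Subgroup G) ⊓ centralizer (P : Set G) = ⊥ := by
  have hSM : (S : Subgroup G) ≤ MZ (S : Subgroup G) := S_le_MZ hW.ctx hW.full
  have hMV : MZ (S : Subgroup G) ≤ normalizer (Wd (S : Subgroup G) : Set G) :=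
    MinSimple.VModule.le_normalizer_zl _ _
  have hNV : N b = Wd (S : Subgroup G) := by
    have h1 := h.dec.sup
    rw [sup_bot_eq] at h1
    rw [← h1]
    refine le_antisymm (le_iSup N b) (iSup_le fun c => ?_)
    rw [hb c]
  obtain ⟨F, i1, i2, i3, e, -, hn⟩ := h.nat b
  rw [hNV] at hn
  have hSl1 : ∀ s ∈ (S : Subgroup G), ∀ x ∈ l b, s * x * s⁻¹ ∈ l b := by
    intro s hs x hx
    obtain ⟨c, hc⟩ := h.ln s hs b
    rw [hb c] at hc
    have h1 := Subgroup.smul_mem_pointwise_smul x (MulAut.conj s) (l b) hx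
    rw [hc] at h1
    exact h1
  have hSl : (S : Subgroup G) ≤ normalizer (l b : Set G) := by
    intro s hs
    rw [mem_normalizer_iff]
    intro x
    refine ⟨hSl1 s hs x, fun hx => ?_⟩
    have h1 := hSl1 s⁻¹ (inv_mem hs) _ hx
    have h2 : s⁻¹ * (s * x * s⁻¹) * s⁻¹⁻¹ = x := by group
    rwa [h2] at h1
  have hR : WOneB.Rt (Wd (S : Subgroup G)) ((S : Subgroup G) ⊓ D b) (l b) F e :=
    { mul := hn.mul
      inj := hn.inj
      sur := hn.sur
      line := hn.line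
      root := hn.root
      syl := hn.sylow
      nV := inf_le_left.trans (hSM.trans hMV) }
  have hZV : zc (S : Subgroup G) ≤ Wd (S : Subgroup G) := MinSimple.VModule.zc_le_zl _ _
  have hZl : zc (S : Subgroup G) ≤ l b := by
    intro y hy
    obtain ⟨t, ht, hc⟩ := hn.sylow 1
    have h1 := hc y (hZV hy)
    have h2 : t * y * t⁻¹ = y := by
      rw [(MinSimple.VModule.mem_zc.1 hy).2.1 t ht.1]
      group
    rw [h2] at h1
    have h3 : e y 0 = e y 0 + 1 * e y 1 := congrFun h1 0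
    rw [one_mul] at h3
    exact (hn.line y).2 ⟨hZV hy, left_eq_add.1 h3⟩
  obtain ⟨P₀, A₀, hg⟩ := FourTree.exists_gOne_rr hW.toRB hW.rr
  have hno : ∀ A ≤ (S : Subgroup G), ElemM (Wd (S : Subgroup G)) A →
      Nat.card A * Nat.card ↥(Wd (S : Subgroup G) ⊓ centralizer (A : Set G)) ≤
        Nat.card (Wd (S : Subgroup G)) * Nat.card ↥(A ⊓ centralizer (Wd (S : Subgroup G) : Set G)) :=
    fun A hA hE => hg.no A (hA.trans hSM) hE
  have hPM : P ≤ MZ (S : Subgroup G) := le_MZ hP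
  rw [eq_bot_iff]
  rintro z ⟨hz, hzP⟩
  rw [mem_bot]
  by_cases hT : (S : Subgroup G) ⊓ D b ≤ o2 P
  · exact hR.not_fix hP (hPM.trans hMV) hno hSl hT hZl (hZl hz) hzP
  · exact WOneA.fix_eq_one hW.ctx.char2 hP (Star.zl_mono _ hPM) hg.comm inf_le_left hT hn.mul hn.inj hn.sur
      hn.root hn.sylow hz hzP

/-- **`WOneOne`** -/
theorem wOneOne (K : Cls.{u}) (B : Fr.{u}) : WOneOne K B := by
  intro G _ _ _ S _ hW _ _ ι _ N E D l q _ h _ hι
  exfalso
  obtain ⟨h1, ⟨b⟩⟩ := Nat.card_eq_one_iff_unique.1 hι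
  obtain ⟨P, hP, hne⟩ := hW.ex
  exact hne (zc_inf_eq_bot hW h (b := b) (fun c => Subsingleton.elim _ _) hP)

end Cfsg.Agent.Omega.NOThreeL.RRed.WOneOne
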