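import Cfsg.Agent.Omega.NOThreeL.RRed.WideTree
import Cfsg.Agent.Omega.NOThreeL.RRed.BFr.PlugLev
import Cfsg.Agent.Omega.NOThreeL.RRed.QFr.Mv
import Cfsg.Agent.Omega.SQT.OneS

/-!
# The socket `WOneS` of `RRed/WideTree`: `𝔽₂`-blocks, one class (#25504 row 11, #27497 (4))

* `count_of` : `V*` irreducible for `M₀`, `|Z| ≥ 4`: at least three light pairs (`|I| + 5 ≤ Σ |Om i|`);
* `TopS K B` : the remaining socket: all levels `lev S n` centralise `V*`;
* **`wOneS_of`** : (ML), EXT and `TopS K B` imply `WOneS K B`.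
-/

set_option autoImplicit false
set_option linter.unusedSectionVars false

namespace Cfsg.Agent.Omega.NOThreeL.RRed.WideTree

open Subgroup Cfsg Cfsg.Agent.ZN Cfsg.Agent.Omega.MinPar Cfsg.Agent.Omega.Frame Cfsg.Agent.Omega.FrameNOFF
open Cfsg.Agent.Omega.Node.NO3L Cfsg.Agent.Omega.NOThreeL.Basic Cfsg.Agent.Omega.NOThreeL.RTree
open Cfsg.Agent.Omega.NOThreeL.RTreeF
open Cfsg.Agent.Omega.NOThreeL.Merge (MZ S_le_MZ)
open Cfsg.Agent.Omega.NOThreeL.RZ (RR)
open Cfsg.Agent.Omega.NOThreeL.RRed.GlueSig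
open Cfsg.Agent.Omega.NOThreeL.RRed.FourTree (Bks LevX nxtX HypJ)
open Cfsg.Agent.Omega.NOThreeL.RRed.TvFin (Full)
open Cfsg.Agent.Omega.NOThreeL.RRed.HypJOf (hypJ_of trans_of_irr)
open Cfsg.Agent.Omega.NO3S.Level (lev Lev lev_isLev normalizer_le_zc)
open Cfsg.Agent.Omega.SQT.WideS (sylR KK mem_KK exists_swap_blocks eq_of_two card_le_two eq_of_one)
open Cfsg.Agent.Omega.SQT.LettQ (two)

open scoped Pointwise

universe u

section count

variable {G : Type u} [Group G] [Finite G] {S : Sylow 2 G} {M V : Subgroup G} {I : Type u} [Fintype I]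
  {N E : I → Subgroup G} {Om : I → Type u} [∀ i, Fintype (Om i)] [∀ i, DecidableEq (Om i)] {phi : ∀ i, Finset (Om i) → G}

/-- **At least three light pairs.** -/
theorem count_of (F : Full (S : Subgroup G) M V N E ⊥ Om phi) (hne : Nonempty I)
    (hirr : ∀ b, M ≤ normalizer (N b : Set G) → V ≤ N b) {Z : Subgroup G} (hZV : Z ≤ V)
    (hZS : ∀ z ∈ Z, ∀ s ∈ (S : Subgroup G), s * z * s⁻¹ = z) (h4 : 4 ≤ Nat.card Z) :
    Fintype.card I + 5 ≤ ∑ i, Fintype.card (Om i) := by
  classical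
  by_contra hlt
  push Not at hlt
  have hD := F.toDec
  have h3 : Fintype.card I * 3 ≤ ∑ i, Fintype.card (Om i) := by
    have h := Finset.sum_le_sum (s := (Finset.univ : Finset I)) fun i _ => F.three i
    rwa [Finset.sum_const, Finset.card_univ, smul_eq_mul] at h
  have hle : ∀ b, Fintype.card (Om b) + (Fintype.card I - 1) * 3 ≤ ∑ i, Fintype.card (Om i) := by
    intro b
    rw [← Finset.add_sum_erase _ _ (Finset.mem_univ b)]
    refine Nat.add_le_add_left ?_ _
    have h := Finset.sum_le_sum (s := (Finset.univ : Finset I).erase b) fun i _ => F.three i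
    rwa [Finset.sum_const, Finset.card_erase_of_mem (Finset.mem_univ b), Finset.card_univ, smul_eq_mul] at h
  obtain ⟨b⟩ := hne
  have hI0 : 0 < Fintype.card I := Fintype.card_pos_iff.2 ⟨b⟩
  have hodd := (F.lett b).odd
  have hb := hle b
  have h3b := F.three b
  by_cases hI : ∀ x, x = b
  · have hZN : Z ≤ N b := hZV.trans (eq_of_one hD hI).le
    have hcI : Fintype.card I = 1 := Fintype.card_eq_one_iff.2 ⟨b, hI⟩
    have h35 : Fintype.card (Om b) = 3 ∨ Fintype.card (Om b) = 5 := by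
      obtain ⟨k, hk⟩ := hodd
      omega
    obtain ⟨z, hz⟩ := two (F.lett b) (sylR hD b) h35
    have := card_le_two (Z := Z) (z0 := z) fun x hx => hz x (hZN hx) fun t ht => hZS x hx t (mem_inf.1 ht).1
    omega
  · push Not at hI
    obtain ⟨c, hcb⟩ := hI
    have hc2 : 1 < Fintype.card I := Fintype.one_lt_card_iff.2 ⟨b, c, hcb.symm⟩
    have hcI : Fintype.card I = 2 := by omega
    have h3b' : Fintype.card (Om b) = 3 := by
      obtain ⟨k, hk⟩ := hodd
      omega
    have hall : ∀ x, x = b ∨ x = c := by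
      intro x
      by_contra hx
      push Not at hx
      have h1 : ({b, c, x} : Finset I).card ≤ Fintype.card I := Finset.card_le_univ _
      have h2 : ({b, c, x} : Finset I).card = 3 := Finset.card_eq_three.2 ⟨b, c, x, hcb.symm, hx.1.symm, hx.2.symm, rfl⟩
      omega
    have hmv : ∃ g ∈ M, g ∉ KK M N b := by
      by_contra hno
      push Not at hno
      have h1 : M ≤ normalizer (N b : Set G) := fun g hg => (mem_inf.1 (hno g hg)).2
      have h2 := hirr b h1
      apply hD.ne c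
      rw [eq_bot_iff, ← hD.ind c]
      exact le_inf le_rfl (((hD.NU c).trans h2).trans (hD.N_le_Co hcb.symm))
    obtain ⟨s, hs, hsK⟩ := exists_swap_blocks hD hcb.symm hall hmv
    obtain ⟨z0, hz0⟩ := two (F.lett b) (sylR hD b) (Or.inl h3b')
    have h2 : Nat.card Z ≤ 2 := by
      by_cases hZ1 : ∃ x ∈ Z, x ≠ 1
      · obtain ⟨x, hx, x1⟩ := hZ1
        refine card_le_two (z0 := x) fun y hy => ?_
        by_cases hy1 : y = 1
        · exact Or.inl hy1
        · exact Or.inr (eq_of_two hD hcb.symm hall rfl hs hsK hz0 (hZV hy) (hZV hx) (hZS y hy) (hZS x hx) hy1 x1)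
      · push Not at hZ1
        exact card_le_two (z0 := 1) fun y hy => Or.inl (hZ1 y hy)
    omega

end count

section mv

variable {G : Type u} [Group G] [Finite G] {S : Sylow 2 G} {I : Type u} [Fintype I] [DecidableEq I]
  {N E : I → Subgroup G} {Om : I → Type u} [∀ i, Fintype (Om i)] [∀ i, DecidableEq (Om i)]
  {phi : ∀ i, Finset (Om i) → G}

/-- a subgroup of `S` of this kind which moves `V*` moves all blocks -/
theorem mv_of (hN : Bks S N E ⊥ Om phi)
    (tr : ∀ b c, ∃ g ∈ MZ (S : Subgroup G), MulAut.conj g • N b = N c) {J : Subgroup G} (h1 : J ≤ (S : Subgroup G))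
    (h2 : (S : Subgroup G) ≤ normalizer (J : Set G)) (h3 : J ≤ HypJOf.Fx (MZ (S : Subgroup G)) N)
    (h4 : ∀ P, IsParS (S : Subgroup G) P → J ≤ o2 P → P ≤ normalizer (J : Set G))
    (h5 : ¬ J ≤ centralizer (Wd (S : Subgroup G) : Set G)) (b : I) : ¬ J ≤ centralizer (N b : Set G) := by
  have hperm : ∀ g ∈ MZ (S : Subgroup G), ∀ b, ∃ c, MulAut.conj g • N b = N c := fun g hg b => by
    obtain ⟨c, hc, -⟩ := hN.toDec.perm g hg b
    exact ⟨c, hc⟩
  have hsup : (⨆ b, N b) = Wd (S : Subgroup G) := by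
    have := hN.toDec.sup
    rwa [sup_bot_eq] at this
  have hmv : ∃ b, ¬ J ≤ centralizer (N b : Set G) := by
    by_contra hcon
    push Not at hcon
    apply h5
    rw [le_centralizer_iff, ← hsup]
    exact iSup_le fun b => le_centralizer_iff.1 (hcon b)
  refine RWide.LemM.mv_all (PP := {P | IsParS (S : Subgroup G) P}) hperm ?_ tr hmv b
  intro P hP
  exact HypJOf.par_move hperm hP (Merge.le_MZ hP) h3 h1 h2 (h4 P hP)

/-- `J(S)` moves all blocks if it moves `V*`. -/
theorem mv_jj (R : RB S) (hN : Bks S N E ⊥ Om phi)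
    (tr : ∀ b c, ∃ g ∈ MZ (S : Subgroup G), MulAut.conj g • N b = N c)
    (hj : ¬ jj (S : Subgroup G) ≤ centralizer (Wd (S : Subgroup G) : Set G)) :
    ∀ b, ¬ jj (S : Subgroup G) ≤ centralizer (N b : Set G) := by
  have hab : ∀ x ∈ Wd (S : Subgroup G), ∀ y ∈ Wd (S : Subgroup G), x * y = y * x := fun x hx y hy =>
    hN.toDec.ucomm hx hy
  refine mv_of hN tr (ChoiceBase.jj_le _) (le_normalizer.trans (ChoiceBase.normalizer_le_jj _)) ?_
    (fun P hP h => HypJOf.norm_jj hP h) hj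
  rw [ChoiceBase.jj_eq]
  refine sSup_le fun A hA => ?_
  exact HypJOf.best_le_fx hN.toFull (HypJOf.ofd_of hA.2.1 (S_le_MZ R.ctx R.full)
    (HypJOf.best_of_AA hab (zl_MZ_sq R.ctx.char2 R.data.noff) (HypJOf.wd_le R) hA)) le_rfl hab

/-- A level which moves `V*` moves all blocks. -/
theorem mv_nxtX (R : RB S) (hN : Bks S N E ⊥ Om phi)
    (tr : ∀ b c, ∃ g ∈ MZ (S : Subgroup G), MulAut.conj g • N b = N c) {K X : Subgroup G}
    (hKX : LevX (S : Subgroup G) K X)
    (hj : ¬ nxtX (S : Subgroup G) X ≤ centralizer (Wd (S : Subgroup G) : Set G)) :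
    ∀ b, ¬ nxtX (S : Subgroup G) X ≤ centralizer (N b : Set G) := by
  have hSM := S_le_MZ R.ctx R.full
  refine mv_of hN tr (HypJOf.nxtX_le _ _) ?_ ?_
    (fun P hP h => HypJOf.norm_nxtX hP ((Merge.le_MZ hP).trans hKX.MX) h) hj
  · exact HypJOf.norm_nxtX_of (hSM.trans hKX.MX) fun g hg x hx =>
      mul_mem (mul_mem hg (HypJOf.nxtX_le _ _ hx)) (inv_mem hg)
  · have hXc : ∀ x ∈ X, ∀ y ∈ X, x * y = y * x := fun x hx y hy =>
      MinSimple.VModule.zc_comm _ _ (hKX.Xle hx) _ (hKX.Xle hy)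
    refine sup_le ?_ (sSup_le fun A hA => HypJOf.best_le_fx hN.toFull (HypJOf.ofd_of hA.1 hSM hA.2) hKX.VX hXc)
    rintro c ⟨hcS, hcX⟩
    refine HypJOf.mem_fx.2 ⟨hSM hcS, fun b => ?_⟩
    exact hN.toDec.EN b (hN.toDec.CE b ⟨hSM hcS, centralizer_le hKX.VX hcX⟩)

end mv

section socket

variable (K : Cls.{u}) (B : Fr.{u})

/-- `𝔽₂`-blocks, one class, all levels `lev S n` (`lev S 0 = J(S)`) centralise `V*` -/
def TopS : Prop :=
  ∀ (G : Type u) [Group G] [Finite G], K G → ∀ (S : Sylow 2 G), B G S → Wide S → MvAct (S : Subgroup G) →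
    CM (S : Subgroup G) (fun _ : PUnit.{u + 1} => Wd (S : Subgroup G)) →
      ∀ (I : Type u) [Fintype I] [DecidableEq I] (N E : I → Subgroup G) (Om : I → Type u)
        [∀ i, Fintype (Om i)] [∀ i, DecidableEq (Om i)] (phi : ∀ i, Finset (Om i) → G), Bks S N E ⊥ Om phi →
          (∀ b c, ∃ g ∈ MZ (S : Subgroup G), MulAut.conj g • N b = N c) →
          Fintype.card I + 5 ≤ ∑ i, Fintype.card (Om i) →
          (∀ n, lev (S : Subgroup G) n ≤ centralizer (Wd (S : Subgroup G) : Set G)) → False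

end socket

variable {K : Cls.{u}} {B : Fr.{u}}

/-- **`WOneS` from its last socket.** -/
theorem wOneS_of (hML : ML.Final.MLK.{u, u}) (hE : ML.Ex.Two.Ext.{u, u}) (hT : TopS K B) : WOneS K B := by
  intro G _ _ hK S hB hW hm hCM I _ _ N E Om _ _ phi hN
  exfalso
  have hR : RB S := hW.toRB
  have hirr : ∀ W : Subgroup G, W ≤ Wd (S : Subgroup G) → MZ (S : Subgroup G) ≤ normalizer (W : Set G) → W ≠ ⊥ →
      Wd (S : Subgroup G) ≤ W := fun W h1 h2 h3 => hCM.irr PUnit.unit W h1 h2 h3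
  have tr := trans_of_irr hN.toDec hirr
  have hcnt : Fintype.card I + 5 ≤ ∑ i, Fintype.card (Om i) := by
    refine count_of hN.toFull hN.nonempty (fun b hb => hirr _ (hN.toDec.NU b) hb (hN.toDec.ne b))
      (MinSimple.VModule.zc_le_zl _ _) (fun z hz s hs => ?_) hW.four_le
    have h1 : s * z = z * s := (ChoiceBase.mem_zc.1 hz).2.2 s hs
    rw [h1]; group
  rcases QFr.exists_stage hR with h1 | ⟨n, h1, h2⟩ | h1
  · exact BFr.false_neg hML hE hR hN (mv_jj hR hN tr h1) hcnt
  · have hX : LevX (S : Subgroup G) (lev (S : Subgroup G) n) (zc (lev (S : Subgroup G) n)) :=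
      { toLev := lev_isLev (S : Subgroup G) n
        Xle := le_rfl
        Xn := normalizer_le_zc _
        VX := h1
        MX := (BFr.MZ_norm_lev hR h1).trans (normalizer_le_zc _) }
    exact BFr.false_lev hML hE hR hN h1 (mv_nxtX hR hN tr hX h2) hcnt
  · exact hT G hK S hB hW hm hCM I N E Om phi hN tr hcnt h1

end Cfsg.Agent.Omega.NOThreeL.RRed.WideTree
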