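import Cfsg.Agent.Omega.NOThreeL.QWR.TopF2
import Cfsg.Agent.Omega.NOThreeL.QWR.RQOf
import Cfsg.Agent.Omega.NOThreeL.RLev.TopBks
import Cfsg.Agent.Omega.NOThreeL.RRed.WOneS

/-!
# The socket `WOneS` of `RRed/WideTree`: `𝔽₂`-blocks, one class: CLOSED

* `false_top` : `Wide S`, one class, `𝔽₂`-blocks, `J(S) ≤ C(V*)`: contradiction (level `(Q, V*)`);
* **`wOneS`** : `WOneS K B` for every frame `B` with `B G S → RBF S`.
-/

set_option autoImplicit false
set_option linter.unusedSectionVars false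

namespace Cfsg.Agent.Omega.NOThreeL.RRed.WOneSDone

open Subgroup Cfsg Cfsg.Agent.ZN Cfsg.Agent.Omega.MinPar Cfsg.Agent.Omega.Frame Cfsg.Agent.Omega.FrameNOFF
open Cfsg.Agent.Omega.NOThreeL.RTreeF
open Cfsg.Agent.Omega.NOThreeL.RRed.GlueSig
open Cfsg.Agent.Omega.NOThreeL.RRed.FourTree (Bks)
open Cfsg.Agent.Omega.NOThreeL.RRed.WideTree
open Cfsg.Agent.Omega.NO3b.EndX (AbsP)

universe u

/-- **The top level.** -/
theorem false_top (ml : ML.Final.MLK.{u, u}) (ha : AbsP.{u, u}) {G : Type u} [Group G] [Finite G] {S : Sylow 2 G}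
    (h : RBF S) (hW : Wide S) (hCM : CM (S : Subgroup G) (fun _ : PUnit.{u + 1} => Wd (S : Subgroup G)))
    {I : Type u} [Fintype I] [DecidableEq I] {N E : I → Subgroup G} {Om : I → Type u}
    [∀ i, Fintype (Om i)] [∀ i, DecidableEq (Om i)] {phi : ∀ i, Finset (Om i) → G} (hB : Bks S N E ⊥ Om phi)
    (hj : jj (S : Subgroup G) ≤ centralizer (Wd (S : Subgroup G) : Set G)) : False := by
  have irr : ∀ U : Subgroup G, U ≤ Wd (S : Subgroup G) → Merge.MZ (S : Subgroup G) ≤ normalizer (U : Set G) → U ≠ ⊥ →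
      Wd (S : Subgroup G) ≤ U := fun U h1 h2 h3 => hCM.irr PUnit.unit U h1 h2 h3
  have T := RLev.top_bks' ml ha h hj hB irr
  exact QWR.TopF2.false_topF2 ml hW.toRB hW.rr hB hW.four_le irr
    (QWR.RQOf.rq_bks ml ha hW hCM hB hj T.wc T.zcQ.le) T.levX T.wc T.zcQ

/-- **The socket `WOneS`.** -/
theorem wOneS (ml : ML.Final.MLK.{u, u}) (hE : ML.Ex.Two.Ext.{u, u}) (ha : AbsP.{u, u}) (K : Cls.{u}) (B : Fr.{u})
    (hb : ∀ (G : Type u) [Group G] [Finite G] (S : Sylow 2 G), B G S → RBF S) : WOneS K B :=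
  wOneS_of ml hE fun G _ _ _ S hB hW _ hCM _ _ _ _ _ _ _ _ _ hN _ _ hlev =>
    false_top ml ha (hb G S hB) hW hCM hN (hlev 0)

end Cfsg.Agent.Omega.NOThreeL.RRed.WOneSDone
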