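import Cfsg.Agent.Omega.NOThreeL.RRed.WRunA
import Cfsg.Agent.Omega.NO3b.EndX.RedP
import Cfsg.Agent.Omega.NO3b.EndX.SimpP
import Cfsg.Agent.Omega.ML.Ex.Ext
import Cfsg.Agent.Omega.ML.Ex.KnownDone

/-!
# Box R: the socket `WRun` of `WideTree.lean` (bb #25865, #25809, #26298, #26457)

* `exists_of_fs` : if `FS S (W i) (Co W i) x`, `FS S (Co W i) (W i) y`, then some `A ∈ AA(O₂(C_G(x) ∩ C_G(y)))` moves
  `W i`;
* **`wRun_of`**, **`wRun`** : `WRun K B`, over (ML).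
-/

set_option autoImplicit false
set_option linter.unusedSectionVars false

namespace Cfsg.Agent.Omega.NOThreeL.RRed.WideTree

open Subgroup Cfsg Cfsg.Agent.ZN Cfsg.Agent.Omega.MinPar Cfsg.Agent.Omega.Frame Cfsg.Agent.Omega.FrameNOFF
open Cfsg.Agent.Omega.Node.NO3L Cfsg.Agent.Omega.NOThreeL.Basic Cfsg.Agent.Omega.NOThreeL.RTree
open Cfsg.Agent.Omega.NOThreeL.RTreeF
open Cfsg.Agent.Omega.NOThreeL.RRed.GlueSig
open Cfsg.Agent.Omega.NOThreeL.Merge (MZ)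
open Cfsg.Agent.Omega.ML.Final (MLK)
open Cfsg.Agent.Omega.NO3b.EndX (RedP redP_of simpP)
open scoped Pointwise

universe u v

/-- some `A ∈ AA(O₂(C_G(x) ∩ C_G(y)))` moves `W i` -/
theorem exists_of_fs {G : Type u} [Group G] [Finite G] {S : Sylow 2 G} {ι : Type u} {W : ι → Subgroup G} (B : RB S)
    (h : CM (S : Subgroup G) W) (hM : MLK.{u, u}) (hR : RedP.{u, u}) (hE : ML.Ex.Two.Ext.{u, u}) {i : ι} {x y : G}
    (f : FS (S : Subgroup G) (W i) (Co W i) x) (f' : FS (S : Subgroup G) (Co W i) (W i) y) :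
    ∃ A : Subgroup G, KL.TwoS.Mx (o2 (centralizer ({x} : Set G) ⊓ centralizer ({y} : Set G))) A ∧
      ¬ A ≤ centralizer (W i : Set G) := by
  by_contra hc
  push Not at hc
  have hp := h.pairV B i f.mem.1 f.mem.2 f.ne f'.mem.1 f'.mem.2 f'.ne f.fact f'.fact (f'.nS.trans inf_le_right)
  refine hp.false_of hc hM hR hE (fun d hd => f'.bad d ?_) fun d hd => f.bad d hd
  exact ⟨hd.1, ⟨⟨⟨hd.2.1.1.1, hd.2.1.2⟩, hd.2.1.1.2⟩, hd.2.2⟩⟩

/-- **`WRun K B`** -/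
theorem wRun_of (hM : MLK.{u, u}) (hR : RedP.{u, u}) (hE : ML.Ex.Two.Ext.{u, u}) (K : Cls.{u}) (B : Fr.{u}) :
    WRun K B := by
  intro G _ _ _ S _ hW _ ι _ W hCM _ hL
  exact absurd (fun i x y f f' => exists_of_fs hW.toRB hCM hM hR hE f f') hL

/-- **`WRun K B`**, over (ML) -/
theorem wRun (hM : MLK.{u, u}) (K : Cls.{u}) (B : Fr.{u}) : WRun K B :=
  wRun_of hM (redP_of hM (simpP ML.Ex.KnownDone.rows hM)) ML.Ex.Two.ext K B

end Cfsg.Agent.Omega.NOThreeL.RRed.WideTree
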