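import Cfsg.Agent.Omega.NOThreeL.RRed.WideTree
import Cfsg.Agent.Omega.NOThreeL.RRed.Base
import Cfsg.Agent.Omega.NOThreeL.FFB.Tools
import Cfsg.Agent.Omega.NOThreeL.RZ.TwoC.PairV

/-!
# Box R, at least two classes (bb #25865, #25809, #26298): `PairV` from the class modules

* `CM.conj_co` : `n ∈ N(S) ∩ N(W i)` normalises `∏_{j ≠ i} W j`;
* `CM.nrm_of_fix` : `n ∈ N(S)` which fixes a vector `≠ 1` of `W i` normalises `W i`;
* **`CM.pairV`** : `PairV S (W i) (∏_{j ≠ i} W j) z e`.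
-/

set_option autoImplicit false
set_option linter.unusedSectionVars false

namespace Cfsg.Agent.Omega.NOThreeL.RRed.WideTree

open Subgroup Cfsg Cfsg.Agent.ZN Cfsg.Agent.Omega.MinPar Cfsg.Agent.Omega.Frame Cfsg.Agent.Omega.FrameNOFF
open Cfsg.Agent.Omega.NOThreeL.RTree
open Cfsg.Agent.Omega.NOThreeL.Merge (MZ)
open Cfsg.Agent.Omega.NOThreeL.Star (YS)
open Cfsg.Agent.Omega.NOThreeL.RZ.TwoC (PairV v_mono)
open Cfsg.Agent.Omega.NoFF.Basic (V)
open scoped Pointwise

universe u v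

section

variable {G : Type u} [Group G] {ι : Type u}

theorem conj_sup {n : G} {W : ι → Subgroup G} (i : ι) :
    MulAut.conj n • (⨆ j : {j // j ≠ i}, W j : Subgroup G) = ⨆ j : {j // j ≠ i}, MulAut.conj n • W j := by
  change (⨆ j : {j // j ≠ i}, W j : Subgroup G).map (MulAut.conj n).toMonoidHom = _
  rw [Subgroup.map_iSup]
  rfl

theorem nrm_iff {n : G} {X : Subgroup G} : n ∈ normalizer (X : Set G) ↔ MulAut.conj n • X = X := by
  constructor
  · intro hn
    ext x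
    rw [NoFF.Basic.mem_conj]
    have h1 := mem_normalizer_iff.1 hn (n⁻¹ * x * n)
    rw [h1]
    have e : n * (n⁻¹ * x * n) * n⁻¹ = x := by group
    rw [e]
  · intro hn
    rw [mem_normalizer_iff]
    intro x
    have h1 : n * x * n⁻¹ ∈ MulAut.conj n • X ↔ x ∈ X := by
      rw [NoFF.Basic.mem_conj]
      have e : n⁻¹ * (n * x * n⁻¹) * n = x := by group
      rw [e]
    rw [hn] at h1
    exact h1.symm

variable [Finite G] {S : Sylow 2 G} {W : ι → Subgroup G}

/-- two classes which meet are equal -/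
theorem CM.eq_of (h : CM (S : Subgroup G) W) {i j : ι} {x : G} (hi : x ∈ W i) (hj : x ∈ W j) (h1 : x ≠ 1) : j = i := by
  by_contra hc
  apply h1
  have h2 : x ∈ W i ⊓ (⨆ j : {j // j ≠ i}, W j) := ⟨hi, (le_iSup (fun j : {j // j ≠ i} => W j) ⟨j, hc⟩) hj⟩
  rw [h.ind i] at h2
  exact mem_bot.1 h2

/-- `n ∈ N(S)` which fixes a vector `≠ 1` of `W i` normalises `W i` -/
theorem CM.nrm_of_fix (h : CM (S : Subgroup G) W) {i : ι} {n z : G} (hn : n ∈ normalizer ((S : Subgroup G) : Set G))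
    (hz : z ∈ W i) (z1 : z ≠ 1) (hc : n * z = z * n) : n ∈ normalizer (W i : Set G) := by
  obtain ⟨j, hj⟩ := h.nS n hn i
  have h1 : z ∈ W j := by
    rw [← hj, NoFF.Basic.mem_conj]
    have e : n⁻¹ * z * n = z := by rw [mul_assoc, ← hc, inv_mul_cancel_left]
    rw [e]
    exact hz
  rw [h.eq_of hz h1 z1] at hj
  exact nrm_iff.2 hj

/-- then it normalises the product of the other classes -/
theorem CM.conj_co (h : CM (S : Subgroup G) W) {i : ι} {n : G} (hn : n ∈ normalizer ((S : Subgroup G) : Set G))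
    (hi : n ∈ normalizer (W i : Set G)) : n ∈ normalizer ((⨆ j : {j // j ≠ i}, W j : Subgroup G) : Set G) := by
  have key : ∀ n ∈ normalizer ((S : Subgroup G) : Set G), n ∈ normalizer (W i : Set G) →
      MulAut.conj n • (⨆ j : {j // j ≠ i}, W j : Subgroup G) ≤ ⨆ j : {j // j ≠ i}, W j := by
    intro n hn hi
    rw [conj_sup]
    refine iSup_le fun j => ?_
    obtain ⟨k, hk⟩ := h.nS n hn j
    rw [hk]
    refine le_iSup (fun j : {j // j ≠ i} => W j) ⟨k, fun hki => j.2 ?_⟩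
    have h1 : W j = W i := by
      have h2 : MulAut.conj n • W j = MulAut.conj n • W i := by rw [hk, hki, nrm_iff.1 hi]
      have h3 := congrArg (fun X => MulAut.conj n⁻¹ • X) h2
      simpa [smul_smul, ← map_mul] using h3
    obtain ⟨w, hw, w1⟩ := (W j).bot_or_exists_ne_one.resolve_left (h.ne j)
    exact h.eq_of (h1 ▸ hw) hw w1
  rw [nrm_iff]
  refine le_antisymm (key n hn hi) ?_
  have h1 := key n⁻¹ (inv_mem hn) (inv_mem hi)
  have h2 := (Subgroup.pointwise_smul_le_pointwise_smul_iff (a := MulAut.conj n)).2 h1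
  simpa [smul_smul, ← map_mul] using h2

/-- `W i ≤ ⟨(W i ∩ Z)^Y⟩` -/
theorem CM.gen_zc (B : RB S) (h : CM (S : Subgroup G) W) (i : ι) :
    W i ≤ V (W i ⊓ zc (S : Subgroup G)) (MZ (S : Subgroup G)) := by
  have hW : W i ≤ Wd (S : Subgroup G) := by
    rw [← h.sup]
    exact le_iSup W i
  obtain ⟨z, hz, z1, hzW⟩ := FFB.exists_zc (hW.trans (WS B)) (fun d hd => by rw [pow_two]; exact wsq B d (hW hd))
    ((SM B).trans (h.inv i)) (h.ne i)
  refine fun w hw => h.zero i _ le_rfl (fun h0 => z1 ?_) w hw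
  have h2 : z ∈ W i ⊓ zc (S : Subgroup G) := ⟨hzW, hz⟩
  rw [h0] at h2
  exact mem_bot.1 h2

/-- **`PairV` from the class modules** -/
theorem CM.pairV (B : RB S) (h : CM (S : Subgroup G) W) (i : ι) {z e : G}
    (zR : z ∈ W i) (zZ : z ∈ zc (S : Subgroup G)) (z1 : z ≠ 1)
    (eB : e ∈ (⨆ j : {j // j ≠ i}, W j : Subgroup G)) (eZ : e ∈ zc (S : Subgroup G)) (e1 : e ≠ 1)
    (trZ : MZ (S : Subgroup G) ≤ (MZ (S : Subgroup G) ⊓ centralizer ((⨆ j : {j // j ≠ i}, W j : Subgroup G) : Set G)) ⊔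
      (MZ (S : Subgroup G) ⊓ centralizer ({z} : Set G)))
    (trE : MZ (S : Subgroup G) ≤ (MZ (S : Subgroup G) ⊓ centralizer (W i : Set G)) ⊔
      (MZ (S : Subgroup G) ⊓ centralizer ({e} : Set G)))
    (nE : centralizer ({e} : Set G) ⊓ normalizer ((S : Subgroup G) : Set G) ≤ normalizer (W i : Set G)) :
    PairV S (W i) (⨆ j : {j // j ≠ i}, W j) z e where
  ctx := B.ctx
  full := B.full
  vc := Wd_abel B
  vs := fun v hv => by rw [pow_two]; exact wsq B v hv
  nR := h.inv i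
  nB := by
    refine fun g hg => nrm_iff.2 ?_
    rw [conj_sup]
    exact iSup_congr fun j => nrm_iff.1 (h.inv j hg)
  sE := fun n hn => ⟨nE hn, h.conj_co hn.2 (nE hn)⟩
  sZ := fun n hn => by
    have h1 := h.nrm_of_fix hn.2 zR z1 (mem_centralizer_singleton_iff.1 hn.1)
    exact ⟨h1, h.conj_co hn.2 h1⟩
  gR := h.gen_zc B i
  gB := iSup_le fun j => (h.gen_zc B j).trans
    (v_mono (inf_le_inf_right _ (le_iSup (fun j : {j // j ≠ i} => W j) j)))
  sup := by
    change Wd (S : Subgroup G) ≤ _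
    rw [← h.sup]
    refine iSup_le fun j => ?_
    by_cases hj : j = i
    · rw [hj]
      exact le_sup_left
    · exact (le_iSup (fun j : {j // j ≠ i} => W j) ⟨j, hj⟩).trans le_sup_right
  spl := by rw [inf_comm]; exact h.ind i
  zR := zR
  zZ := zZ
  z1 := z1
  eB := eB
  eZ := eZ
  e1 := e1
  trZ := trZ
  trE := trE

end

end Cfsg.Agent.Omega.NOThreeL.RRed.WideTree
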