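import Cfsg.Agent.Omega.NOThreeL.RRed.WideTree
import Cfsg.Agent.Omega.NOThreeL.RZ.TwoC.EndV
import Cfsg.Agent.Omega.NOThreeL.RZ.TwoC.LowP

/-!
# NO-3L, box R: the first run for `t ≥ 2` classes (socket `WRun` of `WideTree`) from helper820's `FrV.false_of`

`W : ι → Subgroup G` the class modules (`CM S W`), `Ot W i = ∏_(j ≠ i) W j`, `z ∈ W i ∩ Z`, `e ∈ Ot W i ∩ Z` with
`M₀ = C_(M₀)(Ot W i) C_(M₀)(z) = C_(M₀)(W i) C_(M₀)(e)`.

* `norm_Ot` : `N_G(S) ∩ N_G(W i) ≤ N_G(Ot W i)`; `norm_of_mem` : `n ∈ N_G(S)` fixes `z ∈ W i#` ⟹ `n ∈ N_G(W i)`;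
* `low` : `V* ≤ O₂(C_G(Z))`;  **`frV_of`** : the frame `FrV S (W i) (Ot W i) ⟨z⟩ e`;
* **`kill`** : some `A ∈ 𝒜(O₂(C_G(z, e)))` moves `W i`.
-/

set_option autoImplicit false
set_option linter.unusedSectionVars false

namespace Cfsg.Agent.Omega.NOThreeL.RRed.WRunOf

open Subgroup Cfsg Cfsg.Agent.ZN Cfsg.Agent.Omega.MinPar Cfsg.Agent.Omega.Frame Cfsg.Agent.Omega.FrameNOFF
open Cfsg.Agent.Omega.Node.NO3L Cfsg.Agent.Omega.NOThreeL.Basic
open Cfsg.Agent.Omega.NOThreeL.Merge (MZ)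
open Cfsg.Agent.Omega.NOThreeL.RTree (RB)
open Cfsg.Agent.Omega.NOThreeL.RRed.WideTree (CM)
open Cfsg.Agent.Omega.NOThreeL.Star (YS le_YS S_le_YS)
open Cfsg.Agent.Omega.NOThreeL.RZ.TwoC (FrV BadG QQ)
open Cfsg.Agent.Omega.ML.Final (MLK)
open Cfsg.Agent.Omega.ML.GMod (hul hul_le hul_le_of le_hul cj_le_hul le_normalizer_hul)
open Cfsg.Agent.Omega.NO3b.EndX (RedP)
open Cfsg.Agent.Omega.NO3S.EThree.ExactA (eab_iff)
open Cfsg.Agent.ZN.ChoiceBase hiding mem_zc
open Cfsg.Agent.MinSimple.VModule (le_o2 o2_isPGroup o2_le le_normalizer_o2 zc_le_zl zc_le)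
open scoped Pointwise

universe u v

variable {G : Type u} [Group G] {ι : Type u} {W : ι → Subgroup G}

theorem cent_zpowers (z : G) : centralizer (zpowers z : Set G) = centralizer ({z} : Set G) := by
  apply le_antisymm
  · exact centralizer_le (Set.singleton_subset_iff.2 (mem_zpowers z))
  · intro g hg
    rw [mem_centralizer_iff]
    intro x hx
    obtain ⟨n, rfl⟩ := mem_zpowers_iff.1 hx
    have h1 : Commute g z := mem_centralizer_singleton_iff.1 hg
    exact (h1.zpow_right n).eq.symm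

/-- the product of the other classes -/
def Oth (W : ι → Subgroup G) (i : ι) : Subgroup G := ⨆ j : {j // j ≠ i}, W j

theorem le_Oth {i j : ι} (h : j ≠ i) : W j ≤ Oth W i := le_iSup (fun j : {j // j ≠ i} => W j) ⟨j, h⟩

theorem norm_iSup {κ : Type v} {Y : Subgroup G} {F : κ → Subgroup G} (h : ∀ k, Y ≤ normalizer (F k : Set G)) :
    Y ≤ normalizer ((⨆ k, F k : Subgroup G) : Set G) := by
  intro g hg
  rw [mem_normalizer_iff_cj]
  rw [cj, Subgroup.map_iSup]
  exact iSup_congr fun k => mem_normalizer_iff_cj.1 (h k hg)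

section fin

variable [Finite G] {S : Sylow 2 G}

theorem ys_eq (S : Subgroup G) : YS S = MZ S := rfl

section

variable (c : CM (S : Subgroup G) W)
include c

theorem norm_of_mem {i : ι} {z n : G} (hz : z ∈ W i) (hz1 : z ≠ 1) (hn : n ∈ normalizer ((S : Subgroup G) : Set G))
    (hnz : n ∈ centralizer ({z} : Set G)) : n ∈ normalizer (W i : Set G) := by
  obtain ⟨j, hj⟩ := c.nS n hn i
  have h1 : z ∈ W j := by
    rw [← hj, NoFF.Basic.mem_conj]
    have e : n⁻¹ * z * n = z := by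
      have := mem_centralizer_singleton_iff.1 hnz
      rw [mul_assoc, ← this]; group
    rw [e]
    exact hz
  have hji : j = i := by
    by_contra hne
    have h2 : z ∈ W i ⊓ Oth W i := ⟨hz, le_Oth hne h1⟩
    have h3 : z ∈ (⊥ : Subgroup G) := (c.ind i) ▸ h2
    exact hz1 (mem_bot.1 h3)
  subst hji
  exact mem_normalizer_iff_cj.2 hj

theorem norm_Ot {i : ι} {n : G} (hn : n ∈ normalizer ((S : Subgroup G) : Set G)) (hi : n ∈ normalizer (W i : Set G)) :
    n ∈ normalizer (Oth W i : Set G) := by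
  refine mem_normalizer_of_cj_le ?_
  rw [cj, Oth, Subgroup.map_iSup]
  refine iSup_le fun j => ?_
  obtain ⟨k, hk⟩ := c.nS n hn j
  have hk' : (W (j : ι)).map (MulAut.conj n).toMonoidHom = W k := hk
  rw [hk']
  refine le_Oth fun hki => c.ne j ?_
  subst hki
  have h1 : cj n (W k) = W k := mem_normalizer_iff_cj.1 hi
  have h2 : W (j : ι) = W k := by
    have h3 : cj n (W j) = cj n (W k) := by rw [h1]; exact hk
    exact Subgroup.map_injective (MulAut.conj n).injective h3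
  have h3 := c.ind k
  rw [← h2] at h3
  have h4 : W (j : ι) ≤ Oth W k := le_Oth j.2
  have h5 : W (j : ι) ⊓ Oth W k = W j := inf_eq_left.2 h4
  rw [← h5]
  exact h3

theorem W_le (i : ι) : W i ≤ zl (S : Subgroup G) (YS S) := (le_iSup W i).trans c.sup.le

theorem Ot_le (i : ι) : Oth W i ≤ zl (S : Subgroup G) (YS S) := iSup_le fun j => W_le c j

theorem S_le (h : RB S) : (S : Subgroup G) ≤ MZ (S : Subgroup G) := S_le_YS h.ctx h.full

/-- **`V* ≤ O₂(C_G(Z))`** -/
theorem low (h : RB S) (gen : ∀ i, W i ≤ NoFF.Basic.V (W i ⊓ zc (S : Subgroup G))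
      (MZ (S : Subgroup G) ⊓ centralizer {x : G | ∃ j, j ≠ i ∧ x ∈ W j})) {i : ι} {z e : G}
    (hz : z ∈ W i ⊓ zc (S : Subgroup G)) (hz1 : z ≠ 1) (he : e ∈ Oth W i ⊓ zc (S : Subgroup G)) (he1 : e ≠ 1)
    (factB : MZ (S : Subgroup G) ≤ (MZ (S : Subgroup G) ⊓ centralizer (W i : Set G)) ⊔
      (MZ (S : Subgroup G) ⊓ centralizer ({e} : Set G))) :
    zl (S : Subgroup G) (YS S) ≤ o2 (CZ (S : Subgroup G)) := by
  have hne : W i ⊓ zc (S : Subgroup G) ≠ ⊥ := fun h0 => hz1 (mem_bot.1 (h0 ▸ hz))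
  have hVS : zl (S : Subgroup G) (YS S) ≤ (S : Subgroup G) := by
    refine le_of_le_normalizer S ?_ ?_
    · intro v
      refine ⟨1, Subtype.ext ?_⟩
      rw [pow_one]
      exact Star.zl_sq h.ctx.char2 h.data.noff v v.2
    · exact (S_le c h).trans (MinSimple.VModule.le_normalizer_zl _ _)
  refine RZ.TwoC.LowP.low_star (R := W i) (B := Oth W i) (e := e) h.ctx.char2 (c.inv i)
    (S.isPGroup'.to_le ((W_le c i).trans hVS)) ?_ hne he.2 he1 factB ?_ ?_
  · exact fun w hw => c.zero i _ le_rfl hne w hw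
  · refine iSup_le fun j => (gen j).trans ?_
    refine NoFF.Basic.V_le fun p hp => ?_
    refine (NoFF.Basic.conj_le_iff.2 inf_le_right).trans (cj_le_hul (Z := zc (S : Subgroup G)) ?_)
    refine centralizer_le ?_ hp.2
    intro x hx
    exact ⟨i, fun hij => j.2 hij.symm, hx⟩
  · have h1 : zl (S : Subgroup G) (YS S) = ⨆ i, W i := c.sup.symm
    rw [h1]
    refine iSup_le fun j => ?_
    by_cases hj : j = i
    · rw [hj]; exact le_sup_right
    · exact (le_Oth hj).trans le_sup_left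

/-- **the frame** -/
theorem frV_of (h : RB S) (gen : ∀ i, W i ≤ NoFF.Basic.V (W i ⊓ zc (S : Subgroup G))
      (MZ (S : Subgroup G) ⊓ centralizer {x : G | ∃ j, j ≠ i ∧ x ∈ W j})) {i : ι} {z e : G}
    (hz : z ∈ W i ⊓ zc (S : Subgroup G)) (hz1 : z ≠ 1) (he : e ∈ Oth W i ⊓ zc (S : Subgroup G)) (he1 : e ≠ 1)
    (factB : MZ (S : Subgroup G) ≤ (MZ (S : Subgroup G) ⊓ centralizer (W i : Set G)) ⊔
      (MZ (S : Subgroup G) ⊓ centralizer ({e} : Set G)))
    (nB : centralizer ({e} : Set G) ⊓ normalizer ((S : Subgroup G) : Set G) ≤ normalizer (W i : Set G))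
    (hA : ∀ A, KL.TwoS.Mx (o2 (centralizer ({z, e} : Set G))) A → A ≤ centralizer (W i : Set G)) :
    FrV S (W i) (Oth W i) (zpowers z) e where
  ctx := h.ctx
  full := h.full
  nR := c.inv i
  nB := norm_iSup fun j => c.inv j
  sE := by
    intro n hn
    have h1 := nB hn
    exact ⟨h1, norm_Ot c hn.2 h1⟩
  sZ := by
    rintro n ⟨hn, hnS⟩
    have h1 : n ∈ normalizer (W i : Set G) := by
      refine norm_of_mem c hz.1 hz1 hnS ?_
      exact centralizer_le (Set.singleton_subset_iff.2 (mem_zpowers z)) hn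
    exact ⟨h1, norm_Ot c hnS h1⟩
  RV := W_le c i
  BV := Ot_le c i
  Z0R := (zpowers_le).2 hz
  ne := fun h0 => hz1 (zpowers_eq_bot.1 h0)
  hA := by
    intro A hA1 hAz
    apply hA
    have hzS : (S : Subgroup G) ≤ centralizer ({z, e} : Set G) := by
      refine (le_CZ S).trans (centralizer_le ?_)
      rintro x (rfl | rfl)
      · exact hz.2
      · exact he.2
    have hzC : CZ (S : Subgroup G) ≤ centralizer ({z, e} : Set G) := by
      refine centralizer_le ?_
      rintro x (rfl | rfl)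
      · exact hz.2
      · exact he.2
    have hz' : centralizer ({z, e} : Set G) ≤ centralizer (zpowers z : Set G) := by
      intro g hg
      rw [cent_zpowers]
      exact centralizer_le (Set.singleton_subset_iff.2 (Set.mem_insert z {e})) hg
    have hLz : o2 (centralizer (zpowers z : Set G)) ≤ o2 (centralizer ({z, e} : Set G)) := o2_le_o2 S hzS hz'
    have hDC : o2 (centralizer ({z, e} : Set G)) ≤ o2 (CZ (S : Subgroup G)) := o2_le_o2 S (le_CZ S) hzC
    refine ⟨hAz.trans hLz, (eab_iff.1 hA1.1).2, fun B hB hB2 => hA1.2.2 B (eab_iff.2 ⟨?_, hB2⟩) (hB.trans hDC)⟩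
    exact KL.TwoS.comm_of_sq hB2
  low := low c h gen hz hz1 he he1 factB
  vc := Star.zl_comm h.ctx.char2 h.data.noff
  vs := Star.zl_sq h.ctx.char2 h.data.noff
  eZ := he.2
  eB := he.1
  e1 := he1
  tr := factB
  spl := by rw [inf_comm]; exact c.ind i

/-- **some `A ∈ 𝒜(O₂(C_G(z, e)))` moves `W i`** -/
theorem kill (hM : MLK.{u, u}) (hR : RedP.{u, u}) (hE : ML.Ex.Two.Ext.{u, u}) (h : RB S)
    (gen : ∀ i, W i ≤ NoFF.Basic.V (W i ⊓ zc (S : Subgroup G))
      (MZ (S : Subgroup G) ⊓ centralizer {x : G | ∃ j, j ≠ i ∧ x ∈ W j})) {i : ι} {z e : G}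
    (hz : z ∈ W i ⊓ zc (S : Subgroup G)) (hz1 : z ≠ 1) (he : e ∈ Oth W i ⊓ zc (S : Subgroup G)) (he1 : e ≠ 1)
    (factB : MZ (S : Subgroup G) ≤ (MZ (S : Subgroup G) ⊓ centralizer (W i : Set G)) ⊔
      (MZ (S : Subgroup G) ⊓ centralizer ({e} : Set G)))
    (nB : centralizer ({e} : Set G) ⊓ normalizer ((S : Subgroup G) : Set G) ≤ normalizer (W i : Set G))
    (bad : BadG (centralizer ({z} : Set G) ⊓ QQ (S : Subgroup G) (W i) (Oth W i)
      ((S : Subgroup G) ⊓ centralizer (Oth W i : Set G))) ((S : Subgroup G) ⊓ centralizer (Oth W i : Set G)) (W i))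
    (badB : BadG (centralizer ({e} : Set G) ⊓ QQ (S : Subgroup G) (W i) (Oth W i)
      ((S : Subgroup G) ⊓ centralizer (W i : Set G))) ((S : Subgroup G) ⊓ centralizer (W i : Set G)) (Oth W i)) :
    ∃ A, KL.TwoS.Mx (o2 (centralizer ({z, e} : Set G))) A ∧ ¬ A ≤ centralizer (W i : Set G) := by
  by_contra hc
  push Not at hc
  refine (frV_of c h gen hz hz1 he he1 factB nB hc).false_of hM hR hE badB (Or.inr ?_)
  rw [cent_zpowers]
  exact bad

end

end fin

end Cfsg.Agent.Omega.NOThreeL.RRed.WRunOf
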